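import Mathlib.AlgebraicGeometry.Morphisms.UniversallyOpen
import Mathlib.AlgebraicGeometry.Morphisms.FinitePresentation
import Mathlib.AlgebraicGeometry.PullbackCarrier
import Mathlib.AlgebraicGeometry.Noetherian
import Mathlib.CategoryTheory.Monoidal.Cartesian.Grp
import Mathlib.CategoryTheory.Monoidal.Cartesian.Over
import Groth.Agent.H8Top.Noetherian
import Groth.Agent.SGA3cLib.ActionPoints

/-!
# Equivariant constructible images are locally closed
-/

set_option autoImplicit false
set_option backward.isDefEq.respectTransparency.types false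

universe u

open CategoryTheory Limits MonoidalCategory CartesianMonoidalCategory MonObj GrpObj AlgebraicGeometry

namespace Groth.Agent.AlgGrpLib.OrbitLC

/-- A nonempty finite union of locally closed sets contains a nonempty relatively open subset
of its closure. -/
theorem exists_open_inter_closure_subset {X : Type*} [TopologicalSpace X] :
    ∀ (n : ℕ) (L : Fin n → Set X), (∀ i, IsLocallyClosed (L i)) → (⋃ i, L i).Nonempty →
      ∃ U : Set X, IsOpen U ∧ (U ∩ closure (⋃ i, L i)).Nonempty ∧
        U ∩ closure (⋃ i, L i) ⊆ ⋃ i, L i := by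
  intro n
  induction n with
  | zero => intro L _ h; simp at h
  | succ n ih =>
    intro L hL hne
    set R : Set X := ⋃ i : Fin n, L i.succ with hR
    have hsplit : (⋃ i, L i) = L 0 ∪ R := by
      ext x
      simp only [Set.mem_iUnion, Set.mem_union, hR]
      exact Fin.exists_fin_succ
    rw [hsplit] at hne ⊢
    by_cases h0 : L 0 ⊆ closure R
    · have hRne : R.Nonempty := by
        obtain ⟨x, hx | hx⟩ := hne
        · exact closure_nonempty_iff.1 ⟨x, h0 hx⟩
        · exact ⟨x, hx⟩
      obtain ⟨U, hU, hUne, hsub⟩ := ih (fun i => L i.succ) (fun i => hL _) hRne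
      have hcl : closure (L 0 ∪ R) = closure R :=
        subset_antisymm (closure_minimal (Set.union_subset h0 subset_closure) isClosed_closure)
          (closure_mono Set.subset_union_right)
      rw [hcl]
      exact ⟨U, hU, hUne, hsub.trans Set.subset_union_right⟩
    · obtain ⟨x, hx, hxR⟩ := Set.not_subset.1 h0
      obtain ⟨U₀, C₀, hU₀, hC₀, hUC⟩ := hL 0
      refine ⟨U₀ ∩ (closure R)ᶜ, hU₀.inter isClosed_closure.isOpen_compl,
        ⟨x, ⟨(hUC ▸ hx : x ∈ U₀ ∩ C₀).1, hxR⟩, subset_closure (Or.inl hx)⟩, ?_⟩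
      rintro y ⟨⟨hy₀, hyR⟩, hy⟩
      rw [closure_union] at hy
      rcases hy with hy | hy
      · refine Or.inl ?_
        rw [hUC]
        exact ⟨hy₀, closure_minimal (hUC ▸ Set.inter_subset_right) hC₀ hy⟩
      · exact absurd hy hyR

variable {K : Type u} [Field K] {G X : Over (Spec (CommRingCat.of K))}

theorem exists_point_over (Y Z : Over (Spec (CommRingCat.of K))) (y : Y.left) (z : Z.left) :
    ∃ p : ↥(Y ⊗ Z).left, (fst Y Z).left.base p = y ∧ (snd Y Z).left.base p = z :=
  Scheme.Pullback.exists_preimage_pullback (f := Y.hom) (g := Z.hom) y z (Subsingleton.elim _ _)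

theorem isOpenMap_snd_left (Y Z : Over (Spec (CommRingCat.of K))) :
    IsOpenMap (snd Y Z).left.base := by
  haveI : UniversallyOpen (snd Y Z).left :=
    MorphismProperty.pullback_snd (P := @UniversallyOpen) (f := Y.hom) (g := Z.hom)
      (show UniversallyOpen Y.hom from inferInstance)
  exact (snd Y Z).left.isOpenMap

open Groth.Agent.SGA3cLib

variable [GrpObj G] (a : AlgGrp.Action G X) (x : 𝟙_ (Over (Spec (CommRingCat.of K))) ⟶ X)

theorem orbitMap_eq_smulPt : a.orbitMap x = smulPt a (𝟙 G) (toUnit G ≫ x) := rfl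

/-- The swap automorphism `(g, y) ↦ (g⁻¹, g y)` of `G × X`. -/
noncomputable def swapHom : G ⊗ X ⟶ G ⊗ X :=
  lift (fst G X)⁻¹ (smulPt a (fst G X) (snd G X))

theorem swapHom_snd : swapHom a ≫ snd G X = a.act := by
  rw [swapHom, lift_snd, smulPt, lift_fst_snd, Category.id_comp]

theorem swapHom_act : swapHom a ≫ a.act = snd G X := by
  change smulPt a (fst G X)⁻¹ (smulPt a (fst G X) (snd G X)) = snd G X
  exact inv_smulPt a _ _

theorem swapHom_swapHom : swapHom a ≫ swapHom a = 𝟙 _ := by
  apply CartesianMonoidalCategory.hom_ext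
  · rw [Category.assoc, Category.id_comp]
    conv_lhs => arg 2; rw [swapHom, lift_fst]
    rw [GrpObj.comp_inv, swapHom, lift_fst, _root_.inv_inv]
  · rw [Category.assoc, Category.id_comp, swapHom_snd, swapHom_act]

theorem isOpenMap_act : IsOpenMap a.act.left.base := by
  rw [← swapHom_snd a]
  haveI : IsIso (swapHom a) := ⟨swapHom a, swapHom_swapHom a, swapHom_swapHom a⟩
  exact (isOpenMap_snd_left G X).comp ((Over.forget _).mapIso (asIso (swapHom a))).hom.homeomorph.isOpenMap

/-- Translates of orbit points lie in the orbit. -/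
theorem act_mem_range_orbitMap {p : ↥(G ⊗ X).left}
    (hp : (snd G X).left.base p ∈ Set.range (a.orbitMap x).left.base) :
    a.act.left.base p ∈ Set.range (a.orbitMap x).left.base := by
  obtain ⟨g', hg'⟩ := hp
  have hr := Scheme.Pullback.range_map G.hom G.hom G.hom X.hom (𝟙 G.left) (a.orbitMap x).left (𝟙 _)
    (by simp) (by simp)
  have hp' : p ∈ Set.range (G ◁ a.orbitMap x).left.base := by
    rw [Over.whiskerLeft_left]
    rw [hr]
    exact ⟨⟨_, rfl⟩, ⟨g', hg'⟩⟩
  obtain ⟨q, rfl⟩ := hp'
  refine ⟨μ[G].left.base q, ?_⟩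
  have e1 : μ[G] ≫ a.orbitMap x = (G ◁ a.orbitMap x) ≫ a.act := by
    have h1 : μ[G] = fst G G * snd G G := by rw [Hom.mul_def, lift_fst_snd, Category.id_comp]
    have h2 : G ◁ a.orbitMap x = lift (fst G G) (snd G G ≫ a.orbitMap x) := by
      apply CartesianMonoidalCategory.hom_ext <;> simp
    rw [h2]
    change _ = smulPt a (fst G G) (snd G G ≫ a.orbitMap x)
    rw [orbitMap_eq_smulPt, comp_smulPt, comp_smulPt, ← mul_smulPt, h1]
    simp
  exact congrArg (fun φ => φ.left.base q) e1

/-- Translates of points of the orbit closure lie in the orbit closure. -/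
theorem act_mem_closure_orbit {p : ↥(G ⊗ X).left}
    (hp : (snd G X).left.base p ∈ closure (Set.range (a.orbitMap x).left.base)) :
    a.act.left.base p ∈ closure (Set.range (a.orbitMap x).left.base) := by
  have h1 : p ∈ closure ((snd G X).left.base ⁻¹' Set.range (a.orbitMap x).left.base) := by
    rw [← (isOpenMap_snd_left G X).preimage_closure_eq_closure_preimage (snd G X).left.continuous]
    exact hp
  exact map_mem_closure a.act.left.continuous h1 fun y hy => act_mem_range_orbitMap a x hy

theorem swapHom_apply (p : ↥(G ⊗ X).left) :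
    (snd G X).left.base ((swapHom a).left.base p) = a.act.left.base p ∧
      a.act.left.base ((swapHom a).left.base p) = (snd G X).left.base p :=
  ⟨congrArg (fun φ => φ.left.base p) (swapHom_snd a), congrArg (fun φ => φ.left.base p) (swapHom_act a)⟩

/-- Orbits through points outside an orbit avoid it; orbits through the closure stay in it. -/
theorem range_orbitMap_subset_boundary (y : 𝟙_ (Over (Spec (CommRingCat.of K))) ⟶ X)
    (hy : ∀ t, y.left.base t ∈ closure (Set.range (a.orbitMap x).left.base) \ Set.range (a.orbitMap x).left.base) :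
    Set.range (a.orbitMap y).left.base ⊆
      closure (Set.range (a.orbitMap x).left.base) \ Set.range (a.orbitMap x).left.base := by
  rintro _ ⟨g, rfl⟩
  let w : G ⟶ G ⊗ X := lift (𝟙 G) (toUnit G ≫ y)
  have h1 : (snd G X).left.base (w.left.base g) = y.left.base ((toUnit G).left.base g) :=
    congrArg (fun φ => φ.left.base g) (lift_snd (𝟙 G) (toUnit G ≫ y))
  have h2 : a.act.left.base (w.left.base g) = (a.orbitMap y).left.base g := rfl
  refine ⟨h2 ▸ act_mem_closure_orbit a x (h1 ▸ (hy _).1), fun hc => ?_⟩
  obtain ⟨h3, h4⟩ := swapHom_apply a (w.left.base g)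
  have h5 := act_mem_range_orbitMap a x (p := (swapHom a).left.base (w.left.base g)) (by rw [h3, h2]; exact hc)
  rw [h4, h1] at h5
  exact (hy _).2 h5

/-- The orbit of a rational point is locally closed as soon as it is constructible. -/
theorem isLocallyClosed_range_orbitMap
    (hc : Topology.IsConstructible (Set.range (a.orbitMap x).left.base)) :
    IsLocallyClosed (Set.range (a.orbitMap x).left.base) := by
  set C := Set.range (a.orbitMap x).left.base with hC
  have hone : C.Nonempty := by
    obtain ⟨g⟩ : Nonempty G.left :=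
      ⟨η[G].left.base (Classical.arbitrary ↥(Spec (CommRingCat.of K)))⟩
    exact ⟨_, g, rfl⟩
  obtain ⟨n, L, hL, hLC⟩ := Groth.Agent.H8Top.IsFinUnionLC.of_isConstructible hc
  obtain ⟨U, hU, hUne, hUsub⟩ := exists_open_inter_closure_subset n L hL (hLC ▸ hone)
  rw [← hLC] at hUne hUsub
  let Z := closure C
  have hCst : ∀ p : ↥(G ⊗ X).left, (snd G X).left.base p ∈ C → a.act.left.base p ∈ C :=
    fun p hp => act_mem_range_orbitMap a x hp
  have hZst : ∀ p : ↥(G ⊗ X).left, (snd G X).left.base p ∈ Z → a.act.left.base p ∈ Z :=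
    fun p hp => act_mem_closure_orbit a x hp
  have hswap : ∀ p : ↥(G ⊗ X).left,
      (snd G X).left.base ((swapHom a).left.base p) = a.act.left.base p ∧
      a.act.left.base ((swapHom a).left.base p) = (snd G X).left.base p := fun p =>
    ⟨congrArg (fun φ => φ.left.base p) (swapHom_snd a), congrArg (fun φ => φ.left.base p) (swapHom_act a)⟩
  have key : C = (a.act.left.base '' ((snd G X).left.base ⁻¹' U)) ∩ Z := by
    apply subset_antisymm
    · rintro c ⟨g, rfl⟩
      refine ⟨?_, subset_closure ⟨g, rfl⟩⟩
      obtain ⟨u, huU, huZ⟩ := hUne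
      obtain ⟨g₀, hg₀⟩ := hUsub ⟨huU, huZ⟩
      obtain ⟨q, hq1, hq2⟩ := exists_point_over G G g g₀
      let w : G ⊗ G ⟶ G ⊗ X := lift (fst G G * (snd G G)⁻¹) (snd G G ≫ a.orbitMap x)
      have hw1 : w ≫ a.act = fst G G ≫ a.orbitMap x := by
        change smulPt a (fst G G * (snd G G)⁻¹) (snd G G ≫ a.orbitMap x) = _
        rw [orbitMap_eq_smulPt, comp_smulPt, comp_smulPt, ← mul_smulPt]
        simp
      have hw2 : w ≫ snd G X = snd G G ≫ a.orbitMap x := lift_snd _ _
      refine ⟨w.left.base q, ?_, ?_⟩
      · change (w ≫ snd G X).left.base q ∈ U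
        rw [hw2]
        change (a.orbitMap x).left.base ((snd G G).left.base q) ∈ U
        rw [hq2, hg₀]
        exact huU
      · change (w ≫ a.act).left.base q = _
        rw [hw1]
        change (a.orbitMap x).left.base ((fst G G).left.base q) = _
        rw [hq1]
    · rintro _ ⟨⟨p, hp, rfl⟩, hpZ⟩
      refine hCst p (hUsub ⟨hp, ?_⟩)
      have := hZst ((swapHom a).left.base p) ((hswap p).1 ▸ hpZ)
      rwa [(hswap p).2] at this
  rw [key]
  exact ((isOpenMap_act a) _ (hU.preimage (snd G X).left.continuous)).isLocallyClosed.inter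
    isClosed_closure.isLocallyClosed

end Groth.Agent.AlgGrpLib.OrbitLC
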