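import Groth.Agent.SGA3cLib.DiagPoints
import Groth.Agent.SGA3cLib.BCPoints
import Groth.Agent.HopfQuot.SchemeQuot
import Groth.Prelude.Def_FrameBundle

/-! Points of `GL_n` over a base are invertible matrices of global functions; homomorphisms from affine groups. -/

set_option autoImplicit false
set_option backward.isDefEq.respectTransparency.types false

universe u

open CategoryTheory CategoryTheory.Limits MonoidalCategory CartesianMonoidalCategory MonObj AlgebraicGeometry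
open scoped TensorProduct

noncomputable section

attribute [-instance] ULift.module ULift.smulLeft ULift.mulAction ULift.smulZeroClass ULift.distribSMul
  ULift.distribMulAction ULift.mulDistribMulAction ULift.smulWithZero ULift.mulActionWithZero

namespace Groth.Agent.AlgGrpLib.GLnPoints

open Groth.Agent.SGA3cLib CoordGrp

theorem comul_mk {k : Type u} [CommRing k] {n : ℕ} (x : GLb n k) :
    CoalgebraStruct.comul (R := k) (GLn.mk n k x) =
      Algebra.TensorProduct.map (GLn.mk n k) (GLn.mk n k) (CoalgebraStruct.comul (R := k) x) := rfl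

theorem comul_X {k : Type u} [CommRing k] {n : ℕ} (i j : Fin n) :
    CoalgebraStruct.comul (R := k) (GLn.X i j : GLn n k) = ∑ l, GLn.X i l ⊗ₜ[k] GLn.X l j := by
  rw [GLn.X, comul_mk, GLb.comul_X, map_sum]
  exact Finset.sum_congr rfl fun l _ => Algebra.TensorProduct.map_tmul _ _ _ _

theorem det_eq {k : Type u} [CommRing k] {n : ℕ} :
    (GLn.det : GLn n k) = Matrix.det (fun i j => GLn.X i j : Matrix (Fin n) (Fin n) (GLn n k)) := by
  rw [GLn.det, GLb.det, AlgHom.map_det]
  rfl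

variable {S : Scheme.{u}} {n : ℕ} {X X' : Over S}

/-- The matrix of a point of `GL_n`. -/
def matOf (x : X ⟶ FrB.GLn n S) : Matrix (Fin n) (Fin n) Γ(X.left, ⊤) :=
  fun i j => fn (A := GLn n (ULift.{u} ℤ)) x (GLn.X i j)

theorem matOf_comp (f : X' ⟶ X) (x : X ⟶ FrB.GLn n S) :
    matOf (f ≫ x) = (matOf x).map f.left.appTop.hom := rfl

theorem det_matOf (x : X ⟶ FrB.GLn n S) : (matOf x).det = fn (A := GLn n (ULift.{u} ℤ)) x GLn.det := by
  rw [det_eq, RingHom.map_det]
  rfl

theorem matOf_injective {x y : X ⟶ FrB.GLn n S} (h : matOf x = matOf y) : x = y := by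
  refine fn_injective (A := GLn n (ULift.{u} ℤ)) (RingHom.ext fun a => ?_)
  obtain ⟨p, rfl⟩ : ∃ p, GLn.mk n _ p = a := Ideal.Quotient.mk_surjective a
  letI := algR₀ Γ(X.left, ⊤)
  refine DFunLike.congr_fun (show (fnAlg (A := GLn n (ULift.{u} ℤ)) x).comp (GLn.mk n _) =
    (fnAlg (A := GLn n (ULift.{u} ℤ)) y).comp (GLn.mk n _) from GLb.algHom_ext (fun i j => congrFun (congrFun h i) j) ?_) p
  show fn (A := GLn n (ULift.{u} ℤ)) x GLn.Dinv = fn (A := GLn n (ULift.{u} ℤ)) y GLn.Dinv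
  have hd : fn (A := GLn n (ULift.{u} ℤ)) x GLn.det = fn (A := GLn n (ULift.{u} ℤ)) y GLn.det := by
    rw [← det_matOf, ← det_matOf, h]
  refine left_inv_eq_right_inv (a := fn (A := GLn n (ULift.{u} ℤ)) x GLn.det) ?_ ?_
  · rw [← map_mul, _root_.mul_comm, GLn.det_mul_Dinv, map_one]
  · rw [hd, ← map_mul, GLn.det_mul_Dinv, map_one]

theorem matOf_mul (x y : X ⟶ FrB.GLn n S) : matOf (x * y) = matOf x * matOf y := by
  ext i j
  letI := algR₀ Γ(X.left, ⊤)
  show fn (A := GLn n (ULift.{u} ℤ)) (x * y) (GLn.X i j) = _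
  rw [fn_mul, comul_X, map_sum, map_sum, Matrix.mul_apply]
  refine Finset.sum_congr rfl fun l _ => ?_
  rw [Algebra.TensorProduct.map_tmul, Algebra.TensorProduct.lmul'_apply_tmul]
  rfl

theorem matOf_one : matOf (1 : X ⟶ FrB.GLn n S) = 1 := by
  have h := matOf_mul (1 : X ⟶ FrB.GLn n S) 1
  have hu : IsUnit (matOf (1 : X ⟶ FrB.GLn n S)) := by
    rw [Matrix.isUnit_iff_isUnit_det, det_matOf]
    exact IsUnit.of_mul_eq_one _ (by rw [← map_mul, GLn.det_mul_Dinv, map_one])
  rw [_root_.mul_one] at h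
  exact hu.mul_eq_left.mp h.symm

theorem exists_matOf (M : Matrix (Fin n) (Fin n) Γ(X.left, ⊤)) (hM : IsUnit M.det) :
    ∃ x : X ⟶ FrB.GLn n S, matOf x = M := by
  letI := algR₀ Γ(X.left, ⊤)
  obtain ⟨d, hd⟩ := hM.exists_right_inv
  let φ : GLb n (ULift.{u} ℤ) →ₐ[ULift.{u} ℤ] Γ(X.left, ⊤) := GLb.aeval n _ M d
  let ψ : GLn n (ULift.{u} ℤ) →+* Γ(X.left, ⊤) := Ideal.Quotient.lift _ φ.toRingHom (fun a ha => by
    obtain ⟨b, rfl⟩ := Ideal.mem_span_singleton'.mp ha
    show φ (b * GLb.rel n _) = 0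
    rw [map_mul]
    refine mul_eq_zero_of_right _ ?_
    rw [GLb.rel, map_sub, map_mul, map_one, GLb.det, GLb.aeval_mapMatrix_genMat M d |> fun h => (AlgHom.map_det φ _).trans (congrArg Matrix.det h)]
    simp [φ, hd])
  obtain ⟨x, hx⟩ := fn_surjective (S := S) (X := X) ψ
  refine ⟨x, ?_⟩
  ext i j
  show fn x (GLn.X i j) = M i j
  rw [hx]
  exact GLb.aeval_X M d i j

end Groth.Agent.AlgGrpLib.GLnPoints

namespace Groth.Agent.AlgGrpLib.GLnPoints

open Groth.Agent.SGA3cLib Groth.Agent.HopfQuot CoordGrp WithConv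

variable {k : Type u} [Field k] {A : Type u} [CommRing A] [HopfAlgebra k A] {n : ℕ}

theorem eq_toSpecΓ {Z : Scheme.{u}} {R : CommRingCat.{u}} (f : Z ⟶ Spec R) :
    f = Z.toSpecΓ ≫ Spec.map ((Scheme.ΓSpecIso R).inv ≫ f.appTop) := by
  rw [Spec.map_comp, ← Scheme.toSpecΓ_naturality_assoc, ← SpecMap_ΓSpecIso_hom, ← Spec.map_comp,
    Iso.inv_hom_id, Spec.map_id, Category.comp_id]

/-- A matrix of group-like-multiplicative functions gives a homomorphism to `GL_n`. -/
theorem exists_hom_of_matrix (M : Matrix (Fin n) (Fin n) A) (hM : IsUnit M.det)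
    (hco : ∀ i j, CoalgebraStruct.comul (R := k) (M i j) = ∑ l, M i l ⊗ₜ[k] M l j) :
    ∃ ψ : spec (k := k) A ⟶ FrB.GLn n (Spec (CommRingCat.of k)), IsMonHom ψ ∧
      matOf ψ = M.map (Scheme.ΓSpecIso (CommRingCat.of A)).inv.hom := by
  obtain ⟨ψ, hψ⟩ := exists_matOf (S := Spec (CommRingCat.of k)) (X := spec (k := k) A)
    (M.map (Scheme.ΓSpecIso (CommRingCat.of A)).inv.hom) (by
      have h := hM.map (Scheme.ΓSpecIso (CommRingCat.of A)).inv.hom
      rwa [RingHom.map_det] at h)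
  refine ⟨ψ, BCPoints.isMonHom_of_mul ψ fun X x y => ?_, hψ⟩
  -- reduce to the spectrum of the global functions of `X`
  let T : Type u := Γ(X.left, ⊤)
  let : Algebra k T := ((Scheme.ΓSpecIso (CommRingCat.of k)).inv ≫ X.hom.appTop).hom.toAlgebra
  let h : X ⟶ (Spec (CommRingCat.of T)).asOver (Spec (CommRingCat.of k)) := Over.homMk X.left.toSpecΓ (by
    show X.left.toSpecΓ ≫ Spec.map ((Scheme.ΓSpecIso (CommRingCat.of k)).inv ≫ X.hom.appTop) = X.hom
    rw [Spec.map_comp, ← Scheme.toSpecΓ_naturality_assoc, ← SpecMap_ΓSpecIso_hom, ← Spec.map_comp,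
      Iso.inv_hom_id, Spec.map_id, Category.comp_id])
  have hfac : ∀ z : X ⟶ spec (k := k) A, ∃ φ : Groth.Agent.HopfQuot.Pt k A T, z = h ≫ ptSpec φ := fun z => by
    let φ : A →+* T := ((Scheme.ΓSpecIso (CommRingCat.of A)).inv ≫ z.left.appTop).hom
    have hc : ∀ c : k, φ (algebraMap k A c) = algebraMap k T c := fun c => by
      have e := congrArg (fun f : X.left ⟶ Spec (CommRingCat.of k) => f.appTop) (Over.w z)
      simp only [Scheme.Hom.comp_appTop] at e
      have e2 := Scheme.ΓSpecIso_inv_naturality (CommRingCat.ofHom (algebraMap k A))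
      show z.left.appTop ((Scheme.ΓSpecIso (CommRingCat.of A)).inv (algebraMap k A c)) = _
      rw [show (Scheme.ΓSpecIso (CommRingCat.of A)).inv (algebraMap k A c) =
        (spec (k := k) A).hom.appTop ((Scheme.ΓSpecIso (CommRingCat.of k)).inv c) from
          congrArg (fun f => f.hom c) e2]
      exact congrArg (fun f => f.hom ((Scheme.ΓSpecIso (CommRingCat.of k)).inv c)) e
    refine ⟨toConv { toRingHom := φ, commutes' := hc }, Over.OverMorphism.ext ?_⟩
    show z.left = X.left.toSpecΓ ≫ Spec.map (CommRingCat.ofHom φ)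
    exact eq_toSpecΓ z.left
  have hmat : ∀ φ : Groth.Agent.HopfQuot.Pt k A T, matOf (ptSpec φ ≫ ψ) =
      M.map ((Scheme.ΓSpecIso (CommRingCat.of T)).inv.hom.comp φ.ofConv.toRingHom) := fun φ => by
    rw [matOf_comp, hψ, Matrix.map_map]
    ext i j
    exact congrArg (fun f => f.hom (M i j)) (Scheme.ΓSpecIso_inv_naturality (CommRingCat.ofHom φ.ofConv.toRingHom)).symm
  obtain ⟨φ, rfl⟩ := hfac x
  obtain ⟨φ', rfl⟩ := hfac y
  rw [← MonObj.comp_mul, Category.assoc, Category.assoc, Category.assoc, ← MonObj.comp_mul, ← map_mul]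
  congr 1
  refine matOf_injective ?_
  rw [matOf_mul, hmat, hmat, hmat]
  ext i j
  refine Eq.trans ?_ (Matrix.mul_apply).symm
  show (Scheme.ΓSpecIso (CommRingCat.of T)).inv.hom ((φ * φ').ofConv (M i j)) =
    ∑ l, (Scheme.ΓSpecIso (CommRingCat.of T)).inv.hom (φ.ofConv (M i l)) *
      (Scheme.ΓSpecIso (CommRingCat.of T)).inv.hom (φ'.ofConv (M l j))
  simp only [← map_mul, ← map_sum]
  congr 1
  rw [AlgHom.convMul_apply, hco, map_sum]
  exact Finset.sum_congr rfl fun l _ => Algebra.TensorProduct.lift_tmul _ _ _ _ _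

end Groth.Agent.AlgGrpLib.GLnPoints
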