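import Groth.Agent.FlatMorCompIrr.EtaleLift
import Groth.Agent.VarietyLib.SeparablePoints
import Mathlib

/-!
A flat finite type algebra over a domain of characteristic zero, or a smooth algebra over any domain, has a point in a finite etale algebra over a
nonzero localisation of the base.
-/

set_option autoImplicit false
set_option backward.isDefEq.respectTransparency.types false

universe u

open Polynomial TensorProduct

namespace Groth.Agent.AlgGrpLib.FiniteEtaleMultisection

/-- A separable point of the generic fibre spreads out to a finite etale algebra over a localisation. -/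
theorem exists_finite_etale_of_separable {R S : Type u} [CommRing R] [IsDomain R] [CommRing S] [Algebra R S]
    [Algebra.FiniteType R S] (m : Ideal (FractionRing R ⊗[R] S)) [hm : m.IsMaximal]
    (hsepm : Algebra.IsSeparable (FractionRing R) ((FractionRing R ⊗[R] S) ⧸ m)) :
    ∃ (s : R) (_ : s ≠ 0) (C : Type u) (_ : CommRing C) (_ : Algebra (Localization.Away s) C) (ψ : S →+* C),
      Module.Finite (Localization.Away s) C ∧ Algebra.Etale (Localization.Away s) C ∧
      Function.Surjective (PrimeSpectrum.comap (algebraMap (Localization.Away s) C)) ∧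
      ψ.comp (algebraMap R S) = (algebraMap (Localization.Away s) C).comp (algebraMap R (Localization.Away s)) := by
  classical
  let K := FractionRing R
  let T := K ⊗[R] S
  letI : Field (T ⧸ m) := Ideal.Quotient.field m
  haveI : Algebra.IsSeparable K (T ⧸ m) := hsepm
  haveI : Algebra.FiniteType K (T ⧸ m) := .of_surjective (Ideal.Quotient.mkₐ K m) Ideal.Quotient.mk_surjective
  haveI : Module.Finite K (T ⧸ m) := finite_of_finite_type_of_isJacobsonRing K (T ⧸ m)
  obtain ⟨α, hα⟩ := Field.exists_primitive_element K (T ⧸ m)
  have hint : IsIntegral K α := IsIntegral.of_finite K α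
  have hadj : Algebra.adjoin K {α} = ⊤ := by
    rw [← IntermediateField.adjoin_simple_toSubalgebra_of_isAlgebraic hint.isAlgebraic, hα,
      IntermediateField.top_toSubalgebra]
  have hsurj : Function.Surjective (Polynomial.aeval α : K[X] →ₐ[K] (T ⧸ m)) := fun y => by
    have hy : y ∈ Algebra.adjoin K {α} := by rw [hadj]; trivial
    rw [Algebra.adjoin_singleton_eq_range_aeval] at hy
    exact hy
  let f : S →ₐ[R] (T ⧸ m) :=
    ((Ideal.Quotient.mkₐ K m).restrictScalars R).comp (Algebra.TensorProduct.includeRight : S →ₐ[R] T)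
  obtain ⟨gens, hgens⟩ := (inferInstance : Algebra.FiniteType R S).out
  choose Q hQ using fun g : S => hsurj (f g)
  let P := minpoly K α
  have hsep : P.Separable := Algebra.IsSeparable.isSeparable K α
  obtain ⟨a, b, hab⟩ := id hsep
  -- the finitely many coefficients
  let coeffs : Finset K := ((insert P (insert a (insert b (gens.image Q)))).biUnion fun p => p.coeffs)
  obtain ⟨d, hd⟩ := IsLocalization.exist_integer_multiples_of_finset (nonZeroDivisors R) (S := K) coeffs
  let s : R := d
  have hs : s ≠ 0 := nonZeroDivisors.ne_zero d.2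
  let Rs := Localization.Away s
  have hu : IsUnit (algebraMap R K s) := by
    rw [isUnit_iff_ne_zero, Ne, map_eq_zero_iff _ (IsFractionRing.injective R K)]
    exact hs
  let ρ : Rs →+* K := IsLocalization.Away.lift s hu
  have hρ : ∀ r, ρ (algebraMap R Rs r) = algebraMap R K r := fun r => IsLocalization.Away.lift_eq s hu r
  have hρi : Function.Injective ρ := by
    refine (injective_iff_map_eq_zero ρ).2 fun x hx => ?_
    obtain ⟨⟨r, t⟩, rfl⟩ := IsLocalization.mk'_surjective (Submonoid.powers s) x
    have h1 : IsLocalization.mk' Rs r t * algebraMap R Rs t = algebraMap R Rs r := IsLocalization.mk'_spec Rs r t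
    have h2 := congrArg ρ h1
    rw [map_mul, hx, zero_mul, hρ] at h2
    show IsLocalization.mk' Rs r t = 0
    rw [(map_eq_zero_iff _ (IsFractionRing.injective R K)).1 h2.symm, IsLocalization.mk'_zero]
  have hc : ∀ c ∈ coeffs, c ∈ ρ.range := fun c hc' => by
    obtain ⟨r, hr⟩ := hd c hc'
    obtain ⟨w, hw⟩ := (IsLocalization.Away.algebraMap_isUnit (S := Rs) s).exists_right_inv
    refine ⟨algebraMap R Rs r * w, ?_⟩
    have hw' : algebraMap R K s * ρ w = 1 := by rw [← hρ, ← map_mul, hw, map_one]
    rw [map_mul, hρ, hr]
    show (s • c) * ρ w = c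
    rw [Algebra.smul_def, mul_assoc, mul_comm c, ← mul_assoc, hw', one_mul]
  have hl : ∀ p ∈ insert P (insert a (insert b (gens.image Q))), p ∈ Polynomial.lifts ρ := fun p hp => by
    rw [Polynomial.lifts_iff_coeff_lifts]
    intro i
    by_cases h0 : p.coeff i = 0
    · exact ⟨0, by rw [map_zero, h0]⟩
    · exact hc _ (Finset.mem_biUnion.2 ⟨p, hp, Polynomial.coeff_mem_coeffs h0⟩)
  obtain ⟨P', hP', hdeg, hmon⟩ :=
    Polynomial.lifts_and_degree_eq_and_monic (hl P (Finset.mem_insert_self _ _)) (minpoly.monic hint)
  obtain ⟨a', ha'⟩ := (Polynomial.mem_lifts a).1 (hl a (by simp))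
  obtain ⟨b', hb'⟩ := (Polynomial.mem_lifts b).1 (hl b (by simp))
  have hsep' : P'.Separable := ⟨a', b', Polynomial.map_injective ρ hρi (by
    rw [Polynomial.map_add, Polynomial.map_mul, Polynomial.map_mul, ← Polynomial.derivative_map, ha', hb', hP',
      Polynomial.map_one, hab])⟩
  let φ : AdjoinRoot P' →+* (T ⧸ m) := AdjoinRoot.lift ((algebraMap K (T ⧸ m)).comp ρ) α (by
    rw [← Polynomial.eval₂_map, hP']; exact minpoly.aeval K α)
  have hφi : Function.Injective φ := by
    refine (injective_iff_map_eq_zero φ).2 fun x hx => ?_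
    obtain ⟨q, rfl⟩ := AdjoinRoot.mk_surjective x
    rw [AdjoinRoot.lift_mk, ← Polynomial.eval₂_map] at hx
    have hdvd : P ∣ q.map ρ := minpoly.dvd K α hx
    rw [← hP'] at hdvd
    rw [AdjoinRoot.mk_eq_zero, ← Polynomial.modByMonic_eq_zero_iff_dvd hmon]
    apply Polynomial.map_injective ρ hρi
    rw [Polynomial.map_modByMonic ρ hmon, Polynomial.map_zero, Polynomial.modByMonic_eq_zero_iff_dvd (hmon.map ρ)]
    exact hdvd
  haveI : IsDomain Rs := hρi.isDomain
  have hfin : Module.Finite Rs (AdjoinRoot P') := hmon.finite_adjoinRoot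
  have hfR : ∀ r : R, f (algebraMap R S r) = φ (algebraMap Rs (AdjoinRoot P') (algebraMap R Rs r)) := fun r => by
    rw [f.commutes, AdjoinRoot.algebraMap_eq, AdjoinRoot.lift_of, RingHom.comp_apply, hρ,
      ← IsScalarTower.algebraMap_apply]
  have hrange : ∀ x : S, f x ∈ φ.range := fun x => by
    have hx : x ∈ Algebra.adjoin R (gens : Set S) := by rw [hgens]; trivial
    induction hx using Algebra.adjoin_induction with
    | mem g hg =>
      obtain ⟨q, hq⟩ := (Polynomial.mem_lifts _).1 (hl (Q g)
        (by simp only [Finset.mem_insert, Finset.mem_image]; exact Or.inr (Or.inr (Or.inr ⟨g, hg, rfl⟩))))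
      exact ⟨AdjoinRoot.mk P' q, by rw [AdjoinRoot.lift_mk, ← Polynomial.eval₂_map, hq]; exact hQ g⟩
    | algebraMap r => exact ⟨_, (hfR r).symm⟩
    | add x y _ _ hx hy => rw [map_add]; exact add_mem hx hy
    | mul x y _ _ hx hy => rw [map_mul]; exact mul_mem hx hy
  let e := RingEquiv.ofBijective φ.rangeRestrict ⟨fun x y h => hφi (congrArg Subtype.val h), φ.rangeRestrict_surjective⟩
  refine ⟨s, hs, AdjoinRoot P', inferInstance, inferInstance,
    e.symm.toRingHom.comp (f.toRingHom.codRestrict φ.range hrange), hfin,
    Groth.Agent.FlatMorCompIrr.etale_adjoinRoot P' hmon hsep', ?_, RingHom.ext fun r => hφi ?_⟩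
  · haveI := hfin
    have hinj : Function.Injective (algebraMap Rs (AdjoinRoot P')) := AdjoinRoot.of.injective_of_degree_ne_zero (by
      rw [hdeg]; exact (minpoly.degree_pos hint).ne')
    intro p
    haveI : Algebra.IsIntegral Rs (AdjoinRoot P') := Algebra.IsIntegral.of_finite Rs _
    obtain ⟨q, hq1, hq2⟩ := Ideal.exists_ideal_over_prime_of_isIntegral p.asIdeal (⊥ : Ideal (AdjoinRoot P'))
      (fun x hx => by
        rw [Ideal.mem_comap, Ideal.mem_bot, map_eq_zero_iff _ hinj] at hx
        rw [hx]; exact zero_mem _)
    exact ⟨⟨q, hq2.1⟩, PrimeSpectrum.ext hq2.2⟩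
  · refine Eq.trans ?_ (hfR r)
    have h := e.apply_symm_apply ((f.toRingHom.codRestrict φ.range hrange) (algebraMap R S r))
    exact congrArg Subtype.val h

/-- A point in a finite etale algebra over a localisation of the base. -/
theorem exists_finite_etale_point {R S : Type u} [CommRing R] [IsDomain R] [CharZero R] [CommRing S] [Algebra R S]
    [Algebra.FiniteType R S] [Module.Flat R S] [Nontrivial S] :
    ∃ (s : R) (_ : s ≠ 0) (C : Type u) (_ : CommRing C) (_ : Algebra (Localization.Away s) C) (ψ : S →+* C),
      Module.Finite (Localization.Away s) C ∧ Algebra.Etale (Localization.Away s) C ∧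
      Function.Surjective (PrimeSpectrum.comap (algebraMap (Localization.Away s) C)) ∧
      ψ.comp (algebraMap R S) = (algebraMap (Localization.Away s) C).comp (algebraMap R (Localization.Away s)) := by
  let K := FractionRing R
  haveI : CharZero K := charZero_of_injective_algebraMap (IsFractionRing.injective R K)
  let T := K ⊗[R] S
  haveI : Nontrivial T := by
    have hinj : Function.Injective (Algebra.TensorProduct.includeRight : S →ₐ[R] T) :=
      Algebra.TensorProduct.includeRight_injective (IsFractionRing.injective R K)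
    exact hinj.nontrivial
  obtain ⟨m, hm⟩ := Ideal.exists_maximal T
  haveI := hm
  letI : Field (T ⧸ m) := Ideal.Quotient.field m
  haveI : Algebra.FiniteType K (T ⧸ m) := .of_surjective (Ideal.Quotient.mkₐ K m) Ideal.Quotient.mk_surjective
  haveI : Module.Finite K (T ⧸ m) := finite_of_finite_type_of_isJacobsonRing K (T ⧸ m)
  haveI : Algebra.IsAlgebraic K (T ⧸ m) := Algebra.IsAlgebraic.of_finite K (T ⧸ m)
  exact exists_finite_etale_of_separable m (Algebra.IsAlgebraic.isSeparable_of_perfectField (K := K) (L := T ⧸ m))

/-- A point in a finite etale algebra over a localisation, for a smooth generic fibre in any characteristic. -/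
theorem exists_finite_etale_point_smooth {R S : Type u} [CommRing R] [IsDomain R] [CommRing S] [Algebra R S]
    [Algebra.Smooth R S] [Nontrivial S] :
    ∃ (s : R) (_ : s ≠ 0) (C : Type u) (_ : CommRing C) (_ : Algebra (Localization.Away s) C) (ψ : S →+* C),
      Module.Finite (Localization.Away s) C ∧ Algebra.Etale (Localization.Away s) C ∧
      Function.Surjective (PrimeSpectrum.comap (algebraMap (Localization.Away s) C)) ∧
      ψ.comp (algebraMap R S) = (algebraMap (Localization.Away s) C).comp (algebraMap R (Localization.Away s)) := by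
  let K := FractionRing R
  let T := K ⊗[R] S
  haveI : Module.Flat R S := inferInstance
  haveI : Nontrivial T := by
    have hinj : Function.Injective (Algebra.TensorProduct.includeRight : S →ₐ[R] T) :=
      Algebra.TensorProduct.includeRight_injective (IsFractionRing.injective R K)
    exact hinj.nontrivial
  haveI : Algebra.Smooth K T := inferInstance
  obtain ⟨Ω, _, _, _, _, ⟨g⟩⟩ := VarietyLib.exists_separable_point K T
  have hint : ∀ x : Ω, IsIntegral K x := fun x => IsIntegral.of_finite K x
  haveI : Algebra.IsIntegral K g.range := ⟨fun x => (isIntegral_algHom_iff g.range.val Subtype.val_injective).1 (hint _)⟩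
  have hf : IsField g.range := isField_of_isIntegral_of_isField' (R := K) (Field.toIsField K)
  have hmax : (RingHom.ker g.toRingHom).IsMaximal :=
    Ideal.Quotient.maximal_of_isField _
      (MulEquiv.isField hf (Ideal.quotientKerEquivRange g).toMulEquiv)
  haveI := hmax
  letI : Field (T ⧸ RingHom.ker g.toRingHom) := Ideal.Quotient.field _
  have hsep : Algebra.IsSeparable K (T ⧸ RingHom.ker g.toRingHom) :=
    Algebra.IsSeparable.of_algHom (F := K) (E := T ⧸ RingHom.ker g.toRingHom) Ω
      (Ideal.Quotient.liftₐ (RingHom.ker g.toRingHom) g fun a ha => ha)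
  exact exists_finite_etale_of_separable (RingHom.ker g.toRingHom) hsep

end Groth.Agent.AlgGrpLib.FiniteEtaleMultisection
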