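import Mathlib.AlgebraicGeometry.AlgClosed.Basic
import Mathlib.AlgebraicGeometry.Morphisms.FinitePresentation
import Mathlib.AlgebraicGeometry.Morphisms.Flat
import Mathlib.AlgebraicGeometry.Morphisms.Separated
import Mathlib.CategoryTheory.Monoidal.Cartesian.Over

/-! Points with values in an algebraically closed extension. -/

set_option autoImplicit false
set_option backward.isDefEq.respectTransparency.types false

universe u

open CategoryTheory CategoryTheory.Limits MonoidalCategory CartesianMonoidalCategory AlgebraicGeometry Topology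

namespace Groth.Agent.AlgGrpLib.GeomPoints

variable {k : Type u} [Field k] {K : Type u} [Field K] [Algebra k K] [IsAlgClosed K]

/-- A nonempty closed subset of a scheme locally of finite type contains the image of a geometric point. -/
theorem exists_point_mem (Z : Over (Spec (CommRingCat.of k))) [LocallyOfFiniteType Z.hom] (S : Set Z.left)
    (hS : IsLocallyClosed S) (hne : S.Nonempty) :
    ∃ p : Over.mk (Spec.map (CommRingCat.ofHom (algebraMap k K))) ⟶ Z, ∀ y, p.left y ∈ S := by
  let g := Spec.map (CommRingCat.ofHom (algebraMap k K))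
  let fs := pullback.fst Z.hom g
  haveI : Surjective g := ⟨fun y => ⟨IsLocalRing.closedPoint K, Subsingleton.elim (α := PrimeSpectrum k) _ _⟩⟩
  haveI : Surjective fs := inferInstance
  haveI : JacobsonSpace ↥(pullback Z.hom g) := LocallyOfFiniteType.jacobsonSpace (pullback.snd Z.hom g)
  obtain ⟨z, hz⟩ := hne
  obtain ⟨w, hw⟩ := fs.surjective z
  obtain ⟨c, hc, hcc⟩ := nonempty_inter_closedPoints (Z := fs ⁻¹' S) ⟨w, by rw [Set.mem_preimage, hw]; exact hz⟩
    (hS.preimage fs.continuous)
  let q := (pointEquivClosedPoint (pullback.snd Z.hom g)).symm ⟨c, hcc⟩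
  refine ⟨Over.homMk (q.1 ≫ fs) ?_, fun y => ?_⟩
  · show (q.1 ≫ fs) ≫ Z.hom = g
    rw [Category.assoc, pullback.condition, ← Category.assoc, q.2, Category.id_comp]
  · show fs (q.1 y) ∈ S
    have hq : (pointEquivClosedPoint (pullback.snd Z.hom g) q).1 = c := by simp [q]
    rw [Subsingleton.elim (α := PrimeSpectrum K) y (IsLocalRing.closedPoint K)]
    exact (congrArg (fun c => fs c ∈ S) hq).mpr hc

/-- Over an algebraically closed field, points lift along surjective morphisms. -/
theorem exists_lift_point {Z W : Over (Spec (CommRingCat.of k))} [LocallyOfFiniteType Z.hom] [LocallyOfFiniteType W.hom]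
    (f : Z ⟶ W) [Surjective f.left] (p : Over.mk (Spec.map (CommRingCat.ofHom (algebraMap k K))) ⟶ W) :
    ∃ q : Over.mk (Spec.map (CommRingCat.ofHom (algebraMap k K))) ⟶ Z, q ≫ f = p := by
  haveI : LocallyOfFiniteType (f.left ≫ W.hom) := by rw [Over.w f]; infer_instance
  haveI : LocallyOfFiniteType f.left := locallyOfFiniteType_of_comp f.left W.hom
  let s := pullback.snd f.left p.left
  haveI : LocallyOfFiniteType s := MorphismProperty.pullback_snd (P := @LocallyOfFiniteType) _ _ inferInstance
  haveI : Surjective s := inferInstance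
  haveI : JacobsonSpace ↥(pullback f.left p.left) := LocallyOfFiniteType.jacobsonSpace (Y := Spec (CommRingCat.of K)) s
  obtain ⟨z, -⟩ := s.surjective (IsLocalRing.closedPoint K)
  obtain ⟨c, -, hc⟩ := nonempty_inter_closedPoints (Z := (Set.univ : Set ↥(pullback f.left p.left))) ⟨z, trivial⟩
    isOpen_univ.isLocallyClosed
  let q := (pointEquivClosedPoint (K := K) s).symm ⟨c, hc⟩
  refine ⟨Over.homMk (q.1 ≫ pullback.fst f.left p.left) ?_, Over.OverMorphism.ext ?_⟩
  · show (q.1 ≫ pullback.fst f.left p.left) ≫ Z.hom = _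
    have h2 : q.1 ≫ s = 𝟙 _ := q.2
    rw [← Over.w f, Category.assoc, pullback.condition_assoc, ← Category.assoc, h2, Category.id_comp, Over.w p]
  · show (q.1 ≫ pullback.fst f.left p.left) ≫ f.left = p.left
    have h2 : q.1 ≫ s = 𝟙 _ := q.2
    rw [Category.assoc, pullback.condition, ← Category.assoc, h2, Category.id_comp]

/-- A morphism of finite type through which all geometric points factor is surjective. -/
theorem surjective_of_points {Z W : Over (Spec (CommRingCat.of k))} [LocallyOfFiniteType W.hom] (f : Z ⟶ W)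
    [LocallyOfFinitePresentation f.left] [QuasiCompact f.left] [CompactSpace W.left] [QuasiSeparatedSpace W.left]
    (h : ∀ p : Over.mk (Spec.map (CommRingCat.ofHom (algebraMap k K))) ⟶ W, ∃ q, q ≫ f = p) : Surjective f.left := by
  refine ⟨fun w => ?_⟩
  by_contra hw
  haveI : JacobsonSpace W.left := LocallyOfFiniteType.jacobsonSpace W.hom
  have hS : IsConstructible (Set.range f.left)ᶜ := by
    rw [← Set.image_univ]
    exact (f.left.isConstructible_image .univ).compl
  -- a nonempty constructible set contains a nonempty locally closed set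
  obtain ⟨S, hSsub, hSlc, hSne⟩ : ∃ S, S ⊆ (Set.range f.left)ᶜ ∧ IsLocallyClosed S ∧ S.Nonempty := by
    haveI : Nonempty W.left.affineOpens := ⟨⟨⊥, isAffineOpen_bot _⟩⟩
    have key : ∀ (C : Set W.left), IsConstructible C → C.Nonempty → ∃ S, S ⊆ C ∧ IsLocallyClosed S ∧ S.Nonempty := by
      intro C hC
      induction C, hC using IsConstructible.induction_of_isTopologicalBasis
        (b := fun U : W.left.affineOpens => ((U : W.left.Opens) : Set W.left)) with
      | basis =>
        have hb := W.left.isBasis_affineOpens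
        rw [TopologicalSpace.Opens.IsBasis, Set.image_eq_range] at hb
        exact hb
      | isCompact_basis U => exact U.2.isCompact
      | sdiff U t ht =>
        intro hne
        exact ⟨_, le_rfl, (U : W.left.Opens).2.isLocallyClosed.inter
          (isOpen_biUnion fun (j : W.left.affineOpens) _ => (j : W.left.Opens).2).isClosed_compl.isLocallyClosed, hne⟩
      | union s _ t _ hs ht =>
        rintro ⟨x, hx | hx⟩
        · obtain ⟨S, h1, h2, h3⟩ := hs ⟨x, hx⟩
          exact ⟨S, h1.trans Set.subset_union_left, h2, h3⟩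
        · obtain ⟨S, h1, h2, h3⟩ := ht ⟨x, hx⟩
          exact ⟨S, h1.trans Set.subset_union_right, h2, h3⟩
    exact key _ hS ⟨w, fun ⟨z, hz⟩ => hw ⟨z, hz⟩⟩
  obtain ⟨p, hp⟩ := exists_point_mem (K := K) W S hSlc hSne
  obtain ⟨q, rfl⟩ := h p
  exact hSsub (hp (IsLocalRing.closedPoint K)) ⟨q.left (IsLocalRing.closedPoint K), rfl⟩

end Groth.Agent.AlgGrpLib.GeomPoints
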