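import Groth.Agent.HopfLib.Cartier
import Groth.Agent.HopfQuot.SchemeQuot
import Groth.Agent.AbSchLib.SmoothReduced
import Groth.Agent.SGA3xLib.SepFibre
import Mathlib.AlgebraicGeometry.AlgClosed.Basic

/-! Geometric points of a product with the spectrum of an algebraically closed field are dense. -/

set_option autoImplicit false
set_option backward.isDefEq.respectTransparency.types false

universe u

open CategoryTheory CategoryTheory.Limits MonoidalCategory CartesianMonoidalCategory MonObj AlgebraicGeometry
open Groth.Agent.HopfQuot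

namespace Groth.Agent.AlgGrpLib.PointsProdField

variable {k : Type u} [Field k]

theorem smooth_of_charZero [CharZero k] (H : Over (Spec (CommRingCat.of k))) [GrpObj H] [IsAffine H.left]
    [LocallyOfFiniteType H.hom] : Smooth H.hom := by
  obtain ⟨A, _, _, e, _, _⟩ := exists_spec (k := k) H
  haveI : IsIso e.left := inferInstanceAs (IsIso ((Over.forget _).map e))
  haveI : LocallyOfFiniteType (spec (k := k) A).hom := by rw [← Over.w e]; infer_instance
  haveI : Algebra.FiniteType k A := RingHom.finiteType_algebraMap.1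
    ((HasRingHomProperty.Spec_iff (P := @LocallyOfFiniteType) (φ := CommRingCat.ofHom (algebraMap k A))).1
      ‹LocallyOfFiniteType (spec (k := k) A).hom›)
  haveI := Groth.Agent.HopfLib.smooth_of_charZero (k := k) (A := A)
  haveI : Smooth (spec (k := k) A).hom := (HasRingHomProperty.Spec_iff (P := @Smooth)
    (φ := CommRingCat.ofHom (algebraMap k A))).2 (RingHom.smooth_algebraMap.2 inferInstance)
  have h : H.hom = CategoryTheory.inv e.left ≫ (spec (k := k) A).hom := by rw [← Over.w e, IsIso.inv_hom_id_assoc]
  rw [h]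
  infer_instance

variable {K : Type u} [Field K] [Algebra k K] [IsAlgClosed K]

theorem exists_factor {H G Z : Over (Spec (CommRingCat.of k))} [Smooth H.hom]
    (f : Over.mk (Spec.map (CommRingCat.ofHom (algebraMap k K))) ⊗ H ⟶ G) (j : Z ⟶ G) [IsClosedImmersion j.left]
    (h : ∀ y : Over.mk (Spec.map (CommRingCat.ofHom (algebraMap k K))) ⟶ H,
      ∃ z : Over.mk (Spec.map (CommRingCat.ofHom (algebraMap k K))) ⟶ Z, z ≫ j = lift (𝟙 _) y ≫ f) :
    ∃ l : Over.mk (Spec.map (CommRingCat.ofHom (algebraMap k K))) ⊗ H ⟶ Z, l ≫ j = f := by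
  let T := Over.mk (Spec.map (CommRingCat.ofHom (algebraMap k K)))
  let p := pullback.fst f j
  haveI : IsClosedImmersion p.left :=
    MorphismProperty.of_isPullback (P := @IsClosedImmersion) ((IsPullback.of_hasPullback f j).map (Over.forget _)).flip ‹_›
  let q : (T ⊗ H).left ⟶ Spec (CommRingCat.of K) := (fst T H).left
  haveI : Smooth q := inferInstanceAs (Smooth (pullback.fst T.hom H.hom))
  haveI : GeometricallyReduced q := Groth.Agent.AbSchLib.geometricallyReduced_of_smooth q
  haveI : AlgebraicGeometry.IsReduced (T ⊗ H).left :=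
    GeometricallyReduced.isReduced_of_flat_of_isLocallyNoetherian q
  haveI : JacobsonSpace (T ⊗ H).left := LocallyOfFiniteType.jacobsonSpace q
  haveI : Surjective p.left := by
    refine ⟨fun w => ?_⟩
    have hcl : closedPoints (T ⊗ H).left ⊆ Set.range p.left := fun c hc => by
      let s := (pointEquivClosedPoint q).symm ⟨c, hc⟩
      have hs : s.1 ≫ q = 𝟙 _ := s.2
      let y : T ⟶ T ⊗ H := Over.homMk s.1 (by
        have : (T ⊗ H).hom = q ≫ T.hom := (Over.w (fst T H)).symm
        show s.1 ≫ (T ⊗ H).hom = T.hom
        rw [this, ← Category.assoc, hs, Category.id_comp])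
      have hy : y = lift (𝟙 T) (y ≫ snd T H) := by
        apply CartesianMonoidalCategory.hom_ext
        · rw [lift_fst]; exact Over.OverMorphism.ext hs
        · rw [lift_snd]
      obtain ⟨z, hz⟩ := h (y ≫ snd T H)
      rw [← hy] at hz
      let l := pullback.lift y z hz.symm
      refine ⟨l.left (IsLocalRing.closedPoint K), ?_⟩
      have e1 : l.left ≫ p.left = s.1 := by
        rw [← Over.comp_left, pullback.lift_fst]; rfl
      rw [← Scheme.Hom.comp_apply, e1]
      have hsc : (pointEquivClosedPoint q s).1 = c := by simp [s]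
      exact hsc
    have := closure_mono hcl
    rw [closure_closedPoints, p.left.isClosedEmbedding.isClosed_range.closure_eq] at this
    exact this (Set.mem_univ w)
  haveI : IsIso p.left := isIso_of_isClosedImmersion_of_surjective p.left
  haveI : IsIso p := by
    haveI : IsIso ((Over.forget _).map p) := ‹IsIso p.left›
    exact isIso_of_reflects_iso _ (Over.forget _)
  exact ⟨inv p ≫ pullback.snd f j, by rw [Category.assoc, ← pullback.condition, IsIso.inv_hom_id_assoc]⟩

theorem hom_ext_points {H G : Over (Spec (CommRingCat.of k))} [Smooth H.hom] [IsSeparated G.hom]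
    {a b : Over.mk (Spec.map (CommRingCat.ofHom (algebraMap k K))) ⊗ H ⟶ G}
    (h : ∀ y : Over.mk (Spec.map (CommRingCat.ofHom (algebraMap k K))) ⟶ H, lift (𝟙 _) y ≫ a = lift (𝟙 _) y ≫ b) :
    a = b := by
  let D : G ⟶ G ⊗ G := lift (𝟙 G) (𝟙 G)
  haveI : IsClosedImmersion D.left := inferInstanceAs (IsClosedImmersion (pullback.diagonal G.hom))
  obtain ⟨l, hl⟩ := exists_factor (lift a b) D fun y => ⟨lift (𝟙 _) y ≫ a, by
    apply CartesianMonoidalCategory.hom_ext <;> simp [D, h y]⟩
  have h1 := congrArg (· ≫ fst G G) hl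
  have h2 := congrArg (· ≫ snd G G) hl
  simp only [D, Category.assoc, lift_fst, lift_snd, Category.comp_id] at h1 h2
  rw [← h1, ← h2]

end Groth.Agent.AlgGrpLib.PointsProdField
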