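import Mathlib.AlgebraicGeometry.Morphisms.UniversallyOpen
import Mathlib.AlgebraicGeometry.Morphisms.QuasiCompact
import Mathlib.AlgebraicGeometry.ResidueField
import Mathlib.CategoryTheory.Monoidal.Cartesian.Grp
import Mathlib.CategoryTheory.Monoidal.Cartesian.Over
import Mathlib.CategoryTheory.Limits.Constructions.Over.Connected

/-!
# Products of open subsets of a group scheme over a field (no finiteness hypotheses)
-/

set_option autoImplicit false
set_option backward.isDefEq.respectTransparency.types false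

universe u

open CategoryTheory Limits MonoidalCategory CartesianMonoidalCategory MonObj GrpObj AlgebraicGeometry

namespace Groth.Agent.AlgGrpLib.DenseMul

variable {K : Type u} [Field K] {G : Over (Spec (CommRingCat.of K))}

/-- `U × V` as a subset of `G × G`. -/
def prodSet (U V : Set G.left) : Set ↥(G ⊗ G).left :=
  (fst G G).left ⁻¹' U ∩ (snd G G).left ⁻¹' V

theorem isCompact_prodSet (U V : G.left.Opens) (hU : IsCompact (U : Set G.left)) (hV : IsCompact (V : Set G.left)) :
    IsCompact (prodSet (U : Set G.left) (V : Set G.left)) := by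
  have h := Scheme.Pullback.range_map (U.ι ≫ G.hom) (V.ι ≫ G.hom) G.hom G.hom U.ι V.ι (𝟙 _)
    (Category.comp_id _) (Category.comp_id _)
  haveI : CompactSpace ↥U.toScheme := isCompact_iff_compactSpace.mp hU
  haveI : CompactSpace ↥V.toScheme := isCompact_iff_compactSpace.mp hV
  haveI : CompactSpace ↥(Spec (CommRingCat.of K)) := inferInstance
  haveI : QuasiCompact (V.ι ≫ G.hom) := (quasiCompact_iff_compactSpace _).mpr ‹_›
  haveI : QuasiCompact (pullback.fst (U.ι ≫ G.hom) (V.ι ≫ G.hom)) := inferInstance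
  haveI : CompactSpace ↥(pullback (U.ι ≫ G.hom) (V.ι ≫ G.hom)) :=
    QuasiCompact.compactSpace_of_compactSpace (pullback.fst (U.ι ≫ G.hom) (V.ι ≫ G.hom))
  rw [U.range_ι, V.range_ι] at h
  have hc := isCompact_range (pullback.map (U.ι ≫ G.hom) (V.ι ≫ G.hom) G.hom G.hom U.ι V.ι (𝟙 _)
    (Category.comp_id _) (Category.comp_id _)).continuous
  rw [h] at hc
  exact hc

theorem isOpenMap_fst_left (G T : Over (Spec (CommRingCat.of K))) : IsOpenMap (fst G T).left.base := by
  haveI : UniversallyOpen (fst G T).left :=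
    MorphismProperty.pullback_fst (P := @UniversallyOpen) (f := G.hom) (g := T.hom)
      (show UniversallyOpen T.hom from inferInstance)
  exact (fst G T).left.isOpenMap

variable [GrpObj G]

theorem isOpenMap_mul : IsOpenMap (μ[G]).left.base := by
  let e : G ⊗ G ≅ G ⊗ G :=
    { hom := lift (fst G G * snd G G) (snd G G)
      inv := lift (fst G G * (snd G G)⁻¹) (snd G G)
      hom_inv_id := by
        apply CartesianMonoidalCategory.hom_ext
        · simp [MonObj.comp_mul, GrpObj.comp_inv]
        · simp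
      inv_hom_id := by
        apply CartesianMonoidalCategory.hom_ext
        · simp [MonObj.comp_mul, GrpObj.comp_inv]
        · simp }
  have h : μ[G] = e.hom ≫ fst G G := by
    rw [lift_fst, Hom.mul_def, lift_fst_snd, Category.id_comp]
  rw [h]
  exact (isOpenMap_fst_left G G).comp ((Over.forget _).mapIso e).hom.homeomorph.isOpenMap

variable (z : G.left)

/-- The residue field point of `z`. -/
noncomputable abbrev ptObj : Over (Spec (CommRingCat.of K)) := Over.mk (G.left.fromSpecResidueField z ≫ G.hom)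

/-- The residue field point of `z`. -/
noncomputable abbrev ptHom : ptObj z ⟶ G := Over.homMk (G.left.fromSpecResidueField z)

/-- `a ↦ a⁻¹ z` -/
noncomputable def sigma : G ⊗ ptObj z ≅ G ⊗ ptObj z where
  hom := lift ((fst G (ptObj z))⁻¹ * (snd G (ptObj z) ≫ ptHom z)) (snd G (ptObj z))
  inv := lift ((snd G (ptObj z) ≫ ptHom z) * (fst G (ptObj z))⁻¹) (snd G (ptObj z))
  hom_inv_id := by
    apply CartesianMonoidalCategory.hom_ext
    · simp [MonObj.comp_mul, GrpObj.comp_inv]
    · simp
  inv_hom_id := by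
    apply CartesianMonoidalCategory.hom_ext
    · simp [MonObj.comp_mul, GrpObj.comp_inv]
    · simp

theorem mem_mul_of_mem {U V : Set G.left} (r : ↥(G ⊗ ptObj z).left) (hU : (fst G (ptObj z)).left.base r ∈ U)
    (hV : (fst G (ptObj z)).left.base ((sigma z).hom.left.base r) ∈ V) :
    z ∈ μ[G].left.base '' prodSet U V := by
  let w : G ⊗ ptObj z ⟶ G ⊗ G := lift (fst G (ptObj z)) ((sigma z).hom ≫ fst G (ptObj z))
  refine ⟨w.left.base r, ⟨?_, ?_⟩, ?_⟩
  · change (w ≫ fst G G).left.base r ∈ U
    rw [lift_fst]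
    exact hU
  · change (w ≫ snd G G).left.base r ∈ V
    rw [lift_snd]
    exact hV
  · change (w ≫ μ[G]).left.base r = z
    have hσ : (sigma z).hom ≫ fst G (ptObj z) = (fst G (ptObj z))⁻¹ * (snd G (ptObj z) ≫ ptHom z) :=
      lift_fst _ _
    rw [← Hom.mul_def, hσ, mul_inv_cancel_left]
    exact (G.left.range_fromSpecResidueField z).le ⟨_, rfl⟩

theorem mem_mul_of_dense {U V : Set G.left} (hU : IsOpen U) (hUd : Dense U) (hVd : Dense V) :
    z ∈ μ[G].left.base '' prodSet U V := by
  let p := (fst G (ptObj z)).left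
  have hd : ∀ W : Set G.left, Dense W → Dense (p.base ⁻¹' W) := fun W hW => by
    rw [dense_iff_closure_eq, ← (isOpenMap_fst_left G _).preimage_closure_eq_closure_preimage p.continuous,
      hW.closure_eq, Set.preimage_univ]
  let e := (Over.forget _).mapIso (sigma z)
  obtain ⟨o⟩ : Nonempty ↥(Spec (G.left.residueField z)) :=
    inferInstanceAs (Nonempty (PrimeSpectrum (G.left.residueField z)))
  obtain ⟨x, -, hx⟩ := (hd _ hUd).inter_open_nonempty _ isOpen_univ
    ⟨(lift (ptHom z) (𝟙 (ptObj z))).left.base o, trivial⟩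
  obtain ⟨r, hr1, hr2⟩ := ((hd _ hVd).preimage e.hom.homeomorph.isOpenMap).inter_open_nonempty _
    (hU.preimage p.continuous) ⟨x, hx⟩
  exact mem_mul_of_mem z r hr1 hr2

theorem mem_mul_of_closure {U V : Set G.left} (hU : IsOpen U)
    (h1 : ∀ o : ↥(ptObj z).left, (1 : ptObj z ⟶ G).left.base o ∈ U) (hz : z ∈ closure V) :
    z ∈ μ[G].left.base '' prodSet U V := by
  let p := (fst G (ptObj z)).left
  let e := (Over.forget _).mapIso (sigma z)
  obtain ⟨o⟩ : Nonempty ↥(Spec (G.left.residueField z)) :=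
    inferInstanceAs (Nonempty (PrimeSpectrum (G.left.residueField z)))
  let x : ↥(G ⊗ ptObj z).left := (lift (1 : ptObj z ⟶ G) (𝟙 (ptObj z))).left.base o
  have hxU : p.base x ∈ U := by
    change (lift (1 : ptObj z ⟶ G) (𝟙 (ptObj z)) ≫ fst G (ptObj z)).left.base o ∈ U
    rw [lift_fst]
    exact h1 o
  have hxV : e.hom.homeomorph x ∈ closure (p.base ⁻¹' V) := by
    rw [← (isOpenMap_fst_left G _).preimage_closure_eq_closure_preimage p.continuous]
    change (lift (1 : ptObj z ⟶ G) (𝟙 (ptObj z)) ≫ (sigma z).hom ≫ fst G (ptObj z)).left.base o ∈ closure V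
    have h : lift (1 : ptObj z ⟶ G) (𝟙 (ptObj z)) ≫ (sigma z).hom ≫ fst G (ptObj z) = ptHom z := by
      simp [sigma, MonObj.comp_mul, GrpObj.comp_inv]
    rw [h]
    rw [show (ptHom z).left.base o = z from (G.left.range_fromSpecResidueField z).le ⟨o, rfl⟩]
    exact hz
  have hx' : x ∈ closure (e.hom.homeomorph ⁻¹' (p.base ⁻¹' V)) := by
    rw [← e.hom.homeomorph.preimage_closure]
    exact hxV
  obtain ⟨r, hr1, hr2⟩ := mem_closure_iff.1 hx' _ (hU.preimage p.continuous) hxU
  exact mem_mul_of_mem z r hr1 hr2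

end Groth.Agent.AlgGrpLib.DenseMul
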