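import Mathlib.AlgebraicGeometry.Morphisms.Flat
import Mathlib.AlgebraicGeometry.Morphisms.Proper

/-! Morphisms `r : X ⟶ Y` with `O_Y ≅ r_* O_X`: flat base change, epimorphisms, factorizations. -/

set_option autoImplicit false
set_option backward.isDefEq.respectTransparency.types false

universe u

open CategoryTheory Limits AlgebraicGeometry TopologicalSpace Opposite

namespace Groth.Agent.AlgGrpLib.ProperDescent

/-- The condition `O_Y ≅ f_* O_X` is stable under flat base change, `f` qcqs. -/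
theorem isIso_app_of_isPullback {X Y X' Y' : Scheme.{u}} {f : X ⟶ Y} [QuasiCompact f]
    [QuasiSeparated f] {g : Y' ⟶ Y} [Flat g] {f' : X' ⟶ Y'} {g' : X' ⟶ X} (H : IsPullback g' f' f g)
    (hf : ∀ U : Y.Opens, IsIso (f.app U)) (V : Y'.Opens) : IsIso (f'.app V) := by
  let ι := {p : Y.affineOpens × Y'.affineOpens // p.2.1 ≤ g ⁻¹ᵁ p.1.1}
  let B : ι → Opens ↥Y' := fun p => p.1.2.1
  have hB : Opens.IsBasis (Set.range B) := by
    rw [Opens.isBasis_iff_nbhd]
    intro U x hx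
    obtain ⟨_, ⟨W, hW, rfl⟩, hxW, -⟩ :=
      Y.isBasis_affineOpens.exists_subset_of_mem_open (Set.mem_univ (g x)) isOpen_univ
    obtain ⟨_, ⟨V', hV', rfl⟩, hxV, hle⟩ := Y'.isBasis_affineOpens.exists_subset_of_mem_open
      (show x ∈ ((U ⊓ g ⁻¹ᵁ W : Y'.Opens) : Set Y') from ⟨hx, hxW⟩) (U ⊓ g ⁻¹ᵁ W).isOpen
    exact ⟨V', ⟨⟨(⟨W, hW⟩, ⟨V', hV'⟩), fun y hy => (hle hy).2⟩, rfl⟩, hxV, fun y hy => (hle hy).1⟩
  have key : ∀ p : ι, IsIso (f'.app (B p)) := by
    rintro ⟨⟨⟨W, hW⟩, ⟨V', hV'⟩⟩, hp⟩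
    change V' ≤ g ⁻¹ᵁ W at hp
    have hUY : f' ⁻¹ᵁ V' = g' ⁻¹ᵁ (f ⁻¹ᵁ W) ⊓ f' ⁻¹ᵁ V' := by
      rw [right_eq_inf]
      intro z hz
      show f (g' z) ∈ W
      have e : f (g' z) = g (f' z) := by rw [← Scheme.Hom.comp_apply, H.w, Scheme.Hom.comp_apply]
      rw [e]
      exact hp hz
    have hi := isIso_pushoutSection_of_isQuasiSeparated_of_flat_right H hp (le_refl (f ⁻¹ᵁ W)) hUY hW hV'
      (QuasiCompact.isCompact_preimage _ W.isOpen hW.isCompact)
      (f.isQuasiSeparated_preimage hW.isQuasiSeparated)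
    have hp' := (isIso_pushoutSection_iff ..).1 hi
    haveI := hf W
    haveI : IsIso (f.appLE W (f ⁻¹ᵁ W) le_rfl) := by rwa [← Scheme.Hom.app_eq_appLE]
    have := hp'.isIso_inr_of_isIso inferInstance
    rw [Scheme.Hom.app_eq_appLE]
    exact this
  let φ : Y'.sheaf ⟶ (TopCat.Sheaf.pushforward CommRingCat f'.base).obj X'.sheaf := ⟨f'.c⟩
  haveI : IsIso φ := TopCat.Sheaf.isIso_iff_isIso_basis hB key
  haveI : IsIso φ.hom := (inferInstance : IsIso ((TopCat.Sheaf.forget CommRingCat Y').map φ))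
  exact (inferInstance : IsIso (φ.hom.app (op V)))

/-- A universally closed morphism with `O_Y ≅ r_* O_X` is surjective. -/
theorem surjective_of_isIso_app {X Y : Scheme.{u}} (r : X ⟶ Y) [UniversallyClosed r]
    (hr : ∀ U : Y.Opens, IsIso (r.app U)) : Function.Surjective r := by
  let V : Y.Opens := ⟨(Set.range r)ᶜ, r.isClosedMap.isClosed_range.isOpen_compl⟩
  intro y
  by_contra hy
  have hy' : y ∈ V := hy
  have hpre : r ⁻¹ᵁ V = ⊥ := by
    ext x
    simp [V]
  have : Subsingleton Γ(X, r ⁻¹ᵁ V) := by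
    rw [hpre]
    exact CommRingCat.subsingleton_of_isTerminal X.sheaf.isTerminalOfEmpty
  have : Subsingleton Γ(Y, V) :=
    have := hr V
    (ConcreteCategory.bijective_of_isIso (r.app V)).1.subsingleton
  have := (Y.presheaf.germ V y hy').hom.codomain_trivial
  exact not_subsingleton (Y.presheaf.stalk y) this

/-- A universally closed morphism with `O_Y ≅ r_* O_X` is an epimorphism of schemes. -/
theorem epi_of_isIso_app {X Y : Scheme.{u}} (r : X ⟶ Y) [UniversallyClosed r]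
    (hr : ∀ U : Y.Opens, IsIso (r.app U)) : Epi r := by
  refine ⟨fun {Z} g g' h => ?_⟩
  have hb : g.base = g'.base := by
    apply TopCat.hom_ext
    ext y
    obtain ⟨x, rfl⟩ := surjective_of_isIso_app r hr y
    exact congr($h x)
  refine Scheme.Hom.ext hb fun U => ?_
  have := hr (g' ⁻¹ᵁ U)
  rw [← cancel_mono (r.app (g' ⁻¹ᵁ U))]
  have e := Scheme.Hom.congr_app h U
  simp only [Scheme.Hom.comp_app] at e
  rw [Category.assoc, r.naturality, ← Category.assoc, e]
  refine (Category.assoc _ _ _).trans ?_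
  refine (congrArg (_ ≫ ·) ?_).trans (Category.comp_id _)
  exact (X.presheaf.map_comp _ _).symm.trans
    ((congr_arg X.presheaf.map (Subsingleton.elim _ _)).trans (X.presheaf.map_id _))

/-- A morphism constant on the fibres of `r` (`r` universally closed, qcqs, `O_Y ≅ r_* O_X`) factors
uniquely through `r`. -/
theorem exists_factor {X Y Z : Scheme.{u}} (r : X ⟶ Y) [UniversallyClosed r] [QuasiSeparated r]
    (hr : ∀ U : Y.Opens, IsIso (r.app U)) (g : X ⟶ Z) (hg : ∀ p q : X, r p = r q → g p = g q) :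
    ∃ h : Y ⟶ Z, r ≫ h = g := by
  have hs := surjective_of_isIso_app r hr
  choose s hs' using hs
  have hq : Topology.IsQuotientMap r.base :=
    r.isClosedMap.isQuotientMap r.continuous (surjective_of_isIso_app r hr)
  let h₀ : Y → Z := fun y => g (s y)
  have hh₀ : ∀ x, h₀ (r x) = g x := fun x => hg _ _ (hs' (r x))
  have hcont : Continuous h₀ := by
    rw [hq.continuous_iff]
    exact g.continuous.congr fun x => (hh₀ x).symm
  choose W hW hzW using fun y : Y => (exists_isAffineOpen_mem_and_subset (x := h₀ y) (U := ⊤) trivial)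
  let V : Y → Y.Opens := fun y => ⟨h₀ ⁻¹' (W y), (W y).isOpen.preimage hcont⟩
  have hpre : ∀ y, r ⁻¹ᵁ V y ≤ g ⁻¹ᵁ W y := fun y x hx => by
    show g x ∈ W y
    have hx' : h₀ (r x) ∈ W y := hx
    rwa [hh₀] at hx'
  haveI : ∀ y, IsIso (r.app (V y)) := fun y => hr (V y)
  let hV : ∀ y, (V y).toScheme ⟶ Z := fun y => (V y).toSpecΓ ≫
    Spec.map (g.appLE (W y) (r ⁻¹ᵁ V y) (hpre y) ≫ inv (r.app (V y))) ≫ (hW y).fromSpec
  have hcomp : ∀ y, (r ∣_ V y) ≫ hV y = (r ⁻¹ᵁ V y).ι ≫ g := fun y => by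
    simp only [hV]
    rw [← Category.assoc, ← Scheme.Opens.toSpecΓ_naturality, Category.assoc, Spec.map_comp,
      Category.assoc, ← Spec.map_comp_assoc, IsIso.inv_hom_id, Spec.map_id, Category.id_comp,
      Scheme.Opens.toSpecΓ_SpecMap_appLE_assoc, (hW y).toSpecΓ_fromSpec, Scheme.Hom.resLE_comp_ι]
  have hcov : IsOpenCover V := by
    rw [IsOpenCover, eq_top_iff]
    exact fun y _ => Opens.mem_iSup.2 ⟨y, (hzW y).1⟩
  let 𝒰 := Y.openCoverOfIsOpenCover V hcov
  refine ⟨𝒰.glueMorphisms hV fun a b => ?_, ?_⟩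
  · let j : pullback (𝒰.f a) (𝒰.f b) ⟶ Y := pullback.fst (𝒰.f a) (𝒰.f b) ≫ 𝒰.f a
    let Hp := IsPullback.of_hasPullback r j
    haveI : IsOpenImmersion (pullback.fst (𝒰.f a) (𝒰.f b)) := inferInstance
    haveI : IsOpenImmersion j := inferInstance
    haveI := epi_of_isIso_app (pullback.snd r j) (isIso_app_of_isPullback Hp hr)
    let p₁ := pullback.fst (𝒰.f a) (𝒰.f b)
    let p₂ := pullback.snd (𝒰.f a) (𝒰.f b)
    have e1 : ∀ (c : Y) (p : pullback (𝒰.f a) (𝒰.f b) ⟶ (V c).toScheme) (_ : p ≫ (V c).ι = j),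
        pullback.snd r j ≫ p ≫ hV c = pullback.fst r j ≫ g := by
      intro c p hp
      have hc := isPullback_morphismRestrict r (V c)
      let l : pullback r j ⟶ (r ⁻¹ᵁ V c).toScheme := hc.lift (pullback.snd r j ≫ p) (pullback.fst r j)
        (by rw [Category.assoc, hp, pullback.condition])
      rw [← Category.assoc, ← hc.lift_fst (pullback.snd r j ≫ p) (pullback.fst r j)
        (by rw [Category.assoc, hp, pullback.condition]), Category.assoc, hcomp, ← Category.assoc]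
      exact congrArg (· ≫ g) (hc.lift_snd _ _ _)
    rw [← cancel_epi (pullback.snd r j)]
    exact (e1 a p₁ rfl).trans (e1 b p₂ pullback.condition.symm).symm
  · refine Scheme.Cover.hom_ext (𝒰.pullback₁ r) _ _ fun a => ?_
    show pullback.fst r (𝒰.f a) ≫ r ≫ _ = pullback.fst r (𝒰.f a) ≫ g
    rw [pullback.condition_assoc, Scheme.Cover.ι_glueMorphisms]
    have hc := isPullback_morphismRestrict r (V a)
    let l : pullback r (𝒰.f a) ⟶ (r ⁻¹ᵁ V a).toScheme :=
      hc.lift (pullback.snd r (𝒰.f a)) (pullback.fst r (𝒰.f a)) pullback.condition.symm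
    calc pullback.snd r (𝒰.f a) ≫ hV a = (l ≫ (r ∣_ V a)) ≫ hV a := congrArg (· ≫ hV a) (hc.lift_fst _ _ _).symm
      _ = l ≫ (r ⁻¹ᵁ V a).ι ≫ g := (Category.assoc _ _ _).trans (congrArg (l ≫ ·) (hcomp a))
      _ = _ := (Category.assoc _ _ _).symm.trans (congrArg (· ≫ g) (hc.lift_snd _ _ _))

end Groth.Agent.AlgGrpLib.ProperDescent
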