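import Groth.Prelude.Def_AlgGrp
import Groth.Agent.AlgGrpLib.ProperDescent
import Groth.Agent.GrpdLib.SmoothOverField

/-! Descent of group actions along proper morphisms `f` with `O_Y ≅ f_* O_X`. -/

set_option autoImplicit false
set_option backward.isDefEq.respectTransparency.types false

universe u

open CategoryTheory Limits MonoidalCategory CartesianMonoidalCategory MonObj AlgebraicGeometry
open AlgGrp

namespace Groth.Agent.AlgGrpLib.ActionDescent

variable {S : Scheme.{u}}

theorem isPullback_whiskerLeft (W : Over S) {X Y : Over S} (f : X ⟶ Y) :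
    IsPullback (snd W X) (W ◁ f) f (snd W Y) := by
  refine IsPullback.of_isLimit' ⟨(whiskerLeft_snd W f).symm⟩ (PullbackCone.IsLimit.mk _
    (fun s => CartesianMonoidalCategory.lift (s.snd ≫ fst W Y) s.fst) (fun s => lift_snd _ _) (fun s => ?_)
    (fun s m h1 h2 => ?_))
  · apply CartesianMonoidalCategory.hom_ext
    · rw [Category.assoc, whiskerLeft_fst, lift_fst]
    · rw [Category.assoc, whiskerLeft_snd, ← Category.assoc, lift_snd, s.condition]
  · apply CartesianMonoidalCategory.hom_ext
    · rw [lift_fst, ← h2, Category.assoc, whiskerLeft_fst]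
    · rw [lift_snd, h1]

theorem isPullback_whiskerLeft_left (W : Over S) {X Y : Over S} (f : X ⟶ Y) :
    IsPullback (snd W X).left (W ◁ f).left f.left (snd W Y).left :=
  (isPullback_whiskerLeft W f).map (Over.forget S)

theorem flat_snd (W Y : Over S) [Flat W.hom] : Flat (snd W Y).left :=
  inferInstanceAs (Flat (pullback.snd W.hom Y.hom))

theorem isProper_whiskerLeft (W : Over S) {X Y : Over S} (f : X ⟶ Y) [IsProper f.left] :
    IsProper (W ◁ f).left :=
  MorphismProperty.of_isPullback (isPullback_whiskerLeft_left W f) ‹_›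

theorem isIso_app_whiskerLeft (W : Over S) {X Y : Over S} (f : X ⟶ Y) [IsProper f.left] [Flat W.hom]
    (hf : ∀ U : Y.left.Opens, IsIso (f.left.app U)) :
    ∀ V : (W ⊗ Y).left.Opens, IsIso ((W ◁ f).left.app V) := by
  haveI := flat_snd W Y
  exact ProperDescent.isIso_app_of_isPullback (isPullback_whiskerLeft_left W f) hf

theorem epi_whiskerLeft (W : Over S) {X Y : Over S} (f : X ⟶ Y) [IsProper f.left] [Flat W.hom]
    (hf : ∀ U : Y.left.Opens, IsIso (f.left.app U)) : Epi (W ◁ f) := by
  haveI := isProper_whiskerLeft W f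
  haveI : Epi ((Over.forget S).map (W ◁ f)) :=
    ProperDescent.epi_of_isIso_app (W ◁ f).left (isIso_app_whiskerLeft W f hf)
  exact (Over.forget S).epi_of_epi_map this

theorem epi_of_isIso_app {X Y : Over S} (f : X ⟶ Y) [IsProper f.left]
    (hf : ∀ U : Y.left.Opens, IsIso (f.left.app U)) : Epi f := by
  haveI : Epi ((Over.forget S).map f) := ProperDescent.epi_of_isIso_app f.left hf
  exact (Over.forget S).epi_of_epi_map this

variable {k : Type u} [Field k] {G X Y : Over (Spec (CommRingCat.of k))} [GrpObj G]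
  (f : X ⟶ Y) [IsProper f.left]

theorem flat_hom (W : Over (Spec (CommRingCat.of k))) : Flat W.hom :=
  Groth.Agent.GrpdLib.flat_to_field W.hom k (Iso.refl _)

/-- An action descends when `act ≫ f` is constant on the fibres of `G ◁ f`. -/
theorem exists_action (hf : ∀ U : Y.left.Opens, IsIso (f.left.app U)) (a : AlgGrp.Action G X)
    (h : ∀ p q : ↥(G ⊗ X).left, (G ◁ f).left p = (G ◁ f).left q → (a.act ≫ f).left p = (a.act ≫ f).left q) :
    ∃ b : AlgGrp.Action G Y, (G ◁ f) ≫ b.act = a.act ≫ f := by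
  haveI := flat_hom G
  haveI := isProper_whiskerLeft G f
  obtain ⟨b₀, hb₀⟩ := ProperDescent.exists_factor (G ◁ f).left (isIso_app_whiskerLeft G f hf) (a.act ≫ f).left h
  haveI : Epi (G ◁ f).left := ProperDescent.epi_of_isIso_app _ (isIso_app_whiskerLeft G f hf)
  let b : G ⊗ Y ⟶ Y := Over.homMk b₀ (by
    rw [← cancel_epi (G ◁ f).left, ← Category.assoc, hb₀, Over.w, Over.w])
  have hb : (G ◁ f) ≫ b = a.act ≫ f := Over.OverMorphism.ext hb₀
  haveI := flat_hom (𝟙_ (Over (Spec (CommRingCat.of k))))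
  haveI := flat_hom (G ⊗ G)
  haveI := epi_whiskerLeft (𝟙_ (Over (Spec (CommRingCat.of k)))) f hf
  haveI := epi_whiskerLeft (G ⊗ G) f hf
  refine ⟨⟨b, ?_, ?_⟩, hb⟩
  · rw [← cancel_epi (𝟙_ _ ◁ f), whisker_exchange_assoc, hb, ← Category.assoc, a.one_act,
      leftUnitor_naturality]
  · rw [← cancel_epi ((G ⊗ G) ◁ f), whisker_exchange_assoc, hb, ← Category.assoc, a.mul_act,
      associator_naturality_right_assoc, ← MonoidalCategory.whiskerLeft_comp_assoc, hb,
      MonoidalCategory.whiskerLeft_comp]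
    simp only [Category.assoc, hb]

theorem action_unique (hf : ∀ U : Y.left.Opens, IsIso (f.left.app U)) {b b' : AlgGrp.Action G Y}
    (h : (G ◁ f) ≫ b.act = (G ◁ f) ≫ b'.act) : b = b' := by
  haveI := flat_hom G
  haveI := epi_whiskerLeft G f hf
  obtain ⟨a1, _, _⟩ := b
  obtain ⟨a2, _, _⟩ := b'
  obtain rfl : a1 = a2 := (cancel_epi _).1 h
  rfl

end Groth.Agent.AlgGrpLib.ActionDescent
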