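import Groth.Prelude.Def_AlgGrp

/-!
# The shear automorphism of an action
-/

set_option autoImplicit false

universe u

open CategoryTheory Limits MonoidalCategory CartesianMonoidalCategory MonObj GrpObj AlgebraicGeometry

namespace Groth.Agent.AlgGrpLib

variable {S : Scheme.{u}} {G X : Over S} [GrpObj G] (a : AlgGrp.Action G X)

theorem act_act {T : Over S} (g h : T ⟶ G) (x : T ⟶ X) :
    lift g (lift h x ≫ a.act) ≫ a.act = lift (g * h) x ≫ a.act := by
  have h1 := congrArg (lift (lift g h) x ≫ ·) a.mul_act
  simp only [← Category.assoc, lift_whiskerRight, lift_lift_associator_hom, lift_whiskerLeft] at h1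
  rw [← Hom.mul_def] at h1
  simpa using h1.symm

theorem one_act' {T : Over S} (x : T ⟶ X) : lift (1 : T ⟶ G) x ≫ a.act = x := by
  have h1 := congrArg (lift (toUnit T) x ≫ ·) a.one_act
  simp only [← Category.assoc, lift_whiskerRight] at h1
  rw [← Hom.one_def] at h1
  simpa using h1

/-- `(g, x) ↦ (g, g · x)` -/
noncomputable def shearIso : G ⊗ X ≅ G ⊗ X where
  hom := lift (fst G X) a.act
  inv := lift (fst G X) (lift (fst G X)⁻¹ (snd G X) ≫ a.act)
  hom_inv_id := by
    apply CartesianMonoidalCategory.hom_ext
    · simp
    · rw [Category.assoc, lift_snd, Category.id_comp, ← Category.assoc, comp_lift, GrpObj.comp_inv, lift_fst, lift_snd]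
      conv_lhs => arg 1; arg 2; rw [show a.act = lift (fst G X) (snd G X) ≫ a.act by simp]
      rw [act_act, inv_mul_cancel, one_act']
  inv_hom_id := by
    apply CartesianMonoidalCategory.hom_ext
    · simp
    · rw [Category.assoc, lift_snd, Category.id_comp]
      rw [act_act, mul_inv_cancel, one_act']

@[simp] theorem shearIso_hom_snd : (shearIso a).hom ≫ snd G X = a.act := lift_snd _ _

/-- An action inherits every property of the structure map of the group stable under base change. -/
theorem act_of_hom (P : MorphismProperty Scheme.{u}) [P.IsStableUnderBaseChange]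
    (h : P G.hom) : P a.act.left := by
  haveI := MorphismProperty.IsStableUnderBaseChange.respectsIso (P := P)
  have h1 : P (snd G X).left := MorphismProperty.of_isPullback (IsPullback.of_hasPullback G.hom X.hom) h
  rw [← shearIso_hom_snd a, Over.comp_left]
  have : IsIso (shearIso a).hom.left := inferInstanceAs (IsIso ((Over.forget S).map (shearIso a).hom))
  exact (MorphismProperty.cancel_left_of_respectsIso P _ _).2 h1

end Groth.Agent.AlgGrpLib
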