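import Groth.Prelude.Def_AlgGrp
import Groth.Agent.AlgGrpLib.ActionShear
import Groth.Agent.AlgGrpLib.ActionDescent
import Groth.Agent.H8Top.Noetherian
import Mathlib.AlgebraicGeometry.AlgClosed.Basic
import Mathlib.AlgebraicGeometry.Geometrically.Integral
import Mathlib.FieldTheory.IsAlgClosed.AlgebraicClosure

/-! The open orbit of an almost homogeneous variety. -/

set_option autoImplicit false
set_option backward.isDefEq.respectTransparency.types false

universe u

open CategoryTheory Limits MonoidalCategory CartesianMonoidalCategory MonObj AlgebraicGeometry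
open Groth.Agent.AlgGrpLib

namespace Groth.Agent.AlgGrpLib.OpenOrbit

variable {k : Type u} [Field k]

/-- The geometric point over a point of a `k`-scheme. -/
theorem exists_point_over' (W : Over (Spec (CommRingCat.of k))) (w : W.left) :
    ∃ (K : Type u) (_ : Field K) (_ : Algebra k K) (_ : IsAlgClosed K)
      (t : Over.mk (Spec.map (CommRingCat.ofHom (algebraMap k K))) ⟶ W), t.left (IsLocalRing.closedPoint K) = w := by
  let K := AlgebraicClosure (W.left.residueField w)
  let c : Spec (CommRingCat.of K) ⟶ W.left :=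
    Spec.map (CommRingCat.ofHom (algebraMap (W.left.residueField w) K)) ≫ W.left.fromSpecResidueField w
  letI : Algebra k K := (Spec.preimage (c ≫ W.hom)).hom.toAlgebra
  refine ⟨K, inferInstance, inferInstance, inferInstance, Over.homMk c (Spec.map_preimage _).symm, ?_⟩
  show W.left.fromSpecResidueField w _ = w
  exact Scheme.fromSpecResidueField_apply _ _

variable {K : Type u} [Field K] [Algebra k K] [IsAlgClosed K]

/-- A geometric point lifts along a morphism of finite type whose image contains it. -/
theorem exists_lift_of_mem_range {Z W : Over (Spec (CommRingCat.of k))} [LocallyOfFiniteType Z.hom]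
    (f : Z ⟶ W) (p : Over.mk (Spec.map (CommRingCat.ofHom (algebraMap k K))) ⟶ W) (z : Z.left)
    (hz : f.left z = p.left (IsLocalRing.closedPoint K)) :
    ∃ q : Over.mk (Spec.map (CommRingCat.ofHom (algebraMap k K))) ⟶ Z, q ≫ f = p := by
  haveI : LocallyOfFiniteType (f.left ≫ W.hom) := by rw [Over.w f]; infer_instance
  haveI : LocallyOfFiniteType f.left := locallyOfFiniteType_of_comp f.left W.hom
  let s := pullback.snd f.left p.left
  haveI : LocallyOfFiniteType s := MorphismProperty.pullback_snd (P := @LocallyOfFiniteType) _ _ inferInstance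
  haveI : JacobsonSpace ↥(pullback f.left p.left) := LocallyOfFiniteType.jacobsonSpace (Y := Spec (CommRingCat.of K)) s
  obtain ⟨z', -⟩ := Scheme.Pullback.exists_preimage_pullback (f := f.left) (g := p.left) z
    (IsLocalRing.closedPoint K) hz
  obtain ⟨c, -, hc⟩ := nonempty_inter_closedPoints (Z := (Set.univ : Set ↥(pullback f.left p.left))) ⟨z', trivial⟩
    isOpen_univ.isLocallyClosed
  let q := (pointEquivClosedPoint (K := K) s).symm ⟨c, hc⟩
  refine ⟨Over.homMk (q.1 ≫ pullback.fst f.left p.left) ?_, Over.OverMorphism.ext ?_⟩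
  · show (q.1 ≫ pullback.fst f.left p.left) ≫ Z.hom = _
    have h2 : q.1 ≫ s = 𝟙 _ := q.2
    rw [← Over.w f, Category.assoc, pullback.condition_assoc, ← Category.assoc, h2, Category.id_comp, Over.w p]
  · show (q.1 ≫ pullback.fst f.left p.left) ≫ f.left = p.left
    have h2 : q.1 ≫ s = 𝟙 _ := q.2
    rw [Category.assoc, pullback.condition, ← Category.assoc, h2, Category.id_comp]

variable {G X : Over (Spec (CommRingCat.of k))} [GrpObj G] (a : AlgGrp.Action G X)

theorem isPullback_whiskerRight_left {A B : Over (Spec (CommRingCat.of k))} (i : A ⟶ B)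
    (P : Over (Spec (CommRingCat.of k))) : IsPullback (fst A P).left (i ▷ P).left i.left (fst B P).left := by
  refine IsPullback.map (F := Over.forget _) (IsPullback.of_isLimit' ⟨(whiskerRight_fst i P).symm⟩
    (PullbackCone.IsLimit.mk _ (fun s => CartesianMonoidalCategory.lift s.fst (s.snd ≫ snd B P))
      (fun s => lift_fst _ _) (fun s => ?_) (fun s m h1 h2 => ?_)))
  · apply CartesianMonoidalCategory.hom_ext
    · rw [Category.assoc, whiskerRight_fst, ← Category.assoc, lift_fst, s.condition]
    · rw [Category.assoc, whiskerRight_snd, lift_snd]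
  · apply CartesianMonoidalCategory.hom_ext
    · rw [lift_fst, h1]
    · rw [lift_snd, ← h2, Category.assoc, whiskerRight_snd]

theorem universallyOpen_fst (Y Z : Over (Spec (CommRingCat.of k))) : UniversallyOpen (fst Y Z).left :=
  MorphismProperty.pullback_fst (P := @UniversallyOpen) (f := Y.hom) (g := Z.hom) (show UniversallyOpen Z.hom from inferInstance)

theorem irreducibleSpace_of (Z : Over (Spec (CommRingCat.of k))) [GeometricallyIrreducible Z.hom] :
    IrreducibleSpace Z.left :=
  haveI : Subsingleton ↥(Spec (CommRingCat.of k)) := inferInstanceAs (Subsingleton (PrimeSpectrum k))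
  haveI : Nonempty ↥(Spec (CommRingCat.of k)) := inferInstanceAs (Nonempty (PrimeSpectrum k))
  GeometricallyIrreducible.irreducibleSpace_of_subsingleton Z.hom

theorem irreducibleSpace_tensor (Y Z : Over (Spec (CommRingCat.of k))) [IrreducibleSpace Y.left]
    [GeometricallyIrreducible Z.hom] : IrreducibleSpace (Y ⊗ Z).left :=
  inferInstanceAs (IrreducibleSpace ↥(pullback Y.hom Z.hom))

/-- The graph of the action. -/
noncomputable abbrev graph : G ⊗ X ⟶ X ⊗ X := CartesianMonoidalCategory.lift (snd G X) a.act

theorem isOpenMap_act : IsOpenMap a.act.left := by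
  haveI : UniversallyOpen a.act.left := act_of_hom a @UniversallyOpen inferInstance
  exact a.act.left.isOpenMap

theorem act_comp {T T' : Over (Spec (CommRingCat.of k))} (t : T ⟶ T') (g : T' ⟶ G) (x : T' ⟶ X) :
    t ≫ CartesianMonoidalCategory.lift g x ≫ a.act = CartesianMonoidalCategory.lift (t ≫ g) (t ≫ x) ≫ a.act := by
  rw [← Category.assoc, comp_lift]

/-- A geometric point in the image of the graph comes from the group. -/
theorem exists_of_mem_range [LocallyOfFiniteType G.hom] [LocallyOfFiniteType X.hom]
    (x y : Over.mk (Spec.map (CommRingCat.ofHom (algebraMap k K))) ⟶ X)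
    (h : (CartesianMonoidalCategory.lift x y).left (IsLocalRing.closedPoint K) ∈ Set.range (graph a).left) :
    ∃ g : Over.mk (Spec.map (CommRingCat.ofHom (algebraMap k K))) ⟶ G, CartesianMonoidalCategory.lift g x ≫ a.act = y := by
  obtain ⟨z, hz⟩ := h
  haveI : LocallyOfFiniteType (G ⊗ X).hom :=
    inferInstanceAs (LocallyOfFiniteType (pullback.fst G.hom X.hom ≫ G.hom))
  obtain ⟨q, hq⟩ := exists_lift_of_mem_range (graph a) (CartesianMonoidalCategory.lift x y) z hz
  refine ⟨q ≫ fst G X, ?_⟩
  have h1 := congrArg (· ≫ fst X X) hq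
  have h2 := congrArg (· ≫ snd X X) hq
  simp only [graph, Category.assoc, lift_fst, lift_snd] at h1 h2
  rw [← h1, ← h2, ← comp_lift, lift_fst_snd, Category.comp_id]

/-- The translation of the first factor. -/
noncomputable def shift : G ⊗ (X ⊗ X) ⟶ X ⊗ X := (α_ G X X).inv ≫ (a.act ▷ X)

theorem isOpenMap_shift : IsOpenMap (shift a).left := by
  haveI : UniversallyOpen a.act.left := act_of_hom a @UniversallyOpen inferInstance
  haveI : UniversallyOpen (a.act ▷ X).left :=
    MorphismProperty.of_isPullback (isPullback_whiskerRight_left a.act X) inferInstance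
  haveI : IsIso (α_ G X X).inv.left := inferInstanceAs (IsIso ((Over.forget _).map (α_ G X X).inv))
  exact (a.act ▷ X).left.isOpenMap.comp (α_ G X X).inv.left.homeomorph.isOpenMap

theorem shift_fst : shift a ≫ fst X X = (G ◁ fst X X) ≫ a.act := by
  rw [shift, Category.assoc, whiskerRight_fst, ← Category.assoc]
  congr 1
  apply CartesianMonoidalCategory.hom_ext <;> simp

theorem shift_mem_range [LocallyOfFiniteType G.hom] [LocallyOfFiniteType X.hom] (w : ↥(G ⊗ (X ⊗ X)).left)
    (hw : (snd G (X ⊗ X)).left w ∈ Set.range (graph a).left) : (shift a).left w ∈ Set.range (graph a).left := by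
  obtain ⟨K, _, _, _, t, rfl⟩ := exists_point_over' (G ⊗ (X ⊗ X)) w
  let g := t ≫ fst G (X ⊗ X)
  let x := t ≫ snd G (X ⊗ X) ≫ fst X X
  let y := t ≫ snd G (X ⊗ X) ≫ snd X X
  have e : t ≫ snd G (X ⊗ X) = CartesianMonoidalCategory.lift x y := by
    apply CartesianMonoidalCategory.hom_ext <;> simp [x, y]
  have hw' : (CartesianMonoidalCategory.lift x y).left (IsLocalRing.closedPoint K) ∈ Set.range (graph a).left := by
    rw [← e]; exact hw
  obtain ⟨g', hg'⟩ := exists_of_mem_range a x y hw'
  let q := CartesianMonoidalCategory.lift (g' * g⁻¹) (CartesianMonoidalCategory.lift g x ≫ a.act)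
  have key : q ≫ graph a = t ≫ shift a := by
    have ht : t ≫ shift a = CartesianMonoidalCategory.lift (CartesianMonoidalCategory.lift g x ≫ a.act) y := by
      apply CartesianMonoidalCategory.hom_ext
      · rw [Category.assoc, shift_fst, lift_fst, ← Category.assoc]
        congr 1
        apply CartesianMonoidalCategory.hom_ext <;> simp [g, x]
      · rw [lift_snd]; simp [shift, y]
    rw [ht]
    apply CartesianMonoidalCategory.hom_ext
    · simp [q, graph]
    · rw [lift_snd, Category.assoc, lift_snd, act_act, _root_.mul_assoc, inv_mul_cancel, _root_.mul_one, hg']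
  exact ⟨q.left (IsLocalRing.closedPoint K), congrArg (fun m => m.left (IsLocalRing.closedPoint K)) key⟩

variable [LocallyOfFiniteType G.hom] [LocallyOfFiniteType X.hom]

/-- The open orbit, as the projection of the interior of the image of the graph. -/
noncomputable def openOrbit : X.left.Opens :=
  ⟨(fst X X).left '' interior (Set.range (graph a).left),
    haveI := universallyOpen_fst X X
    (fst X X).left.isOpenMap _ isOpen_interior⟩

theorem act_mem_openOrbit (z : ↥(G ⊗ X).left) (hz : (snd G X).left z ∈ openOrbit a) :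
    a.act.left z ∈ openOrbit a := by
  obtain ⟨o, ho, ho'⟩ := hz
  obtain ⟨w, hw1, hw2⟩ := Scheme.exists_preimage_of_isPullback
    (ActionDescent.isPullback_whiskerLeft_left G (fst X X)) o z ho'
  let V := (shift a).left '' ((snd G (X ⊗ X)).left ⁻¹' interior (Set.range (graph a).left))
  have hV : IsOpen V := isOpenMap_shift a _ (isOpen_interior.preimage (snd G (X ⊗ X)).left.continuous)
  have hVR : V ⊆ interior (Set.range (graph a).left) := by
    refine interior_maximal ?_ hV
    rintro _ ⟨w', hw', rfl⟩
    exact shift_mem_range a w' (interior_subset hw')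
  refine ⟨(shift a).left w, hVR ⟨w, by show _ ∈ interior _; rw [hw1]; exact ho, rfl⟩, ?_⟩
  rw [← Scheme.Hom.comp_apply, ← Over.comp_left, shift_fst, Over.comp_left, Scheme.Hom.comp_apply, hw2]

/-- Two geometric points of the open orbit are in the same orbit. -/
theorem exists_translate [GeometricallyIrreducible X.hom]
    (x y : Over.mk (Spec.map (CommRingCat.ofHom (algebraMap k K))) ⟶ X)
    (hx : x.left (IsLocalRing.closedPoint K) ∈ openOrbit a) (hy : y.left (IsLocalRing.closedPoint K) ∈ openOrbit a) :
    ∃ g : Over.mk (Spec.map (CommRingCat.ofHom (algebraMap k K))) ⟶ G, CartesianMonoidalCategory.lift g x ≫ a.act = y := by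
  let T := Over.mk (Spec.map (CommRingCat.ofHom (algebraMap k K)))
  let O : TopologicalSpace.Opens ↥(X ⊗ X).left := ⟨interior (Set.range (graph a).left), isOpen_interior⟩
  haveI : IrreducibleSpace T.left := by
    haveI : Subsingleton T.left := inferInstanceAs (Subsingleton (PrimeSpectrum K))
    haveI : Nonempty T.left := inferInstanceAs (Nonempty (PrimeSpectrum K))
    exact { isPreirreducible_univ := Set.subsingleton_of_subsingleton.isPreirreducible, toNonempty := inferInstance }
  haveI : IrreducibleSpace ↥(T ⊗ X).left := irreducibleSpace_tensor T X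
  let A : (T ⟶ X) → Set ↥(T ⊗ X).left := fun u => (u ▷ X).left ⁻¹' O
  have hAopen : ∀ u, IsOpen (A u) := fun u => O.isOpen.preimage (u ▷ X).left.continuous
  have hAne : ∀ u : T ⟶ X, u.left (IsLocalRing.closedPoint K) ∈ openOrbit a → (A u).Nonempty := by
    rintro u ⟨o, ho, hou⟩
    obtain ⟨w, -, hw2⟩ := Scheme.exists_preimage_of_isPullback (isPullback_whiskerRight_left u X)
      (IsLocalRing.closedPoint K) o hou.symm
    exact ⟨w, by show (u ▷ X).left w ∈ O; rw [hw2]; exact ho⟩
  have hne : (A x ∩ A y).Nonempty :=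
    nonempty_preirreducible_inter (hAopen x) (hAopen y) (hAne x hx) (hAne y hy)
  let π : (T ⊗ X).left ⟶ Spec (CommRingCat.of K) := (fst T X).left
  haveI : LocallyOfFiniteType π := inferInstanceAs (LocallyOfFiniteType (pullback.fst T.hom X.hom))
  haveI : JacobsonSpace ↥(T ⊗ X).left := LocallyOfFiniteType.jacobsonSpace π
  obtain ⟨c, hc, hcc⟩ := nonempty_inter_closedPoints hne ((hAopen x).inter (hAopen y)).isLocallyClosed
  let q := (pointEquivClosedPoint π).symm ⟨c, hcc⟩
  have hq2 : q.1 ≫ π = 𝟙 _ := q.2
  have hqc : q.1 (IsLocalRing.closedPoint K) = c := by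
    show (pointEquivClosedPoint π q).1 = c
    simp [q]
  let s : T ⟶ T ⊗ X := Over.homMk q.1 (by
    show q.1 ≫ (T ⊗ X).hom = T.hom
    rw [← Over.w (fst T X), ← Category.assoc, hq2, Category.id_comp])
  have hs1 : s ≫ fst T X = 𝟙 T := Over.OverMorphism.ext hq2
  let z := s ≫ snd T X
  have hsu : ∀ u : T ⟶ X, s ≫ (u ▷ X) = CartesianMonoidalCategory.lift u z := fun u => by
    apply CartesianMonoidalCategory.hom_ext
    · rw [Category.assoc, whiskerRight_fst, ← Category.assoc, hs1, Category.id_comp, lift_fst]
    · simp [z]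
  have hmem : ∀ u : T ⟶ X, c ∈ A u →
      (CartesianMonoidalCategory.lift u z).left (IsLocalRing.closedPoint K) ∈ Set.range (graph a).left := by
    intro u hu
    rw [← hsu, Over.comp_left, Scheme.Hom.comp_apply]
    show (u ▷ X).left (q.1 (IsLocalRing.closedPoint K)) ∈ _
    rw [hqc]
    exact interior_subset hu
  obtain ⟨g₁, hg₁⟩ := exists_of_mem_range a x z (hmem x hc.1)
  obtain ⟨g₂, hg₂⟩ := exists_of_mem_range a y z (hmem y hc.2)
  refine ⟨g₂⁻¹ * g₁, ?_⟩
  rw [← act_act, hg₁, ← hg₂, act_act, inv_mul_cancel, one_act']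

theorem openOrbit_nonempty [QuasiCompact G.hom] [IsSeparated X.hom] [QuasiCompact X.hom]
    [GeometricallyIrreducible X.hom] (h : IsDominant (graph a).left) :
    ((openOrbit a : X.left.Opens) : Set X.left).Nonempty := by
  haveI : LocallyOfFiniteType (G ⊗ X).hom :=
    inferInstanceAs (LocallyOfFiniteType (pullback.fst G.hom X.hom ≫ G.hom))
  haveI : LocallyOfFiniteType (X ⊗ X).hom :=
    inferInstanceAs (LocallyOfFiniteType (pullback.fst X.hom X.hom ≫ X.hom))
  haveI : QuasiCompact (G ⊗ X).hom := inferInstanceAs (QuasiCompact (pullback.fst G.hom X.hom ≫ G.hom))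
  haveI : QuasiCompact (X ⊗ X).hom := inferInstanceAs (QuasiCompact (pullback.fst X.hom X.hom ≫ X.hom))
  haveI : IsSeparated (X ⊗ X).hom := inferInstanceAs (IsSeparated (pullback.fst X.hom X.hom ≫ X.hom))
  haveI : CompactSpace (X ⊗ X).left := QuasiCompact.compactSpace_of_compactSpace (X ⊗ X).hom
  haveI : IsLocallyNoetherian (X ⊗ X).left := LocallyOfFiniteType.isLocallyNoetherian (X ⊗ X).hom
  haveI : AlgebraicGeometry.IsNoetherian (X ⊗ X).left := {}
  haveI : QuasiCompact (graph a).left := by
    haveI : QuasiCompact ((graph a).left ≫ (X ⊗ X).hom) := by rw [Over.w]; infer_instance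
    exact QuasiCompact.of_comp (graph a).left (X ⊗ X).hom
  haveI : LocallyOfFiniteType (graph a).left := by
    haveI : LocallyOfFiniteType ((graph a).left ≫ (X ⊗ X).hom) := by rw [Over.w]; infer_instance
    exact locallyOfFiniteType_of_comp (graph a).left (X ⊗ X).hom
  haveI : IrreducibleSpace X.left := irreducibleSpace_of X
  haveI : IrreducibleSpace ↥(X ⊗ X).left := irreducibleSpace_tensor X X
  have hR : Topology.IsConstructible (Set.range (graph a).left) := by
    rw [← Set.image_univ]
    exact (graph a).left.isConstructible_image .univ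
  have hn : Set.range (graph a).left ∈ nhds (genericPoint ↥(X ⊗ X).left) := by
    rw [H8Top.mem_nhds_iff_dense_on_irreducible_closed _ hR]
    intro Y hY _ hη
    have hYu : Y = Set.univ := Set.eq_univ_of_univ_subset
      ((genericPoint_spec ↥(X ⊗ X).left).ge.trans (hY.closure_subset_iff.2 (Set.singleton_subset_iff.2 hη)))
    rw [hYu, Set.inter_univ, ((graph a).left.denseRange).closure_eq]
  exact ⟨(fst X X).left (genericPoint ↥(X ⊗ X).left), _, mem_interior_iff_mem_nhds.2 hn, rfl⟩

end Groth.Agent.AlgGrpLib.OpenOrbit
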