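import Groth.Agent.AlgGrpLib.GeneratedSubgroup
import Groth.Agent.AlgGrpLib.DenseMul
import Groth.Agent.AlgGrpLib.GeomPoints
import Groth.Agent.AlgGrpLib.OpenOrbit
import Groth.Agent.SGA3cLib.Irreducible
import Mathlib.RingTheory.Ideal.KrullsHeightTheorem

/-!
# Finitely many factors suffice in a generated subgroup
-/

set_option autoImplicit false
set_option backward.isDefEq.respectTransparency.types false

universe u

open CategoryTheory CategoryTheory.Limits MonoidalCategory CartesianMonoidalCategory MonObj GrpObj AlgebraicGeometry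

noncomputable section

namespace Groth.Agent.AlgGrpLib.Generated

variable {k : Type u} [Field k]

/-- A constructible set containing the generic point is a neighbourhood of it. -/
theorem exists_open_of_isConstructible {α : Type*} [TopologicalSpace α] {gp : α} (hgp : ∀ x, gp ⤳ x) {s : Set α}
    (hs : Topology.IsConstructible s) : (gp ∈ s → ∃ U, IsOpen U ∧ gp ∈ U ∧ U ⊆ s) ∧
      (gp ∉ s → ∃ U, IsOpen U ∧ gp ∈ U ∧ U ⊆ sᶜ) := by
  induction hs using Topology.IsConstructible.empty_union_induction with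
  | open_retrocompact U hU _ =>
    refine ⟨fun h => ⟨U, hU, h, subset_rfl⟩, fun h => ⟨Set.univ, isOpen_univ, trivial, fun x _ hx => h ?_⟩⟩
    exact (hgp x).mem_open hU hx
  | union s hs t ht hs' ht' =>
    refine ⟨?_, fun h => ?_⟩
    · rintro (h | h)
      · obtain ⟨U, h1, h2, h3⟩ := hs'.1 h
        exact ⟨U, h1, h2, h3.trans Set.subset_union_left⟩
      · obtain ⟨U, h1, h2, h3⟩ := ht'.1 h
        exact ⟨U, h1, h2, h3.trans Set.subset_union_right⟩
    · obtain ⟨U, h1, h2, h3⟩ := hs'.2 fun hh => h (Or.inl hh)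
      obtain ⟨V, h4, h5, h6⟩ := ht'.2 fun hh => h (Or.inr hh)
      exact ⟨U ∩ V, h1.inter h4, ⟨h2, h5⟩, fun x hx hxst => hxst.elim (h3 hx.1) (h6 hx.2)⟩
  | compl s hs hs' =>
    refine ⟨hs'.2, fun h => ?_⟩
    rw [compl_compl]
    exact hs'.1 (not_not.1 h)

/-- A decreasing chain of primes in a Noetherian ring is stationary. -/
theorem exists_forall_eq {R : Type u} [CommRing R] [IsNoetherianRing R] (P : ℕ → PrimeSpectrum R)
    (h : ∀ n, (P (n + 1)).asIdeal ≤ (P n).asIdeal) : ∃ N, ∀ n, N ≤ n → P n = P N := by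
  obtain ⟨_, ⟨N, rfl⟩, hN⟩ := (wellFounded_lt (α := ℕ∞)).has_min (Set.range fun n => (P n).asIdeal.height)
    (Set.range_nonempty _)
  refine ⟨N, fun n hn => PrimeSpectrum.ext ?_⟩
  have hle : (P n).asIdeal ≤ (P N).asIdeal := (antitone_nat_of_succ_le (f := fun n => (P n).asIdeal) h) hn
  rcases hle.lt_or_eq with hlt | heq
  · exact absurd (Ideal.height_strict_mono_of_isPrime hlt) (hN _ ⟨n, rfl⟩)
  · exact heq

variable [IsAlgClosed k] {G X : Over (Spec (CommRingCat.of k))} [GrpObj G] (φ : X ⟶ G)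

theorem geometricallyIrreducible_pow [IrreducibleSpace X.left] :
    ∀ n, GeometricallyIrreducible (Pow X n).hom
  | 0 => by
    haveI : IrreducibleSpace ↥(Spec (CommRingCat.of k)) :=
      inferInstanceAs (IrreducibleSpace (PrimeSpectrum k))
    exact FBaseLib.geometricallyIrreducible_of_isAlgClosed (𝟙 (Spec (CommRingCat.of k)))
  | n + 1 => by
    haveI := geometricallyIrreducible_pow n
    haveI : IrreducibleSpace (X ⊗ Pow X n).left := OpenOrbit.irreducibleSpace_tensor X (Pow X n)
    exact FBaseLib.geometricallyIrreducible_of_isAlgClosed (X ⊗ Pow X n).hom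

theorem locallyOfFiniteType_pow [LocallyOfFiniteType X.hom] : ∀ n, LocallyOfFiniteType (Pow X n).hom
  | 0 => inferInstanceAs (LocallyOfFiniteType (𝟙 (Spec (CommRingCat.of k))))
  | n + 1 => by
    haveI := locallyOfFiniteType_pow n
    exact inferInstanceAs (LocallyOfFiniteType (pullback.fst X.hom (Pow X n).hom ≫ X.hom))

theorem compactSpace_pow [QuasiCompact X.hom] : ∀ n, CompactSpace ↥(Pow X n).left
  | 0 => inferInstanceAs (CompactSpace ↥(Spec (CommRingCat.of k)))
  | n + 1 => by
    haveI := compactSpace_pow n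
    haveI : CompactSpace ↥X.left := (quasiCompact_iff_compactSpace X.hom).mp inferInstance
    haveI : QuasiCompact (Pow X n).hom := (quasiCompact_iff_compactSpace _).mpr inferInstance
    have hq : QuasiCompact (pullback.fst X.hom (Pow X n).hom) := MorphismProperty.pullback_fst _ _ inferInstance
    exact @QuasiCompact.compactSpace_of_compactSpace _ _ (pullback.fst X.hom (Pow X n).hom) hq ‹_›

/-- The subgroup generated by an irreducible `X` with inverse stable image containing the unit
consists of products of a bounded number of factors. -/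
theorem exists_generated_stab [LocallyOfFiniteType G.hom] [LocallyOfFiniteType X.hom] [QuasiCompact X.hom]
    [GeometricallyReduced X.hom] [IrreducibleSpace X.left]
    (hinv : Set.range (φ ≫ ι[G]).left.base ⊆ Set.range φ.left.base)
    (x₀ : 𝟙_ (Over (Spec (CommRingCat.of k))) ⟶ X) (hx₀ : x₀ ≫ φ = 1) :
    ∃ (H : Over (Spec (CommRingCat.of k))) (_ : GrpObj H) (i : H ⟶ G), IsMonHom i ∧ IsClosedImmersion i.left ∧
      GeometricallyReduced H.hom ∧ IrreducibleSpace H.left ∧ (∃ φ' : X ⟶ H, φ' ≫ i = φ) ∧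
      ∃ (M : ℕ) (p : Pow X M ⟶ H), p ≫ i = powProd φ M ∧ Surjective p.left ∧
        ∀ h : 𝟙_ (Over (Spec (CommRingCat.of k))) ⟶ H, ∃ v : 𝟙_ (Over (Spec (CommRingCat.of k))) ⟶ Pow X M,
          v ≫ p = h := by
  obtain ⟨H, inst, i, hi, hci, hgr, hred, hrange, hφ'⟩ := exists_generated φ hinv
  haveI hgrp := geometricallyReduced_pow (X := X)
  haveI hirr : ∀ n, IrreducibleSpace ↥(Pow X n).left := fun n =>
    haveI := geometricallyIrreducible_pow (X := X) n
    OpenOrbit.irreducibleSpace_of _
  haveI := locallyOfFiniteType_pow (X := X)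
  haveI := compactSpace_pow (X := X)
  have hredn : ∀ n, IsReduced (Pow X n).left := fun n =>
    GeometricallyReduced.isReduced_of_flat_of_isLocallyNoetherian (Pow X n).hom
  have hfac : ∀ n, ∃ p : Pow X n ⟶ H, p ≫ i = powProd φ n := fun n => by
    haveI := hredn n
    obtain ⟨g, hg⟩ := Groth.Agent.RedSepLib.exists_lift_of_range_subset (powProd φ n).left i.left (by
      rw [hrange, productPoints_eq]
      exact (Set.subset_iUnion (fun n => Set.range (powProd φ n).left) n).trans subset_closure)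
    exact ⟨Over.homMk g (by rw [← Over.w i, ← Category.assoc, hg, Over.w]), Over.OverMorphism.ext hg⟩
  choose p hp using hfac
  -- monotone
  have hmono : ∀ n, Set.range (powProd φ n).left ⊆ Set.range (powProd φ (n + 1)).left := fun n => by
    rintro _ ⟨t, rfl⟩
    refine ⟨(lift (toUnit (Pow X n) ≫ x₀) (𝟙 _) : Pow X n ⟶ Pow X (n + 1)).left t, ?_⟩
    have e : (lift (toUnit (Pow X n) ≫ x₀) (𝟙 _) : Pow X n ⟶ Pow X (n + 1)) ≫ powProd φ (n + 1) = powProd φ n := by
      show lift (toUnit (Pow X n) ≫ x₀) (𝟙 (Pow X n)) ≫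
        ((fst X (Pow X n) ≫ φ) * (snd X (Pow X n) ≫ powProd φ n)) = _
      rw [MonObj.comp_mul, lift_fst_assoc, lift_snd_assoc, Category.assoc, hx₀, MonObj.comp_one,
        _root_.one_mul, Category.id_comp]
    exact congrArg (fun q : Pow X n ⟶ G => q.left t) e
  let ξ : ℕ → G.left := fun n => (powProd φ n).left (genericPoint ↥(Pow X n).left)
  have hgen : ∀ n, ∀ y ∈ Set.range (powProd φ n).left, ξ n ⤳ y := fun n => by
    rintro _ ⟨t, rfl⟩
    exact ((genericPoint_spec ↥(Pow X n).left).specializes trivial).map (powProd φ n).left.continuous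
  have hstep : ∀ n, ξ (n + 1) ⤳ ξ n := fun n => hgen _ _ (hmono n ⟨_, rfl⟩)
  let e : G.left := (1 : 𝟙_ (Over (Spec (CommRingCat.of k))) ⟶ G).left (IsLocalRing.closedPoint k)
  have he : ∀ n, ξ n ⤳ e := fun n => hgen n e (monotone_nat_of_le_succ
    (f := fun n => Set.range (powProd φ n).left) hmono (Nat.zero_le n) ⟨IsLocalRing.closedPoint k, rfl⟩)
  -- stabilisation of the closures
  obtain ⟨N, hN⟩ : ∃ N, ∀ n, N ≤ n → ξ n = ξ N := by
    obtain ⟨V, hV, heV, -⟩ := exists_isAffineOpen_mem_and_subset (x := e) (U := (⊤ : G.left.Opens)) trivial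
    haveI : IsLocallyNoetherian G.left := LocallyOfFiniteType.isLocallyNoetherian G.hom
    haveI : IsNoetherianRing Γ(G.left, V) := IsLocallyNoetherian.component_noetherian ⟨V, hV⟩
    have hm : ∀ n, ∃ P, hV.fromSpec P = ξ n := fun n => hV.range_fromSpec.ge ((he n).mem_open V.2 heV)
    choose P hP using hm
    obtain ⟨N, hN⟩ := exists_forall_eq P fun n => by
      refine (PrimeSpectrum.le_iff_specializes (P (n + 1)) (P n)).2
        (hV.fromSpec.isOpenEmbedding.isInducing.specializes_iff.1 ?_)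
      rw [hP, hP]
      exact hstep n
    exact ⟨N, fun n hn => by rw [← hP n, hN n hn, hP N]⟩
  have hcl : ∀ y ∈ closure (productPoints φ), ξ N ⤳ y := fun y hy => by
    rw [specializes_iff_mem_closure]
    refine closure_minimal ?_ isClosed_closure hy
    rw [productPoints_eq]
    refine Set.iUnion_subset fun n => ?_
    intro z hz
    rw [← specializes_iff_mem_closure]
    have h1 := hgen _ z (monotone_nat_of_le_succ (f := fun n => Set.range (powProd φ n).left) hmono
      (le_max_left n N) hz)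
    rwa [hN _ (le_max_right n N)] at h1
  let η₀ : H.left := (p N).left (genericPoint ↥(Pow X N).left)
  have hη₀ : i.left η₀ = ξ N := congrArg (fun q : Pow X N ⟶ G => q.left (genericPoint ↥(Pow X N).left)) (hp N)
  have hgenH : ∀ x : H.left, η₀ ⤳ x := fun x => by
    rw [← i.left.isClosedEmbedding.isInducing.specializes_iff]
    exact hη₀ ▸ hcl _ (hrange.le ⟨x, rfl⟩)
  haveI hirrH : IrreducibleSpace H.left := by
    rw [irreducibleSpace_def, Set.top_eq_univ]
    have : closure {η₀} = Set.univ := Set.eq_univ_of_forall fun x => (hgenH x).mem_closure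
    rw [← this]
    exact isIrreducible_singleton.closure
  -- an open set of products
  haveI hlH : LocallyOfFiniteType H.hom := by
    rw [← Over.w i]; infer_instance
  haveI : IsSeparated H.hom := SGA3xLib.isSeparated_of_grpObj H
  haveI : IsLocallyNoetherian H.left := LocallyOfFiniteType.isLocallyNoetherian H.hom
  haveI : ∀ n, LocallyOfFiniteType (p n).left := fun n => by
    haveI : LocallyOfFiniteType ((p n).left ≫ H.hom) := by rw [Over.w]; infer_instance
    exact locallyOfFiniteType_of_comp (p n).left H.hom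
  haveI : ∀ n, LocallyOfFinitePresentation (p n).left := fun n =>
    LocallyOfFinitePresentation.iff_locallyOfFiniteType.2 inferInstance
  haveI : ∀ n, QuasiCompact (p n).left := fun n => by
    haveI : QuasiCompact ((p n).left ≫ H.hom) := by
      rw [Over.w]; exact (quasiCompact_iff_compactSpace _).mpr inferInstance
    exact QuasiCompact.of_comp (p n).left H.hom
  obtain ⟨U, hU, hηU, hUr⟩ : ∃ U : Set H.left, IsOpen U ∧ η₀ ∈ U ∧ U ⊆ Set.range (p N).left := by
    have hc : Topology.IsLocallyConstructible (Set.range (p N).left) := by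
      rw [← Set.image_univ]
      exact (p N).left.isLocallyConstructible_image Topology.IsConstructible.univ.isLocallyConstructible
    obtain ⟨W, hW1, hW2, hW⟩ := hc η₀
    have hηW : η₀ ∈ W := mem_of_mem_nhds hW1
    obtain ⟨U', hU', hηU', hsub⟩ := (exists_open_of_isConstructible (gp := (⟨η₀, hηW⟩ : W))
      (fun x => (subtype_specializes_iff _ _).2 (hgenH x.1)) hW).1 ⟨_, rfl⟩
    exact ⟨Subtype.val '' U', hW2.isOpenMap_subtype_val _ hU', ⟨_, hηU', rfl⟩,
      by rintro _ ⟨x, hx, rfl⟩; exact hsub hx⟩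
  have hUd : Dense U := fun x => (hgenH x).mem_closed isClosed_closure (subset_closure hηU)
  -- everything is a product of 2N factors
  obtain ⟨l, hl⟩ := exists_list φ N
  obtain ⟨M, v, hv⟩ := exists_powProd φ (T := Pow X N ⊗ Pow X N)
    (l.map (fun x => fst _ _ ≫ x) ++ l.map (fun x => snd _ _ ≫ x))
  rw [List.map_append, List.prod_append, comp_prod φ, comp_prod φ, hl] at hv
  have hvp : v ≫ p M = (fst _ _ ≫ p N) * (snd _ _ ≫ p N) := by
    haveI : Mono i := Over.mono_of_mono_left i
    rw [← cancel_mono i, Category.assoc, hp, hv, MonObj.mul_comp, Category.assoc, Category.assoc, hp]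
  haveI hsurj : Surjective (p M).left := ⟨fun z => by
    obtain ⟨r, ⟨hr1, hr2⟩, hrz⟩ := DenseMul.mem_mul_of_dense (z := z) hU hUd hUd
    obtain ⟨a, ha⟩ := hUr hr1
    obtain ⟨r', rfl⟩ := mem_range_whiskerRight (p N) H r a ha.symm
    have hr2' : (snd (Pow X N) H).left r' ∈ U := by
      have e : (p N ▷ H) ≫ snd H H = snd (Pow X N) H := whiskerRight_snd _ _
      exact (congrArg (fun q : Pow X N ⊗ H ⟶ H => q.left r') e) ▸ hr2
    obtain ⟨b, hb⟩ := hUr hr2'
    obtain ⟨r'', rfl⟩ := mem_range_whiskerLeft (p N) (Pow X N) r' b hb.symm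
    refine ⟨v.left r'', ?_⟩
    have e : v ≫ p M = Pow X N ◁ p N ≫ p N ▷ H ≫ μ[H] := by
      rw [hvp, MonObj.mul_eq_mul]
      simp [MonObj.comp_mul]
    exact (congrArg (fun q : Pow X N ⊗ Pow X N ⟶ H => q.left r'') e).trans hrz⟩
  refine ⟨H, inst, i, hi, hci, hgr, hirrH, hφ', M, p M, hp M, hsurj, fun h => ?_⟩
  let c : Over.mk (Spec.map (CommRingCat.ofHom (algebraMap k k))) ≅ 𝟙_ (Over (Spec (CommRingCat.of k))) :=
    Over.isoMk (Iso.refl _) (by
      show 𝟙 _ ≫ 𝟙 _ = Spec.map (CommRingCat.ofHom (algebraMap k k))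
      rw [Category.id_comp]
      exact (Spec.map_id _).symm)
  obtain ⟨q, hq⟩ := GeomPoints.exists_lift_point (p M) (c.hom ≫ h)
  exact ⟨c.inv ≫ q, by rw [Category.assoc, hq, Iso.inv_hom_id_assoc]⟩

/-- Points of products. -/
theorem powProd_mem_closure (M : ℕ) (v : 𝟙_ (Over (Spec (CommRingCat.of k))) ⟶ Pow X M) :
    v ≫ powProd φ M ∈ Subgroup.closure (Set.range fun x : 𝟙_ (Over (Spec (CommRingCat.of k))) ⟶ X => x ≫ φ) := by
  obtain ⟨l, hl⟩ := exists_list φ M
  rw [← hl, ← comp_prod φ]
  refine list_prod_mem fun y hy => ?_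
  obtain ⟨x, -, rfl⟩ := List.mem_map.1 hy
  exact Subgroup.subset_closure ⟨x, rfl⟩

end Groth.Agent.AlgGrpLib.Generated

end
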