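import Groth.Agent.NeronLib.SepPoints
import Groth.Agent.AbSchLib.SmoothReduced
import Mathlib.AlgebraicGeometry.Morphisms.ClosedImmersion
import Mathlib.AlgebraicGeometry.Geometrically.Reduced
import Mathlib.AlgebraicGeometry.Morphisms.FiniteType
import Mathlib.RingTheory.Jacobson.Ring
import Mathlib.FieldTheory.IsAlgClosed.Basic
import Mathlib.CategoryTheory.Limits.Constructions.Over.Connected
import Mathlib.CategoryTheory.Monoidal.Cartesian.Over

/-!
# Points with values in a separably closed or algebraically closed extension are schematically dense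
-/

set_option autoImplicit false

universe u

open CategoryTheory Limits MonoidalCategory AlgebraicGeometry TensorProduct

namespace Groth.Agent.AlgGrpLib.PointsDense

variable (k K : Type u) [Field k] [Field K] [Algebra k K]

/-- `Spec K` over `Spec k`. -/
noncomputable abbrev spK : Over (Spec (CommRingCat.of k)) :=
  Over.mk (Spec.map (CommRingCat.ofHom (algebraMap k K)))

theorem isIso_of_points_core (X Z : Over (Spec (CommRingCat.of k))) [LocallyOfFiniteType X.hom]
    (c : Z ⟶ X) [IsClosedImmersion c.left]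
    (hA : ∀ (A : Type u) [CommRing A] [Algebra k A] (_ : Algebra.FiniteType k A)
      (j : Spec (CommRingCat.of A) ⟶ X.left) (_ : IsOpenImmersion j)
      (_ : j ≫ X.hom = Spec.map (CommRingCat.ofHom (algebraMap k A))) (f : A), f ≠ 0 → ∃ φ : A →ₐ[k] K, φ f ≠ 0)
    (hZ : ∀ x : spK k K ⟶ X, ∃ z : spK k K ⟶ Z, z ≫ c = x) : IsIso c := by
  suffices IsIso c.left by
    haveI : IsIso ((Over.forget _).map c) := ‹IsIso c.left›
    exact isIso_of_reflects_iso c (Over.forget _)
  refine IsZariskiLocalAtTarget.of_openCover (P := MorphismProperty.isomorphisms Scheme.{u}) X.left.affineCover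
    fun i => ?_
  change IsIso (pullback.snd c.left (X.left.affineCover.f i))
  set j₀ := (X.left.affineCover.X i).isoSpec.inv ≫ X.left.affineCover.f i
  set ψ := Spec.preimage (j₀ ≫ X.hom)
  let : Algebra k Γ(X.left.affineCover.X i, ⊤) := ψ.hom.toAlgebra
  have hj : j₀ ≫ X.hom = Spec.map (CommRingCat.ofHom (algebraMap k Γ(X.left.affineCover.X i, ⊤))) :=
    (Spec.map_preimage _).symm
  have hft : Algebra.FiniteType k Γ(X.left.affineCover.X i, ⊤) := by
    have : LocallyOfFiniteType (Spec.map ψ) := by
      rw [Spec.map_preimage]; infer_instance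
    rw [HasRingHomProperty.Spec_iff (P := @LocallyOfFiniteType)] at this
    exact this
  obtain ⟨I, e, he⟩ := (IsClosedImmersion.Spec_iff
    (f := pullback.snd c.left j₀)).mp inferInstance
  have hI : I = ⊥ := by
    refine (Submodule.eq_bot_iff _).mpr fun f hf => by_contra fun hf0 => ?_
    obtain ⟨φ, hφ⟩ := hA _ hft j₀ inferInstance hj f hf0
    obtain ⟨z, hz⟩ := hZ (Over.homMk (Spec.map (CommRingCat.ofHom φ.toRingHom) ≫ j₀) (by
      change (Spec.map (CommRingCat.ofHom φ.toRingHom) ≫ j₀) ≫ X.hom = _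
      rw [Category.assoc, hj, ← Spec.map_comp, ← CommRingCat.ofHom_comp]
      exact congrArg (fun f => Spec.map (CommRingCat.ofHom f)) φ.comp_algebraMap))
    have hz' : z.left ≫ c.left = Spec.map (CommRingCat.ofHom φ.toRingHom) ≫ j₀ :=
      congrArg CommaMorphism.left hz
    set w := pullback.lift z.left (Spec.map (CommRingCat.ofHom φ.toRingHom)) hz'
    have hw : (w ≫ e.hom) ≫ Spec.map (CommRingCat.ofHom (Ideal.Quotient.mk I)) =
        Spec.map (CommRingCat.ofHom φ.toRingHom) := by
      rw [Category.assoc, ← he, pullback.lift_snd]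
    have hw2 : CommRingCat.ofHom (Ideal.Quotient.mk I) ≫ Spec.preimage (w ≫ e.hom) =
        CommRingCat.ofHom φ.toRingHom := Spec.map_injective (by rw [Spec.map_comp, Spec.map_preimage, hw])
    refine hφ ?_
    have := ConcreteCategory.congr_hom hw2 f
    simp [Ideal.Quotient.eq_zero_iff_mem.mpr hf] at this
    exact this.symm
  have hiso : IsIso (pullback.snd c.left j₀) := by
    subst hI
    rw [he]
    have : IsIso (CommRingCat.ofHom (Ideal.Quotient.mk (⊥ : Ideal Γ(X.left.affineCover.X i, ⊤)))) :=
      (ConcreteCategory.isIso_iff_bijective _).mpr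
        ⟨(RingHom.injective_iff_ker_eq_bot _).mpr (Ideal.mk_ker), Ideal.Quotient.mk_surjective⟩
    infer_instance
  set m := pullback.map c.left j₀ c.left (X.left.affineCover.f i) (𝟙 _) (X.left.affineCover.X i).isoSpec.inv (𝟙 _)
    (by simp) (by rw [Category.comp_id]) with hm
  have heq : pullback.snd c.left j₀ =
      m ≫ pullback.snd c.left (X.left.affineCover.f i) ≫ (X.left.affineCover.X i).isoSpec.hom := by
    rw [hm, pullback.lift_snd_assoc]
    simp
  rw [heq] at hiso
  have : IsIso m := by rw [hm]; infer_instance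
  have : IsIso (pullback.snd c.left (X.left.affineCover.f i) ≫ (X.left.affineCover.X i).isoSpec.hom) :=
    IsIso.of_isIso_comp_left m _
  exact IsIso.of_isIso_comp_right _ (X.left.affineCover.X i).isoSpec.hom

theorem isGeometricallyReduced_of_open {X : Scheme.{u}} (f : X ⟶ Spec (CommRingCat.of k)) [GeometricallyReduced f]
    (A : Type u) [CommRing A] [Algebra k A] (j : Spec (CommRingCat.of A) ⟶ X) [IsOpenImmersion j]
    (hj : j ≫ f = Spec.map (CommRingCat.ofHom (algebraMap k A))) : Algebra.IsGeometricallyReduced k A := by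
  rw [Algebra.isGeometricallyReduced_field_iff]
  set y := Spec.map (CommRingCat.ofHom (algebraMap k (AlgebraicClosure k)))
  haveI : IsReduced (pullback f y) :=
    GeometricallyReduced.geometrically_isReduced _ _ _ (.of_hasPullback _ _)
  set g := Spec.map (CommRingCat.ofHom (algebraMap k A))
  let m : pullback y g ⟶ pullback y f := pullback.map y g y f (𝟙 _) j (𝟙 _) (by simp) (by simp [g, hj])
  haveI : IsOpenImmersion m := inferInstance
  haveI : IsReduced (pullback y f) := isReduced_of_isOpenImmersion (pullbackSymmetry y f).hom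
  haveI : IsReduced (pullback y g) := isReduced_of_isOpenImmersion m
  haveI : IsReduced (Spec (CommRingCat.of (AlgebraicClosure k ⊗[k] A))) :=
    isReduced_of_isOpenImmersion (pullbackSpecIso k (AlgebraicClosure k) A).inv
  exact IsReduced.component_reduced (X := Spec (CommRingCat.of (AlgebraicClosure k ⊗[k] A))) ⊤ |>
    fun h => isReduced_of_injective (Scheme.ΓSpecIso (CommRingCat.of (AlgebraicClosure k ⊗[k] A))).inv.hom
      (ConcreteCategory.bijective_of_isIso _).1

theorem isIso_of_points [IsSepClosed K] (X Z : Over (Spec (CommRingCat.of k))) [LocallyOfFiniteType X.hom]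
    [GeometricallyReduced X.hom] (c : Z ⟶ X) [IsClosedImmersion c.left]
    (hZ : ∀ x : spK k K ⟶ X, ∃ z : spK k K ⟶ Z, z ≫ c = x) : IsIso c := by
  refine isIso_of_points_core k K X Z c ?_ hZ
  intro A _ _ hft j hjo hj f hf
  haveI := hft
  haveI := hjo
  haveI := isGeometricallyReduced_of_open k X.hom A j hj
  exact NeronLib.SepPoints.exists_algHom_ne_zero k K A f hf

theorem exists_algHom_ne_zero_of_isReduced [IsAlgClosed K] (A : Type u) [CommRing A] [Algebra k A]
    [Algebra.FiniteType k A] [_root_.IsReduced A] (f : A) (hf : f ≠ 0) : ∃ φ : A →ₐ[k] K, φ f ≠ 0 := by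
  haveI : IsJacobsonRing A := isJacobsonRing_of_finiteType (A := k)
  have hrad : (⊥ : Ideal A).IsRadical := by
    intro x hx
    obtain ⟨n, hn⟩ := Ideal.mem_radical_iff.mp hx
    exact (Submodule.mem_bot _).mpr (IsNilpotent.eq_zero ⟨n, (Submodule.mem_bot _).mp hn⟩)
  have hj : (⊥ : Ideal A).jacobson = ⊥ := IsJacobsonRing.out' _ hrad
  obtain ⟨m, hm, hfm⟩ : ∃ m : Ideal A, m.IsMaximal ∧ f ∉ m := by
    by_contra hc
    refine hf ?_
    have : f ∈ (⊥ : Ideal A).jacobson := Submodule.mem_sInf.mpr fun m hm => by_contra fun h => hc ⟨m, hm.2, h⟩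
    rwa [hj] at this
  haveI := hm
  let : Field (A ⧸ m) := Ideal.Quotient.field m
  haveI : Module.Finite k (A ⧸ m) := finite_of_finite_type_of_isJacobsonRing k (A ⧸ m)
  refine ⟨(IsAlgClosed.lift (R := k) (S := A ⧸ m) (M := K)).comp (Ideal.Quotient.mkₐ k m), fun h => hfm ?_⟩
  rw [← Ideal.Quotient.eq_zero_iff_mem]
  exact (IsAlgClosed.lift (R := k) (S := A ⧸ m) (M := K)).toRingHom.injective (h.trans (map_zero _).symm)

theorem isIso_of_points_algClosed [IsAlgClosed K] (X Z : Over (Spec (CommRingCat.of k))) [LocallyOfFiniteType X.hom]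
    [IsReduced X.left] (c : Z ⟶ X) [IsClosedImmersion c.left]
    (hZ : ∀ x : spK k K ⟶ X, ∃ z : spK k K ⟶ Z, z ≫ c = x) : IsIso c := by
  refine isIso_of_points_core k K X Z c ?_ hZ
  intro A _ _ hft j hjo hj f hf
  haveI := hft
  haveI := hjo
  haveI : IsReduced (Spec (CommRingCat.of A)) := isReduced_of_isOpenImmersion j
  haveI : _root_.IsReduced A := isReduced_of_injective (Scheme.ΓSpecIso (CommRingCat.of A)).inv.hom
    (ConcreteCategory.bijective_of_isIso _).1
  exact exists_algHom_ne_zero_of_isReduced k K A f hf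

theorem pullback_fst_left {W G H : Over (Spec (CommRingCat.of k))} (f : W ⟶ G) (i : H ⟶ G) [IsClosedImmersion i.left] :
    IsClosedImmersion (pullback.fst f i).left :=
  MorphismProperty.of_isPullback (P := @IsClosedImmersion)
    ((IsPullback.of_hasPullback f i).map (Over.forget _)).flip ‹_›

theorem exists_factor_of_points [IsSepClosed K] {W G H : Over (Spec (CommRingCat.of k))} [LocallyOfFiniteType W.hom]
    [GeometricallyReduced W.hom] (f : W ⟶ G) (i : H ⟶ G) [IsClosedImmersion i.left]
    (h : ∀ x : spK k K ⟶ W, ∃ y : spK k K ⟶ H, y ≫ i = x ≫ f) : ∃ l : W ⟶ H, l ≫ i = f := by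
  haveI := pullback_fst_left k f i
  haveI : IsIso (pullback.fst f i) := isIso_of_points k K W _ _ fun x => by
    obtain ⟨y, hy⟩ := h x
    exact ⟨pullback.lift x y hy.symm, pullback.lift_fst _ _ _⟩
  exact ⟨inv (pullback.fst f i) ≫ pullback.snd f i, by rw [Category.assoc, ← pullback.condition, IsIso.inv_hom_id_assoc]⟩

theorem exists_factor_of_points_algClosed [IsAlgClosed K] {W G H : Over (Spec (CommRingCat.of k))} [LocallyOfFiniteType W.hom]
    [IsReduced W.left] (f : W ⟶ G) (i : H ⟶ G) [IsClosedImmersion i.left]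
    (h : ∀ x : spK k K ⟶ W, ∃ y : spK k K ⟶ H, y ≫ i = x ≫ f) : ∃ l : W ⟶ H, l ≫ i = f := by
  haveI := pullback_fst_left k f i
  haveI : IsIso (pullback.fst f i) := isIso_of_points_algClosed k K W _ _ fun x => by
    obtain ⟨y, hy⟩ := h x
    exact ⟨pullback.lift x y hy.symm, pullback.lift_fst _ _ _⟩
  exact ⟨inv (pullback.fst f i) ≫ pullback.snd f i, by rw [Category.assoc, ← pullback.condition, IsIso.inv_hom_id_assoc]⟩

theorem geometricallyReduced_tensor (G H : Over (Spec (CommRingCat.of k))) [Smooth G.hom] [Smooth H.hom] :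
    GeometricallyReduced (G ⊗ H).hom :=
  have : Smooth (G ⊗ H).hom := inferInstanceAs (Smooth (pullback.fst G.hom H.hom ≫ G.hom))
  AbSchLib.geometricallyReduced_of_smooth _

theorem locallyOfFiniteType_tensor (G H : Over (Spec (CommRingCat.of k))) [LocallyOfFiniteType G.hom]
    [LocallyOfFiniteType H.hom] : LocallyOfFiniteType (G ⊗ H).hom :=
  inferInstanceAs (LocallyOfFiniteType (pullback.fst G.hom H.hom ≫ G.hom))

end Groth.Agent.AlgGrpLib.PointsDense
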