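import Groth.Prelude.Def_AlgGrp
import Mathlib.AlgebraicGeometry.Sites.Fpqc
import Mathlib.AlgebraicGeometry.Morphisms.Flat
import Mathlib.AlgebraicGeometry.Morphisms.ClosedImmersion
import Mathlib.AlgebraicGeometry.Morphisms.FiniteType

/-!
# Subgroups, kernels and quotients on points, up to fppf covers
-/

set_option autoImplicit false

universe u

open CategoryTheory Limits MonoidalCategory CartesianMonoidalCategory MonObj GrpObj AlgebraicGeometry

namespace Groth.Agent.AlgGrpLib

section

variable {S : Scheme.{u}} {T T' G H Q : Over S}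

theorem mono_of_left (i : H ⟶ G) [Mono i.left] : Mono i := Over.mono_of_mono_left i

/-- A point which lies in a subobject after a cover lies in it. -/
theorem exists_factor_of_cover (c : T' ⟶ T) [Surjective c.left] [Flat c.left] [QuasiCompact c.left]
    (i : H ⟶ G) [Mono i] (x : T ⟶ G) (h : T' ⟶ H) (hh : h ≫ i = c ≫ x) : ∃ y : T ⟶ H, y ≫ i = x := by
  have hd : ∀ {W : Scheme.{u}} (g₁ g₂ : W ⟶ T'.left), g₁ ≫ c.left = g₂ ≫ c.left →
      g₁ ≫ h.left = g₂ ≫ h.left := fun {W} g₁ g₂ e => by
    let W' : Over S := Over.mk (g₁ ≫ T'.hom)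
    let a : W' ⟶ T' := Over.homMk g₁
    let b : W' ⟶ T' := Over.homMk g₂ (by
      change g₂ ≫ T'.hom = g₁ ≫ T'.hom
      rw [← Over.w c, ← Category.assoc, ← e, Category.assoc])
    have hab : a ≫ c = b ≫ c := Over.OverMorphism.ext e
    have : a ≫ h = b ≫ h := by
      rw [← cancel_mono i, Category.assoc, Category.assoc, hh, ← Category.assoc, hab, Category.assoc]
    exact congrArg CommaMorphism.left this
  let r : T.left ⟶ H.left := EffectiveEpi.desc c.left h.left hd
  have hr : c.left ≫ r = h.left := EffectiveEpi.fac c.left h.left hd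
  have hw : r ≫ H.hom = T.hom := by
    rw [← cancel_epi c.left, reassoc_of% hr, Over.w h, Over.w c]
  refine ⟨Over.homMk r hw, ?_⟩
  have : Epi c := Over.epi_of_epi_left _
  rw [← cancel_epi c, ← Category.assoc, show c ≫ Over.homMk r hw = h from Over.OverMorphism.ext hr, hh]

/-- Points lift along covers after a cover. -/
theorem exists_lift_cover (q : G ⟶ Q) [Surjective q.left] [Flat q.left] [QuasiCompact q.left] (y : T ⟶ Q) :
    ∃ (T' : Over S) (c : T' ⟶ T) (g : T' ⟶ G),
      Surjective c.left ∧ Flat c.left ∧ QuasiCompact c.left ∧ g ≫ q = c ≫ y := by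
  let T' : Over S := Over.mk (pullback.fst y.left q.left ≫ T.hom)
  let g : T' ⟶ G := Over.homMk (pullback.snd y.left q.left) (by
    change pullback.snd y.left q.left ≫ G.hom = pullback.fst y.left q.left ≫ T.hom
    rw [← Over.w q, ← Category.assoc, ← pullback.condition, Category.assoc, Over.w y])
  let c : T' ⟶ T := Over.homMk (pullback.fst y.left q.left) rfl
  exact ⟨T', c, g, (inferInstance : Surjective (pullback.fst y.left q.left)),
    (inferInstance : Flat (pullback.fst y.left q.left)), (inferInstance : QuasiCompact (pullback.fst y.left q.left)),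
    Over.OverMorphism.ext pullback.condition.symm⟩

variable {N : Over S} [GrpObj Q]

theorem one_unit : η[Q] = (1 : 𝟙_ (Over S) ⟶ Q) := by
  rw [Hom.one_def, toUnit_unique (toUnit (𝟙_ _)) (𝟙 _), Category.id_comp]

theorem kernel_comp {i : N ⟶ G} {q : G ⟶ Q} (hq : AlgGrp.IsKernel i q) : i ≫ q = 1 := by
  rw [hq.w, one_unit, MonObj.comp_one]

theorem exists_lift_kernel {i : N ⟶ G} {q : G ⟶ Q} (hq : AlgGrp.IsKernel i q) {g : T ⟶ G} (hg : g ≫ q = 1) :
    ∃ n : T ⟶ N, n ≫ i = g :=
  ⟨hq.lift g (toUnit T) (by rw [hg, one_unit, MonObj.comp_one]), hq.lift_fst _ _ _⟩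

theorem kernel_mono {i : N ⟶ G} {q : G ⟶ Q} (hq : AlgGrp.IsKernel i q) : Mono i :=
  ⟨fun a b h => hq.hom_ext h (toUnit_unique _ _)⟩

theorem isKernel_of_points (i : N ⟶ G) [Mono i] (q : G ⟶ Q) (h1 : i ≫ q = 1)
    (h2 : ∀ (T : Over S) (g : T ⟶ G), g ≫ q = 1 → ∃ n : T ⟶ N, n ≫ i = g) : AlgGrp.IsKernel i q := by
  have hw : CommSq i (toUnit N) q η[Q] := ⟨by rw [h1, one_unit, MonObj.comp_one]⟩
  have hex : ∀ s : PullbackCone q η[Q], ∃ n : s.pt ⟶ N, n ≫ i = s.fst := fun s => h2 _ _ (by
    refine s.condition.trans ((congrArg (s.snd ≫ ·) one_unit).trans ?_)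
    exact MonObj.comp_one _)
  choose f hf using hex
  exact IsPullback.of_isLimit' hw (PullbackCone.IsLimit.mk _ f hf (fun s => toUnit_unique _ _)
    fun s m hm _ => by rw [← cancel_mono i, hm, hf])

end

/-- Morphisms of schemes of finite type over a field are quasi-compact. -/
theorem quasiCompact_left {k : Type u} [Field k] {G Q : Over (Spec (CommRingCat.of k))} (f : G ⟶ Q)
    [QuasiCompact G.hom] [LocallyOfFiniteType Q.hom] : QuasiCompact f.left := by
  have : IsLocallyNoetherian Q.left := LocallyOfFiniteType.isLocallyNoetherian Q.hom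
  have : QuasiCompact (f.left ≫ Q.hom) := by rw [Over.w f]; infer_instance
  exact QuasiCompact.of_comp f.left Q.hom

end Groth.Agent.AlgGrpLib
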