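import Groth.Prelude.Def_LieS
import Groth.Agent.GenSmoothLib.ClosedStalk
import Groth.Agent.GenSmoothLib.CotangentConverse
import Groth.Agent.GenSmoothLib.CharZero
import Groth.Agent.H8Coh.RatTangent
import Groth.Agent.AbVarLib.HomFlat
import Groth.Agent.DimLib.Components
import Groth.Agent.AlgGrpLib.PointsDense
import Groth.Agent.AlgGrpLib.SubgroupCalc
import Groth.Agent.AlgGrpLib.KernelGrp
import Groth.Agent.AlgGrpLib.GeomPoints
import Mathlib.Algebra.TrivSqZeroExt.Ideal

/-!
# Surjective derivative implies smooth (homomorphisms of smooth groups over an algebraically closed field)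
-/

set_option autoImplicit false
set_option backward.isDefEq.respectTransparency.types false
set_option linter.style.haveILetI false

universe u

open CategoryTheory CategoryTheory.Limits MonoidalCategory CartesianMonoidalCategory MonObj AlgebraicGeometry IsLocalRing

namespace Groth.Agent.AlgGrpLib.LieSmooth

open Groth.Agent.H8Coh.RatTangent

variable {k : Type u} [Field k] {X Y : Over (Spec (CommRingCat.of k))} [GrpObj X] [GrpObj Y]

/-- The unit point. -/
noncomputable abbrev e0 (X : Over (Spec (CommRingCat.of k))) [GrpObj X] : X.left :=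
  (1 : LieS.pt k (Spec.map (CommRingCat.ofHom (algebraMap k k))) ⟶ X).left (closedPoint k)

theorem algebraMap_spec :
    Spec.map (CommRingCat.ofHom (algebraMap k k)) = 𝟙 (Spec (CommRingCat.of k)) :=
  Spec.map_id _

theorem specMap_stalkMapAt {A B : Scheme.{u}} (f : A ⟶ B) (z : A) (x : B) (hx : f z = x) :
    Spec.map (CommRingCat.ofHom (FixPt.stalkMapAt f z x hx)) ≫ B.fromSpecStalk x = A.fromSpecStalk z ≫ f := by
  subst hx
  have e : FixPt.stalkMapAt f z (f z) rfl = (f.stalkMap z).hom := RingHom.ext fun a => by simp [FixPt.stalkMapAt]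
  rw [e, CommRingCat.ofHom_hom, Scheme.SpecMap_stalkMap_fromSpecStalk]

/-- Surjective derivative at the unit gives an injective cotangent map there. -/
theorem cotangent_injective [Smooth X.hom] [Smooth Y.hom] (φ : X ⟶ Y) [IsMonHom φ]
    (hφ : Function.Surjective (LieS.map k (Spec.map (CommRingCat.ofHom (algebraMap k k))) φ)) :
    Function.Injective (FixPt.cotangentMapAt φ.left (e0 X) (φ.left.base (e0 X)) rfl) := by
  set f := Spec.map (CommRingCat.ofHom (algebraMap k k))
  let sX : Spec (CommRingCat.of k) ⟶ X.left := (1 : LieS.pt k f ⟶ X).left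
  let sY : Spec (CommRingCat.of k) ⟶ Y.left := sX ≫ φ.left
  have hsX : sX ≫ X.hom = 𝟙 _ := (Over.w (1 : LieS.pt k f ⟶ X)).trans algebraMap_spec
  have hsY : sY ≫ Y.hom = 𝟙 _ := by rw [Category.assoc, Over.w φ]; exact hsX
  have h1φ : (1 : LieS.pt k f ⟶ Y).left = sY :=
    (congrArg CommaMorphism.left (map_one (IsMonHom.monoidHom φ (LieS.pt k f)))).symm
  show Function.Injective (FixPt.cotangentMapAt φ.left (pt sX) (pt sY) rfl)
  rw [injective_iff_map_eq_zero]
  intro z hz
  by_contra hne
  letI := (ρ Y.hom sY).toAlgebra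
  obtain ⟨E, hE⟩ := Module.Projective.exists_dual_eq_one k (V := CotangentSpace (Y.left.presheaf.stalk (pt sY))) hne
  obtain ⟨v, θ, hv, hθ, hθz⟩ := exists_of_cotForm (K := k) Y.hom sY hsY E
  let vL : LieS.dpt k f ⟶ Y := Over.homMk v hv.over
  have hvL : vL ∈ LieS.Lie Y k f := by
    rw [LieS.mem_Lie_iff]
    refine Over.OverMorphism.ext ?_
    show Spec.map _ ≫ v = _
    rw [hv.centre, h1φ, algebraMap_spec, Category.id_comp]
  obtain ⟨⟨w, hw⟩, hwv⟩ := hφ ⟨vL, hvL⟩
  have hwφ : w.left ≫ φ.left = v := congrArg CommaMorphism.left (congrArg Subtype.val hwv)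
  have hwc : Centred (K := k) (M := k) X.hom sX w.left :=
    ⟨Over.w w, by
        refine Eq.trans ?_ (((congrArg (· ≫ sX) algebraMap_spec).trans (Category.id_comp sX)).symm)
        exact congrArg CommaMorphism.left ((LieS.mem_Lie_iff X k f w).1 hw)⟩
  obtain ⟨θ', hθ'⟩ := exists_theta X.hom sX hsX hwc
  have hθθ' : θ = θ'.comp (FixPt.stalkMapAt φ.left (pt sX) (pt sY) rfl) := by
    refine eq_of_specMap ?_
    rw [hθ.spec, CommRingCat.ofHom_comp, Spec.map_comp, Category.assoc, specMap_stalkMapAt,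
      reassoc_of% hθ'.spec]
    exact hwφ.symm
  obtain ⟨⟨a, ha⟩, rfl⟩ := Ideal.toCotangent_surjective _ z
  have h2 := (Ideal.mapCotangent_toCotangent ..).symm.trans hz
  rw [Ideal.toCotangent_eq_zero] at h2
  have h0 : (θ a).snd = 0 := by
    rw [hθθ', RingHom.comp_apply]
    have h3 : ∀ w ∈ maximalIdeal (X.left.presheaf.stalk (pt sX)) ^ 2, (θ' w).snd = 0 := by
      intro w hw
      rw [pow_two] at hw
      induction hw using Submodule.mul_induction_on' with
      | mem_mul_mem p hp q hq =>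
        rw [hθ'.snd_mul X.hom sX hsX, (mem_maximalIdeal_iff X.hom sX hsX p).1 hp,
          (mem_maximalIdeal_iff X.hom sX hsX q).1 hq, map_zero, zero_mul, mul_zero, add_zero]
      | add p _ q _ hp hq => rw [map_add, TrivSqZeroExt.snd_add, hp, hq, add_zero]
    exact h3 _ h2
  have := hθz ⟨a, ha⟩
  rw [h0, hE] at this
  exact zero_ne_one this

/-- The unit point is closed. -/
theorem isClosed_e0 [LocallyOfFiniteType X.hom] [IsSeparated X.hom] : IsClosed ({e0 X} : Set X.left) := by
  set s := (1 : LieS.pt k (Spec.map (CommRingCat.ofHom (algebraMap k k))) ⟶ X).left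
  have : IsClosedImmersion (s ≫ X.hom) := by
    rw [Over.w (1 : LieS.pt k (Spec.map (CommRingCat.ofHom (algebraMap k k))) ⟶ X)]
    show IsClosedImmersion (Spec.map (CommRingCat.ofHom (algebraMap k k)))
    rw [algebraMap_spec]
    infer_instance
  have hci : IsClosedImmersion s := IsClosedImmersion.of_comp s X.hom
  have hr : Set.range s = {e0 X} := by
    ext y
    exact ⟨fun ⟨z, hz⟩ => by
      rw [Set.mem_singleton_iff, ← hz]
      exact congrArg s (Subsingleton.elim (α := PrimeSpectrum k) z (closedPoint k)), fun h => ⟨_, h.symm⟩⟩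
  rw [← hr]
  exact hci.isClosedEmbedding.isClosed_range

/-- A homomorphism of smooth separated groups with surjective derivative at the unit is smooth. -/
theorem smooth_of_lie_surjective [IsAlgClosed k] [Smooth X.hom] [Smooth Y.hom] [IsSeparated X.hom]
    (φ : X ⟶ Y) [IsMonHom φ]
    (hφ : Function.Surjective (LieS.map k (Spec.map (CommRingCat.ofHom (algebraMap k k))) φ)) : Smooth φ.left := by
  haveI : LocallyOfFinitePresentation φ.left :=
    GenSmoothLib.finitePresentation_of_overField k φ.left (Over.w φ)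
  haveI : LocallyOfFiniteType (φ.left ≫ Y.hom) := by rw [Over.w φ]; infer_instance
  haveI : JacobsonSpace X.left := LocallyOfFiniteType.jacobsonSpace X.hom
  have he : e0 X ∈ φ.left.smoothLocus :=
    GenSmoothLib.mem_smoothLocus_of_cotangentMapAt X.hom Y.hom φ.left (Over.w φ) (e0 X) isClosed_e0
      (DimLib.isClosed_singleton_image Y.hom φ.left isClosed_e0) (cotangent_injective φ hφ)
  rw [← Scheme.Hom.smoothLocus_eq_top_iff]
  by_contra hne
  obtain ⟨p, hpU, hp⟩ : ((φ.left.smoothLocus : Set X.left)ᶜ ∩ closedPoints X.left).Nonempty :=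
    nonempty_inter_closedPoints (Set.nonempty_compl.2 fun h => hne (TopologicalSpace.Opens.ext h))
      φ.left.smoothLocus.2.isClosed_compl.isLocallyClosed
  obtain ⟨θ, η', hcomm, hθ⟩ := AbVarLib.exists_translate φ (e0 X) p isClosed_e0 hp
  refine hpU ?_
  have h2 : e0 X ∈ (θ.hom ≫ φ.left).smoothLocus := by
    haveI : LocallyOfFinitePresentation (φ.left ≫ η'.hom) := inferInstance
    let U := φ.left.smoothLocus
    haveI : Smooth (U.ι ≫ φ.left) := by
      rw [← Scheme.Hom.smoothLocus_eq_top_iff, ← Scheme.Hom.preimage_smoothLocus_eq]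
      exact Scheme.Opens.ι_preimage_self U
    have h3 : (U.ι ≫ φ.left ≫ η'.hom).smoothLocus = ⊤ := by
      haveI : Smooth (U.ι ≫ φ.left ≫ η'.hom) := by rw [← Category.assoc]; infer_instance
      exact Scheme.Hom.smoothLocus_eq_top _
    rw [← Scheme.Hom.preimage_smoothLocus_eq] at h3
    have h4 : (⟨e0 X, he⟩ : U) ∈ U.ι ⁻¹ᵁ (φ.left ≫ η'.hom).smoothLocus := h3.ge trivial
    have h5 : e0 X ∈ (φ.left ≫ η'.hom).smoothLocus := h4
    convert! h5 using 2
  rw [← Scheme.Hom.preimage_smoothLocus_eq, Scheme.Hom.mem_preimage, hθ] at h2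
  exact h2

/-- Over an algebraically closed field, a reduced group scheme locally of finite type with a single rational
point is trivial. -/
theorem isIso_one_of_points [IsAlgClosed k] [LocallyOfFiniteType X.hom] [IsSeparated X.hom] [IsReduced X.left]
    (h : ∀ x : 𝟙_ (Over (Spec (CommRingCat.of k))) ⟶ X, x = 1) :
    IsIso (1 : 𝟙_ (Over (Spec (CommRingCat.of k))) ⟶ X) := by
  set c := (1 : 𝟙_ (Over (Spec (CommRingCat.of k))) ⟶ X)
  haveI : IsClosedImmersion (c.left ≫ X.hom) := by
    rw [Over.w c]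
    show IsClosedImmersion (𝟙 (Spec (CommRingCat.of k)))
    infer_instance
  haveI : IsClosedImmersion c.left := IsClosedImmersion.of_comp c.left X.hom
  refine PointsDense.isIso_of_points_algClosed (k := k) (K := k) X _ c fun x => ?_
  let x' : 𝟙_ (Over (Spec (CommRingCat.of k))) ⟶ X := Over.homMk x.left (by
    rw [Over.w x]
    exact algebraMap_spec)
  exact ⟨Over.homMk (𝟙 _) algebraMap_spec.symm, Over.OverMorphism.ext ((Category.id_comp _).trans
    (congrArg CommaMorphism.left (h x').symm))⟩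

/-- A smooth homomorphism has surjective derivative at the unit. -/
theorem lie_surjective_of_smooth [Smooth X.hom] [Smooth Y.hom] (φ : X ⟶ Y) [IsMonHom φ] [Smooth φ.left] :
    Function.Surjective (LieS.map k (Spec.map (CommRingCat.ofHom (algebraMap k k))) φ) := by
  set f := Spec.map (CommRingCat.ofHom (algebraMap k k))
  let sX : Spec (CommRingCat.of k) ⟶ X.left := (1 : LieS.pt k f ⟶ X).left
  let sY : Spec (CommRingCat.of k) ⟶ Y.left := sX ≫ φ.left
  have hsX : sX ≫ X.hom = 𝟙 _ := (Over.w (1 : LieS.pt k f ⟶ X)).trans algebraMap_spec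
  have hsY : sY ≫ Y.hom = 𝟙 _ := by rw [Category.assoc, Over.w φ]; exact hsX
  have h1φ : (1 : LieS.pt k f ⟶ Y).left = sY :=
    (congrArg CommaMorphism.left (map_one (IsMonHom.monoidHom φ (LieS.pt k f)))).symm
  rintro ⟨v, hv⟩
  have hvc : Centred (K := k) (M := k) Y.hom sY v.left :=
    ⟨Over.w v, by
      refine Eq.trans ?_ (((congrArg (· ≫ sY) algebraMap_spec).trans (Category.id_comp sY)).symm)
      exact (congrArg CommaMorphism.left ((LieS.mem_Lie_iff Y k f v).1 hv)).trans h1φ⟩
  obtain ⟨θ, hθ⟩ := exists_theta Y.hom sY hsY hvc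
  let m := FixPt.stalkMapAt φ.left (pt sX) (pt sY) rfl
  have hm : m.FormallySmooth := by
    have h : (φ.left.stalkMap (pt sX)).hom.FormallySmooth :=
      Scheme.Hom.mem_smoothLocus.1 (φ.left.smoothLocus_eq_top.ge (TopologicalSpace.Opens.mem_top (pt sX)))
    have e : m = (φ.left.stalkMap (pt sX)).hom.comp (Y.left.presheaf.stalkCongr (Inseparable.of_eq rfl)).inv.hom := rfl
    rw [e]
    exact RingHom.FormallySmooth.stableUnderComposition _ _
      (RingHom.FormallySmooth.of_bijective (ConcreteCategory.bijective_of_isIso _)) h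
  have hχ : (χ sX).comp m = χ sY := by
    refine eq_of_specMap ?_
    rw [CommRingCat.ofHom_comp, Spec.map_comp, Category.assoc, specMap_stalkMapAt, reassoc_of% specMap_χ,
      specMap_χ]
  letI := m.toAlgebra
  letI := θ.toAlgebra
  letI := (χ sY).toAlgebra
  haveI : Algebra.FormallySmooth (Y.left.presheaf.stalk (pt sY)) (X.left.presheaf.stalk (pt sX)) := hm
  let χ' : X.left.presheaf.stalk (pt sX) →ₐ[Y.left.presheaf.stalk (pt sY)] k :=
    { χ sX with commutes' := fun a => DFunLike.congr_fun hχ a }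
  let g : DualNumber k →ₐ[Y.left.presheaf.stalk (pt sY)] k :=
    { (TrivSqZeroExt.fstHom k k k).toRingHom with commutes' := fun a => (hθ.fst a).trans rfl }
  have hg : Function.Surjective g := fun c => ⟨TrivSqZeroExt.inl c, rfl⟩
  have hnil : IsNilpotent (RingHom.ker (g : DualNumber k →+* k)) :=
    ⟨2, show TrivSqZeroExt.kerIdeal k k ^ 2 = ⊥ from TrivSqZeroExt.kerIdeal_sq k k⟩
  let ψ := Algebra.FormallySmooth.liftOfSurjective χ' g hg hnil
  have hψm : (ψ : X.left.presheaf.stalk (pt sX) →+* DualNumber k).comp m = θ := RingHom.ext ψ.commutes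
  have hψf : (TrivSqZeroExt.fstHom k k k).toRingHom.comp (ψ : X.left.presheaf.stalk (pt sX) →+* DualNumber k) = χ sX :=
    RingHom.ext fun a => Algebra.FormallySmooth.liftOfSurjective_apply χ' g hg hnil a
  let w : Spec (CommRingCat.of (DualNumber k)) ⟶ X.left :=
    Spec.map (CommRingCat.ofHom (ψ : X.left.presheaf.stalk (pt sX) →+* DualNumber k)) ≫ X.left.fromSpecStalk (pt sX)
  have hw : w ≫ φ.left = v.left := by
    have h0 := hθ.spec
    rw [← hψm, CommRingCat.ofHom_comp, Spec.map_comp, Category.assoc, specMap_stalkMapAt] at h0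
    exact (Category.assoc _ _ _).trans h0
  let wL : LieS.dpt k f ⟶ X := Over.homMk w (by
    rw [← Over.w φ]
    exact ((reassoc_of% hw) Y.hom).trans (Over.w v))
  refine ⟨⟨wL, ?_⟩, Subtype.ext (Over.OverMorphism.ext hw)⟩
  rw [LieS.mem_Lie_iff]
  refine Over.OverMorphism.ext ?_
  show Spec.map _ ≫ Spec.map _ ≫ X.left.fromSpecStalk (pt sX) = sX
  rw [← Category.assoc, ← Spec.map_comp, ← CommRingCat.ofHom_comp, hψf, specMap_χ]

omit [GrpObj X] in
/-- The two descriptions of the field in a stalk agree. -/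
theorem stalkStr_eq {Z : Scheme.{u}} (q : Z ⟶ Spec (CommRingCat.of k)) (s : Spec (CommRingCat.of k) ⟶ Z) :
    GenSmoothLib.stalkStr q (pt s) = ρ q s := by
  refine congrArg CommRingCat.Hom.hom (Spec.map_injective (a₁ := CommRingCat.ofHom (GenSmoothLib.stalkStr q (pt s)))
    (a₂ := CommRingCat.ofHom (ρ q s)) ?_)
  rw [specMap_ρ, GenSmoothLib.stalkStr, CommRingCat.ofHom_hom, Spec.map_comp, Spec.map_comp, Category.assoc,
    ← Scheme.fromSpecStalk_toSpecΓ, Category.assoc, ← Scheme.toSpecΓ_naturality_assoc, toSpecΓ_SpecMap_ΓSpecIso_inv,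
    Category.comp_id]

/-- Residue fields at rational points. -/
theorem residue_bijective {Z : Scheme.{u}} (q : Z ⟶ Spec (CommRingCat.of k)) (s : Spec (CommRingCat.of k) ⟶ Z)
    (hs : s ≫ q = 𝟙 _) :
    letI := (GenSmoothLib.stalkStr q (pt s)).toAlgebra
    Function.Bijective (algebraMap k (ResidueField (Z.presheaf.stalk (pt s)))) := by
  refine ⟨RingHom.injective _, fun z => ?_⟩
  obtain ⟨y, rfl⟩ := residue_surjective z
  refine ⟨χ s y, ?_⟩
  show residue _ (GenSmoothLib.stalkStr q (pt s) (χ s y)) = residue _ y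
  rw [stalkStr_eq, ← sub_eq_zero, ← map_sub, residue_eq_zero_iff, ← neg_mem_iff, neg_sub]
  exact sub_mem q s hs y

/-- Surjective derivative gives smoothness at the unit, over any field. -/
theorem e0_mem_smoothLocus [Smooth X.hom] [Smooth Y.hom] (φ : X ⟶ Y) [IsMonHom φ]
    [LocallyOfFinitePresentation φ.left]
    (hφ : Function.Surjective (LieS.map k (Spec.map (CommRingCat.ofHom (algebraMap k k))) φ)) :
    e0 X ∈ φ.left.smoothLocus := by
  let sX : Spec (CommRingCat.of k) ⟶ X.left :=
    (1 : LieS.pt k (Spec.map (CommRingCat.ofHom (algebraMap k k))) ⟶ X).left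
  have hsX : sX ≫ X.hom = 𝟙 _ :=
    (Over.w (1 : LieS.pt k (Spec.map (CommRingCat.ofHom (algebraMap k k))) ⟶ X)).trans algebraMap_spec
  have hsY : (sX ≫ φ.left) ≫ Y.hom = 𝟙 _ := by rw [Category.assoc, Over.w φ]; exact hsX
  have hinj := cotangent_injective φ hφ
  show pt sX ∈ φ.left.smoothLocus
  rw [Scheme.Hom.mem_smoothLocus]
  letI := (GenSmoothLib.stalkStr X.hom (pt sX)).toAlgebra
  letI := (GenSmoothLib.stalkStr Y.hom (φ.left (pt sX))).toAlgebra
  letI := (φ.left.stalkMap (pt sX)).hom.toAlgebra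
  haveI : IsScalarTower k (Y.left.presheaf.stalk (φ.left (pt sX))) (X.left.presheaf.stalk (pt sX)) :=
    IsScalarTower.of_algebraMap_eq' (GenSmoothLib.stalkMap_stalkStr X.hom Y.hom φ.left (Over.w φ) (pt sX)).symm
  haveI : IsLocalHom (algebraMap (Y.left.presheaf.stalk (φ.left (pt sX))) (X.left.presheaf.stalk (pt sX))) :=
    inferInstanceAs (IsLocalHom (φ.left.stalkMap (pt sX)).hom)
  obtain ⟨hA1, hA2, -⟩ := GenSmoothLib.stalk_facts Y.hom (φ.left (pt sX))
  obtain ⟨hB1, hB2, -⟩ := GenSmoothLib.stalk_facts X.hom (pt sX)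
  haveI := hA1; haveI := hA2; haveI := hB1; haveI := hB2
  have hA : Function.Bijective (algebraMap k (ResidueField (Y.left.presheaf.stalk (φ.left (pt sX))))) :=
    residue_bijective Y.hom (sX ≫ φ.left) hsY
  refine (GenSmoothLib.formallySmooth_of_cotangent_injective k _ _ hA
      (residue_bijective X.hom sX hsX) fun a ha hab => ?_ :
    Algebra.FormallySmooth (Y.left.presheaf.stalk (φ.left (pt sX))) (X.left.presheaf.stalk (pt sX)))
  have h0 : (maximalIdeal (Y.left.presheaf.stalk (φ.left (pt sX)))).toCotangent ⟨a, ha⟩ = 0 := hinj (by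
    rw [map_zero]
    refine (Ideal.mapCotangent_toCotangent ..).trans ?_
    rw [Ideal.toCotangent_eq_zero]
    have he : FixPt.stalkMapAt φ.left (pt sX) (φ.left.base (pt sX)) rfl a = (φ.left.stalkMap (pt sX)).hom a := by
      simp [FixPt.stalkMapAt]
    show FixPt.stalkMapAt φ.left (pt sX) (φ.left.base (pt sX)) rfl a ∈ _
    rw [he]
    exact hab)
  rwa [Ideal.toCotangent_eq_zero] at h0

end Groth.Agent.AlgGrpLib.LieSmooth
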