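import Groth.Agent.AlgGrpLib.SplitTorsorLinear

/-!
Induction on connected commutative smooth affine groups over an algebraically closed field: such a group is
built by extensions from the multiplicative group and from groups with additive coordinates.
-/

set_option autoImplicit false
set_option backward.isDefEq.respectTransparency.types false

universe u

open CategoryTheory CategoryTheory.Limits MonoidalCategory CartesianMonoidalCategory MonObj GrpObj AlgebraicGeometry

namespace Groth.Agent.AlgGrpLib.LinearInduction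

open Groth.Agent.HopfQuot TensorProduct
open Groth.Agent.SGA3cLib (dsFn dsFn_injective)
open Groth.Agent.AlgGrpLib.SplitTorsorLinear (subsingleton_points)

variable {k : Type u} [Field k]

theorem isCommMonObj_of_mono {G H : Over (Spec (CommRingCat.of k))} [GrpObj G] [GrpObj H] [IsCommMonObj H]
    (i : G ⟶ H) [IsMonHom i] [Mono i] : IsCommMonObj G :=
  (isCommMonObj_iff_isMulCommutative G).2 fun T => ⟨⟨fun x y => by
    rw [← cancel_mono i, MonObj.mul_comp, MonObj.mul_comp, _root_.mul_comm]⟩⟩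

variable [IsAlgClosed k]

theorem unipotent_charZero [CharZero k] {P : ∀ (G : Over (Spec (CommRingCat.of k))) [GrpObj G], Prop}
    (hiso : ∀ (G G' : Over (Spec (CommRingCat.of k))) [GrpObj G] [GrpObj G'] (e : G ⟶ G') [IsMonHom e] [IsIso e],
      P G → P G')
    (hadd : ∀ (G : Over (Spec (CommRingCat.of k))) [GrpObj G] (n : ℕ) (s : Fin n → Γ(G.left, ⊤)),
      (∀ (X : Over (Spec (CommRingCat.of k))), IsAffine X.left → ∀ (x y : X ⟶ G) (i : Fin n),
        (x * y).left.appTop (s i) = x.left.appTop (s i) + y.left.appTop (s i)) →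
      (∀ (X : Over (Spec (CommRingCat.of k))), IsAffine X.left → ∀ x y : X ⟶ G,
        (∀ i, x.left.appTop (s i) = y.left.appTop (s i)) → x = y) →
      (∀ (X : Over (Spec (CommRingCat.of k))), IsAffine X.left → ∀ r : Fin n → Γ(X.left, ⊤),
        ∃ x : X ⟶ G, ∀ i, x.left.appTop (s i) = r i) → P G)
    {Q : Over (Spec (CommRingCat.of k))} [GrpObj Q] {A : Type u} [CommRing A]
    [HopfAlgebra k A] [Algebra.FiniteType k A] [Coalgebra.IsCocomm k A] (e : spec (k := k) A ⟶ Q) [IsIso e]
    [IsMonHom e] (hU : HopfRep.IsUnipotent k A) : P Q := by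
  obtain ⟨n, x, hind, hgen, hprim⟩ := Groth.Agent.S3271.result k A hU
  refine hiso _ _ e (hadd _ n (fun i => (Scheme.ΓSpecIso (CommRingCat.of A)).inv (x i))
    (fun X hX a b i => UnipStruct.appTop_mul_of_primitive (hprim i) a b) (fun X hX a b h => ?_) fun X hX r => ?_)
  · haveI := hX
    obtain ⟨R, _, _, e', ε, he'⟩ := UnipStruct.exists_pt (k := k) (A := A) (T := X)
    refine e'.injective (WithConv.ofConv_injective (AlgHom.ext_of_adjoin_eq_top hgen ?_))
    rintro _ ⟨i, rfl⟩
    exact ε.injective ((he' a _).symm.trans ((h i).trans (he' b _)))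
  · haveI := hX
    obtain ⟨R, _, _, e', ε, he'⟩ := UnipStruct.exists_pt (k := k) (A := A) (T := X)
    let f : MvPolynomial (Fin n) k ≃ₐ[k] A := AlgEquiv.ofBijective (MvPolynomial.aeval x)
      ⟨hind, (AlgHom.range_eq_top _).1 (by rw [← Algebra.adjoin_range_eq_range_aeval, hgen])⟩
    refine ⟨e'.symm (WithConv.toConv ((MvPolynomial.aeval fun i => ε.symm (r i)).comp f.symm.toAlgHom)), fun i => ?_⟩
    have hx : f.symm (x i) = MvPolynomial.X i := f.symm_apply_eq.2 (by simp [f])
    rw [he', e'.apply_symm_apply]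
    show ε (MvPolynomial.aeval (fun i => ε.symm (r i)) (f.symm (x i))) = r i
    rw [hx, MvPolynomial.aeval_X, ε.apply_symm_apply]

theorem unipotent_charP {p : ℕ} [Fact p.Prime] [CharP k p] {P : ∀ (G : Over (Spec (CommRingCat.of k))) [GrpObj G], Prop}
    (htriv : ∀ (G : Over (Spec (CommRingCat.of k))) [GrpObj G], IsIso G.hom → P G)
    (hext : ∀ (N G Q : Over (Spec (CommRingCat.of k))) [GrpObj N] [GrpObj G] [GrpObj Q] [IsCommMonObj G]
      [IsAffine G.left] [LocallyOfFiniteType G.hom] [IsAffine Q.left] [LocallyOfFiniteType Q.hom]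
      (i : N ⟶ G) [IsMonHom i] [IsClosedImmersion i.left] (q : G ⟶ Q) [IsMonHom q] [Flat q.left] [Surjective q.left],
      AlgGrp.IsKernel i q → P N → P Q → P G)
    (hadd : ∀ (G : Over (Spec (CommRingCat.of k))) [GrpObj G] (n : ℕ) (s : Fin n → Γ(G.left, ⊤)),
      (∀ (X : Over (Spec (CommRingCat.of k))), IsAffine X.left → ∀ (x y : X ⟶ G) (i : Fin n),
        (x * y).left.appTop (s i) = x.left.appTop (s i) + y.left.appTop (s i)) →
      (∀ (X : Over (Spec (CommRingCat.of k))), IsAffine X.left → ∀ x y : X ⟶ G,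
        (∀ i, x.left.appTop (s i) = y.left.appTop (s i)) → x = y) →
      (∀ (X : Over (Spec (CommRingCat.of k))), IsAffine X.left → ∀ r : Fin n → Γ(X.left, ⊤),
        ∃ x : X ⟶ G, ∀ i, x.left.appTop (s i) = r i) → P G)
    {Q : Over (Spec (CommRingCat.of k))} [GrpObj Q]
    [IsCommMonObj Q] [IsAffine Q.left] [Smooth Q.hom] [ConnectedSpace Q.left] (hQ : UnipStruct.Killed p Q) :
    P Q := by
  refine UnipStruct.killed_induction (p := p) (fun G _ => P G) (fun G _ h => htriv G h) ?_ hQ
  intro G G' _ _ _ _ _ _ _ _ _ _ _ _ σ hG'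
  haveI := σ.isMonHom_i
  haveI := σ.isMonHom_π
  haveI := σ.surjective
  haveI := σ.flat
  haveI : IsAffineHom G'.hom := isAffineHom_of_isAffine _
  haveI : IsClosedImmersion σ.i.left := by
    haveI : IsClosedImmersion η[G'].left := by
      haveI : IsClosedImmersion (η[G'].left ≫ G'.hom) := by
        rw [Over.w]; exact (inferInstance : IsClosedImmersion (𝟙 (Spec (CommRingCat.of k))))
      exact IsClosedImmersion.of_comp η[G'].left G'.hom
    exact MorphismProperty.of_isPullback (P := @IsClosedImmersion)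
      (IsPullback.map (Over.forget _) σ.isKernel).flip ‹_›
  have key : ∀ {X : Over (Spec (CommRingCat.of k))} (x : X ⟶ WittGrp.W p 1 (Spec (CommRingCat.of k))),
      x.left.appTop (UnipStruct.cf (𝟙 (WittGrp.W p 1 (Spec (CommRingCat.of k))))) = UnipStruct.cf x := fun x => by
    rw [← UnipStruct.cf_comp, Category.comp_id]
  refine hext _ _ _ σ.i σ.π σ.isKernel
    (hadd _ 1 (fun _ => UnipStruct.cf (𝟙 _)) (fun X _ x y _ => ?_) (fun X _ x y h => ?_) fun X _ r => ?_) hG'
  · rw [key, key, key, UnipStruct.cf_mul]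
  · exact UnipStruct.cf_injective (by simpa only [key] using h 0)
  · exact ⟨WittPts.ofCoeffs fun _ => r 0, fun i => (key _).trans ((WittPts.coeff_ofCoeffs _ 0).trans (by rw [Subsingleton.elim i 0]))⟩

/-- A closed connected subgroup with the property `P` whose range is `Z`. -/
def Good (P : ∀ (G : Over (Spec (CommRingCat.of k))) [GrpObj G], Prop)
    (L : Over (Spec (CommRingCat.of k))) [GrpObj L] (Z : TopologicalSpace.IrreducibleCloseds L.left) : Prop :=
  ∃ (N : Over (Spec (CommRingCat.of k))) (_ : GrpObj N) (i : N ⟶ L), IsMonHom i ∧ IsClosedImmersion i.left ∧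
    ConnectedSpace N.left ∧ P N ∧ (Z : Set L.left) = Set.range i.left

theorem exists_maximal_good {P : ∀ (G : Over (Spec (CommRingCat.of k))) [GrpObj G], Prop}
    (L : Over (Spec (CommRingCat.of k))) [GrpObj L] [IsCommMonObj L] [IsAffine L.left] [LocallyOfFiniteType L.hom]
    (triv : ∀ (G : Over (Spec (CommRingCat.of k))) [GrpObj G], IsIso G.hom → P G) :
    ∃ Z, Good P L Z ∧ ∀ Z', Good P L Z' → ¬ Z < Z' := by
  obtain ⟨n, hn⟩ := UnipStruct.dim_lt_top L
  have hh : ∀ Z : TopologicalSpace.IrreducibleCloseds L.left, Order.height Z ≤ (n : ℕ∞) := fun Z =>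
    WithBot.coe_le_coe.1 ((Order.height_le_krullDim Z).trans hn)
  haveI : IsAffineHom L.hom := isAffineHom_of_isAffine _
  haveI : IsSeparated L.hom := inferInstance
  haveI : IsClosedImmersion (UnipStruct.kerι (𝟙 L)).left := UnipStruct.isClosedImmersion_kerι (𝟙 L)
  let i₀ := UnipStruct.kerι (𝟙 L)
  haveI : IsMonHom i₀ := inferInstance
  have hiso : IsIso (UnipStruct.kerObj (𝟙 L)).hom := by
    have h : IsIso (pullback.snd (𝟙 L) η[L]).left :=
      inferInstanceAs (IsIso ((Over.forget _).map (pullback.snd (𝟙 L) η[L])))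
    have hw := Over.w (pullback.snd (𝟙 L) η[L])
    show IsIso (pullback (𝟙 L) η[L]).hom
    rw [← hw]
    exact IsIso.comp_isIso' h (inferInstanceAs (IsIso (𝟙 (Spec (CommRingCat.of k)))))
  haveI : ConnectedSpace (UnipStruct.kerObj (𝟙 L)).left := by
    haveI : ConnectedSpace ↥(Spec (CommRingCat.of k)) := inferInstanceAs (ConnectedSpace (PrimeSpectrum k))
    exact (inv (UnipStruct.kerObj (𝟙 L)).hom).homeomorph.surjective.connectedSpace
      (inv (UnipStruct.kerObj (𝟙 L)).hom).continuous
  haveI : LocallyOfFiniteType (UnipStruct.kerObj (𝟙 L)).hom := inferInstance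
  haveI := SGA3cLib.irreducibleSpace_of_connected (UnipStruct.kerObj (𝟙 L))
  let Z₀ : TopologicalSpace.IrreducibleCloseds L.left :=
    ⟨Set.range i₀.left, (IrreducibleSpace.isIrreducible_univ _).image _ i₀.left.continuous.continuousOn |> fun h =>
      (by rw [← Set.image_univ]; exact h), i₀.left.isClosedEmbedding.isClosed_range⟩
  have hgood : Good P L Z₀ := ⟨_, inferInstance, i₀, inferInstance, inferInstance, inferInstance, triv _ hiso, rfl⟩
  classical
  let Q : ℕ → Prop := fun m => ∃ Z, Good P L Z ∧ (m : ℕ∞) ≤ Order.height Z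
  obtain ⟨Z, hZ, hZm⟩ : Q (Nat.findGreatest Q n) :=
    Nat.findGreatest_spec (P := Q) (Nat.zero_le n) ⟨Z₀, hgood, by simp⟩
  refine ⟨Z, hZ, fun Z' hZ' hlt => ?_⟩
  have h1 := (Order.height_strictMono hlt ((hh Z).trans_lt (ENat.natCast_lt_top n)))
  obtain ⟨m, hm⟩ := ENat.ne_top_iff_exists.1 ((hh Z').trans_lt (ENat.natCast_lt_top n)).ne
  have hmn : m ≤ n := by
    have := hh Z'
    rw [← hm] at this
    exact_mod_cast this
  have h2 := Nat.le_findGreatest (P := Q) hmn ⟨Z', hZ', hm.le⟩
  have h3 : ((Nat.findGreatest Q n : ℕ) : ℕ∞) < (m : ℕ∞) := hm ▸ hZm.trans_lt h1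
  exact absurd h2 (not_le.2 (by exact_mod_cast h3))

theorem subsingleton_points {D : Over (Spec (CommRingCat.of k))} [LocallyOfFiniteType D.hom] [Subsingleton D.left]
    (x y : 𝟙_ (Over (Spec (CommRingCat.of k))) ⟶ D) : x = y :=
  Over.OverMorphism.ext (ext_of_apply_closedPoint_eq D.hom (Over.w x) (Over.w y) (Subsingleton.elim _ _))

/-- The main result. -/
theorem induction {P : ∀ (G : Over (Spec (CommRingCat.of k))) [GrpObj G], Prop}
    (hiso : ∀ (G G' : Over (Spec (CommRingCat.of k))) [GrpObj G] [GrpObj G'] (e : G ⟶ G') [IsMonHom e] [IsIso e],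
      P G → P G')
    (htriv : ∀ (G : Over (Spec (CommRingCat.of k))) [GrpObj G], IsIso G.hom → P G)
    (hext : ∀ (N G Q : Over (Spec (CommRingCat.of k))) [GrpObj N] [GrpObj G] [GrpObj Q] [IsCommMonObj G]
      [IsAffine G.left] [LocallyOfFiniteType G.hom] [IsAffine Q.left] [LocallyOfFiniteType Q.hom]
      (i : N ⟶ G) [IsMonHom i] [IsClosedImmersion i.left] (q : G ⟶ Q) [IsMonHom q] [Flat q.left] [Surjective q.left],
      AlgGrp.IsKernel i q → P N → P Q → P G)
    (hGm : P (Red.DS (Spec (CommRingCat.of k)) (Fin 1 → ℤ)))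
    (hadd : ∀ (G : Over (Spec (CommRingCat.of k))) [GrpObj G] (n : ℕ) (s : Fin n → Γ(G.left, ⊤)),
      (∀ (X : Over (Spec (CommRingCat.of k))), IsAffine X.left → ∀ (x y : X ⟶ G) (i : Fin n),
        (x * y).left.appTop (s i) = x.left.appTop (s i) + y.left.appTop (s i)) →
      (∀ (X : Over (Spec (CommRingCat.of k))), IsAffine X.left → ∀ x y : X ⟶ G,
        (∀ i, x.left.appTop (s i) = y.left.appTop (s i)) → x = y) →
      (∀ (X : Over (Spec (CommRingCat.of k))), IsAffine X.left → ∀ r : Fin n → Γ(X.left, ⊤),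
        ∃ x : X ⟶ G, ∀ i, x.left.appTop (s i) = r i) → P G)
    (L : Over (Spec (CommRingCat.of k))) [GrpObj L] [IsCommMonObj L] [Smooth L.hom]
    [ConnectedSpace L.left] [IsAffine L.left] : P L := by
  classical
  obtain ⟨Z, ⟨N, gN, i, hi, hic, hNc, hN, hZ⟩, hmax⟩ := exists_maximal_good L htriv
  letI := gN
  haveI := hi
  haveI := hic
  haveI := hNc
  haveI : IsAffineHom L.hom := isAffineHom_of_isAffine _
  haveI : IsReduced L.left := AbSchLib.isReduced_of_smooth L.hom
  obtain ⟨Q, gQ, q, hq, hQa, hQl, hqf, hqs, hker⟩ :=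
    HopfQuot.exists_affine_quotient L N i (UnipStruct.isNormalHom_of_comm _)
  letI := gQ
  haveI := hq
  haveI := hQa
  haveI := hQl
  haveI := hqf
  haveI := hqs
  haveI := AlgGrpLib.quasiCompact_left q
  haveI : IsReduced Q.left := UnipStruct.isReduced_of_cover q
  haveI := UnipStruct.isCommMonObj_of_cover q
  haveI : ConnectedSpace Q.left := q.left.surjective.connectedSpace q.left.continuous
  haveI := UnipStruct.smooth_of_isReduced Q
  haveI : QuasiCompact Q.hom := (quasiCompact_iff_compactSpace Q.hom).2 inferInstance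
  refine hext N L Q i q hker hN ?_
  obtain ⟨A, _, _, e, _, _⟩ := exists_spec (k := k) Q
  haveI := UnipStruct.finiteType_of_iso e
  haveI : IsCommMonObj (spec (k := k) A) := (isCommMonObj_iff_isMulCommutative _).2 fun T => ⟨⟨fun x y => by
    rw [← cancel_mono e, MonObj.mul_comp, MonObj.mul_comp, _root_.mul_comm]⟩⟩
  haveI := UnipStruct.isCocomm_of_comm (k := k) (A := A)
  haveI : IsIso e.left := inferInstanceAs (IsIso ((Over.forget _).map e))
  haveI := AbVarLib.isIntegral_of_smooth_connected Q.hom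
  haveI : IsIntegral (spec (k := k) A).left := IsIntegral.of_isIso (inv e.left)
  haveI : IsDomain A := (affine_isIntegral_iff (CommRingCat.of A)).1 ‹_›
  by_cases hg : ∀ g : A, IsGroupLikeElem k g → g = 1
  · have hU := UnipStruct.isUnipotent_of_groupLike hg
    obtain hp | ⟨p, hp, hcp⟩ := CharP.exists' k
    · haveI := hp
      exact unipotent_charZero hiso hadd e hU
    · haveI : Fact p.Prime := hp
      haveI := hcp
      refine unipotent_charP (p := p) htriv hext hadd ?_
      obtain ⟨N', hN'⟩ := UnipStruct.exists_pow_eq_one_of_isUnipotent (p := p) hU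
      refine UnipStruct.killed_iff.2 ⟨N', ?_⟩
      have h : (𝟙 (spec (k := k) A) : spec (k := k) A ⟶ spec (k := k) A) ^ p ^ N' = 1 := by
        obtain ⟨x, hx⟩ := (ptSpec (k := k) (A := A) (T := A)).surjective (𝟙 _)
        rw [← hx, ← map_pow, hN', map_one]
      have h' := congrArg (fun f => CategoryTheory.inv e ≫ f ≫ e) h
      simp only [UnipStruct.comp_pow', Category.id_comp, MonObj.one_comp, MonObj.comp_one] at h'
      rw [← h']
      clear h h'
      induction p ^ N' with
      | zero => rw [_root_.pow_zero, _root_.pow_zero, MonObj.comp_one]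
      | succ m ih => rw [pow_succ, pow_succ, MonObj.comp_mul, ← ih, IsIso.inv_hom_id]
  exfalso
  push Not at hg
  obtain ⟨g, hgl, hg1⟩ := hg
  have hord : ∀ n : ℕ, 0 < n → g ^ n ≠ 1 := fun n hn hgn => by
    haveI : NeZero n := ⟨hn.ne'⟩
    have hint : IsIntegral k g := ⟨Polynomial.X ^ n - 1, Polynomial.monic_X_pow_sub_C 1 hn.ne', by simp [hgn]⟩
    obtain ⟨c, hc⟩ : ∃ c : k, algebraMap k A c = g := by
      haveI : Algebra.IsIntegral k (Algebra.adjoin k {g}) := Algebra.IsIntegral.adjoin (by simpa using hint)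
      obtain ⟨c, hc⟩ := (IsAlgClosed.algebraMap_bijective_of_isIntegral (k := k) (K := Algebra.adjoin k {g})).2
        ⟨g, Algebra.subset_adjoin rfl⟩
      exact ⟨c, congrArg Subtype.val hc⟩
    apply hg1
    rw [← hc, show c = 1 by
      have := hgl.counit_eq_one
      rwa [← hc, Bialgebra.counit_algebraMap] at this, map_one]
  obtain ⟨θ, hθ⟩ := UnipStruct.exists_surjective_laurent hgl hord
  obtain ⟨j₀, _, _⟩ := UnipStruct.exists_torus_of_surjective θ hθ
  let D := Red.DS (Spec (CommRingCat.of k)) (Fin 1 → ℤ)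
  haveI : IsAffine D.left := by
    haveI : IsAffine (Red.diag (ULift.{u} ℤ) (Fin 1 → ℤ)).left := inferInstanceAs (IsAffine (Spec _))
    haveI : IsAffineHom D.hom := MorphismProperty.pullback_snd (P := @IsAffineHom) _ _ (isAffineHom_of_isAffine _)
    exact isAffine_of_isAffineHom D.hom
  haveI : IsIntegral D.left := TorusConnLib.isIntegral_DS k 1
  haveI : ConnectedSpace D.left := inferInstance
  haveI : LocallyOfFiniteType D.hom := TorusToProper.locallyOfFiniteType_DS 1
  let j : D ⟶ Q := j₀ ≫ e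
  haveI : Mono j := mono_comp _ _
  haveI : IsMonHom j := inferInstance
  haveI : QuasiCompact j.left := inferInstance
  haveI : IsClosedImmersion j.left := SGA3cLib.isClosedImmersion_of_mono j
  obtain ⟨Q', gQ', q', hq', hQ'a, hQ'l, hq'f, hq's, hker'⟩ :=
    HopfQuot.exists_affine_quotient Q D j (UnipStruct.isNormalHom_of_comm _)
  letI := gQ'
  haveI := hq'
  haveI : IsAffineHom Q'.hom := isAffineHom_of_isAffine _
  let N' := UnipStruct.kerObj (q ≫ q')
  let i' : N' ⟶ L := UnipStruct.kerι (q ≫ q')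
  haveI : IsMonHom i' := inferInstance
  haveI : IsClosedImmersion i'.left := UnipStruct.isClosedImmersion_kerι (q ≫ q')
  haveI : Mono i' := AlgGrpLib.kernel_mono (UnipStruct.isKernel_kerι (q ≫ q'))
  haveI : Mono j := inferInstance
  obtain ⟨p, hp⟩ := AlgGrpLib.exists_lift_kernel hker' (g := i' ≫ q)
    (by rw [Category.assoc, AlgGrpLib.kernel_comp (UnipStruct.isKernel_kerι (q ≫ q'))])
  have hsq : IsPullback i' p q j := IsPullback.of_bot
    (by rw [toUnit_unique (p ≫ toUnit D) (toUnit N')]; exact UnipStruct.isKernel_kerι (q ≫ q'))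
    hp.symm hker'
  haveI : IsMonHom p := WittGrp.isMonHom_of_comp_mul p
    (by rw [← cancel_mono j, Category.assoc, hp, MonObj.one_comp, MonObj.one_comp j])
    fun T x y => by
      rw [← cancel_mono j, MonObj.mul_comp _ _ j, Category.assoc, Category.assoc, Category.assoc, hp, ← Category.assoc,
        MonObj.mul_comp _ _ i', MonObj.mul_comp _ _ q, Category.assoc, Category.assoc]
  haveI : Surjective p.left := MorphismProperty.of_isPullback (P := @Surjective)
    (IsPullback.map (Over.forget _) hsq) (inferInstanceAs (Surjective q.left))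
  haveI : Flat p.left := MorphismProperty.of_isPullback (P := @Flat)
    (IsPullback.map (Over.forget _) hsq) (inferInstanceAs (Flat q.left))
  obtain ⟨ν, hν⟩ := AlgGrpLib.exists_lift_kernel (UnipStruct.isKernel_kerι (q ≫ q')) (g := i)
    (by rw [← Category.assoc, AlgGrpLib.kernel_comp hker, MonObj.one_comp])
  have hν : ν ≫ i' = i := hν
  have hνp : ν ≫ p = toUnit N ≫ η[D] := by
    rw [← cancel_mono j, Category.assoc, hp, reassoc_of% hν, Category.assoc, IsMonHom.one_hom]
    exact hker.w
  have hkp : AlgGrp.IsKernel ν p := IsPullback.of_right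
    (by rw [hν, IsMonHom.one_hom (f := j)]; exact hker) hνp hsq
  haveI : IsMonHom ν := WittGrp.isMonHom_of_comp_mul ν
    (by rw [← cancel_mono i', Category.assoc, hν, MonObj.one_comp, MonObj.one_comp i'])
    fun T x y => by
      rw [← cancel_mono i', MonObj.mul_comp _ _ i', Category.assoc, Category.assoc, Category.assoc, hν, MonObj.mul_comp _ _ i]
  haveI : LocallyOfFiniteType N'.hom := by rw [← Over.w i']; infer_instance
  haveI : ConnectedSpace N'.left := ExactSeqBasics.connectedSpace_of_kernel p ν hkp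
  haveI := SGA3cLib.irreducibleSpace_of_connected N'
  haveI : IsCommMonObj N' := isCommMonObj_of_mono i'
  haveI : IsAffine N'.left := isAffine_of_isAffineHom i'.left
  haveI : IsClosedImmersion ν.left := by
    haveI : IsClosedImmersion (ν.left ≫ i'.left) := by rw [← Over.comp_left, hν]; infer_instance
    exact IsClosedImmersion.of_comp ν.left i'.left
  let Z' : TopologicalSpace.IrreducibleCloseds L.left :=
    ⟨Set.range i'.left, by
      rw [← Set.image_univ]
      exact (IrreducibleSpace.isIrreducible_univ _).image _ i'.left.continuous.continuousOn,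
      i'.left.isClosedEmbedding.isClosed_range⟩
  have hgood : Good P L Z' :=
    ⟨N', inferInstance, i', inferInstance, inferInstance, inferInstance,
      hext N N' D ν p hkp hN hGm, rfl⟩
  refine hmax Z' hgood (lt_of_le_of_ne ?_ fun h => ?_)
  · show (Z : Set L.left) ⊆ Set.range i'.left
    rw [hZ]
    rintro _ ⟨x, rfl⟩
    exact ⟨ν.left x, by rw [← Scheme.Hom.comp_apply, ← Over.comp_left, hν]⟩
  haveI : Subsingleton D.left := ⟨fun a b => by
    apply j.left.isClosedEmbedding.injective
    obtain ⟨a', rfl⟩ := p.left.surjective a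
    obtain ⟨b', rfl⟩ := p.left.surjective b
    have hh : ∀ c, j.left (p.left c) = η[Q].left (IsLocalRing.closedPoint k) := fun c => by
      have hc : i'.left c ∈ Set.range i.left := by
        rw [← hZ, congrArg SetLike.coe h]; exact ⟨c, rfl⟩
      obtain ⟨x, hx⟩ := hc
      rw [← Scheme.Hom.comp_apply, ← Over.comp_left, hp, Over.comp_left, Scheme.Hom.comp_apply, ← hx,
        ← Scheme.Hom.comp_apply, ← Over.comp_left, hker.w, Over.comp_left, Scheme.Hom.comp_apply]
      haveI : Subsingleton ↥(𝟙_ (Over (Spec (CommRingCat.of k)))).left := inferInstanceAs (Subsingleton (PrimeSpectrum k))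
      exact congrArg η[Q].left (Subsingleton.elim _ _)
    rw [hh, hh]⟩
  obtain ⟨c, hc0, hc1⟩ : ∃ c : k, c ≠ 0 ∧ c ≠ 1 := by
    obtain ⟨c, hc⟩ := Infinite.exists_notMem_finset ({0, 1} : Finset k)
    simp only [Finset.mem_insert, Finset.mem_singleton, not_or] at hc
    exact ⟨c, hc.1, hc.2⟩
  let ι₀ : k →+* Γ((𝟙_ (Over (Spec (CommRingCat.of k)))).left, ⊤) := (Scheme.ΓSpecIso (CommRingCat.of k)).inv.hom
  obtain ⟨t, ht⟩ := SGA3cLib.exists_gmFn (S := Spec (CommRingCat.of k)) ((Ne.isUnit hc0).map ι₀)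
  let t₁ : 𝟙_ (Over (Spec (CommRingCat.of k))) ⟶ D := t ≫ Red.DSmap _ (Pi.evalAddMonoidHom (fun _ : Fin 1 => ℤ) 0)
  haveI : IsMonHom (Red.DSmap (Spec (CommRingCat.of k)) (Pi.evalAddMonoidHom (fun _ : Fin 1 => ℤ) 0)) :=
    S5427.isMonHom_DSmap _
  have h1 := subsingleton_points t₁ 1
  have h2 := congrArg (fun z => z ≫ Red.DSmap _ (AddMonoidHom.single (fun _ : Fin 1 => ℤ) 0)) h1
  haveI : IsMonHom (Red.DSmap (Spec (CommRingCat.of k)) (AddMonoidHom.single (fun _ : Fin 1 => ℤ) 0)) :=
    S5427.isMonHom_DSmap _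
  have h3 : t = 1 := by
    have e1 : Red.DSmap (Spec (CommRingCat.of k)) (Pi.evalAddMonoidHom (fun _ : Fin 1 => ℤ) 0) ≫
        Red.DSmap _ (AddMonoidHom.single (fun _ : Fin 1 => ℤ) 0) = 𝟙 _ := by
      refine dsFn_injective (MonoidHom.ext fun m => ?_)
      rw [S5427.dsFn_DSmap, ← Category.id_comp (Red.DSmap _ (Pi.evalAddMonoidHom (fun _ : Fin 1 => ℤ) 0)),
        S5427.dsFn_DSmap]
      congr 1
    simpa only [t₁, Category.assoc, e1, Category.comp_id, MonObj.one_comp] using h2
  rw [h3, SGA3cLib.gmFn_one] at ht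
  exact hc1 ((ConcreteCategory.bijective_of_isIso (Scheme.ΓSpecIso (CommRingCat.of k)).inv).1
    (ht.symm.trans (map_one ι₀).symm))


end Groth.Agent.AlgGrpLib.LinearInduction
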