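import Groth.Agent.AlgGrpLib.RelPoints
import Groth.Agent.AlgGrpLib.LinearInduction
import Groth.Agent.AlgGrpLib.GeneratedStab
import Groth.Agent.AlgGrpLib.GeomPoints
import Groth.Agent.AlgGrpLib.LieSmooth
import Groth.Agent.AlgGrpLib.OpenOrbit
import Groth.Agent.AlgGrpLib.PointsDense
import Groth.Agent.AlgGrpLib.PointsProdField
import Groth.Agent.S3278
import Groth.Agent.S5427

/-!
Connected solvable affine groups over an algebraically closed field are special, and the derived subgroup of a
connected smooth affine group is connected, smooth and normal with commutative quotient.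
-/

set_option autoImplicit false
set_option backward.isDefEq.respectTransparency.types false
set_option maxHeartbeats 800000

universe u

open CategoryTheory CategoryTheory.Limits MonoidalCategory CartesianMonoidalCategory MonObj GrpObj AlgebraicGeometry
open scoped commutatorElement

namespace Groth.Agent.AlgGrpLib.SolvableSpecial

open Groth.Agent.AlgGrpLib.SpecialExtension (Special)

variable {k : Type u} [Field k]

theorem special_of_iso (G G' : Over (Spec (CommRingCat.of k))) [GrpObj G] [GrpObj G'] (e : G ⟶ G') [IsMonHom e]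
    [IsIso e] (h : Special G) : Special G' := by
  intro X Y a φ hcart hloc
  have hw : (e ▷ X) ≫ snd G' X = snd G X := whiskerRight_snd _ _
  let b : AlgGrp.Action G X :=
    { act := (e ▷ X) ≫ a.act
      one_act := by
        rw [← Category.assoc, ← comp_whiskerRight, IsMonHom.one_hom, a.one_act]
      mul_act := by
        rw [← Category.assoc, ← comp_whiskerRight, IsMonHom.mul_hom, comp_whiskerRight, Category.assoc, a.mul_act]
        simp [tensorHom_def', whisker_exchange_assoc] }
  refine h X Y b φ ?_ hloc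
  exact hcart.of_iso (asIso (e ▷ X)).symm (Iso.refl _) (Iso.refl _) (Iso.refl _) (by simp [b]) (by simp [hw])
    (by simp) (by simp)

theorem special_trivial (G : Over (Spec (CommRingCat.of k))) [GrpObj G] (hG : IsIso G.hom) : Special G := by
  intro X Y a φ hcart hloc
  have hsq : IsPullback a.act.left (snd G X).left φ.left φ.left := (Over.forget _).map_isPullback hcart
  obtain ⟨R₀, hR₀, hsec₀⟩ := id hloc
  obtain ⟨I₀, Z₀, g₀, rfl⟩ := R₀.exists_eq_ofArrows
  let 𝒰 : Scheme.Cover Scheme.fpqcPrecoverage Y.left := ⟨⟨I₀, Z₀, g₀⟩, hR₀⟩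
  have desc : ∀ (P : MorphismProperty Scheme.{u}) [P.IsStableUnderBaseChange] [P.RespectsIso] [IsZariskiLocalAtTarget P],
      P.DescendsAlong (@Surjective ⊓ @Flat ⊓ @QuasiCompact : MorphismProperty Scheme.{u}) → P (snd G X).left → P φ.left := by
    intro P _ _ _ hP hsnd
    refine Groth.Agent.Desc19b.of_fpqcCover P hP φ.left 𝒰 fun i => ?_
    obtain ⟨σ, hσ⟩ := hsec₀ (g₀ i) ⟨i⟩
    have h := (IsPullback.of_hasPullback (snd G X).left σ).paste_horiz hsq
    have hσ' : σ ≫ φ.left = g₀ i := hσ
    rw [hσ'] at h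
    change P (Limits.pullback.snd φ.left (g₀ i))
    rw [← h.isoPullback_inv_snd, MorphismProperty.cancel_left_of_respectsIso P]
    exact MorphismProperty.pullback_snd _ _ hsnd
  haveI : IsIso φ.left := desc (MorphismProperty.isomorphisms Scheme.{u}) inferInstance
    (MorphismProperty.pullback_snd (P := MorphismProperty.isomorphisms Scheme.{u}) G.hom X.hom hG)
  refine RelPoints.zariski_of_local φ fun U hU p => ⟨_, 𝟙 _, inferInstance, ⟨p, rfl⟩, hU.fromSpec ≫ inv φ.left, ?_⟩
  show (hU.fromSpec ≫ inv φ.left) ≫ φ.left = _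
  rw [Category.assoc, IsIso.inv_hom_id, Category.comp_id, Category.id_comp]

theorem special_torusOne : Special (Red.DS (Spec (CommRingCat.of k)) (Fin 1 → ℤ)) := by
  let e : Red.Gm (Spec (CommRingCat.of k)) ⟶ Red.DS (Spec (CommRingCat.of k)) (Fin 1 → ℤ) :=
    Red.DSmap _ (Pi.evalAddMonoidHom (fun _ : Fin 1 => ℤ) 0)
  let e' : Red.DS (Spec (CommRingCat.of k)) (Fin 1 → ℤ) ⟶ Red.Gm (Spec (CommRingCat.of k)) :=
    Red.DSmap _ (AddMonoidHom.single (fun _ : Fin 1 => ℤ) 0)
  haveI : IsMonHom e := S5427.isMonHom_DSmap _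
  haveI : IsIso e := ⟨e', by
    simp only [e, e']
    refine SGA3cLib.dsFn_injective (MonoidHom.ext fun m => ?_)
    rw [S5427.dsFn_DSmap, ← Category.id_comp (Red.DSmap _ (Pi.evalAddMonoidHom (fun _ : Fin 1 => ℤ) 0)),
      S5427.dsFn_DSmap]
    congr 1, by
    simp only [e, e']
    refine SGA3cLib.dsFn_injective (MonoidHom.ext fun m => ?_)
    rw [S5427.dsFn_DSmap, ← Category.id_comp (Red.DSmap _ (AddMonoidHom.single (fun _ : Fin 1 => ℤ) 0)),
      S5427.dsFn_DSmap]
    congr 1
    refine Multiplicative.toAdd.injective (funext fun i => ?_)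
    fin_cases i
    simp⟩
  exact special_of_iso _ _ e RelPoints.special_gm

variable [IsAlgClosed k]

theorem special_comm (L : Over (Spec (CommRingCat.of k))) [GrpObj L] [IsCommMonObj L] [Smooth L.hom]
    [ConnectedSpace L.left] [IsAffine L.left] : Special L :=
  LinearInduction.induction (P := fun G _ => Special G) (fun G G' _ _ e _ _ h => special_of_iso G G' e h)
    (fun G _ h => special_trivial G h)
    (fun N G Q _ _ _ _ _ _ _ _ i _ _ q _ _ _ hk hN hQ => SpecialExtension.special_of_extension i q hk hN hQ)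
    special_torusOne (fun G _ n s h1 h2 h3 => RelPoints.special_add G n s h1 h2 h3) L

/-- The unit point as a point over the field itself. -/
noncomputable def ptIso : Over.mk (Spec.map (CommRingCat.ofHom (algebraMap k k))) ≅ 𝟙_ (Over (Spec (CommRingCat.of k))) :=
  Over.isoMk (Iso.refl _) (by
    show 𝟙 _ ≫ 𝟙 _ = Spec.map (CommRingCat.ofHom (algebraMap k k))
    rw [Category.id_comp]
    exact (Spec.map_id _).symm)

theorem ext_points {W G : Over (Spec (CommRingCat.of k))} [LocallyOfFiniteType W.hom] [IsReduced W.left]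
    [IsSeparated G.hom] (f g : W ⟶ G) (h : ∀ x : 𝟙_ (Over (Spec (CommRingCat.of k))) ⟶ W, x ≫ f = x ≫ g) :
    f = g := by
  let D : G ⟶ G ⊗ G := lift (𝟙 G) (𝟙 G)
  haveI : IsClosedImmersion D.left := inferInstanceAs (IsClosedImmersion (pullback.diagonal G.hom))
  obtain ⟨l, hl⟩ := PointsDense.exists_factor_of_points_algClosed k k (lift f g) D fun x => ⟨x ≫ f, by
    have hx : x ≫ f = x ≫ g := by
      rw [← cancel_epi (ptIso (k := k)).inv]
      simpa using h ((ptIso (k := k)).inv ≫ x)
    simp [D, hx]⟩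
  have h1 := congrArg (· ≫ fst G G) hl
  have h2 := congrArg (· ≫ snd G G) hl
  simp only [Category.assoc, lift_fst, lift_snd, D, Category.comp_id] at h1 h2
  rw [← h1, ← h2]

theorem exists_derived (G : Over (Spec (CommRingCat.of k))) [GrpObj G] [IsAffine G.left]
    [LocallyOfFiniteType G.hom] [Smooth G.hom] [ConnectedSpace G.left] :
    ∃ (D : Over (Spec (CommRingCat.of k))) (_ : GrpObj D) (i : D ⟶ G), IsMonHom i ∧ IsClosedImmersion i.left ∧
      Smooth D.hom ∧ ConnectedSpace D.left ∧ AlgGrp.IsNormalHom i ∧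
      (∀ d : 𝟙_ (Over (Spec (CommRingCat.of k))) ⟶ D,
        d ≫ i ∈ commutator (𝟙_ (Over (Spec (CommRingCat.of k))) ⟶ G)) ∧
      ∀ a b : 𝟙_ (Over (Spec (CommRingCat.of k))) ⟶ G, ∃ d : 𝟙_ (Over (Spec (CommRingCat.of k))) ⟶ D,
        d ≫ i = ⁅a, b⁆ := by
  haveI : IrreducibleSpace G.left := Groth.Agent.SGA3cLib.irreducibleSpace_of_connected G
  haveI : GeometricallyIrreducible G.hom := Groth.Agent.FBaseLib.geometricallyIrreducible_of_isAlgClosed G.hom
  haveI : IrreducibleSpace (G ⊗ G).left := Groth.Agent.AlgGrpLib.OpenOrbit.irreducibleSpace_tensor G G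
  haveI : GeometricallyReduced (G ⊗ G).hom := Groth.Agent.AlgGrpLib.PointsDense.geometricallyReduced_tensor k G G
  haveI : LocallyOfFiniteType (G ⊗ G).hom := Groth.Agent.AlgGrpLib.PointsDense.locallyOfFiniteType_tensor k G G
  haveI : QuasiCompact G.hom := (quasiCompact_iff_compactSpace _).mpr inferInstance
  haveI : QuasiCompact (G ⊗ G).hom := inferInstanceAs (QuasiCompact (Limits.pullback.fst G.hom G.hom ≫ G.hom))
  let φ : G ⊗ G ⟶ G := fst G G * snd G G * (fst G G)⁻¹ * (snd G G)⁻¹
  have hpt : ∀ {T : Over (Spec (CommRingCat.of k))} (x : T ⟶ G ⊗ G),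
      x ≫ φ = (x ≫ fst G G) * (x ≫ snd G G) * (x ≫ fst G G)⁻¹ * (x ≫ snd G G)⁻¹ := fun x => by
    simp only [φ, MonObj.comp_mul, GrpObj.comp_inv]
  have hinv : Set.range (φ ≫ GrpObj.inv).left.base ⊆ Set.range φ.left.base := by
    have e : φ ≫ GrpObj.inv = lift (snd G G) (fst G G) ≫ φ := by
      rw [← Hom.inv_def, hpt, lift_fst, lift_snd]
      simp only [φ, _root_.mul_inv_rev, _root_.inv_inv, _root_.mul_assoc]
    rintro _ ⟨z, rfl⟩
    exact ⟨(lift (snd G G) (fst G G)).left z, (congrArg (fun q : G ⊗ G ⟶ G => q.left z) e).symm⟩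
  obtain ⟨D, inst, i, hi, hci, hgr, hirr, ⟨φ', hφ'⟩, M, p, hp, -, hpts⟩ :=
    Groth.Agent.AlgGrpLib.Generated.exists_generated_stab φ hinv (lift 1 1)
      (by rw [hpt, lift_fst, lift_snd]; simp)
  haveI := hi
  haveI := hci
  haveI : LocallyOfFiniteType D.hom := by rw [← Over.w i]; infer_instance
  haveI : LocallyOfFinitePresentation D.hom := LocallyOfFinitePresentation.iff_locallyOfFiniteType.2 inferInstance
  have hDs := Groth.Agent.AbVarLib.smooth_of_geometricallyReduced D
  haveI := hDs
  have hmem : ∀ d : 𝟙_ (Over (Spec (CommRingCat.of k))) ⟶ D,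
      d ≫ i ∈ commutator (𝟙_ (Over (Spec (CommRingCat.of k))) ⟶ G) := fun d => by
    obtain ⟨v, hv⟩ := hpts d
    rw [← hv, Category.assoc, hp]
    refine (Subgroup.closure_le _).2 ?_ (Groth.Agent.AlgGrpLib.Generated.powProd_mem_closure φ M v)
    rintro _ ⟨x, rfl⟩
    show x ≫ φ ∈ _
    rw [hpt, ← commutatorElement_def]
    exact Subgroup.commutator_mem_commutator (Subgroup.mem_top _) (Subgroup.mem_top _)
  have hcom : ∀ a b : 𝟙_ (Over (Spec (CommRingCat.of k))) ⟶ G, ∃ d : 𝟙_ (Over (Spec (CommRingCat.of k))) ⟶ D,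
      d ≫ i = ⁅a, b⁆ := fun a b =>
    ⟨lift a b ≫ φ', by rw [Category.assoc, hφ', hpt, lift_fst, lift_snd, commutatorElement_def]⟩
  let K : Subgroup (𝟙_ (Over (Spec (CommRingCat.of k))) ⟶ G) :=
    { carrier := Set.range (fun d : 𝟙_ (Over (Spec (CommRingCat.of k))) ⟶ D => d ≫ i)
      one_mem' := ⟨1, MonObj.one_comp i⟩
      mul_mem' := by rintro _ _ ⟨a, rfl⟩ ⟨b, rfl⟩; exact ⟨a * b, MonObj.mul_comp a b i⟩
      inv_mem' := by rintro _ ⟨a, rfl⟩; exact ⟨a⁻¹, GrpObj.inv_comp a i⟩ }
  have hK : commutator (𝟙_ (Over (Spec (CommRingCat.of k))) ⟶ G) = K := by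
    refine le_antisymm ?_ ?_
    · rw [commutator_def, Subgroup.commutator_le]
      exact fun a _ b _ => hcom a b
    · rintro _ ⟨d, rfl⟩
      exact hmem d
  refine ⟨D, inst, i, hi, hci, hDs, inferInstance, ?_, hmem, hcom⟩
  -- normality
  haveI : IsReduced (G ⊗ D).left := by
    haveI := Groth.Agent.AlgGrpLib.PointsDense.geometricallyReduced_tensor k G D
    exact GeometricallyReduced.isReduced_of_flat_of_isLocallyNoetherian (G ⊗ D).hom
  haveI : LocallyOfFiniteType (G ⊗ D).hom := Groth.Agent.AlgGrpLib.PointsDense.locallyOfFiniteType_tensor k G D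
  obtain ⟨l, hl⟩ := PointsDense.exists_factor_of_points_algClosed k k
    (fst G D * (snd G D ≫ i) * (fst G D)⁻¹) i fun x => by
      let x' := (ptIso (k := k)).inv ≫ x
      obtain ⟨d, hd⟩ : x' ≫ (fst G D * (snd G D ≫ i) * (fst G D)⁻¹) ∈ K := by
        rw [← hK, MonObj.comp_mul, MonObj.comp_mul, GrpObj.comp_inv, ← Category.assoc]
        exact Subgroup.Normal.conj_mem inferInstance _ (hmem _) _
      refine ⟨(ptIso (k := k)).hom ≫ d, ?_⟩
      rw [Category.assoc]
      show (ptIso (k := k)).hom ≫ (fun d => d ≫ i) d = _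
      rw [hd]
      simp only [x', Category.assoc, Iso.hom_inv_id_assoc]
  intro T g n
  refine ⟨lift g n ≫ l, ?_⟩
  rw [Category.assoc, hl, MonObj.comp_mul, MonObj.comp_mul, GrpObj.comp_inv, lift_fst, lift_snd_assoc]

theorem derivedSeries_le {H G : Type*} [Group H] [Group G] (f : H →* G) (hf : ∀ h, f h ∈ commutator G) (n : ℕ) :
    (derivedSeries H n).map f ≤ derivedSeries G (n + 1) := by
  induction n with
  | zero =>
    rintro _ ⟨h, -, rfl⟩
    rw [derivedSeries_one]
    exact hf h
  | succ n ih =>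
    rw [derivedSeries_succ, derivedSeries_succ _ (n + 1), Subgroup.map_commutator]
    exact Subgroup.commutator_mono ih ih

/-- Connected smooth affine groups with soluble group of points are special. -/
theorem special_of_derivedSeries (n : ℕ) : ∀ (G : Over (Spec (CommRingCat.of k))) [GrpObj G] [IsAffine G.left]
    [LocallyOfFiniteType G.hom] [Smooth G.hom] [ConnectedSpace G.left],
    derivedSeries (𝟙_ (Over (Spec (CommRingCat.of k))) ⟶ G) n = ⊥ → Special G := by
  induction n with
  | zero =>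
    intro G _ _ _ _ _ h
    haveI : IsReduced G.left := AbSchLib.isReduced_of_smooth G.hom
    haveI : IsSeparated G.hom := inferInstance
    haveI := LieSmooth.isIso_one_of_points (X := G) fun x => by
      have hx : x ∈ derivedSeries (𝟙_ (Over (Spec (CommRingCat.of k))) ⟶ G) 0 := by simp
      rw [h, Subgroup.mem_bot] at hx
      exact hx
    haveI : IsIso (1 : 𝟙_ (Over (Spec (CommRingCat.of k))) ⟶ G).left :=
      inferInstanceAs (IsIso ((Over.forget _).map (1 : 𝟙_ (Over (Spec (CommRingCat.of k))) ⟶ G)))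
    refine special_trivial G ?_
    have h1 : (1 : 𝟙_ (Over (Spec (CommRingCat.of k))) ⟶ G).left ≫ G.hom = 𝟙 _ := Over.w _
    rw [IsIso.eq_inv_of_hom_inv_id h1]
    infer_instance
  | succ n ih =>
    intro G _ _ _ _ _ h
    obtain ⟨D, gD, i, hi, hci, hDs, hDc, hnorm, hmem, hcom⟩ := exists_derived G
    letI := gD
    haveI := hi
    haveI := hci
    haveI := hDs
    haveI := hDc
    haveI : IsAffine D.left := isAffine_of_isAffineHom i.left
    haveI : LocallyOfFiniteType D.hom := by rw [← Over.w i]; infer_instance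
    haveI : Mono i := Over.mono_of_mono_left i
    obtain ⟨Q, gQ, q, hq, hQa, hQl, hqf, hqs, hker⟩ := S3278.result k G D i hnorm
    letI := gQ
    haveI := hq
    haveI := hQa
    haveI := hQl
    haveI := hqf
    haveI := hqs
    refine SpecialExtension.special_of_extension i q hker (ih D ?_) ?_
    · rw [eq_bot_iff]
      intro d hd
      have h' := derivedSeries_le (IsMonHom.monoidHom i _) hmem n ⟨d, hd, rfl⟩
      rw [h, Subgroup.mem_bot] at h'
      exact (cancel_mono i).1 (h'.trans (MonObj.one_comp i).symm)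
    · haveI : IsReduced G.left := AbSchLib.isReduced_of_smooth G.hom
      haveI : QuasiCompact G.hom := (quasiCompact_iff_compactSpace _).mpr inferInstance
      haveI := AlgGrpLib.quasiCompact_left q
      haveI : IsReduced Q.left := UnipStruct.isReduced_of_cover q
      haveI : ConnectedSpace Q.left := q.left.surjective.connectedSpace q.left.continuous
      haveI := UnipStruct.smooth_of_isReduced Q
      haveI : IsReduced (Q ⊗ Q).left := by
        haveI := Groth.Agent.AlgGrpLib.PointsDense.geometricallyReduced_tensor k Q Q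
        exact GeometricallyReduced.isReduced_of_flat_of_isLocallyNoetherian (Q ⊗ Q).hom
      haveI : LocallyOfFiniteType (Q ⊗ Q).hom := Groth.Agent.AlgGrpLib.PointsDense.locallyOfFiniteType_tensor k Q Q
      have hcomm : fst Q Q * snd Q Q = snd Q Q * fst Q Q := by
        refine ext_points _ _ fun x => ?_
        obtain ⟨a, ha⟩ := GeomPoints.exists_lift_point (K := k) q ((ptIso (k := k)).hom ≫ x ≫ fst Q Q)
        obtain ⟨b, hb⟩ := GeomPoints.exists_lift_point (K := k) q ((ptIso (k := k)).hom ≫ x ≫ snd Q Q)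
        obtain ⟨d, hd⟩ := hcom ((ptIso (k := k)).inv ≫ a) ((ptIso (k := k)).inv ≫ b)
        have h1 := congrArg (IsMonHom.monoidHom q _) hd
        rw [map_commutatorElement] at h1
        have h0 : IsMonHom.monoidHom q _ (d ≫ i) = 1 := by
          show (d ≫ i) ≫ q = 1
          rw [Category.assoc, AlgGrpLib.kernel_comp hker, MonObj.comp_one]
        rw [h0, eq_comm, commutatorElement_eq_one_iff_mul_comm] at h1
        have ea : IsMonHom.monoidHom q _ ((ptIso (k := k)).inv ≫ a) = x ≫ fst Q Q := by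
          show ((ptIso (k := k)).inv ≫ a) ≫ q = _
          rw [Category.assoc, ha, Iso.inv_hom_id_assoc]
        have eb : IsMonHom.monoidHom q _ ((ptIso (k := k)).inv ≫ b) = x ≫ snd Q Q := by
          show ((ptIso (k := k)).inv ≫ b) ≫ q = _
          rw [Category.assoc, hb, Iso.inv_hom_id_assoc]
        rw [ea, eb] at h1
        rw [MonObj.comp_mul, MonObj.comp_mul]
        exact h1
      haveI : IsCommMonObj Q := (isCommMonObj_iff_isMulCommutative _).2 fun T => ⟨⟨fun x y => by
        have h := congrArg (lift x y ≫ ·) hcomm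
        simpa [MonObj.comp_mul] using h⟩⟩
      exact special_comm Q

end Groth.Agent.AlgGrpLib.SolvableSpecial
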