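import Groth.Agent.AlgGrpLib.RelPoints
import Groth.Agent.AlgGrpLib.GLnPoints

/-!
The general linear group is special: a matrix cocycle on a faithfully flat algebra is, near every prime, a coboundary.
-/

set_option autoImplicit false
set_option backward.isDefEq.respectTransparency.types false
set_option synthInstance.maxHeartbeats 400000
set_option maxHeartbeats 1000000

universe u

open CategoryTheory CategoryTheory.Limits AlgebraicGeometry MonoidalCategory CartesianMonoidalCategory
open TensorProduct
open Groth.Agent.CommAlg4.WittDescMat Groth.Agent.CAlgH3.FpqcTorsorLocal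
open Groth.Agent.AlgGrpLib.SpecialExtension (Special)
open Groth.Agent.AlgGrpLib.RelPoints

namespace Groth.Agent.AlgGrpLib.SpecialGL

section Algebra

variable {A B : Type u} [CommRing A] [CommRing B] [Algebra A B] {n : ℕ}

theorem exists_rows {K : Type u} [Field K] {s : ℕ} (G : Matrix (Fin s) (Fin n) K) (Y : Matrix (Fin n) (Fin s) K)
    (h : Y * G = 1) : ∃ S : Fin n → Fin s, (G.submatrix S id).det ≠ 0 := by
  have hsp : Submodule.span K (Set.range G.row) = ⊤ := by
    rw [← range_vecMulLinear, LinearMap.range_eq_top]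
    exact fun w => ⟨Matrix.vecMul w Y, by simp [Matrix.vecMul_vecMul, h]⟩
  obtain ⟨b, hb, hbs, hbi⟩ := exists_linearIndependent K (Set.range G.row)
  haveI : Fintype b := ((Set.finite_range G.row).subset hb).fintype
  let e := Module.Basis.mk hbi (by rw [Subtype.range_coe, hbs, hsp])
  have hcard : Fintype.card b = n := by
    rw [← Module.finrank_eq_card_basis e, Module.finrank_fintype_fun_eq_card, Fintype.card_fin]
  let σ : Fin n ≃ b := (Fintype.equivFinOfCardEq hcard).symm
  choose S hS using fun i => hb (σ i).2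
  refine ⟨S, IsUnit.ne_zero ((Matrix.isUnit_iff_isUnit_det _).1 (Matrix.linearIndependent_rows_iff_isUnit.1 ?_))⟩
  have : (G.submatrix S id).row = fun i => ((σ i : b) : Fin n → K) := funext fun i => hS i
  rw [this]
  exact hbi.comp _ σ.injective

theorem mu_cocycle (M : Matrix (Fin n) (Fin n) (T2 A B)) (hu : IsUnit M)
    (h : M.map d12 * M.map d23 = M.map d13) : M.map (Groth.Agent.CommAlg4.WittDescMat.μ (R := A) (R' := B)) = 1 := by
  let m : T3 A B →+* B := (Groth.Agent.CommAlg4.WittDescMat.μ (R := A) (R' := B)).comp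
    (Algebra.TensorProduct.map (AlgHom.id A B) (Algebra.TensorProduct.lmul' A (S := B))).toRingHom
  have h12 : ∀ t : T2 A B, m (d12 t) = μ t := fun t => by
    induction t using TensorProduct.induction_on with
    | zero => simp
    | tmul a b => simp [m, d12_tmul, μ_tmul]
    | add x y hx hy => simp only [map_add, hx, hy]
  have h13 : ∀ t : T2 A B, m (d13 t) = μ t := fun t => by
    induction t using TensorProduct.induction_on with
    | zero => simp
    | tmul a b => simp [m, d13_tmul, μ_tmul]
    | add x y hx hy => simp only [map_add, hx, hy]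
  have h23 : ∀ t : T2 A B, m (d23 t) = μ t := fun t => by
    induction t using TensorProduct.induction_on with
    | zero => simp
    | tmul a b => simp [m, d23_apply, μ_tmul]
    | add x y hx hy => simp only [map_add, hx, hy]
  have h' := congrArg (fun N : Matrix (Fin n) (Fin n) (T3 A B) => N.map m) h
  simp only [Matrix.map_mul, Matrix.map_map] at h'
  rw [show (m : T3 A B → B) ∘ d12 = Groth.Agent.CommAlg4.WittDescMat.μ (R := A) (R' := B) from funext h12,
    show (m : T3 A B → B) ∘ d23 = Groth.Agent.CommAlg4.WittDescMat.μ (R := A) (R' := B) from funext h23,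
    show (m : T3 A B → B) ∘ d13 = Groth.Agent.CommAlg4.WittDescMat.μ (R := A) (R' := B) from funext h13] at h'
  exact (hu.map (Groth.Agent.CommAlg4.WittDescMat.μ (R := A) (R' := B)).mapMatrix).mul_eq_left.1 h'

/-- An invertible matrix cocycle is, near every prime of the base, a coboundary. -/
theorem exists_local_primitive [Module.FaithfullyFlat A B] (M : Matrix (Fin n) (Fin n) (T2 A B)) (hu : IsUnit M)
    (h : M.map d23 * M.map d12 = M.map d13) (p : Ideal A) [p.IsPrime] :
    ∃ f : A, f ∉ p ∧ ∃ (V : Matrix (Fin n) (Fin n) B) (y : B), V.det * y = algebraMap A B f ∧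
      M * V.map i1 = V.map i2 := by
  have hu' : IsUnit M.transpose := by
    rw [Matrix.isUnit_iff_isUnit_det, Matrix.det_transpose, ← Matrix.isUnit_iff_isUnit_det]
    exact hu
  have h' : M.transpose.map d12 * M.transpose.map d23 = M.transpose.map d13 := by
    rw [Matrix.transpose_map, Matrix.transpose_map, Matrix.transpose_map, ← Matrix.transpose_mul, h]
  have hM : IsDatum (1 : Matrix (Fin n) (Fin n) B) M.transpose := by
    refine ⟨?_, ?_, h', mu_cocycle _ hu' h'⟩
    · rw [Matrix.map_one _ (map_zero _) (map_one _), Matrix.one_mul]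
    · rw [Matrix.map_one _ (map_zero _) (map_one _), Matrix.mul_one]
  obtain ⟨s, Q, G, Y, -, -, hG, -, hYG, hGY⟩ := exists_effective hM
  obtain ⟨⟨q, hq⟩, hqp⟩ := PrimeSpectrum.comap_surjective_of_faithfullyFlat (A := A) (B := B) ⟨p, inferInstance⟩
  haveI := hq
  let κ := algebraMap B q.ResidueField
  have hYG' : Y.map κ * G.map κ = 1 := by rw [← Matrix.map_mul, hYG, Matrix.map_one _ (map_zero _) (map_one _)]
  obtain ⟨S, hS⟩ := exists_rows (G.map κ) (Y.map κ) hYG'
  obtain ⟨T, hT⟩ := exists_rows (Y.map κ).transpose (G.map κ).transpose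
    (by rw [← Matrix.transpose_mul, hYG', Matrix.transpose_one])
  have hprod : algebraMap A B (Q.submatrix S T).det = (G.submatrix S id).det * (Y.submatrix id T).det := by
    rw [← Matrix.det_mul, ← Matrix.submatrix_mul G Y S id T Function.bijective_id, hGY, RingHom.map_det]
    rfl
  refine ⟨(Q.submatrix S T).det, fun hf => ?_, (G.submatrix S id).transpose, (Y.submatrix id T).det,
    by rw [Matrix.det_transpose, ← hprod], ?_⟩
  · have hfq : algebraMap A B (Q.submatrix S T).det ∈ q := by
      have : p = q.comap (algebraMap A B) := congrArg PrimeSpectrum.asIdeal hqp.symm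
      rw [this] at hf
      exact hf
    have h0 := Ideal.algebraMap_residueField_eq_zero.2 hfq
    rw [hprod, map_mul, mul_eq_zero] at h0
    rcases h0 with h0 | h0
    · exact hS (by rw [← h0, RingHom.map_det]; rfl)
    · exact hT (by
        rw [← h0, RingHom.map_det, ← Matrix.det_transpose]
        rfl)
  · have hs : (G.submatrix S id).map i1 * M.transpose = (G.submatrix S id).map i2 := by
      have h3 := congrArg (fun N : Matrix (Fin s) (Fin n) (T2 A B) => N.submatrix S id) hG
      exact (Matrix.submatrix_mul (G.map i1) M.transpose S id id Function.bijective_id).symm.trans h3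
    have := congrArg Matrix.transpose hs
    rw [Matrix.transpose_mul, Matrix.transpose_transpose] at this
    exact this

end Algebra

open MonObj

variable {k : Type u} [Field k] {n : ℕ} {X Y : Over (Spec (CommRingCat.of k))}

/-- The matrix of a point of `GL_n` on a spectrum. -/
noncomputable def mval {A : Type u} [CommRing A] (j : Spec (CommRingCat.of A) ⟶ Y.left) {R : Type u} [CommRing R]
    [Algebra A R] (z : toK (Tm j R) ⟶ FrB.GLn n (Spec (CommRingCat.of k))) : Matrix (Fin n) (Fin n) R :=
  (GLnPoints.matOf z).map (Scheme.ΓSpecIso (CommRingCat.of R)).hom.hom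

theorem mval_mul {A : Type u} [CommRing A] (j : Spec (CommRingCat.of A) ⟶ Y.left) {R : Type u} [CommRing R]
    [Algebra A R] (z w : toK (Tm j R) ⟶ FrB.GLn n (Spec (CommRingCat.of k))) :
    mval j (z * w) = mval j z * mval j w :=
  (congrArg (fun N : Matrix (Fin n) (Fin n) Γ(Spec (CommRingCat.of R), ⊤) =>
    N.map (Scheme.ΓSpecIso (CommRingCat.of R)).hom.hom) (GLnPoints.matOf_mul z w)).trans Matrix.map_mul

theorem mval_comp {A : Type u} [CommRing A] (j : Spec (CommRingCat.of A) ⟶ Y.left) {R R' : Type u} [CommRing R]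
    [Algebra A R] [CommRing R'] [Algebra A R'] (θ : R →+* R') (h : θ.comp (algebraMap A R) = algebraMap A R')
    (z : toK (Tm j R) ⟶ FrB.GLn n (Spec (CommRingCat.of k))) : mval j (toKm (em j θ h) ≫ z) = (mval j z).map θ := by
  refine Matrix.ext fun i l => ?_
  exact val_map j θ h (GLnPoints.matOf z i l)

theorem mval_injective {A : Type u} [CommRing A] (j : Spec (CommRingCat.of A) ⟶ Y.left) {R : Type u} [CommRing R]
    [Algebra A R] {z w : toK (Tm j R) ⟶ FrB.GLn n (Spec (CommRingCat.of k))} (h : mval j z = mval j w) : z = w :=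
  GLnPoints.matOf_injective (Matrix.ext fun i l => val_injective R (congrFun (congrFun h i) l))

theorem mval_one {A : Type u} [CommRing A] (j : Spec (CommRingCat.of A) ⟶ Y.left) {R : Type u} [CommRing R]
    [Algebra A R] : mval (k := k) (Y := Y) (n := n) j (1 : toK (Tm j R) ⟶ FrB.GLn n (Spec (CommRingCat.of k))) = 1 :=
  (congrArg (fun N : Matrix (Fin n) (Fin n) Γ(Spec (CommRingCat.of R), ⊤) =>
    N.map (Scheme.ΓSpecIso (CommRingCat.of R)).hom.hom) GLnPoints.matOf_one).trans
    (Matrix.map_one _ (map_zero _) (map_one _))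

theorem isUnit_mval {A : Type u} [CommRing A] (j : Spec (CommRingCat.of A) ⟶ Y.left) {R : Type u} [CommRing R]
    [Algebra A R] (z : toK (Tm j R) ⟶ FrB.GLn n (Spec (CommRingCat.of k))) : IsUnit (mval j z) :=
  ⟨⟨mval j z, mval j z⁻¹, by rw [← mval_mul, mul_inv_cancel, mval_one], by rw [← mval_mul, inv_mul_cancel, mval_one]⟩, rfl⟩

theorem exists_mval {A : Type u} [CommRing A] (j : Spec (CommRingCat.of A) ⟶ Y.left) {R : Type u} [CommRing R]
    [Algebra A R] (M : Matrix (Fin n) (Fin n) R) (hM : IsUnit M.det) :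
    ∃ z : toK (Tm j R) ⟶ FrB.GLn n (Spec (CommRingCat.of k)), mval j z = M := by
  let e := (Scheme.ΓSpecIso (CommRingCat.of R)).inv.hom
  obtain ⟨z, hz⟩ := GLnPoints.exists_matOf (X := toK (Tm j R)) (S := Spec (CommRingCat.of k)) (M.map e)
    (show IsUnit (e.mapMatrix M).det by rw [← RingHom.map_det]; exact hM.map e)
  refine ⟨z, (congrArg (fun N : Matrix (Fin n) (Fin n) Γ(Spec (CommRingCat.of R), ⊤) =>
    N.map (Scheme.ΓSpecIso (CommRingCat.of R)).hom.hom) hz).trans (Matrix.ext fun i l => ?_)⟩
  exact ConcreteCategory.congr_hom (Scheme.ΓSpecIso (CommRingCat.of R)).inv_hom_id (M i l)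

set_option maxHeartbeats 4000000 in
/-- The general linear group is special. -/
theorem special_GLn : Special (FrB.GLn n (Spec (CommRingCat.of k))) := by
  intro X Y a φ hcart hloc
  refine zariski_of_local φ fun U hU p => ?_
  haveI := hU.isOpenImmersion_fromSpec
  let A := Γ(Y.left, U)
  let j : Spec (CommRingCat.of A) ⟶ Y.left := hU.fromSpec
  obtain ⟨B, _, _, hB, ⟨x⟩⟩ := RelPoints.exists_algebra_point φ (A := A) j hloc
  obtain ⟨g, hg, hcoc⟩ := RelPoints.exists_cocycle a φ hcart j B x
  have hη : (mval j g).map (d23 (R := A) (R' := B)) * (mval j g).map d12 = (mval j g).map d13 := by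
    have e12 : mval j (toKm (q12 j B) ≫ g) = (mval j g).map d12 :=
      mval_comp (R := T2 A B) (R' := T3 A B) j d12 (d12_comp B) g
    have e23 : mval j (toKm (q23 j B) ≫ g) = (mval j g).map d23 :=
      mval_comp (R := T2 A B) (R' := T3 A B) j d23 (d23_comp B) g
    have e13 : mval j (toKm (q13 j B) ≫ g) = (mval j g).map d13 :=
      mval_comp (R := T2 A B) (R' := T3 A B) j d13 (d13_comp B) g
    have h := congrArg (mval j) hcoc
    rw [mval_mul, e12, e23, e13] at h
    exact h
  obtain ⟨f, hf, V, y, hy, hc⟩ := exists_local_primitive (mval j g) (isUnit_mval j g) hη p.asIdeal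
  let R₁ := Localization.Away f
  let B' := Localization.Away f ⊗[A] B
  refine ⟨Spec (CommRingCat.of R₁), Spec.map (CommRingCat.ofHom (algebraMap A R₁)),
    IsOpenImmersion.of_isLocalization f, ?_, ?_⟩
  · show p ∈ Set.range (PrimeSpectrum.comap (algebraMap A R₁))
    rw [PrimeSpectrum.localization_away_comap_range R₁ f]
    exact hf
  let θ : B →+* B' := (Algebra.TensorProduct.includeRight : B →ₐ[A] B').toRingHom
  have hθA : θ.comp (algebraMap A B) = algebraMap A B' :=
    RingHom.ext fun r => (Algebra.TensorProduct.includeRight : B →ₐ[A] B').commutes r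
  have hcu : IsUnit (V.map θ).det := by
    rw [show (V.map θ).det = θ V.det from (θ.map_det V).symm]
    have h : IsUnit (θ (algebraMap A B f)) := by
      rw [← RingHom.comp_apply, hθA, IsScalarTower.algebraMap_apply A R₁ B']
      exact (IsLocalization.Away.algebraMap_isUnit f).map _
    rw [← hy, map_mul] at h
    exact isUnit_of_mul_isUnit_left h
  obtain ⟨v, hv⟩ := exists_mval (k := k) (Y := Y) j (R := B') (V.map θ) hcu
  obtain ⟨ψ, hψA, hψ1, hψ2⟩ := exists_double (A := A) R₁ B' (Algebra.TensorProduct.includeRight : B →ₐ[A] B')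
  haveI : Module.FaithfullyFlat R₁ B' := inferInstance
  have key : (mval j g).map ψ * (V.map θ).map i1 = (V.map θ).map (i2 (R := R₁) (R' := B')) := by
    have h := congrArg (fun N : Matrix (Fin n) (Fin n) (T2 A B) => N.map ψ) hc
    simp only [Matrix.map_mul, Matrix.map_map] at h
    rw [show (ψ : T2 A B → T2 R₁ B') ∘ i1 = (i1 (R := R₁) (R' := B')) ∘ θ from congrArg DFunLike.coe hψ1,
      show (ψ : T2 A B → T2 R₁ B') ∘ i2 = (i2 (R := R₁) (R' := B')) ∘ θ from congrArg DFunLike.coe hψ2] at h
    rw [Matrix.map_map, Matrix.map_map]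
    exact h
  refine RelPoints.hasSection_of_coboundary a φ hcart j R₁ B' x g hg θ hθA ψ hψA hψ1 hψ2 v⁻¹ fun h1 h2 => ?_
  have hi : toKm (em j i2 h2) ≫ v = (toKm (em j ψ hψA) ≫ g) * (toKm (em j i1 h1) ≫ v) := by
    refine mval_injective j ?_
    rw [mval_mul, mval_comp, mval_comp, mval_comp, hv, key]
  rw [GrpObj.comp_inv, GrpObj.comp_inv]
  exact RelPoints.inv_eq_inv_mul_of hi

end Groth.Agent.AlgGrpLib.SpecialGL
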