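import Groth.Agent.AlgGrpLib.RelPoints
import Groth.Agent.AlgGrpLib.SpecialGL
import Groth.Agent.AlgGrpLib.GeomPoints
import Groth.Agent.AlgGrpLib.PointsProdField
import Groth.Agent.AlgGrpLib.SolvableSpecial
import Groth.Agent.AlgGrpLib.FiniteEtaleMultisection
import Groth.Agent.S16480
import Groth.Agent.S3279
import Groth.Agent.DynLib.Field

/-!
Torsors under smooth affine groups (in particular affine groups in characteristic zero) are locally isotrivial.
-/

set_option autoImplicit false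
set_option backward.isDefEq.respectTransparency.types false
set_option maxHeartbeats 1000000
set_option synthInstance.maxHeartbeats 400000

universe u

open CategoryTheory CategoryTheory.Limits MonoidalCategory CartesianMonoidalCategory AlgebraicGeometry
open TensorProduct
open Groth.Agent.CommAlg4.WittDescMat Groth.Agent.CAlgH3.FpqcTorsorLocal
open Groth.Agent.AlgGrpLib.RelPoints

namespace Groth.Agent.AlgGrpLib.LocIsotrivial

open MonObj

variable {k : Type u} [Field k]

theorem isAffine_GLn (n : ℕ) : IsAffine (FrB.GLn n (Spec (CommRingCat.of k))).left := by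
  haveI : IsAffine (FrB.GLZ.{u} n).left := inferInstanceAs (IsAffine (Spec _))
  haveI : IsAffineHom (FrB.GLn n (Spec (CommRingCat.of k))).hom :=
    MorphismProperty.pullback_snd (P := @IsAffineHom) _ _ (isAffineHom_of_isAffine _)
  exact isAffine_of_isAffineHom (FrB.GLn n (Spec (CommRingCat.of k))).hom

theorem locallyOfFiniteType_GLn (n : ℕ) : LocallyOfFiniteType (FrB.GLn n (Spec (CommRingCat.of k))).hom := by
  haveI : LocallyOfFiniteType (FrB.GLZ.{u} n).hom := by
    refine (HasRingHomProperty.Spec_iff (P := @LocallyOfFiniteType)).2 ?_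
    exact RingHom.finiteType_algebraMap.2 (show Algebra.FiniteType (ULift.{u} ℤ) (CoordGrp.GLn n (ULift.{u} ℤ)) by
      haveI : Algebra.FiniteType (ULift.{u} ℤ) (CoordGrp.GLb n (ULift.{u} ℤ)) :=
        show Algebra.FiniteType (ULift.{u} ℤ) (MvPolynomial (CoordGrp.GLPoly.Idx n) (ULift.{u} ℤ)) from inferInstance
      exact (Algebra.FiniteType.of_surjective (CoordGrp.GLn.mk n (ULift.{u} ℤ)) Ideal.Quotient.mk_surjective))
  exact MorphismProperty.pullback_snd (P := @LocallyOfFiniteType) _ _ inferInstance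

/-- An affine algebraic group embeds into a general linear group. -/
theorem exists_embedding (G : Over (Spec (CommRingCat.of k))) [GrpObj G] [IsAffine G.left]
    [LocallyOfFiniteType G.hom] :
    ∃ (n : ℕ) (i : G ⟶ FrB.GLn n (Spec (CommRingCat.of k))), IsMonHom i ∧ Mono i := by
  obtain ⟨A, _, _, e, he, _⟩ := Groth.Agent.HopfQuot.exists_spec (k := k) G
  haveI : IsIso e.left := inferInstanceAs (IsIso ((Over.forget _).map e))
  haveI : LocallyOfFiniteType (Groth.Agent.HopfQuot.spec (k := k) A).hom := by rw [← Over.w e]; infer_instance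
  haveI : Algebra.FiniteType k A := RingHom.finiteType_algebraMap.1
    ((HasRingHomProperty.Spec_iff (P := @LocallyOfFiniteType) (φ := CommRingCat.ofHom (algebraMap k A))).1
      ‹LocallyOfFiniteType (Groth.Agent.HopfQuot.spec (k := k) A).hom›)
  obtain ⟨n, π, hπ⟩ := Groth.Agent.S16480.result k A
  let M : Matrix (Fin n) (Fin n) A := fun i j => π (CoordGrp.GLn.X i j)
  have hdet : M.det = π CoordGrp.GLn.det := by
    rw [GLnPoints.det_eq]
    exact ((π : CoordGrp.GLn n k →ₐ[k] A).map_det _).symm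
  have hunit : IsUnit M.det := by
    rw [hdet]
    exact IsUnit.of_mul_eq_one _ (by rw [← map_mul, CoordGrp.GLn.det_mul_Dinv, map_one])
  obtain ⟨ψ, hψ, hψm⟩ := GLnPoints.exists_hom_of_matrix (k := k) M hunit (fun i j => by
    show CoalgebraStruct.comul (π (CoordGrp.GLn.X i j)) = _
    rw [← CoalgHomClass.map_comp_comul_apply π, GLnPoints.comul_X, map_sum]
    exact Finset.sum_congr rfl fun l _ => TensorProduct.map_tmul _ _ _ _)
  haveI := he
  haveI := hψ
  haveI : Mono ψ := ⟨fun {T} x y h => by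
    refine Over.OverMorphism.ext ?_
    rw [GLnPoints.eq_toSpecΓ x.left, GLnPoints.eq_toSpecΓ y.left]
    congr 2
    refine CommRingCat.hom_ext ?_
    let θx : A →+* Γ(T.left, ⊤) := x.left.appTop.hom.comp (Scheme.ΓSpecIso (CommRingCat.of A)).inv.hom
    let θy : A →+* Γ(T.left, ⊤) := y.left.appTop.hom.comp (Scheme.ΓSpecIso (CommRingCat.of A)).inv.hom
    show θx = θy
    have hm : ∀ i j, θx (M i j) = θy (M i j) := fun i j => by
      have h1 := congrArg GLnPoints.matOf h
      rw [GLnPoints.matOf_comp, GLnPoints.matOf_comp, hψm] at h1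
      exact congrFun (congrFun h1 i) j
    have hdet' : θx M.det = θy M.det := by
      rw [RingHom.map_det, RingHom.map_det]
      exact congrArg Matrix.det (Matrix.ext hm)
    have hc : ∀ c : k, θx (algebraMap k A c) = θy (algebraMap k A c) := fun c => by
      have key : ∀ z : T ⟶ Groth.Agent.HopfQuot.spec (k := k) A,
          z.left.appTop ((Scheme.ΓSpecIso (CommRingCat.of A)).inv (algebraMap k A c)) =
            T.hom.appTop ((Scheme.ΓSpecIso (CommRingCat.of k)).inv c) := fun z => by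
        have e := congrArg (fun f : T.left ⟶ Spec (CommRingCat.of k) => f.appTop) (Over.w z)
        simp only [Scheme.Hom.comp_appTop] at e
        rw [← e]
        exact congrArg z.left.appTop (congrArg (fun f => f.hom c)
          (Scheme.ΓSpecIso_inv_naturality (CommRingCat.ofHom (algebraMap k A))))
      exact (key x).trans (key y).symm
    refine RingHom.ext fun a => ?_
    obtain ⟨q, rfl⟩ := hπ a
    obtain ⟨p, rfl⟩ : ∃ p, CoordGrp.GLn.mk n k p = q := Ideal.Quotient.mk_surjective q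
    let F : (A →+* Γ(T.left, ⊤)) → (MvPolynomial (CoordGrp.GLPoly.Idx n) k →+* Γ(T.left, ⊤)) := fun θ =>
      θ.comp ((π : CoordGrp.GLn n k →ₐ[k] A).comp (CoordGrp.GLn.mk n k)).toRingHom
    show F θx p = F θy p
    refine DFunLike.congr_fun (MvPolynomial.ringHom_ext (fun c => ?_) fun v => ?_) p
    · have : π (CoordGrp.GLn.mk n k (MvPolynomial.C c)) = algebraMap k A c :=
        ((π : CoordGrp.GLn n k →ₐ[k] A).comp (CoordGrp.GLn.mk n k)).commutes c
      show θx (π (CoordGrp.GLn.mk n k (MvPolynomial.C c))) = θy (π (CoordGrp.GLn.mk n k (MvPolynomial.C c)))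
      rw [this]; exact hc c
    · rcases v with ⟨i, j⟩ | u
      · exact hm i j
      · show θx (π CoordGrp.GLn.Dinv) = θy (π CoordGrp.GLn.Dinv)
        have h1 : M.det * π CoordGrp.GLn.Dinv = 1 := by rw [hdet, ← map_mul, CoordGrp.GLn.det_mul_Dinv, map_one]
        refine left_inv_eq_right_inv (a := θx M.det) ?_ ?_
        · rw [← map_mul, mul_comm, h1, map_one]
        · rw [hdet', ← map_mul, h1, map_one]⟩
  exact ⟨n, CategoryTheory.inv e ≫ ψ,
    (haveI : IsMonHom (CategoryTheory.inv e) := inferInstanceAs (IsMonHom (asIso e).inv); inferInstance), mono_comp _ _⟩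

theorem act_orbit {G Z : Over (Spec (CommRingCat.of k))} [GrpObj G] (a : AlgGrp.Action G Z)
    (o : 𝟙_ (Over (Spec (CommRingCat.of k))) ⟶ Z) {T : Over (Spec (CommRingCat.of k))} (m g : T ⟶ G) :
    (m * g) ≫ a.orbitMap o = lift m (g ≫ a.orbitMap o) ≫ a.act := by
  have h : ∀ x : T ⟶ G, x ≫ a.orbitMap o = lift x (toUnit T ≫ o) ≫ a.act := fun x => by
    rw [AlgGrp.Action.orbitMap, ← Category.assoc, comp_lift, Category.comp_id, ← Category.assoc, comp_toUnit]
  rw [h, h, SpecialExtension.act_mul]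

theorem exists_domain_open (Z : Scheme.{u}) [IsReduced Z] [IsLocallyNoetherian Z] [Nonempty Z] :
    ∃ (R : CommRingCat.{u}) (_ : IsDomain R) (j : Spec R ⟶ Z), IsOpenImmersion j := by
  obtain ⟨U, hU, hz, -⟩ := exists_isAffineOpen_mem_and_subset (x := Classical.arbitrary Z) (U := ⊤) trivial
  let A := Γ(Z, U)
  haveI : IsNoetherianRing A := IsLocallyNoetherian.component_noetherian ⟨U, hU⟩
  haveI : IsReduced (U : Scheme.{u}) := isReduced_of_isOpenImmersion U.ι
  haveI : _root_.IsReduced A := IsReduced.component_reduced U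
  haveI : Nontrivial A := by
    haveI : Nonempty U := ⟨⟨_, hz⟩⟩
    exact Scheme.component_nontrivial Z U
  have hfin := minimalPrimes.finite_of_isNoetherianRing A
  obtain ⟨m, hm⟩ := Ideal.exists_maximal A
  obtain ⟨p, hp, -⟩ := Ideal.exists_minimalPrimes_le (bot_le : ⊥ ≤ m)
  haveI := hp.1.1
  classical
  have hne : ∀ q ∈ hfin.toFinset.erase p, ∃ x : A, x ∈ q ∧ x ∉ p := fun q hq => by
    rw [Finset.mem_erase, Set.Finite.mem_toFinset] at hq
    by_contra hc
    push Not at hc
    exact hq.1 (le_antisymm hc (hp.2 hq.2.1 hc))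
  choose! x hx1 hx2 using hne
  let h : A := ∏ q ∈ hfin.toFinset.erase p, x q
  have hhp : h ∉ p := fun hh => by
    obtain ⟨q, hq, hq'⟩ := Ideal.IsPrime.prod_mem_iff.1 hh
    exact hx2 q hq hq'
  have key : ∀ a ∈ p, h * a = 0 := fun a ha => by
    have : h * a ∈ nilradical A := by
      rw [nilradical_eq_sInf, Ideal.mem_sInf]
      intro Q hQ
      haveI : Q.IsPrime := hQ
      obtain ⟨q, hq, hqQ⟩ := Ideal.exists_minimalPrimes_le (bot_le : ⊥ ≤ Q)
      refine hqQ ?_
      by_cases hqp : q = p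
      · exact Ideal.mul_mem_left _ _ (hqp ▸ ha)
      · refine Ideal.mul_mem_right _ _ ?_
        have hq' : q ∈ hfin.toFinset.erase p := Finset.mem_erase.2 ⟨hqp, hfin.mem_toFinset.2 hq⟩
        exact Ideal.mem_of_dvd _ (Finset.dvd_prod_of_mem x hq') (hx1 q hq')
    rwa [nilradical_eq_zero, Ideal.zero_eq_bot, Ideal.mem_bot] at this
  let L := Localization.Away h
  have hpow : ∀ t : Submonoid.powers h, (t : A) ∉ p := fun t ht => by
    obtain ⟨n, hn⟩ := t.2
    exact hhp (Ideal.IsPrime.mem_of_pow_mem inferInstance n (by simpa [hn] using ht))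
  haveI : Nontrivial L := by
    refine nontrivial_of_ne (1 : L) 0 fun e => ?_
    rw [← map_one (algebraMap A L), ← map_zero (algebraMap A L), IsLocalization.eq_iff_exists (Submonoid.powers h)] at e
    obtain ⟨t, ht⟩ := e
    rw [_root_.mul_one, mul_zero] at ht
    exact hpow t (ht ▸ zero_mem _)
  haveI : NoZeroDivisors L := ⟨fun {a b} hab => by
    obtain ⟨⟨a', s⟩, rfl⟩ := IsLocalization.mk'_surjective (Submonoid.powers h) a
    obtain ⟨⟨b', t⟩, rfl⟩ := IsLocalization.mk'_surjective (Submonoid.powers h) b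
    show IsLocalization.mk' L a' s = 0 ∨ IsLocalization.mk' L b' t = 0
    have hab' : IsLocalization.mk' L (a' * b') (s * t) = 0 := by
      rw [IsLocalization.mk'_mul]; exact hab
    obtain ⟨r, hr⟩ := (IsLocalization.mk'_eq_zero_iff _ _).1 hab'
    have hmem : (r : A) * (a' * b') ∈ p := by rw [hr]; exact zero_mem _
    rcases (inferInstance : p.IsPrime).mem_or_mem ((Ideal.IsPrime.mem_or_mem inferInstance hmem).resolve_left (hpow r)) with h' | h'
    · exact Or.inl ((IsLocalization.mk'_eq_zero_iff _ _).2 ⟨⟨h, Submonoid.mem_powers h⟩, key _ h'⟩)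
    · exact Or.inr ((IsLocalization.mk'_eq_zero_iff _ _).2 ⟨⟨h, Submonoid.mem_powers h⟩, key _ h'⟩)⟩
  haveI : IsDomain L := NoZeroDivisors.to_isDomain L
  haveI : IsOpenImmersion (Spec.map (CommRingCat.ofHom (algebraMap A L))) := IsOpenImmersion.of_isLocalization h
  haveI := hU.isOpenImmersion_fromSpec
  exact ⟨CommRingCat.of L, inferInstance, Spec.map (CommRingCat.ofHom (algebraMap A L)) ≫ hU.fromSpec, inferInstance⟩

theorem smooth_GLn (n : ℕ) : Smooth (FrB.GLn n (Spec (CommRingCat.of k))).hom := by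
  haveI : Smooth (FrB.GLZ.{u} n).hom := by
    refine (HasRingHomProperty.Spec_iff (P := @Smooth)).2 ?_
    haveI : Algebra.Smooth (ULift.{u} ℤ) (CoordGrp.GLn n (ULift.{u} ℤ)) := ⟨inferInstance, inferInstance⟩
    exact RingHom.smooth_algebraMap.2 this
  exact MorphismProperty.pullback_snd (P := @Smooth) _ _ inferInstance

/-- A flat surjective morphism to a reduced scheme has finite etale multisections over a nonempty open. -/
theorem exists_generic_multisection [CharZero k] {X Z : Over (Spec (CommRingCat.of k))}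
    [LocallyOfFiniteType X.hom] [LocallyOfFiniteType Z.hom] [IsReduced Z.left] [Nonempty Z.left]
    (π : X ⟶ Z) [Flat π.left] [Surjective π.left] :
    ∃ (V V' : Scheme.{u}) (j : V ⟶ Z.left) (f : V' ⟶ V) (w : V' ⟶ X.left), IsOpenImmersion j ∧ Nonempty V ∧
      IsFinite f ∧ Etale f ∧ Surjective f ∧ w ≫ π.left = f ≫ j := by
  haveI : IsLocallyNoetherian Z.left := LocallyOfFiniteType.isLocallyNoetherian Z.hom
  obtain ⟨R, hR, j, hj⟩ := exists_domain_open Z.left
  haveI := hR
  haveI := hj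
  haveI : LocallyOfFiniteType π.left := by
    haveI : LocallyOfFiniteType (π.left ≫ Z.hom) := by rw [Over.w π]; infer_instance
    exact locallyOfFiniteType_of_comp π.left Z.hom
  haveI : Surjective (pullback.snd π.left j) := MorphismProperty.pullback_snd _ _ inferInstance
  obtain ⟨q, -⟩ := (pullback.snd π.left j).surjective (Classical.arbitrary (Spec R))
  obtain ⟨W, hW, hqW, -⟩ := exists_isAffineOpen_mem_and_subset (x := q) (U := ⊤) trivial
  haveI := hW.isOpenImmersion_fromSpec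
  obtain ⟨θ, hθ⟩ := Spec.map_surjective (hW.fromSpec ≫ pullback.snd π.left j)
  haveI : Flat (Spec.map θ) := by rw [hθ]; infer_instance
  haveI : LocallyOfFiniteType (Spec.map θ) := by rw [hθ]; infer_instance
  let S := Γ(pullback π.left j, W)
  letI : Algebra R S := θ.hom.toAlgebra
  haveI : Module.Flat R S := RingHom.flat_algebraMap_iff.1 ((HasRingHomProperty.Spec_iff (P := @Flat)).1 ‹_›)
  haveI : Algebra.FiniteType R S :=
    RingHom.finiteType_algebraMap.1 ((HasRingHomProperty.Spec_iff (P := @LocallyOfFiniteType)).1 ‹_›)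
  haveI : Nonempty W := ⟨⟨q, hqW⟩⟩
  haveI : Nontrivial S := Scheme.component_nontrivial _ W
  haveI : CharZero R :=
    charZero_of_injective_ringHom (R := k) ((Scheme.ΓSpecIso R).hom.hom.comp
      (((j ≫ Z.hom).appTop).hom.comp (Scheme.ΓSpecIso (CommRingCat.of k)).inv.hom)).injective
  obtain ⟨s, hs, C, _, _, ψ, hfin, het, hsurj, hψ⟩ :=
    FiniteEtaleMultisection.exists_finite_etale_point (R := R) (S := S)
  haveI : IsOpenImmersion (Spec.map (CommRingCat.ofHom (algebraMap R (Localization.Away s)))) :=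
    IsOpenImmersion.of_isLocalization s
  refine ⟨Spec (CommRingCat.of (Localization.Away s)), Spec (CommRingCat.of C),
    Spec.map (CommRingCat.ofHom (algebraMap R (Localization.Away s))) ≫ j,
    Spec.map (CommRingCat.ofHom (algebraMap (Localization.Away s) C)),
    Spec.map (CommRingCat.ofHom ψ) ≫ hW.fromSpec ≫ pullback.fst π.left j, inferInstance, ?_, ?_, ?_, ?_, ?_⟩
  · haveI : Nontrivial (Localization.Away s) := (IsLocalization.injective (Localization.Away s)
      (powers_le_nonZeroDivisors_of_noZeroDivisors hs)).nontrivial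
    exact inferInstanceAs (Nonempty (PrimeSpectrum (Localization.Away s)))
  · exact (IsFinite.SpecMap_iff _).2 (RingHom.finite_algebraMap.2 hfin)
  · exact (HasRingHomProperty.Spec_iff (P := @Etale)).2 (RingHom.etale_algebraMap.2 het)
  · exact ⟨hsurj⟩
  · rw [Category.assoc, Category.assoc, pullback.condition, ← Category.assoc hW.fromSpec, ← hθ,
      ← Spec.map_comp_assoc, ← Spec.map_comp_assoc]
    congr 1
    exact congrArg Spec.map (CommRingCat.hom_ext hψ)

/-- A smooth surjective morphism to a reduced scheme has finite etale multisections over a nonempty open. -/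
theorem exists_generic_multisection_smooth {X Z : Over (Spec (CommRingCat.of k))}
    [LocallyOfFiniteType X.hom] [LocallyOfFiniteType Z.hom] [IsReduced Z.left] [Nonempty Z.left]
    (π : X ⟶ Z) [Smooth π.left] [Surjective π.left] :
    ∃ (V V' : Scheme.{u}) (j : V ⟶ Z.left) (f : V' ⟶ V) (w : V' ⟶ X.left), IsOpenImmersion j ∧ Nonempty V ∧
      IsFinite f ∧ Etale f ∧ Surjective f ∧ w ≫ π.left = f ≫ j := by
  haveI : IsLocallyNoetherian Z.left := LocallyOfFiniteType.isLocallyNoetherian Z.hom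
  obtain ⟨R, hR, j, hj⟩ := exists_domain_open Z.left
  haveI := hR
  haveI := hj
  haveI : LocallyOfFiniteType π.left := by
    haveI : LocallyOfFiniteType (π.left ≫ Z.hom) := by rw [Over.w π]; infer_instance
    exact locallyOfFiniteType_of_comp π.left Z.hom
  haveI : Surjective (pullback.snd π.left j) := MorphismProperty.pullback_snd _ _ inferInstance
  obtain ⟨q, -⟩ := (pullback.snd π.left j).surjective (Classical.arbitrary (Spec R))
  obtain ⟨W, hW, hqW, -⟩ := exists_isAffineOpen_mem_and_subset (x := q) (U := ⊤) trivial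
  haveI := hW.isOpenImmersion_fromSpec
  obtain ⟨θ, hθ⟩ := Spec.map_surjective (hW.fromSpec ≫ pullback.snd π.left j)
  haveI : Smooth (pullback.snd π.left j) := MorphismProperty.pullback_snd (P := @Smooth) _ _ inferInstance
  haveI : Smooth (Spec.map θ) := by rw [hθ]; infer_instance
  let S := Γ(pullback π.left j, W)
  letI : Algebra R S := θ.hom.toAlgebra
  haveI : Algebra.Smooth R S :=
    RingHom.smooth_algebraMap.1 ((HasRingHomProperty.Spec_iff (P := @Smooth)).1 ‹_›)
  haveI : Nonempty W := ⟨⟨q, hqW⟩⟩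
  haveI : Nontrivial S := Scheme.component_nontrivial _ W
  obtain ⟨s, hs, C, _, _, ψ, hfin, het, hsurj, hψ⟩ :=
    FiniteEtaleMultisection.exists_finite_etale_point_smooth (R := R) (S := S)
  haveI : IsOpenImmersion (Spec.map (CommRingCat.ofHom (algebraMap R (Localization.Away s)))) :=
    IsOpenImmersion.of_isLocalization s
  refine ⟨Spec (CommRingCat.of (Localization.Away s)), Spec (CommRingCat.of C),
    Spec.map (CommRingCat.ofHom (algebraMap R (Localization.Away s))) ≫ j,
    Spec.map (CommRingCat.ofHom (algebraMap (Localization.Away s) C)),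
    Spec.map (CommRingCat.ofHom ψ) ≫ hW.fromSpec ≫ pullback.fst π.left j, inferInstance, ?_, ?_, ?_, ?_, ?_⟩
  · haveI : Nontrivial (Localization.Away s) := (IsLocalization.injective (Localization.Away s)
      (powers_le_nonZeroDivisors_of_noZeroDivisors hs)).nontrivial
    exact inferInstanceAs (Nonempty (PrimeSpectrum (Localization.Away s)))
  · exact (IsFinite.SpecMap_iff _).2 (RingHom.finite_algebraMap.2 hfin)
  · exact (HasRingHomProperty.Spec_iff (P := @Etale)).2 (RingHom.etale_algebraMap.2 het)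
  · exact ⟨hsurj⟩
  · rw [Category.assoc, Category.assoc, pullback.condition, ← Category.assoc hW.fromSpec, ← hθ,
      ← Spec.map_comp_assoc, ← Spec.map_comp_assoc]
    congr 1
    exact congrArg Spec.map (CommRingCat.hom_ext hψ)

variable [IsAlgClosed k]

/-- Translates of a generic multisection of an orbit map cover the orbit. -/
theorem exists_multisection_of_generic {G Z : Over (Spec (CommRingCat.of k))} [GrpObj G]
    [LocallyOfFiniteType G.hom] [LocallyOfFiniteType Z.hom] [IsReduced Z.left]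
    (a : AlgGrp.Action G Z) (o : 𝟙_ (Over (Spec (CommRingCat.of k))) ⟶ Z)
    [Surjective (a.orbitMap o).left] (hgen : Nonempty Z.left → ∃ (V V' : Scheme.{u}) (j : V ⟶ Z.left) (f : V' ⟶ V) (w : V' ⟶ G.left),
      IsOpenImmersion j ∧ Nonempty V ∧ IsFinite f ∧ Etale f ∧ Surjective f ∧ w ≫ (a.orbitMap o).left = f ≫ j) (z : Z.left) :
    ∃ (V V' : Scheme.{u}) (j : V ⟶ Z.left) (f : V' ⟶ V) (w : V' ⟶ G.left), IsOpenImmersion j ∧ z ∈ Set.range j ∧
      IsFinite f ∧ Etale f ∧ Surjective f ∧ w ≫ (a.orbitMap o).left = f ≫ j := by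
  haveI : Nonempty Z.left := ⟨z⟩
  obtain ⟨V, V', j, f, w, hj, ⟨v⟩, hf1, hf2, hf3, hw⟩ := hgen inferInstance
  haveI := hj
  obtain ⟨p₀, hp₀⟩ := GeomPoints.exists_point_mem (K := k) Z (Set.range j)
    j.isOpenEmbedding.isOpen_range.isLocallyClosed ⟨j v, ⟨v, rfl⟩⟩
  obtain ⟨p₁, hp₁⟩ := GeomPoints.exists_point_mem (K := k) Z (closure {z})
    isClosed_closure.isLocallyClosed ⟨z, subset_closure rfl⟩
  obtain ⟨g₀, hg₀⟩ := GeomPoints.exists_lift_point (K := k) (a.orbitMap o) p₀
  obtain ⟨g₁, hg₁⟩ := GeomPoints.exists_lift_point (K := k) (a.orbitMap o) p₁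
  let c := SolvableSpecial.ptIso (k := k)
  let m : 𝟙_ (Over (Spec (CommRingCat.of k))) ⟶ G := (c.inv ≫ g₁) * (c.inv ≫ g₀)⁻¹
  let tr : ∀ (r : 𝟙_ (Over (Spec (CommRingCat.of k))) ⟶ G), Z ⟶ Z := fun r => lift (toUnit Z ≫ r) (𝟙 Z) ≫ a.act
  have htr : ∀ (r : 𝟙_ (Over (Spec (CommRingCat.of k))) ⟶ G) {T : Over (Spec (CommRingCat.of k))} (x : T ⟶ Z),
      x ≫ tr r = lift (toUnit T ≫ r) x ≫ a.act := fun r {T} x => by
    simp only [tr, ← Category.assoc, comp_lift, comp_toUnit, Category.comp_id]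
  have htt : ∀ r r' : 𝟙_ (Over (Spec (CommRingCat.of k))) ⟶ G, r' * r = 1 → tr r ≫ tr r' = 𝟙 Z := fun r r' e => by
    rw [htr r']
    show lift (toUnit Z ≫ r') (lift (toUnit Z ≫ r) (𝟙 Z) ≫ a.act) ≫ a.act = _
    rw [← SpecialExtension.act_mul, ← MonObj.comp_mul, e, MonObj.comp_one, SpecialExtension.act_one]
  let τ : Z ≅ Z := ⟨tr m, tr m⁻¹, htt _ _ (inv_mul_cancel m), htt _ _ (mul_inv_cancel m)⟩
  let L : G ⟶ G := (toUnit G ≫ m) * 𝟙 G
  have hL : L ≫ a.orbitMap o = a.orbitMap o ≫ τ.hom := by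
    show ((toUnit G ≫ m) * 𝟙 G) ≫ a.orbitMap o = _
    rw [act_orbit, Category.id_comp]
    exact (htr m (a.orbitMap o)).symm
  haveI : IsIso τ.hom.left := ((Over.forget (Spec (CommRingCat.of k))).mapIso τ).isIso_hom
  refine ⟨V, V', j ≫ τ.hom.left, f, w ≫ L.left, inferInstance, ?_, hf1, hf2, hf3, ?_⟩
  · have hpt : p₀ ≫ τ.hom = p₁ := by
      rw [← cancel_epi c.inv, show c.inv ≫ p₀ ≫ τ.hom = (c.inv ≫ p₀) ≫ tr m from (Category.assoc _ _ _).symm, htr,
        toUnit_unique (toUnit (𝟙_ (Over (Spec (CommRingCat.of k))))) (𝟙 _), Category.id_comp, ← hg₀, ← hg₁,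
        ← Category.assoc, ← Category.assoc, ← act_orbit]
      simp only [m, inv_mul_cancel_right]
    let y : Spec (CommRingCat.of k) := IsLocalRing.closedPoint k
    obtain ⟨v₀, hv₀⟩ := hp₀ y
    have h1 : p₁.left y ∈ Set.range (j ≫ τ.hom.left) :=
      ⟨v₀, by rw [Scheme.Hom.comp_apply, hv₀, ← Scheme.Hom.comp_apply, ← Over.comp_left, hpt]⟩
    exact ((specializes_iff_mem_closure.2 (hp₁ y)).mem_open
      (j ≫ τ.hom.left).isOpenEmbedding.isOpen_range h1)
  · rw [Category.assoc, ← Over.comp_left, hL, Over.comp_left, reassoc_of% hw]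


/-- Translates of a generic multisection of an orbit map cover the orbit. -/
theorem exists_multisection [CharZero k] {G Z : Over (Spec (CommRingCat.of k))} [GrpObj G]
    [LocallyOfFiniteType G.hom] [LocallyOfFiniteType Z.hom] [IsReduced Z.left]
    (a : AlgGrp.Action G Z) (o : 𝟙_ (Over (Spec (CommRingCat.of k))) ⟶ Z)
    [Flat (a.orbitMap o).left] [Surjective (a.orbitMap o).left] (z : Z.left) :
    ∃ (V V' : Scheme.{u}) (j : V ⟶ Z.left) (f : V' ⟶ V) (w : V' ⟶ G.left), IsOpenImmersion j ∧ z ∈ Set.range j ∧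
      IsFinite f ∧ Etale f ∧ Surjective f ∧ w ≫ (a.orbitMap o).left = f ≫ j := by
  exact exists_multisection_of_generic a o (fun h => haveI := h; exists_generic_multisection (a.orbitMap o)) z

/-- Translates of a generic multisection of an orbit map cover the orbit. -/
theorem exists_multisection_smooth {G Z : Over (Spec (CommRingCat.of k))} [GrpObj G]
    [LocallyOfFiniteType G.hom] [LocallyOfFiniteType Z.hom] [IsReduced Z.left]
    (a : AlgGrp.Action G Z) (o : 𝟙_ (Over (Spec (CommRingCat.of k))) ⟶ Z)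
    [Smooth (a.orbitMap o).left] [Surjective (a.orbitMap o).left] (z : Z.left) :
    ∃ (V V' : Scheme.{u}) (j : V ⟶ Z.left) (f : V' ⟶ V) (w : V' ⟶ G.left), IsOpenImmersion j ∧ z ∈ Set.range j ∧
      IsFinite f ∧ Etale f ∧ Surjective f ∧ w ≫ (a.orbitMap o).left = f ≫ j := by
  exact exists_multisection_of_generic a o (fun h => haveI := h; exists_generic_multisection_smooth (a.orbitMap o)) z

theorem mval_comp_mul {n : ℕ} {G Y : Over (Spec (CommRingCat.of k))} [GrpObj G]
    (i : G ⟶ FrB.GLn n (Spec (CommRingCat.of k))) [IsMonHom i] {A : Type u} [CommRing A]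
    (j : Spec (CommRingCat.of A) ⟶ Y.left) {R R' : Type u} [CommRing R] [Algebra A R] [CommRing R'] [Algebra A R']
    (θ θ' θ'' : R →+* R') (h : θ.comp (algebraMap A R) = algebraMap A R')
    (h' : θ'.comp (algebraMap A R) = algebraMap A R') (h'' : θ''.comp (algebraMap A R) = algebraMap A R')
    (g : toK (Tm j R) ⟶ G) (e : (toKm (em j θ h) ≫ g) * (toKm (em j θ' h') ≫ g) = toKm (em j θ'' h'') ≫ g) :
    (SpecialGL.mval j (g ≫ i)).map θ * (SpecialGL.mval j (g ≫ i)).map θ' = (SpecialGL.mval j (g ≫ i)).map θ'' := by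
  rw [← SpecialGL.mval_comp j θ h, ← SpecialGL.mval_comp j θ' h', ← SpecialGL.mval_comp j θ'' h'',
    ← SpecialGL.mval_mul, ← Category.assoc, ← Category.assoc, ← Category.assoc, ← MonObj.mul_comp _ _ i, e]

theorem isPullback_range {G H Z : Over (Spec (CommRingCat.of k))} [GrpObj G] [GrpObj H] {a : AlgGrp.Action G Z}
    {o : 𝟙_ (Over (Spec (CommRingCat.of k))) ⟶ Z} {i : H ⟶ G}
    (hsq : IsPullback (fst G H) ((G ◁ i) ≫ μ[G]) (a.orbitMap o) (a.orbitMap o))
    {T : Over (Spec (CommRingCat.of k))} (p p' : T ⟶ G) (e : p ≫ a.orbitMap o = p' ≫ a.orbitMap o) :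
    ∃ h : T ⟶ H, p * (h ≫ i) = p' := by
  refine ⟨hsq.lift p p' e ≫ snd G H, ?_⟩
  have h1 := hsq.lift_fst p p' e
  have h2 := hsq.lift_snd p p' e
  have h3 : lift p ((hsq.lift p p' e ≫ snd G H) ≫ i) = hsq.lift p p' e ≫ (G ◁ i) := by
    apply CartesianMonoidalCategory.hom_ext <;> simp [h1]
  rw [Hom.mul_def, h3, Category.assoc, h2]

theorem orbit_invariant {G H Z : Over (Spec (CommRingCat.of k))} [GrpObj G] [GrpObj H] {a : AlgGrp.Action G Z}
    {o : 𝟙_ (Over (Spec (CommRingCat.of k))) ⟶ Z} {i : H ⟶ G}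
    (hsq : IsPullback (fst G H) ((G ◁ i) ≫ μ[G]) (a.orbitMap o) (a.orbitMap o))
    {T : Over (Spec (CommRingCat.of k))} (p : T ⟶ G) (h : T ⟶ H) :
    (p * (h ≫ i)) ≫ a.orbitMap o = p ≫ a.orbitMap o := by
  have e := lift p h ≫= hsq.w
  rw [lift_fst_assoc] at e
  rw [e, Hom.mul_def, ← lift_whiskerLeft]
  simp only [Category.assoc]

set_option maxHeartbeats 4000000 in
/-- Torsors under smooth affine groups are locally isotrivial. -/
theorem locallyIsotrivial_smooth {G X Y : Over (Spec (CommRingCat.of k))} [GrpObj G] [IsAffine G.left]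
    [Smooth G.hom] (a : AlgGrp.Action G X) (φ : X ⟶ Y) (hcart : IsPullback a.act (snd G X) φ φ)
    (hloc : NonAbH1.IsLocallyTrivialFor Scheme.fpqcPrecoverage (Over.mk φ.left : Over Y.left)) (y₀ : Y.left) :
    ∃ (U : Y.left.Opens) (_ : y₀ ∈ U) (U' : Scheme.{u}) (f : U' ⟶ ↑U)
      (_ : IsFinite f) (_ : Etale f) (_ : Surjective f),
      NonAbH1.HasSectionOver (Over.mk φ.left : Over Y.left) (f ≫ U.ι) := by
  classical
  obtain ⟨n, i, hi, him⟩ := exists_embedding G
  haveI := hi
  haveI := him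
  haveI := isAffine_GLn (k := k) n
  haveI := locallyOfFiniteType_GLn (k := k) n
  haveI : IsAffineHom G.hom := isAffineHom_of_isAffine _
  obtain ⟨Z, b, o, hZl, -, hπf, hπs, hsq⟩ := S3279.result k (FrB.GLn n (Spec (CommRingCat.of k))) G i
  haveI := hZl
  haveI := hπf
  haveI := hπs
  haveI := smooth_GLn (k := k) n
  haveI : IsReduced (FrB.GLn n (Spec (CommRingCat.of k))).left :=
    AbSchLib.isReduced_of_smooth (FrB.GLn n (Spec (CommRingCat.of k))).hom
  haveI : QuasiCompact (FrB.GLn n (Spec (CommRingCat.of k))).hom := (quasiCompact_iff_compactSpace _).mpr inferInstance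
  haveI := AlgGrpLib.quasiCompact_left (b.orbitMap o)
  haveI : IsReduced Z.left := UnipStruct.isReduced_of_cover (b.orbitMap o)
  haveI : Smooth (b.orbitMap o).left := by
    have h : Smooth (fst (FrB.GLn n (Spec (CommRingCat.of k))) G).left :=
      MorphismProperty.pullback_fst (P := @Smooth) _ _ ‹Smooth G.hom›
    have hsqL : IsPullback ((FrB.GLn n (Spec (CommRingCat.of k)) ◁ i) ≫ μ[FrB.GLn n (Spec (CommRingCat.of k))]).left
        (fst (FrB.GLn n (Spec (CommRingCat.of k))) G).left (b.orbitMap o).left (b.orbitMap o).left :=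
      (hsq.map (Over.forget _)).flip
    exact MorphismProperty.of_isPullback_of_descendsAlong (P := @Smooth) (Q := @Surjective ⊓ @Flat ⊓ @QuasiCompact)
      hsqL.flip ⟨⟨inferInstance, inferInstance⟩, inferInstance⟩ h
  obtain ⟨U, hU, hyU, -⟩ := exists_isAffineOpen_mem_and_subset (x := y₀) (U := ⊤) trivial
  haveI := hU.isOpenImmersion_fromSpec
  obtain ⟨p, hp⟩ : y₀ ∈ Set.range hU.fromSpec := by rw [hU.range_fromSpec]; exact hyU
  let A := Γ(Y.left, U)
  let j : Spec (CommRingCat.of A) ⟶ Y.left := hU.fromSpec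
  obtain ⟨B, _, _, hB, ⟨x⟩⟩ := RelPoints.exists_algebra_point φ (A := A) j hloc
  obtain ⟨g, hg, hcoc⟩ := RelPoints.exists_cocycle a φ hcart j B x
  let M := SpecialGL.mval j (g ≫ i)
  have hη : M.map (d23 (R := A) (R' := B)) * M.map d12 = M.map d13 :=
    mval_comp_mul (R := T2 A B) (R' := T3 A B) i j d23 d12 d13 (d23_comp B) (d12_comp B) (d13_comp B) g hcoc
  obtain ⟨f, hf, V, y, hy, hc⟩ := SpecialGL.exists_local_primitive M (SpecialGL.isUnit_mval j (g ≫ i)) hη p.asIdeal
  let R₁ := Localization.Away f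
  let B' := Localization.Away f ⊗[A] B
  let θ : B →+* B' := (Algebra.TensorProduct.includeRight : B →ₐ[A] B').toRingHom
  have hθA : θ.comp (algebraMap A B) = algebraMap A B' :=
    RingHom.ext fun r => (Algebra.TensorProduct.includeRight : B →ₐ[A] B').commutes r
  have hcu : IsUnit (V.map θ).det := by
    rw [show (V.map θ).det = θ V.det from (θ.map_det V).symm]
    have h : IsUnit (θ (algebraMap A B f)) := by
      rw [← RingHom.comp_apply, hθA, IsScalarTower.algebraMap_apply A R₁ B']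
      exact (IsLocalization.Away.algebraMap_isUnit f).map _
    rw [← hy, map_mul] at h
    exact isUnit_of_mul_isUnit_left h
  obtain ⟨v, hv⟩ := SpecialGL.exists_mval (k := k) (Y := Y) j (R := B') (V.map θ) hcu
  obtain ⟨ψ, hψA, hψ1, hψ2⟩ := exists_double (A := A) R₁ B' (Algebra.TensorProduct.includeRight : B →ₐ[A] B')
  haveI : Module.FaithfullyFlat R₁ B' := inferInstance
  have h1A : (i1 (R := R₁) (R' := B')).comp (algebraMap A B') = algebraMap A (T2 R₁ B') := by
    rw [IsScalarTower.algebraMap_eq A R₁ B', ← RingHom.comp_assoc, i1_comp, ← IsScalarTower.algebraMap_eq]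
  have h2A : (i2 (R := R₁) (R' := B')).comp (algebraMap A B') = algebraMap A (T2 R₁ B') := by
    rw [IsScalarTower.algebraMap_eq A R₁ B', ← RingHom.comp_assoc, i2_comp, ← IsScalarTower.algebraMap_eq]
  have key : M.map ψ * (V.map θ).map i1 = (V.map θ).map (i2 (R := R₁) (R' := B')) := by
    have h := congrArg (fun N : Matrix (Fin n) (Fin n) (T2 A B) => N.map ψ) hc
    simp only [Matrix.map_mul, Matrix.map_map] at h
    rw [show (ψ : T2 A B → T2 R₁ B') ∘ i1 = (i1 (R := R₁) (R' := B')) ∘ θ from congrArg DFunLike.coe hψ1,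
      show (ψ : T2 A B → T2 R₁ B') ∘ i2 = (i2 (R := R₁) (R' := B')) ∘ θ from congrArg DFunLike.coe hψ2] at h
    rw [Matrix.map_map, Matrix.map_map]
    exact h
  let e1 : Tm j (T2 R₁ B') ⟶ Tm j B' := em j i1 h1A
  let e2 : Tm j (T2 R₁ B') ⟶ Tm j B' := em j i2 h2A
  let eψ : Tm j (T2 R₁ B') ⟶ Tm j (T2 A B) := em j ψ hψA
  let eθ : Tm j B' ⟶ Tm j B := em j θ hθA
  have hv' : toKm e1 ≫ v⁻¹ = (toKm e2 ≫ v⁻¹) * ((toKm eψ ≫ g) ≫ i) := by
    have hi2 : toKm e2 ≫ v = ((toKm eψ ≫ g) ≫ i) * (toKm e1 ≫ v) := by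
      refine SpecialGL.mval_injective j ?_
      rw [SpecialGL.mval_mul, Category.assoc, SpecialGL.mval_comp j _ h2A, SpecialGL.mval_comp j _ hψA,
        SpecialGL.mval_comp j _ h1A, hv]
      exact key.symm
    rw [GrpObj.comp_inv, GrpObj.comp_inv]
    exact RelPoints.inv_eq_inv_mul_of hi2
  -- the point of the homogeneous space over the localisation
  let π₁ : Spec (CommRingCat.of B') ⟶ Spec (CommRingCat.of R₁) := Spec.map (CommRingCat.ofHom (algebraMap R₁ B'))
  haveI : Flat π₁ := by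
    rw [HasRingHomProperty.Spec_iff (P := @Flat)]
    exact RingHom.flat_algebraMap_iff.2 inferInstance
  haveI : Surjective π₁ := ⟨fun q => PrimeSpectrum.comap_surjective_of_faithfullyFlat (A := R₁) (B := B') q⟩
  let zB : Spec (CommRingCat.of B') ⟶ Z.left := (v⁻¹ ≫ b.orbitMap o).left
  have hz12 : Spec.map (CommRingCat.ofHom (i1 (R := R₁) (R' := B'))) ≫ zB =
      Spec.map (CommRingCat.ofHom (i2 (R := R₁) (R' := B'))) ≫ zB := by
    have h : toKm e1 ≫ v⁻¹ ≫ b.orbitMap o = toKm e2 ≫ v⁻¹ ≫ b.orbitMap o := by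
      rw [← Category.assoc, hv', orbit_invariant hsq, Category.assoc]
    exact congrArg (fun m : toK (Tm j (T2 R₁ B')) ⟶ Z => m.left) h
  have hcond : ∀ {W : Scheme.{u}} (g₁ g₂ : W ⟶ Spec (CommRingCat.of B')), g₁ ≫ π₁ = g₂ ≫ π₁ → g₁ ≫ zB = g₂ ≫ zB := by
    intro W g₁ g₂ h
    have e : pullback.fst π₁ π₁ ≫ zB = pullback.snd π₁ π₁ ≫ zB := by
      rw [← cancel_epi (pullbackSpecIso R₁ B' B').inv, ← Category.assoc, ← Category.assoc]
      erw [pullbackSpecIso_inv_fst, pullbackSpecIso_inv_snd]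
      exact hz12
    rw [← pullback.lift_fst g₁ g₂ h, Category.assoc, e, ← Category.assoc, pullback.lift_snd]
  let jR : Spec (CommRingCat.of R₁) ⟶ Y.left := Spec.map (CommRingCat.ofHom (algebraMap A R₁)) ≫ j
  have hjR : π₁ ≫ jR = (Tm j B').hom := by
    show π₁ ≫ Spec.map (CommRingCat.ofHom (algebraMap A R₁)) ≫ j = Spec.map (CommRingCat.ofHom (algebraMap A B')) ≫ j
    rw [← Spec.map_comp_assoc, ← CommRingCat.ofHom_comp, ← IsScalarTower.algebraMap_eq]
  let zR : Spec (CommRingCat.of R₁) ⟶ Z.left := EffectiveEpi.desc π₁ zB fun g₁ g₂ h => hcond g₁ g₂ h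
  have hzR : π₁ ≫ zR = zB := EffectiveEpi.fac _ _ _
  have hzRk : zR ≫ Z.hom = jR ≫ Y.hom := by
    rw [← cancel_epi π₁, reassoc_of% hzR, reassoc_of% hjR]
    exact Over.w (v⁻¹ ≫ b.orbitMap o)
  obtain ⟨p₁, hp₁⟩ : p ∈ Set.range (Spec.map (CommRingCat.ofHom (algebraMap A R₁))) := by
    show p ∈ Set.range (PrimeSpectrum.comap (algebraMap A R₁))
    rw [PrimeSpectrum.localization_away_comap_range R₁ f]
    exact hf
  obtain ⟨Vz, Vz', jz, fz, wz, hjz, ⟨vz, hvz⟩, hfz1, hfz2, hfz3, hwz⟩ := exists_multisection_smooth b o (zR p₁)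
  haveI := hjz
  haveI := hfz1
  haveI := hfz2
  haveI := hfz3
  haveI : IsOpenImmersion (Spec.map (CommRingCat.ofHom (algebraMap A R₁))) := IsOpenImmersion.of_isLocalization f
  haveI : IsOpenImmersion (Spec.map (CommRingCat.ofHom (algebraMap A R₁)) ≫ j) := inferInstance
  let o₁ := pullback.fst zR jz
  haveI : IsOpenImmersion (o₁ ≫ jR) := inferInstance
  obtain ⟨q, hq, -⟩ := Scheme.Pullback.exists_preimage_pullback (f := zR) (g := jz) p₁ vz hvz.symm
  refine ⟨(o₁ ≫ jR).opensRange, ⟨q, ?_⟩, pullback (pullback.snd zR jz) fz,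
    pullback.fst (pullback.snd zR jz) fz ≫ (IsOpenImmersion.isoOfRangeEq (o₁ ≫ jR) (o₁ ≫ jR).opensRange.ι
      (by rw [Scheme.Opens.range_ι]; rfl)).hom, ?_, ?_, ?_, ?_⟩
  · show (o₁ ≫ Spec.map (CommRingCat.ofHom (algebraMap A R₁)) ≫ j) q = y₀
    rw [Scheme.Hom.comp_apply, Scheme.Hom.comp_apply, hq, hp₁]
    exact hp
  · infer_instance
  · infer_instance
  · infer_instance
  rw [Category.assoc, IsOpenImmersion.isoOfRangeEq_hom_fac]
  let U' := pullback (pullback.snd zR jz) fz
  let u₁ : U' ⟶ Spec (CommRingCat.of R₁) := pullback.fst (pullback.snd zR jz) fz ≫ o₁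
  let c₀ := pullback.fst u₁ π₁
  haveI : Flat c₀ := MorphismProperty.pullback_fst _ _ inferInstance
  haveI : Surjective c₀ := MorphismProperty.pullback_fst _ _ inferInstance
  haveI : QuasiCompact c₀ := MorphismProperty.pullback_fst (P := @QuasiCompact) _ _ inferInstance
  let T : Over Y.left := Over.mk (c₀ ≫ u₁ ≫ jR)
  let bm : T ⟶ Tm j B' := Over.homMk (pullback.snd u₁ π₁) (by
    show pullback.snd u₁ π₁ ≫ (Tm j B').hom = c₀ ≫ u₁ ≫ jR
    rw [← hjR, ← Category.assoc, ← pullback.condition, Category.assoc])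
  have hwk : (c₀ ≫ pullback.snd (pullback.snd zR jz) fz ≫ wz) ≫ (b.orbitMap o).left = pullback.snd u₁ π₁ ≫ zB := by
    rw [← hzR, Category.assoc, Category.assoc, hwz, ← Category.assoc (pullback.snd _ fz), ← pullback.condition,
      Category.assoc, ← pullback.condition, ← Category.assoc (pullback.snd u₁ π₁), ← pullback.condition]
    simp only [c₀, u₁, o₁, Category.assoc]
  have hwk' : (c₀ ≫ pullback.snd (pullback.snd zR jz) fz ≫ wz) ≫ (FrB.GLn n (Spec (CommRingCat.of k))).hom =
      (c₀ ≫ u₁ ≫ jR) ≫ Y.hom := by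
    rw [← Over.w (b.orbitMap o), ← Category.assoc _ _ Z.hom, hwk, ← hzR, Category.assoc, Category.assoc, hzRk,
      ← Category.assoc (pullback.snd u₁ π₁), ← pullback.condition]
    simp only [c₀, Category.assoc]
  let w' : toK T ⟶ FrB.GLn n (Spec (CommRingCat.of k)) :=
    Over.homMk (c₀ ≫ pullback.snd (pullback.snd zR jz) fz ≫ wz) hwk'
  obtain ⟨h, hh⟩ := isPullback_range hsq w' (toKm bm ≫ v⁻¹) (Over.OverMorphism.ext hwk)
  let x' : T ⟶ Over.mk φ.left := RelPoints.act a φ hcart h (bm ≫ eθ ≫ x)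
  have hdesc : ∀ {W : Scheme.{u}} (g₁ g₂ : W ⟶ T.left), g₁ ≫ c₀ = g₂ ≫ c₀ → g₁ ≫ x'.left = g₂ ≫ x'.left := by
    intro W g₁ g₂ e
    let T₂ : Over Y.left := Over.mk (g₁ ≫ T.hom)
    let b₁ : T₂ ⟶ T := Over.homMk g₁ rfl
    let b₂ : T₂ ⟶ T := Over.homMk g₂ (by
      show g₂ ≫ c₀ ≫ u₁ ≫ jR = g₁ ≫ c₀ ≫ u₁ ≫ jR
      rw [reassoc_of% e])
    show (b₁ ≫ x').left = (b₂ ≫ x').left
    have hpi : (g₁ ≫ pullback.snd u₁ π₁) ≫ π₁ = (g₂ ≫ pullback.snd u₁ π₁) ≫ π₁ := by
      rw [Category.assoc, Category.assoc, ← pullback.condition]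
      show g₁ ≫ c₀ ≫ u₁ = g₂ ≫ c₀ ≫ u₁
      rw [reassoc_of% e]
    let cl : W ⟶ Spec (CommRingCat.of (T2 R₁ B')) := pullback.lift _ _ hpi ≫ (pullbackSpecIso R₁ B' B').hom
    have hc1 : cl ≫ Spec.map (CommRingCat.ofHom (i1 (R := R₁) (R' := B'))) = g₁ ≫ pullback.snd u₁ π₁ := by
      rw [Category.assoc]
      erw [pullbackSpecIso_hom_fst, pullback.lift_fst]
    have hc2 : cl ≫ Spec.map (CommRingCat.ofHom (i2 (R := R₁) (R' := B'))) = g₂ ≫ pullback.snd u₁ π₁ := by
      rw [Category.assoc]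
      erw [pullbackSpecIso_hom_snd, pullback.lift_snd]
    let cm : T₂ ⟶ Tm j (T2 R₁ B') := Over.homMk cl (by
      show cl ≫ (Tm j (T2 R₁ B')).hom = g₁ ≫ T.hom
      rw [← Over.w e1, ← Over.w bm]
      show cl ≫ Spec.map (CommRingCat.ofHom (i1 (R := R₁) (R' := B'))) ≫ _ = g₁ ≫ pullback.snd u₁ π₁ ≫ _
      rw [reassoc_of% hc1])
    have hb1 : b₁ ≫ bm = cm ≫ e1 := Over.OverMorphism.ext hc1.symm
    have hb2 : b₂ ≫ bm = cm ≫ e2 := Over.OverMorphism.ext hc2.symm
    have hw12 : toKm b₁ ≫ w' = toKm b₂ ≫ w' := Over.OverMorphism.ext (by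
      show g₁ ≫ c₀ ≫ _ = g₂ ≫ c₀ ≫ _
      rw [reassoc_of% e])
    have r1 := congrArg (toKm b₁ ≫ ·) hh
    have r2 := congrArg (toKm b₂ ≫ ·) hh
    simp only [MonObj.comp_mul] at r1 r2
    rw [← Category.assoc (toKm b₁) (toKm bm), ← toKm_comp, hb1, toKm_comp, Category.assoc (toKm cm), hv',
      MonObj.comp_mul, hw12] at r1
    rw [← Category.assoc (toKm b₂) (toKm bm), ← toKm_comp, hb2, toKm_comp, Category.assoc (toKm cm)] at r2
    rw [← r2, _root_.mul_assoc] at r1
    have r3 := mul_left_cancel r1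
    simp only [← Category.assoc] at r3
    rw [← MonObj.mul_comp, cancel_mono] at r3
    have k1 : e1 ≫ eθ = eψ ≫ p1 j B := by
      have h : ((i1 (R := R₁) (R' := B')).comp θ).comp (algebraMap A B) = algebraMap A (T2 R₁ B') := by
        rw [RingHom.comp_assoc, hθA, h1A]
      exact (em_comp j _ _ _ _ _ h rfl).trans (em_comp j _ _ _ _ _ h hψ1).symm
    have k2 : e2 ≫ eθ = eψ ≫ p2 j B := by
      have h : ((i2 (R := R₁) (R' := B')).comp θ).comp (algebraMap A B) = algebraMap A (T2 R₁ B') := by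
        rw [RingHom.comp_assoc, hθA, h2A]
      exact (em_comp j _ _ _ _ _ h rfl).trans (em_comp j _ _ _ _ _ h hψ2).symm
    refine congrArg (fun m : T₂ ⟶ Over.mk φ.left => m.left) ?_
    simp only [x', RelPoints.comp_act]
    rw [← Category.assoc b₁, hb1, ← Category.assoc b₂, hb2, Category.assoc, Category.assoc, ← Category.assoc e1, k1,
      ← Category.assoc e2, k2, Category.assoc, Category.assoc]
    conv_rhs => rw [← hg, RelPoints.comp_act, RelPoints.comp_act, ← RelPoints.act_act]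
    exact congrArg (fun t => RelPoints.act a φ hcart t _) (r3.trans (by simp only [Category.assoc]))
  refine ⟨EffectiveEpi.desc c₀ x'.left fun g₁ g₂ e => hdesc g₁ g₂ e, ?_⟩
  rw [← cancel_epi c₀, EffectiveEpi.fac_assoc]
  exact (Over.w x').trans (congrArg (c₀ ≫ ·) (Category.assoc _ _ _))

/-- Torsors under affine groups in characteristic zero are locally isotrivial. -/
theorem locallyIsotrivial [CharZero k] {G X Y : Over (Spec (CommRingCat.of k))} [GrpObj G] [IsAffine G.left]
    [LocallyOfFiniteType G.hom] (a : AlgGrp.Action G X) (φ : X ⟶ Y) (hcart : IsPullback a.act (snd G X) φ φ)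
    (hloc : NonAbH1.IsLocallyTrivialFor Scheme.fpqcPrecoverage (Over.mk φ.left : Over Y.left)) (y₀ : Y.left) :
    ∃ (U : Y.left.Opens) (_ : y₀ ∈ U) (U' : Scheme.{u}) (f : U' ⟶ ↑U)
      (_ : IsFinite f) (_ : Etale f) (_ : Surjective f),
      NonAbH1.HasSectionOver (Over.mk φ.left : Over Y.left) (f ≫ U.ι) := by
  haveI := PointsProdField.smooth_of_charZero G
  exact locallyIsotrivial_smooth a φ hcart hloc y₀

end Groth.Agent.AlgGrpLib.LocIsotrivial
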