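import Groth.Agent.AlgGrpLib.NoTorus
import Groth.Agent.UnipStruct.Unip
import Groth.Agent.HopfOneDim.Comm

/-!
# Connected smooth affine groups without subtori are unipotent
-/

set_option autoImplicit false
set_option backward.isDefEq.respectTransparency.types false
set_option linter.style.haveILetI false

universe u

open CategoryTheory CategoryTheory.Limits MonoidalCategory CartesianMonoidalCategory MonObj AlgebraicGeometry Opposite
open WithConv TensorProduct HopfRep Groth.Agent.HopfQuot Groth.Agent.HopfLib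

noncomputable section

namespace Groth.Agent.AlgGrpLib.NoTorus

open UnipStruct

variable {k : Type u} [Field k] [IsAlgClosed k]

/-- The split torus of rank one is not trivial. -/
theorem not_isIso_DS : ¬ IsIso (Red.DS (Spec (CommRingCat.of k)) (Fin 1 → ℤ)).hom := by
  intro hiso
  obtain ⟨c, hc⟩ : ∃ c : kˣ, c ≠ 1 := by
    classical
    obtain ⟨c, hc⟩ := Infinite.exists_notMem_finset ({0, 1} : Finset k)
    simp only [Finset.mem_insert, Finset.mem_singleton, not_or] at hc
    exact ⟨Units.mk0 c hc.1, fun h => hc.2 (congrArg Units.val h)⟩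
  let ι₀ : k →+* Γ((𝟙_ (Over (Spec (CommRingCat.of k)))).left, ⊤) :=
    (Scheme.ΓSpecIso (CommRingCat.of k)).inv.hom
  letI := SGA3cLib.algR₀ Γ((𝟙_ (Over (Spec (CommRingCat.of k)))).left, ⊤)
  let ev₀ : Multiplicative (Fin 1 → ℤ) →* Γ((𝟙_ (Over (Spec (CommRingCat.of k)))).left, ⊤) :=
    ((ι₀.toMonoidHom.comp (Units.coeHom k)).comp (zpowersHom _ c)).comp
      (AddMonoidHom.toMultiplicative (Pi.evalAddMonoidHom (fun _ : Fin 1 => ℤ) 0))
  obtain ⟨x, hx⟩ := SGA3cLib.fn_surjective (S := Spec (CommRingCat.of k))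
    (A := MonoidAlgebra (ULift.{u} ℤ) (Multiplicative (Fin 1 → ℤ))) (MonoidAlgebra.lift (ULift.{u} ℤ) _ _ ev₀).toRingHom
  have h1 : x = 1 := Over.OverMorphism.ext ((cancel_mono (Red.DS (Spec (CommRingCat.of k)) (Fin 1 → ℤ)).hom).1
    ((Over.w x).trans (Over.w _).symm))
  have h2 := congrArg (fun y => SGA3cLib.fn y (MonoidAlgebra.single (Multiplicative.ofAdd (Pi.single 0 1)) 1)) h1
  simp only [WittPts.fn_single_one] at h2
  rw [hx] at h2
  have h4 : ev₀ (Multiplicative.ofAdd (Pi.single 0 1)) = 1 := (MonoidAlgebra.lift_of (R := ULift.{u} ℤ) ev₀ _).symm.trans h2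
  have h3 : ι₀ (c : k) = 1 := by simpa [ev₀, zpowersHom_apply] using h4
  exact hc (Units.ext ((ConcreteCategory.bijective_of_isIso (Scheme.ΓSpecIso (CommRingCat.of k)).inv).1
    (h3.trans (map_one ι₀).symm)))

/-- A smooth connected affine group without subtori is unipotent. -/
theorem isUnipotent_of_hasNoSubtorus {G : Over (Spec (CommRingCat.of k))} [GrpObj G] [Smooth G.hom]
    [ConnectedSpace G.left] (hG : Red.HasNoSubtorus k G) {A : Type u} [CommRing A] [HopfAlgebra k A]
    [Algebra.FiniteType k A] (e : spec (k := k) A ⟶ G) [IsIso e] [IsMonHom e] : IsUnipotent k A := by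
  haveI : IsReduced G.left := AbSchLib.isReduced_of_smooth G.hom
  haveI : IsIso e.left := inferInstanceAs (IsIso ((Over.forget _).map e))
  haveI : ConnectedSpace (spec (k := k) A).left :=
    (inv e.left).homeomorph.surjective.connectedSpace (inv e.left).homeomorph.continuous
  haveI : IsReduced (spec (k := k) A).left := isReduced_of_isOpenImmersion e.left
  haveI : _root_.IsReduced A := (affine_isReduced_iff (CommRingCat.of A)).1 ‹IsReduced (spec (k := k) A).left›
  haveI : ConnectedSpace (PrimeSpectrum A) := ‹ConnectedSpace (spec (k := k) A).left›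
  haveI : IsDomain A := HopfOneDim.isDomain k BorelFixed.isUnit_or_isNilpotent_of_idem
  refine isUnipotent_of_no_laurent fun θ hθ => ?_
  obtain ⟨j, _, _⟩ := exists_torus_of_surjective θ hθ
  exact not_isIso_DS (k := k) (hG _ (j ≫ e) (isTorus_DS _))

end Groth.Agent.AlgGrpLib.NoTorus
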