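import Groth.Agent.AlgGrpLib.SubgroupCalc
import Groth.Agent.AbVarLib.KernelTorsor
import Groth.Agent.SGA3cLib.GeomConn
import Groth.Agent.SGA3xLib.SepFibre
import Mathlib.AlgebraicGeometry.EffectiveEpi

/-!
# Basic properties of quotient maps of group schemes over a field
-/

set_option autoImplicit false

universe u

open CategoryTheory Limits MonoidalCategory CartesianMonoidalCategory MonObj GrpObj AlgebraicGeometry

namespace Groth.Agent.AlgGrpLib.ExactSeqBasics

variable {k : Type u} [Field k] {N G Q : Over (Spec (CommRingCat.of k))}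

theorem locallyOfFinitePresentation_left (f : G ⟶ Q) [LocallyOfFiniteType G.hom] [LocallyOfFiniteType Q.hom] :
    LocallyOfFinitePresentation f.left := by
  haveI : IsLocallyNoetherian Q.left := LocallyOfFiniteType.isLocallyNoetherian Q.hom
  haveI : LocallyOfFiniteType (f.left ≫ Q.hom) := by rw [Over.w f]; infer_instance
  haveI : LocallyOfFiniteType f.left := locallyOfFiniteType_of_comp f.left Q.hom
  exact ⟨fun {U} hU {V} hV e => by
    have : IsNoetherianRing Γ(Q.left, U) := IsLocallyNoetherian.component_noetherian ⟨U, hU⟩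
    algebraize [(f.left.appLE U V e).hom]
    have := f.left.finiteType_appLE hU hV e
    exact Algebra.FinitePresentation.of_finiteType.1 this⟩

variable [GrpObj G] [GrpObj Q] (q : G ⟶ Q) [IsMonHom q]

/-- A homomorphism killed on the kernel descends along a quotient map. -/
theorem exists_desc {Z : Over (Spec (CommRingCat.of k))} [GrpObj Z] [Surjective q.left] [Flat q.left]
    [QuasiCompact q.left] {i : N ⟶ G} (hk : AlgGrp.IsKernel i q) (f : G ⟶ Z) [IsMonHom f] (hf : i ≫ f = 1) :
    ∃ g : Q ⟶ Z, q ≫ g = f := by
  haveI : EffectiveEpi q.left := inferInstance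
  let g₀ : Q.left ⟶ Z.left := EffectiveEpi.desc q.left f.left (fun {W} a b hab => by
    let W' : Over (Spec (CommRingCat.of k)) := Over.mk (a ≫ G.hom)
    let a' : W' ⟶ G := Over.homMk a rfl
    let b' : W' ⟶ G := Over.homMk b (by
      show b ≫ G.hom = a ≫ G.hom
      rw [← Over.w q, ← Category.assoc, ← hab, Category.assoc])
    have h' : a' ≫ q = b' ≫ q := Over.OverMorphism.ext hab
    obtain ⟨n, hn⟩ := exists_lift_kernel hk (g := a' * b'⁻¹) (by
      rw [MonObj.mul_comp, GrpObj.inv_comp, h', mul_inv_cancel])
    have : a' ≫ f = b' ≫ f := by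
      rw [← mul_inv_eq_one, ← GrpObj.inv_comp, ← MonObj.mul_comp, ← hn, Category.assoc, hf, MonObj.comp_one]
    exact congrArg CommaMorphism.left this)
  have hg : q.left ≫ g₀ = f.left := EffectiveEpi.fac _ _ _
  exact ⟨Over.homMk g₀ (by rw [← cancel_epi q.left, ← Category.assoc, hg, Over.w f, Over.w q]),
    Over.OverMorphism.ext hg⟩

/-- Two quotients with the same kernel are isomorphic. -/
theorem exists_iso {Q' : Over (Spec (CommRingCat.of k))} [GrpObj Q'] [Surjective q.left] [Flat q.left]
    [QuasiCompact q.left] (q' : G ⟶ Q') [IsMonHom q'] [Surjective q'.left] [Flat q'.left] [QuasiCompact q'.left]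
    {i : N ⟶ G} (hk : AlgGrp.IsKernel i q) (hk' : AlgGrp.IsKernel i q') : Nonempty (Q ≅ Q') := by
  obtain ⟨g, hg⟩ := exists_desc q hk q' (kernel_comp hk')
  obtain ⟨g', hg'⟩ := exists_desc q' hk' q (kernel_comp hk)
  haveI : Epi q := Over.epi_of_epi_left _
  haveI : Epi q' := Over.epi_of_epi_left _
  refine ⟨⟨g, g', ?_, ?_⟩⟩
  · rw [← cancel_epi q, reassoc_of% hg, hg', Category.comp_id]
  · rw [← cancel_epi q', reassoc_of% hg', hg, Category.comp_id]

omit [IsMonHom q] in
theorem isNormalHom_kernel [IsMonHom q] {i : N ⟶ G} [GrpObj N] (hk : AlgGrp.IsKernel i q) : AlgGrp.IsNormalHom i := by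
  intro T g n
  obtain ⟨n', hn'⟩ := exists_lift_kernel hk (g := g * (n ≫ i) * g⁻¹) (by
    rw [MonObj.mul_comp, MonObj.mul_comp, GrpObj.inv_comp, Category.assoc, kernel_comp hk, MonObj.comp_one,
      _root_.mul_one, mul_inv_cancel])
  exact ⟨n', hn'.symm⟩

/-- The fibres of a quotient map with connected kernel are connected. -/
theorem isConnected_preimage [GrpObj N] [ConnectedSpace N.left] (i : N ⟶ G) (hk : AlgGrp.IsKernel i q)
    (g : G.left) : _root_.IsConnected (q.left ⁻¹' {q.left g}) := by
  haveI : GeometricallyConnected N.hom := by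
    have := SGA3cLib.geometricallyConnected_of_rational_point k N.hom (𝟙 N.left) η[N].left (Over.w η[N])
      (by simp)
    rwa [Category.id_comp] at this
  haveI : GeometricallyConnected (fst G N).left :=
    MorphismProperty.of_isPullback (P := @GeometricallyConnected) (IsPullback.of_hasPullback G.hom N.hom).flip ‹_›
  have hsq := (AbVarLib.isPullback_kernel q i hk).map (Over.forget (Spec (CommRingCat.of k)))
  set m := (fst G N * (snd G N ≫ i)).left with hm
  have heq : m '' ((fst G N).left ⁻¹' {g}) = q.left ⁻¹' {q.left g} := by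
    ext z
    constructor
    · rintro ⟨w, hw, rfl⟩
      have hw' : (fst G N).left w = g := hw
      show q.left (m w) = q.left g
      rw [← hw']
      exact (congrArg (fun φ : _ ⟶ Q.left => φ w) hsq.w).symm
    · intro hz
      obtain ⟨w, hw1, hw2⟩ := Scheme.Pullback.exists_preimage_pullback g z (f := q.left) (g := q.left) hz.symm
      refine ⟨hsq.isoPullback.inv w, ?_, ?_⟩
      · show (fst G N).left _ = g
        rw [← hw1]
        exact congrArg (fun φ : _ ⟶ G.left => φ w) hsq.isoPullback_inv_fst
      · rw [← hw2]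
        exact congrArg (fun φ : _ ⟶ G.left => φ w) hsq.isoPullback_inv_snd
  rw [← heq]
  exact ((fst G N).left.isConnected_preimage_singleton g).image _ m.continuous.continuousOn

theorem connectedSpace_of_kernel [GrpObj N] [ConnectedSpace N.left] [ConnectedSpace Q.left]
    [LocallyOfFiniteType G.hom] [LocallyOfFiniteType Q.hom] [Surjective q.left] [Flat q.left]
    (i : N ⟶ G) (hk : AlgGrp.IsKernel i q) : ConnectedSpace G.left := by
  haveI := locallyOfFinitePresentation_left q
  have hc : Topology.IsCoinducing q.left :=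
    (q.left.isOpenMap.isQuotientMap q.left.continuous q.left.surjective).isCoinducing
  have hfib : ∀ y : Q.left, _root_.IsConnected (q.left ⁻¹' {y}) := by
    intro y
    obtain ⟨g, rfl⟩ := q.left.surjective y
    exact isConnected_preimage q i hk g
  have := hc.isConnected_preimage_of_isClosed hfib isClosed_univ isConnected_univ
  simpa [connectedSpace_iff_univ] using this

end Groth.Agent.AlgGrpLib.ExactSeqBasics
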