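import Groth.Agent.AlgGrpLib.NoTorusScheme
import Groth.Agent.HopfLib.UnipotentPoints
import Groth.Agent.SGA3Power26.PowerUnit
import Groth.Agent.WittPts.Torus
import Groth.Agent.S18082
import Groth.Agent.AbSchLib.SmoothReduced
import Mathlib.RingTheory.RootsOfUnity.AlgebraicallyClosed
import Mathlib.GroupTheory.Nilpotent

/-!
# Power maps of unipotent groups and torsion-free nilpotent groups
-/

set_option autoImplicit false
set_option maxHeartbeats 1000000
set_option synthInstance.maxHeartbeats 200000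
set_option linter.style.haveILetI false
set_option backward.isDefEq.respectTransparency.types false

universe u

open CategoryTheory CategoryTheory.Limits TopologicalSpace MonoidalCategory CartesianMonoidalCategory MonObj GrpObj AlgebraicGeometry
open WithConv Groth.Agent.HopfQuot

noncomputable section

namespace Groth.Agent.AlgGrpLib.UnipPow

theorem commute_aux {l : ℕ} (Γ : Type*) [Group Γ] [Group.IsNilpotent Γ] :
    (∀ g : Γ, ∃ a b : Γ, g = a ^ l * b ^ l) → ∀ t : Γ, t ^ l = 1 → ∀ g, Commute t g := by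
  refine nilpotent_center_quotient_ind (P := fun G _ _ =>
    (∀ g : G, ∃ a b : G, g = a ^ l * b ^ l) → ∀ t : G, t ^ l = 1 → ∀ g, Commute t g) Γ ?_ ?_
  · intro G _ _ _ t _ g
    exact Subsingleton.elim _ _
  · intro G _ _ ih hgen t ht g
    have hgen' : ∀ x : G ⧸ Subgroup.center G, ∃ a b, x = a ^ l * b ^ l := by
      intro x
      obtain ⟨x, rfl⟩ := QuotientGroup.mk_surjective x
      obtain ⟨a, b, rfl⟩ := hgen x
      exact ⟨(a : G ⧸ Subgroup.center G), b, by simp⟩
    have hc : ∀ x : G, t * x * t⁻¹ * x⁻¹ ∈ Subgroup.center G := by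
      intro x
      rw [← QuotientGroup.eq_one_iff]
      have := ih hgen' (t : G ⧸ Subgroup.center G)
        (by rw [← QuotientGroup.mk_pow, ht, QuotientGroup.mk_one]) (x : G ⧸ Subgroup.center G)
      rw [QuotientGroup.mk_mul, QuotientGroup.mk_mul, QuotientGroup.mk_mul, this.eq, QuotientGroup.mk_inv,
        QuotientGroup.mk_inv, mul_inv_cancel_right, mul_inv_cancel]
    let c : G →* Subgroup.center G := MonoidHom.mk' (fun x => ⟨_, hc x⟩) fun x y => by
      refine Subtype.ext ?_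
      show t * (x * y) * t⁻¹ * (x * y)⁻¹ = t * x * t⁻¹ * x⁻¹ * (t * y * t⁻¹ * y⁻¹)
      rw [_root_.mul_assoc (t * x * t⁻¹), (Subgroup.mem_center_iff.1 (hc y) x⁻¹)]
      group
    have hpow : ∀ (m : ℕ) (x : G), t ^ m * x * (t ^ m)⁻¹ = (c x : G) ^ m * x := by
      intro m x
      induction m with
      | zero => simp
      | succ m ihm =>
        have h1 : t * x * t⁻¹ = (c x : G) * x := by
          show _ = t * x * t⁻¹ * x⁻¹ * x
          rw [inv_mul_cancel_right]
        have h2 : t * (c x : G) ^ m = (c x : G) ^ m * t :=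
          Subgroup.mem_center_iff.1 (Subgroup.pow_mem _ (c x).2 m) t
        calc t ^ (m + 1) * x * (t ^ (m + 1))⁻¹ = t * (t ^ m * x * (t ^ m)⁻¹) * t⁻¹ := by rw [pow_succ']; group
          _ = t * (c x : G) ^ m * x * t⁻¹ := by rw [ihm]; simp only [_root_.mul_assoc]
          _ = (c x : G) ^ m * (t * x * t⁻¹) := by rw [h2]; group
          _ = (c x : G) ^ (m + 1) * x := by rw [h1, ← _root_.mul_assoc, pow_succ]
    have hl : ∀ x : G, c x ^ l = 1 := by
      intro x
      have h := hpow l x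
      rw [ht, _root_.one_mul, inv_one, _root_.mul_one] at h
      exact Subtype.ext (mul_eq_right.1 h.symm)
    obtain ⟨a, b, rfl⟩ := hgen g
    have h1 : c (a ^ l * b ^ l) = 1 := by rw [map_mul, map_pow, map_pow, hl, hl, _root_.one_mul]
    have h2 : t * (a ^ l * b ^ l) * t⁻¹ * (a ^ l * b ^ l)⁻¹ = 1 := congrArg Subtype.val h1
    show t * _ = _ * t
    exact mul_inv_eq_iff_eq_mul.1 (mul_inv_eq_one.1 h2)

/-- In a nilpotent group generated by `l`-th powers elements of order dividing `l` are central. -/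
theorem commute_of_pow_eq_one {Γ : Type*} [Group Γ] [Group.IsNilpotent Γ] {l : ℕ}
    (hgen : ∀ g : Γ, ∃ a b : Γ, g = a ^ l * b ^ l) {t : Γ} (ht : t ^ l = 1) (g : Γ) : Commute t g :=
  commute_aux Γ hgen t ht g

variable {k : Type u} [Field k]

section NoTorus

/-- A group whose points killed by `l` are trivial contains no torus. -/
theorem isIso_torus_of_torsion_trivial [IsAlgClosed k] {T : Over (Spec (CommRingCat.of k))} [GrpObj T] (hT : Red.IsTorus T)
    (l : ℕ) [NeZero (l : k)] (hl1 : 1 < l)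
    (htriv : ∀ (X : Over (Spec (CommRingCat.of k))) (x : X ⟶ T), x ^ l = 1 → x = 1) : IsIso T.hom := by
  obtain ⟨S', f, hfl, -, hq, hU⟩ := hT
  choose U hmem r hsplit using hU
  haveI := hfl
  have hcov : TopologicalSpace.IsOpenCover U :=
    TopologicalSpace.IsOpenCover.mk (eq_top_iff.2 fun s _ => TopologicalSpace.Opens.mem_iSup.2 ⟨s, hmem s⟩)
  refine (SGA3cLib.IsFpqcCov.of_forall f hq).descend (MorphismProperty.isomorphisms Scheme.{u}) T.hom ?_
  refine IsZariskiLocalAtTarget.of_openCover (P := MorphismProperty.isomorphisms Scheme.{u})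
    (S'.openCoverOfIsOpenCover U hcov) fun s => ?_
  obtain ⟨e⟩ := hsplit s
  let g := (U s).ι ≫ f
  let w : Red.bc g T ⟶ Red.DS (U s : Scheme.{u}) (Fin (r s) → ℤ) := e.hom.hom.hom
  haveI : IsMonHom w := e.hom.hom.isMonHom_hom
  haveI hwi : IsIso w := ((Grp.forget _).mapIso e).isIso_hom
  have hr : r s = 0 := by
    by_contra hr
    obtain ⟨c, hc⟩ := HasEnoughRootsOfUnity.exists_primitiveRoot k l
    let ι₀ : k →+* Γ((U s : Scheme.{u}), ⊤) := ((Scheme.ΓSpecIso (CommRingCat.of k)).inv ≫ g.appTop).hom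
    let a : Γ((U s : Scheme.{u}), ⊤)ˣ := Units.map ι₀.toMonoidHom (Units.mk0 c (hc.ne_zero (by omega)))
    let i₀ : Fin (r s) := ⟨0, Nat.pos_of_ne_zero hr⟩
    let χ : Multiplicative (Fin (r s) → ℤ) →* Γ((U s : Scheme.{u}), ⊤) :=
      { toFun := fun v => ((a ^ (Multiplicative.toAdd v i₀) : Γ((U s : Scheme.{u}), ⊤)ˣ) : Γ((U s : Scheme.{u}), ⊤))
        map_one' := by simp
        map_mul' := fun v w => by rw [toAdd_mul, Pi.add_apply, _root_.zpow_add, Units.val_mul] }
    let φ : MonoidAlgebra (ULift.{u} ℤ) (Multiplicative (Fin (r s) → ℤ)) →+* Γ((U s : Scheme.{u}), ⊤) :=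
      MonoidAlgebra.liftNCRingHom ((Int.castRingHom _).comp ULift.ringEquiv.toRingHom) χ fun _ _ => Commute.all _ _
    have hone : ∀ y : Over.mk (𝟙 (U s : Scheme.{u})) ⟶ Red.DS (U s : Scheme.{u}) (Fin (r s) → ℤ),
        y ^ l = 1 → y = 1 := by
      intro y hy
      let ψ : (Over.mk (𝟙 (U s : Scheme.{u})) ⟶ Red.bc g T) →*
          (Over.mk (𝟙 (U s : Scheme.{u})) ⟶ Red.DS (U s : Scheme.{u}) (Fin (r s) → ℤ)) :=
        MonoidHom.mk' (fun a => a ≫ w) fun a b => @MonObj.mul_comp _ _ _ _ _ _ _ _ a b w inferInstance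
      let h : ((Over.map g).obj (Over.mk (𝟙 (U s : Scheme.{u}))) ⟶ T) →* (Over.mk (𝟙 (U s : Scheme.{u})) ⟶ Red.bc g T) :=
        MonoidHom.mk' (SGA3cLib.BCPoints.pt g T _) (SGA3cLib.BCPoints.pt_mul g)
      obtain ⟨z, rfl⟩ : ∃ z, ψ z = y := ⟨y ≫ inv w, by simp [ψ]⟩
      obtain ⟨b, rfl⟩ : ∃ b, h b = z := (SGA3cLib.BCPoints.pt g T _).surjective z
      have hwinj : Function.Injective ψ := fun a b (e : a ≫ w = b ≫ w) => (cancel_mono w).1 e
      rw [htriv _ b ((SGA3cLib.BCPoints.pt g T _).injective (hwinj (by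
        show ψ (h (b ^ l)) = ψ (h 1)
        rw [map_pow, map_pow, hy, map_one, map_one]))), map_one, map_one]
    obtain ⟨y, hy⟩ := SGA3cLib.fn_surjective (X := Over.mk (𝟙 (U s : Scheme.{u}))) (S := (U s : Scheme.{u})) φ
    let g₀ : Multiplicative (Fin (r s) → ℤ) := Multiplicative.ofAdd (Pi.single i₀ 1)
    have h2 : φ (MonoidAlgebra.single g₀ 1) = ι₀ c := by
      simp [φ, χ, g₀, a, MonoidAlgebra.liftNCRingHom]
    have hyl : y ^ l = 1 := by
      refine SGA3cLib.dsFn_injective (MonoidHom.ext fun m => ?_)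
      have h1 : ∀ j : ℕ, SGA3cLib.dsFn (y ^ j) m = SGA3cLib.dsFn y m ^ j := by
        intro j
        induction j with
        | zero => rw [_root_.pow_zero, _root_.pow_zero, SGA3cLib.dsFn_one]
        | succ j ih => rw [pow_succ, pow_succ, SGA3cLib.dsFn_mul, ih]
      rw [h1, SGA3cLib.dsFn_one]
      show (SGA3cLib.fn y (MonoidAlgebra.single m 1)) ^ l = 1
      rw [hy]
      show (φ (MonoidAlgebra.single m 1)) ^ l = 1
      have h3 : φ (MonoidAlgebra.single m 1) = χ m := by simp [φ, MonoidAlgebra.liftNCRingHom]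
      rw [h3]
      have ha : a ^ l = 1 := by
        refine Units.ext ?_
        show (ι₀ c) ^ l = 1
        rw [← map_pow, hc.pow_eq_one, map_one]
      show (((a ^ (Multiplicative.toAdd m i₀) : Γ((U s : Scheme.{u}), ⊤)ˣ) : Γ((U s : Scheme.{u}), ⊤))) ^ l = 1
      rw [← Units.val_pow_eq_pow_val, ← zpow_natCast, ← zpow_mul, mul_comm, zpow_mul, zpow_natCast, ha, one_zpow,
        Units.val_one]
    have h4 := hy
    rw [hone y hyl] at h4
    have h5 := RingHom.congr_fun h4 (MonoidAlgebra.single g₀ 1)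
    rw [WittPts.fn_single_one, h2] at h5
    haveI : Nonempty (U s : Scheme.{u}) := ⟨⟨s, hmem s⟩⟩
    haveI : Nonempty (⊤ : (U s : Scheme.{u}).Opens) := ⟨⟨⟨s, hmem s⟩, trivial⟩⟩
    haveI : Nontrivial Γ((U s : Scheme.{u}), ⊤) := Scheme.component_nontrivial _ _
    exact hc.ne_one hl1 (ι₀.injective (h5.symm.trans (map_one ι₀).symm))
  haveI : IsEmpty (Fin (r s)) := by rw [hr]; exact Fin.isEmpty'
  haveI : IsIso (Red.DS (U s : Scheme.{u}) (Fin (r s) → ℤ)).hom := WittPts.isIso_DS_hom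
  have h2 : IsIso (Red.bc g T).hom := by
    rw [← Over.w w]
    haveI : IsIso w.left := ((Over.forget _).mapIso (asIso w)).isIso_hom
    infer_instance
  let i : pullback (pullback.snd T.hom f) (U s).ι ≅ pullback T.hom g := pullbackLeftPullbackSndIso T.hom f (U s).ι
  have hi : i.hom ≫ pullback.snd T.hom g = pullback.snd (pullback.snd T.hom f) (U s).ι :=
    pullbackLeftPullbackSndIso_hom_snd _ _ _
  change IsIso (pullback.snd (pullback.snd T.hom f) (U s).ι)
  rw [← hi]
  haveI : IsIso (pullback.snd T.hom g) := h2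
  infer_instance

end NoTorus

section Points

variable {H : Over (Spec (CommRingCat.of k))} [GrpObj H]

local notation "𝟏" => (𝟙_ (Over (Spec (CommRingCat.of k))))

theorem comp_pw {X : Over (Spec (CommRingCat.of k))} (x : X ⟶ H) (l : ℕ) : x ≫ (𝟙 H : H ⟶ H) ^ l = x ^ l := by
  rw [MonObj.comp_pow, Category.comp_id]

theorem one_left_apply (x : (𝟏).left) :
    (1 : 𝟏 ⟶ H).left.base x = SGA3Power26.e₀ H := by
  rw [Hom.one_def, toUnit_unique (toUnit 𝟏) (𝟙 _), Category.id_comp]
  exact congrArg _ (Subsingleton.elim (α := PrimeSpectrum k) x _)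

theorem one_left (X : Over (Spec (CommRingCat.of k))) : (1 : X ⟶ H).left = X.hom ≫ η[H].left := rfl

variable [IsAlgClosed k] [LocallyOfFiniteType H.hom]

omit [GrpObj H] in
theorem exists_point {y : H.left} (hy : IsClosed {y}) : ∃ q : 𝟏 ⟶ H, q.left.base (IsLocalRing.closedPoint k) = y :=
  ⟨Over.homMk (pointOfClosedPoint H.hom y hy) (pointOfClosedPoint_comp H.hom y hy), pointOfClosedPoint_apply H.hom y hy _⟩

omit [GrpObj H] in
theorem point_ext {p q : 𝟏 ⟶ H} (h : p.left.base (IsLocalRing.closedPoint k) = q.left.base (IsLocalRing.closedPoint k)) :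
    p = q :=
  Over.OverMorphism.ext (ext_of_apply_closedPoint_eq H.hom (Over.w p) (Over.w q) h)

/-- If no non-trivial rational point is killed by `l`, no point at all is. -/
theorem eq_one_of_points [IsSeparated H.hom] {l : ℕ} (hl : (l : k) ≠ 0)
    (hpt : ∀ t : 𝟏 ⟶ H, t ^ l = 1 → t = 1) {X : Over (Spec (CommRingCat.of k))} (x : X ⟶ H) (hx : x ^ l = 1) :
    x = 1 := by
  haveI : JacobsonSpace H.left := LocallyOfFiniteType.jacobsonSpace H.hom
  let p := ((𝟙 H : H ⟶ H) ^ l).left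
  obtain ⟨U, heU, hU⟩ := SGA3Power26.etale_nhd_unit H hl
  let e := SGA3Power26.e₀ H
  haveI hcl : IsClosedImmersion η[H].left := isClosedImmersion_of_comp_eq_id H.hom η[H].left (Over.w η[H])
  haveI : Nonempty ↥(𝟏).left := ⟨IsLocalRing.closedPoint k⟩
  have hec : IsClosed ({e} : Set H.left) := by
    have := η[H].left.isClosedEmbedding.isClosed_range
    rwa [show Set.range η[H].left.base = {e} from Set.range_eq_singleton (fun z => congrArg η[H].left.base (Subsingleton.elim (α := PrimeSpectrum k) z (IsLocalRing.closedPoint k)))] at this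
  have hfib : ∀ y, p.base y = e → y = e := by
    have hZ : IsClosed (p.base ⁻¹' {e}) := hec.preimage p.continuous
    have hsub : p.base ⁻¹' {e} ∩ closedPoints H.left ⊆ {e} := by
      rintro y ⟨hye, hy⟩
      obtain ⟨q, rfl⟩ := exists_point hy
      have hq : q ^ l = 1 := by
        rw [← comp_pw]
        exact point_ext (hye.trans (one_left_apply _).symm)
      rw [hpt q hq]
      exact one_left_apply _
    intro y hy
    have h := closure_mono hsub
    rw [JacobsonSpace.closure_inter_closedPoints_eq_closure hZ.isLocallyClosed, hec.closure_eq] at h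
    exact h (subset_closure hy)
  haveI := hU
  let P := pullback (U.ι ≫ p) η[H].left
  let pr : P ⟶ Spec (CommRingCat.of k) := pullback.snd (U.ι ≫ p) η[H].left
  haveI : Etale pr := MorphismProperty.pullback_snd _ _ hU
  haveI : IsReduced P := AbSchLib.isReduced_of_smooth pr
  haveI : IsClosedImmersion (pullback.fst (U.ι ≫ p) η[H].left) := MorphismProperty.pullback_fst _ _ hcl
  have hmemU : ∀ z, (p.base z = e) → z ∈ U := fun z hz => (hfib z hz).symm ▸ heU
  have hlift : ∀ {Z : Scheme.{u}} (a : Z ⟶ H.left) (b : Z ⟶ Spec (CommRingCat.of k)), a ≫ p = b ≫ η[H].left →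
      Set.range a.base ⊆ Set.range U.ι.base := by
    intro Z a b hab
    rintro _ ⟨z, rfl⟩
    rw [Scheme.Opens.range_ι]
    refine hmemU _ ?_
    rw [← Scheme.Hom.comp_apply, hab, Scheme.Hom.comp_apply]
    exact congrArg _ (Subsingleton.elim (α := PrimeSpectrum k) _ _)
  have hη : η[H].left ≫ p = 𝟙 _ ≫ η[H].left := by
    rw [Category.id_comp]
    show (η[H] ≫ (𝟙 H : H ⟶ H) ^ l).left = _
    rw [comp_pw, show η[H] = (1 : 𝟏 ⟶ H) by
      rw [Hom.one_def, toUnit_unique (toUnit 𝟏) (𝟙 _), Category.id_comp], _root_.one_pow]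
  let σ : Spec (CommRingCat.of k) ⟶ P := pullback.lift (IsOpenImmersion.lift U.ι η[H].left (hlift _ _ hη))
    (𝟙 _) (by rw [← Category.assoc, IsOpenImmersion.lift_fac]; exact hη)
  have hσ : σ ≫ pr = 𝟙 _ := pullback.lift_snd _ _ _
  haveI : IsSeparated pr := MorphismProperty.pullback_snd _ _ (by
    haveI : IsSeparated p := by
      haveI : IsSeparated (p ≫ H.hom) := by rw [show p ≫ H.hom = H.hom from Over.w _]; infer_instance
      exact IsSeparated.of_comp p H.hom
    infer_instance)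
  haveI : IsClosedImmersion σ := isClosedImmersion_of_comp_eq_id pr σ hσ
  haveI : Surjective σ := ⟨fun z => by
    refine ⟨IsLocalRing.closedPoint k, (pullback.fst (U.ι ≫ p) η[H].left).isClosedEmbedding.injective ?_⟩
    have key : ∀ w : P, U.ι.base ((pullback.fst (U.ι ≫ p) η[H].left).base w) = e := by
      intro w
      refine hfib _ ?_
      rw [← Scheme.Hom.comp_apply, ← Scheme.Hom.comp_apply, pullback.condition, Scheme.Hom.comp_apply]
      exact congrArg _ (Subsingleton.elim (α := PrimeSpectrum k) _ _)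
    exact U.ι.isOpenEmbedding.injective ((key _).trans (key z).symm)⟩
  haveI : IsIso σ := isIso_of_isClosedImmersion_of_surjective σ
  have hxp : x.left ≫ p = X.hom ≫ η[H].left := by
    show (x ≫ (𝟙 H : H ⟶ H) ^ l).left = _
    rw [comp_pw, hx, one_left]
  let lx : X.left ⟶ P := pullback.lift (IsOpenImmersion.lift U.ι x.left (hlift _ _ hxp)) X.hom
    (by rw [← Category.assoc, IsOpenImmersion.lift_fac]; exact hxp)
  have hlx : lx = X.hom ≫ σ := by
    rw [← Category.comp_id lx, ← IsIso.inv_hom_id σ, ← Category.assoc]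
    congr 1
    rw [show inv σ = pr from IsIso.inv_eq_of_hom_inv_id hσ]
    exact pullback.lift_snd _ _ _
  refine Over.OverMorphism.ext ?_
  rw [one_left]
  have h := congrArg (fun z => z ≫ pullback.fst (U.ι ≫ p) η[H].left ≫ U.ι) hlx
  simp only [Category.assoc, lx, σ, pullback.lift_fst_assoc, IsOpenImmersion.lift_fac] at h
  exact h

/-- The power map fixes the generic point. -/
theorem pow_generic [IrreducibleSpace H.left] {l : ℕ} (hl : (l : k) ≠ 0) :
    ((𝟙 H : H ⟶ H) ^ l).left.base (genericPoint H.left) = genericPoint H.left := by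
  obtain ⟨U, heU, hU⟩ := SGA3Power26.etale_nhd_unit H hl
  haveI := hU
  have hne : (Set.range (U.ι ≫ ((𝟙 H : H ⟶ H) ^ l).left).base).Nonempty := ⟨_, ⟨_, heU⟩, rfl⟩
  have hopen := (U.ι ≫ ((𝟙 H : H ⟶ H) ^ l).left).isOpenMap.isOpen_range
  obtain ⟨x, hx⟩ := ((genericPoint_spec H.left).mem_open_set_iff hopen).2 (by simpa using hne)
  refine (((genericPoint_spec H.left).specializes (Set.mem_univ _)).antisymm ?_).eq.symm
  have h1 := ((genericPoint_spec H.left).specializes (Set.mem_univ (U.ι.base x))).map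
    ((𝟙 H : H ⟶ H) ^ l).left.continuous
  exact h1.trans (specializes_of_eq ((Scheme.Hom.comp_apply _ _ _).symm.trans hx))

/-- Every rational point is a product of two `l`-th powers. -/
theorem exists_two_powers [IrreducibleSpace H.left] {l : ℕ} (hl : (l : k) ≠ 0) (g : 𝟏 ⟶ H) :
    ∃ a b : 𝟏 ⟶ H, g = a ^ l * b ^ l := by
  haveI : JacobsonSpace H.left := LocallyOfFiniteType.jacobsonSpace H.hom
  obtain ⟨U, heU, hU⟩ := SGA3Power26.etale_nhd_unit H hl
  haveI := hU
  let p := ((𝟙 H : H ⟶ H) ^ l).left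
  let W : Set H.left := Set.range (U.ι ≫ p).base
  have hW : IsOpen W := (U.ι ≫ p).isOpenMap.isOpen_range
  let m : H ⟶ H := (toUnit H ≫ g) * (𝟙 H)⁻¹
  let m' : H ⟶ H := (𝟙 H)⁻¹ * (toUnit H ≫ g)
  have hm : m' ≫ m = 𝟙 H := by
    show m' ≫ ((toUnit H ≫ g) * (𝟙 H)⁻¹) = 𝟙 H
    rw [MonObj.comp_mul, GrpObj.comp_inv, Category.comp_id, ← Category.assoc, toUnit_unique (m' ≫ toUnit H) (toUnit H)]
    show _ * ((𝟙 H)⁻¹ * (toUnit H ≫ g))⁻¹ = _
    rw [_root_.mul_inv_rev, _root_.inv_inv, mul_inv_cancel_left]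
  have hpre : (W ∩ m.left.base ⁻¹' W).Nonempty := by
    refine nonempty_preirreducible_inter hW (hW.preimage m.left.continuous) ⟨_, ⟨_, heU⟩, rfl⟩
      ⟨m'.left.base (p.base (U.ι.base ⟨_, heU⟩)), ⟨⟨_, heU⟩, ?_⟩⟩
    have := congr($(hm).left.base (p.base (U.ι.base ⟨_, heU⟩)))
    rw [Over.comp_left, Scheme.Hom.comp_apply] at this
    exact this.symm
  obtain ⟨y, ⟨hy1, hy2⟩, hy⟩ :=
    nonempty_inter_closedPoints hpre (hW.inter (hW.preimage m.left.continuous)).isLocallyClosed
  obtain ⟨q, rfl⟩ := exists_point hy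
  have hroot : ∀ z : 𝟏 ⟶ H, z.left.base (IsLocalRing.closedPoint k) ∈ W → ∃ a : 𝟏 ⟶ H, a ^ l = z := by
    intro z hz
    have hzc : IsClosed ({z.left.base (IsLocalRing.closedPoint k)} : Set H.left) :=
      ((pointEquivClosedPoint H.hom) ⟨z.left, Over.w z⟩).2
    obtain ⟨w, hw⟩ := hz
    obtain ⟨y, hy1, hy⟩ := nonempty_inter_closedPoints ⟨U.ι.base w, hw⟩
      (hzc.preimage p.continuous).isLocallyClosed
    obtain ⟨a, rfl⟩ := exists_point hy
    exact ⟨a, by rw [← comp_pw]; exact point_ext hy1⟩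
  obtain ⟨a, ha⟩ := hroot q hy1
  obtain ⟨b, hb⟩ := hroot (q ≫ m) hy2
  refine ⟨b, a, ?_⟩
  rw [ha, hb]
  show _ = (q ≫ ((toUnit H ≫ g) * (𝟙 H)⁻¹)) * q
  rw [MonObj.comp_mul, GrpObj.comp_inv, Category.comp_id, ← Category.assoc, toUnit_unique (q ≫ toUnit H) (𝟙 _),
    Category.id_comp, inv_mul_cancel_right]

/-- In a nilpotent connected group, points killed by `l` are central. -/
theorem central_of_pow [Smooth H.hom] [IsSeparated H.hom] [IrreducibleSpace H.left] {l : ℕ} (hl : (l : k) ≠ 0)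
    {n : ℕ} (hn : ∀ X, Subgroup.lowerCentralSeries (⊤ : Subgroup (X ⟶ H)) n = ⊥) {t : 𝟏 ⟶ H} (ht : t ^ l = 1) :
    (𝟙 H : H ⟶ H) * (toUnit H ≫ t) = (toUnit H ≫ t) * 𝟙 H := by
  haveI : IsReduced H.left := AbSchLib.isReduced_of_smooth H.hom
  haveI : Group.IsNilpotent (𝟏 ⟶ H) := Subgroup.nilpotent_iff_lowerCentralSeries.2 ⟨n, hn 𝟏⟩
  refine WittPts.hom_ext_pts fun q => ?_
  rw [MonObj.comp_mul, MonObj.comp_mul, Category.comp_id, ← Category.assoc,
    toUnit_unique (q ≫ toUnit H) (𝟙 _), Category.id_comp]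
  exact (commute_of_pow_eq_one (exists_two_powers hl) ht q).eq.symm

end Points

section Unipotent

variable [IsAlgClosed k] {H : Over (Spec (CommRingCat.of k))} [GrpObj H] [Smooth H.hom] [ConnectedSpace H.left]
  [IsAffine H.left]

/-- The power map of a group without subtori is an isomorphism for `l` invertible. -/
theorem isIso_pow (hH : Red.HasNoSubtorus k H) {l : ℕ} (hl : (l : k) ≠ 0) : IsIso ((𝟙 H : H ⟶ H) ^ l) := by
  obtain ⟨A, _, _, a, ha, ham⟩ := HopfQuot.exists_spec (k := k) H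
  haveI := ha
  haveI := ham
  haveI := UnipStruct.finiteType_of_iso a
  have hU := NoTorus.isUnipotent_of_hasNoSubtorus hH a
  have hbij : Function.Bijective fun g : WithConv (A →ₐ[k] A) => g ^ l :=
    HopfLib.pow_bijective_points hU l fun h => hl ((CharP.cast_eq_zero_iff k (ringChar k) l).2 h)
  let P : WithConv (A →ₐ[k] A) ≃* (spec (k := k) A ⟶ spec (k := k) A) := ptSpec (k := k) (A := A) (T := A)
  have hinj : ∀ f g : spec (k := k) A ⟶ spec (k := k) A, f ^ l = g ^ l → f = g := fun f g h =>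
    P.symm.injective (hbij.1 (by simp only [← map_pow, h]))
  obtain ⟨ψ₀, hψ₀⟩ := hbij.2 (P.symm (𝟙 _))
  let ψ := P ψ₀
  have hψ : ψ ^ l = 𝟙 _ := by
    show (P ψ₀) ^ l = _
    rw [← map_pow, show ψ₀ ^ l = P.symm (𝟙 _) from hψ₀, MulEquiv.apply_symm_apply]
  let p : spec (k := k) A ⟶ spec (k := k) A := (𝟙 _) ^ l
  have h1 : ψ ≫ p = 𝟙 _ := by rw [MonObj.comp_pow, Category.comp_id, hψ]
  have h2 : p ≫ ψ = 𝟙 _ := hinj _ _ (by rw [← MonObj.comp_pow, hψ, Category.comp_id])
  haveI : IsIso p := ⟨ψ, h2, h1⟩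
  have h3 : (𝟙 H : H ⟶ H) ^ l = inv a ≫ p ≫ a := by
    show _ = inv a ≫ ((𝟙 _) ^ l) ≫ a
    rw [MonObj.pow_comp, Category.id_comp, MonObj.comp_pow, IsIso.inv_hom_id]
  rw [h3]
  infer_instance

/-- A group without subtori is nilpotent, uniformly in the test object. -/
theorem exists_lower (hH : Red.HasNoSubtorus k H) :
    ∃ n, ∀ X, Subgroup.lowerCentralSeries (⊤ : Subgroup (X ⟶ H)) n = ⊥ := by
  obtain ⟨A, _, _, a, ha, ham⟩ := HopfQuot.exists_spec (k := k) H
  haveI := ha
  haveI := ham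
  haveI := UnipStruct.finiteType_of_iso a
  haveI := HopfLib.isNilpotent_points (NoTorus.isUnipotent_of_hasNoSubtorus hH a)
  let e : (Spec (CommRingCat.of k)).asOver (Spec (CommRingCat.of k)) ≅ 𝟙_ (Over (Spec (CommRingCat.of k))) :=
    Over.isoMk (Iso.refl _) (by
      show 𝟙 _ ≫ 𝟙 _ = Spec.map (CommRingCat.ofHom (algebraMap k k))
      rw [Category.id_comp, Algebra.algebraMap_self, show CommRingCat.ofHom (RingHom.id k) = 𝟙 _ from rfl, Spec.map_id])
  let F : WithConv (A →ₐ[k] k) →* (𝟙_ (Over (Spec (CommRingCat.of k))) ⟶ H) :=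
    MonoidHom.mk' (fun g => e.inv ≫ ptSpec (k := k) (A := A) (T := k) g ≫ a) fun g h => by
      rw [map_mul, MonObj.mul_comp, MonObj.comp_mul]
  have hF : Function.Surjective F := fun q => ⟨(ptSpec (k := k) (A := A) (T := k)).symm (e.hom ≫ q ≫ inv a), by
    show e.inv ≫ ptSpec _ ≫ a = q
    rw [MulEquiv.apply_symm_apply]
    simp⟩
  haveI := Group.nilpotent_of_surjective F hF
  obtain ⟨n, hn⟩ := Subgroup.nilpotent_iff_lowerCentralSeries.1
    (inferInstance : Group.IsNilpotent (𝟙_ (Over (Spec (CommRingCat.of k))) ⟶ H))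
  refine ⟨n, fun X => ?_⟩
  have hQ : ∀ m, Smooth (S18082.Q H m).hom := by
    intro m
    induction m with
    | zero => exact ‹Smooth H.hom›
    | succ m ih =>
      haveI := ih
      show Smooth (pullback.fst (S18082.Q H m).hom H.hom ≫ (S18082.Q H m).hom)
      infer_instance
  haveI := hQ n
  haveI : IsReduced (S18082.Q H n).left := AbSchLib.isReduced_of_smooth (S18082.Q H n).hom
  have hv : S18082.v H n = 1 := by
    refine WittPts.hom_ext_pts fun q => ?_
    rw [MonObj.comp_one]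
    refine (Subgroup.eq_bot_iff_forall _).1 hn _ ?_
    rw [S18082.central_le]
    exact Subgroup.subset_closure ⟨q, rfl⟩
  rw [S18082.central_le, Subgroup.closure_eq_bot_iff]
  rintro _ ⟨x, rfl⟩
  simp [hv]

end Unipotent

end Groth.Agent.AlgGrpLib.UnipPow
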