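import Groth.Agent.AbVarLib.HomFlat
import Mathlib.AlgebraicGeometry.Geometrically.Reduced

/-!
# Surjective homomorphisms onto geometrically reduced groups over a field are flat
-/

set_option autoImplicit false

universe u

open CategoryTheory CategoryTheory.Limits MonoidalCategory CartesianMonoidalCategory MonObj GrpObj AlgebraicGeometry

namespace Groth.Agent.AlgGrpLib

open Groth.Agent.AbVarLib Groth.Agent.DimLib

theorem flat_hom_of_surjective_algClosed {K : Type u} [Field K] [IsAlgClosed K]
    {X Y : Over (Spec (CommRingCat.of K))} [GrpObj X] [GrpObj Y]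
    [LocallyOfFiniteType X.hom] [LocallyOfFiniteType Y.hom] [IsReduced Y.left]
    (f : X ⟶ Y) [IsMonHom f] [Surjective f.left] : Flat f.left := by
  have : LocallyOfFinitePresentation X.hom := inferInstance
  have : LocallyOfFinitePresentation f.left := by
    have : LocallyOfFinitePresentation (f.left ≫ Y.hom) := by rw [Over.w f]; infer_instance
    exact Groth.Agent.H8Lim.lfp_cancel_right f.left Y.hom
  have := LocallyOfFiniteType.jacobsonSpace X.hom
  have hopen := Groth.Agent.EGA43.FlatDescent.isOpen_flat_stalkMap f.left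
  obtain ⟨o⟩ : Nonempty ↥(Spec (CommRingCat.of K)) := inferInstanceAs (Nonempty (PrimeSpectrum K))
  obtain ⟨C, hC⟩ : ∃ C, C ∈ irreducibleComponents ↥Y.left :=
    ⟨_, irreducibleComponent_mem_irreducibleComponents ((η[Y] : _ ⟶ Y).left.base o)⟩
  obtain ⟨x₀, hx₀⟩ := f.left.surjective hC.1.genericPoint
  have hflat : (f.left.stalkMap x₀).hom.Flat := by
    have hf : IsField (Y.left.presheaf.stalk (f.left x₀)) := by
      rw [hx₀]
      exact isField_stalk_of_closure_mem_irreducibleComponents _ _ (by
        rw [hC.1.closure_genericPoint (isClosed_of_mem_irreducibleComponents _ hC)]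
        exact hC)
    letI := hf.toField
    algebraize [(f.left.stalkMap x₀).hom]
    exact Module.Flat.of_free
  obtain ⟨u, hu, huc⟩ := nonempty_inter_closedPoints
    (Z := {x : X.left | (f.left.stalkMap x).hom.Flat}) ⟨x₀, hflat⟩ hopen.isLocallyClosed
  rw [Flat.iff_flat_stalkMap]
  by_contra hne
  push Not at hne
  obtain ⟨x, hx, hxc⟩ := nonempty_inter_closedPoints (Z := {x : X.left | (f.left.stalkMap x).hom.Flat}ᶜ)
    hne hopen.isClosed_compl.isLocallyClosed
  obtain ⟨θ, η', hcomm, hθ⟩ := exists_translate f u x huc hxc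
  have h2 : ((θ.hom ≫ f.left).stalkMap u).hom.Flat := by
    rw [hcomm]
    exact flat_stalkMap_iso_right f.left η'.hom u hu
  rw [flat_stalkMap_iso_left θ.hom f.left u, hθ] at h2
  exact hx h2

variable {k : Type u} [Field k] {X Y : Over (Spec (CommRingCat.of k))} [GrpObj X] [GrpObj Y]
  [LocallyOfFiniteType X.hom] [LocallyOfFiniteType Y.hom]

theorem flat_hom_of_surjective [GeometricallyReduced Y.hom] (f : X ⟶ Y) [IsMonHom f] [Surjective f.left] :
    Flat f.left := by
  let G := Over.pullback (algPt k)
  letI : GrpObj (G.obj X) := Functor.grpObjObj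
  letI : GrpObj (G.obj Y) := Functor.grpObjObj
  have hP := isPullback_pullback_map (algPt k) f
  have : Surjective (G.map f).left := MorphismProperty.of_isPullback hP inferInstance
  have : IsReduced (G.obj Y).left :=
    GeometricallyReduced.geometrically_isReduced (f := Y.hom) (algPt k) _ _ (IsPullback.of_hasPullback Y.hom _)
  have : LocallyOfFiniteType (G.obj X).hom := inferInstanceAs (LocallyOfFiniteType (pullback.snd _ _))
  have : LocallyOfFiniteType (G.obj Y).hom := inferInstanceAs (LocallyOfFiniteType (pullback.snd _ _))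
  haveI := AlgSpLib.descends_flat.{u}
  exact MorphismProperty.of_isPullback_of_descendsAlong (Q := Et18.FPQC.{u}) hP.flip (fpqc_pullback_algPt Y)
    (flat_hom_of_surjective_algClosed (G.map f))

end Groth.Agent.AlgGrpLib
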