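import Groth.Agent.GrpQLib.ChevalleyPoint
import Groth.Agent.GrpQLib.AffineGroupQuot
import Groth.Agent.HopfLib.Comod

/-!
The action on Grassmannians of an affine group through a matrix corepresentation.
-/

universe u

set_option autoImplicit false
set_option backward.isDefEq.respectTransparency.types false
set_option maxHeartbeats 800000
set_option linter.style.haveILetI false

open CategoryTheory CategoryTheory.Limits MonoidalCategory CartesianMonoidalCategory MonObj AlgebraicGeometry
open WithConv Matrix
open scoped TensorProduct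
open Groth.Agent.HopfQuot Groth.Agent.GrassLib Groth.Agent.GrpQLib

namespace Groth.Agent.AlgGrpLib.GrassAction

variable {k : Type u} [Field k] {A : Type u} [CommRing A] [HopfAlgebra k A] {n q : ℕ}

/-- A matrix corepresentation. -/
def IsCorep (a : Fin n → Fin n → A) : Prop :=
  (∀ s t, CoalgebraStruct.counit (R := k) (a s t) = if s = t then 1 else 0) ∧
    ∀ s t, CoalgebraStruct.comul (R := k) (a s t) = ∑ l, a s l ⊗ₜ[k] a l t

/-- The corepresentation of a comodule in a basis. -/
theorem isCorep_basis {V : Type u} [AddCommGroup V] [Module k V] [HopfRep.Comod k A V] (b : Module.Basis (Fin n) k V) :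
    IsCorep (k := k) fun s t => HopfLib.cf (A := A) (b.coord s) (b t) := by
  refine ⟨fun s t => ?_, fun s t => ?_⟩
  · rw [HopfLib.counit_cf, Module.Basis.coord_apply, Module.Basis.repr_self, Finsupp.single_apply]
    simp only [eq_comm]
  · have h := HopfLib.IsComodHom.coact_apply (HopfLib.isComodHom_cf (A := A) (b.coord s)) (b t)
    rw [show HopfRep.Comod.coact (k := k) (A := A) (HopfLib.cf (A := A) (b.coord s) (b t)) = _ from rfl] at h
    refine h.trans ?_
    have e : HopfRep.Comod.coact (k := k) (A := A) (b t) = ∑ l, b l ⊗ₜ[k] HopfLib.cf (A := A) (b.coord l) (b t) := by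
      simp only [HopfLib.cf_apply]
      generalize HopfRep.Comod.coact (k := k) (A := A) (b t) = z
      induction z using TensorProduct.induction_on with
      | zero => simp
      | add p r hp hr => simp only [map_add, TensorProduct.tmul_add, Finset.sum_add_distrib, ← hp, ← hr]
      | tmul v x =>
        simp only [HopfLib.sliceL_tmul, TensorProduct.tmul_smul, ← TensorProduct.smul_tmul']
        conv_lhs => rw [← b.sum_repr v]
        rw [TensorProduct.sum_tmul]
        simp [TensorProduct.smul_tmul']
    rw [e, map_sum]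
    exact Finset.sum_congr rfl fun l _ => LinearMap.rTensor_tmul _ _ _ _

variable {R R' : Type u} [CommRing R] [Algebra k R] [CommRing R'] [Algebra k R']

/-- The matrix of a point. -/
def mat (a : Fin n → Fin n → A) (g : Pt k A R) : Matrix (Fin n) (Fin n) R :=
  Matrix.of fun s t => g.ofConv (a s t)

variable {a : Fin n → Fin n → A}

theorem mat_mul (ha : IsCorep (k := k) a) (g h : Pt k A R) : mat a (g * h) = mat a g * mat a h := by
  ext s t
  simp only [mat, Matrix.of_apply, Matrix.mul_apply, HopfQuot.mul_apply, ha.2, map_sum]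
  exact Finset.sum_congr rfl fun l _ => Algebra.TensorProduct.lift_tmul _ _ _ _ _

theorem mat_one (ha : IsCorep (k := k) a) : mat a (1 : Pt k A R) = 1 := by
  ext s t
  simp only [mat, Matrix.of_apply, HopfQuot.one_apply, ha.1, Matrix.one_apply]
  split <;> simp

theorem mat_push (φ : R →ₐ[k] R') (g : Pt k A R) : mat a (push φ g) = (mat a g).map φ := rfl

/-- Coordinates of a point of the Grassmannian. -/
noncomputable def crd (N : Module.Grassmannian R (R ⊗[k] (Fin n → k)) q) : Submodule R (Fin n → R) :=
  N.toSubmodule.map (kappa (R := k) R n).toLinearMap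

theorem crd_injective : Function.Injective (crd (k := k) (R := R) (n := n) (q := q)) := fun N N' h =>
  Module.Grassmannian.ext (Submodule.map_injective_of_injective (kappa (R := k) R n).injective h)

theorem crd_map {A₁ A₂ : CommAlgCat.{u} k} (φ : A₁ ⟶ A₂) (N : Module.Grassmannian A₁ (A₁ ⊗[k] (Fin n → k)) q) :
    crd (Module.Grassmannian.map φ.hom N) = Submodule.span A₂ ((fun c : Fin n → A₁ => fun j => φ.hom (c j)) ''
      (crd N : Set (Fin n → A₁))) := by
  letI : Algebra A₁ A₂ := φ.hom.toAlgebra
  letI : IsScalarTower k A₁ A₂ := IsScalarTower.of_algebraMap_eq' φ.hom.comp_algebraMap.symm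
  refine le_antisymm (map_le_span φ N) (Submodule.span_le.2 ?_)
  rintro _ ⟨c, ⟨w, hw, rfl⟩, rfl⟩
  refine ⟨(TensorProduct.AlgebraTensorModule.cancelBaseChange k A₁ A₂ A₂ (Fin n → k)) ((1 : A₂) ⊗ₜ[A₁] w), ?_, ?_⟩
  · rw [SetLike.mem_coe, Module.Grassmannian.map_toSubmodule, LinearMap.mem_ker, Module.Grassmannian.baseChangeMkQ,
      LinearMap.comp_apply, LinearEquiv.coe_coe, LinearEquiv.symm_apply_apply, LinearMap.baseChange_tmul,
      Submodule.mkQ_apply, (Submodule.Quotient.mk_eq_zero _).2 hw, TensorProduct.tmul_zero]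
  · show kappa A₂ n _ = _
    rw [kappa_map]
    funext s
    rw [_root_.one_mul]
    rfl

/-- The matrix of a point as an automorphism of `R^n`. -/
noncomputable def matEquiv (ha : IsCorep (k := k) a) (g : Pt k A R) : (Fin n → R) ≃ₗ[R] (Fin n → R) :=
  LinearEquiv.ofLinear (mat a g).mulVecLin (mat a g⁻¹).mulVecLin
    (by rw [← Matrix.mulVecLin_mul, ← mat_mul ha, mul_inv_cancel, mat_one ha, Matrix.mulVecLin_one])
    (by rw [← Matrix.mulVecLin_mul, ← mat_mul ha, inv_mul_cancel, mat_one ha, Matrix.mulVecLin_one])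

theorem matEquiv_apply (ha : IsCorep (k := k) a) (g : Pt k A R) (v : Fin n → R) :
    matEquiv ha g v = mat a g *ᵥ v := rfl

/-- The image of a point of the Grassmannian. -/
noncomputable def move (ha : IsCorep (k := k) a) (g : Pt k A R) (N : Module.Grassmannian R (R ⊗[k] (Fin n → k)) q) :
    Module.Grassmannian R (R ⊗[k] (Fin n → k)) q :=
  let E := (kappa (R := k) R n) ≪≫ₗ matEquiv ha g ≪≫ₗ (kappa (R := k) R n).symm
  let eq := Submodule.Quotient.equiv N.toSubmodule (N.toSubmodule.map E.toLinearMap) E rfl
  { toSubmodule := N.toSubmodule.map E.toLinearMap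
    finite_quotient := Module.Finite.equiv eq
    projective_quotient := Module.Projective.of_equiv eq
    rankAtStalk_eq := fun p => (congrFun (Module.rankAtStalk_eq_of_equiv eq.symm) p).trans (N.rankAtStalk_eq p) }

theorem crd_move (ha : IsCorep (k := k) a) (g : Pt k A R) (N : Module.Grassmannian R (R ⊗[k] (Fin n → k)) q) :
    crd (move ha g N) = (crd N).map (mat a g).mulVecLin := by
  simp only [crd, move, ← Submodule.map_comp]
  congr 1
  refine LinearMap.ext fun x => ?_
  simp [matEquiv_apply]

theorem crd_move_push (ha : IsCorep (k := k) a) {A₁ A₂ : CommAlgCat.{u} k} (φ : A₁ ⟶ A₂) (g : Pt k A A₁)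
    (N : Module.Grassmannian A₁ (A₁ ⊗[k] (Fin n → k)) q) :
    move ha (push φ.hom g) (Module.Grassmannian.map φ.hom N) = Module.Grassmannian.map φ.hom (move ha g N) := by
  refine crd_injective ?_
  rw [crd_move, crd_map, crd_map, crd_move, Submodule.map_span, Submodule.map_coe, ← Set.image_comp, ← Set.image_comp]
  congr 1
  refine Set.image_congr' fun c => ?_
  funext s
  exact (RingHom.map_mulVec φ.hom.toRingHom (mat a g) c s).symm

theorem move_mul (ha : IsCorep (k := k) a) (g h : Pt k A R) (N : Module.Grassmannian R (R ⊗[k] (Fin n → k)) q) :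
    move ha (g * h) N = move ha g (move ha h N) := by
  refine crd_injective ?_
  rw [crd_move, crd_move, crd_move, ← Submodule.map_comp, ← Matrix.mulVecLin_mul, mat_mul ha]

theorem move_one (ha : IsCorep (k := k) a) (N : Module.Grassmannian R (R ⊗[k] (Fin n → k)) q) :
    move ha 1 N = N := by
  refine crd_injective ?_
  rw [crd_move, mat_one ha, Matrix.mulVecLin_one, Submodule.map_id]

theorem ptOf_ptSpec {T : CommAlgCat.{u} k} (w : Pt k A T) : ptOf (T := T) (ptSpec w) = w :=
  MulEquiv.symm_apply_apply _ w

theorem ptOf_one {T : CommAlgCat.{u} k} : ptOf (T := T) (1 : GrassLib.pt T ⟶ spec (k := k) A) = 1 :=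
  (ptSpec (k := k) (A := A) (T := T)).symm.map_one

theorem ptOf_mul {T : CommAlgCat.{u} k} (p q : GrassLib.pt T ⟶ spec (k := k) A) :
    ptOf (T := T) (p * q) = ptOf p * ptOf q :=
  (ptSpec (k := k) (A := A) (T := T)).symm.map_mul p q

/-- An affine group with a corepresentation acts on the Grassmannian. -/
theorem exists_action (ha : IsCorep (k := k) a) :
    ∃ act : AlgGrp.Action (spec (k := k) A) (GrOver n q k),
      ∀ (T : CommAlgCat.{u} k) (p : GrassLib.pt T ⟶ spec (k := k) A) (x : GrassLib.pt T ⟶ GrOver n q k),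
        repFree n q k T (lift p x ≫ act.act) = move ha (ptOf p) (repFree n q k T x) := by
  let Φ : ∀ T : CommAlgCat.{u} k, (GrassLib.pt T ⟶ spec (k := k) A ⊗ GrOver n q k) → (GrassLib.pt T ⟶ GrOver n q k) :=
    fun T z => (repFree n q k T).symm
      (move ha (ptOf (z ≫ fst _ _)) (repFree n q k T (z ≫ snd _ _)))
  obtain ⟨act, hact⟩ := GrassLib.exists_hom (X := spec (k := k) A ⊗ GrOver n q k) (Y := GrOver n q k) Φ
    (fun T T' φ z z' h => by
      let h₀ : GrassLib.pt T' ⟶ GrassLib.pt T := Over.homMk (Spec.map (CommRingCat.ofHom φ.hom.toRingHom)) (by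
        show Spec.map _ ≫ Spec.map _ = Spec.map _
        rw [← Spec.map_comp, ← CommRingCat.ofHom_comp]
        exact congrArg (fun r => Spec.map (CommRingCat.ofHom r)) φ.hom.comp_algebraMap)
      have hz : z' = h₀ ≫ z := Over.OverMorphism.ext h
      obtain ⟨w, hw⟩ := (ptSpec (k := k) (A := A) (T := T)).surjective (z ≫ fst _ _)
      have hw' : z' ≫ fst _ _ = ptSpec (HopfQuot.push φ.hom w) := by
        refine Over.OverMorphism.ext ?_
        refine (congrArg (fun v : GrassLib.pt T' ⟶ _ => (v ≫ fst _ _).left) hz).trans ?_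
        refine (congrArg (fun v => h₀.left ≫ Over.Hom.left v) hw.symm).trans ?_
        show Spec.map _ ≫ Spec.map _ = Spec.map _
        rw [← Spec.map_comp]
        rfl
      have hx := repFree_natural T T' φ (z ≫ snd _ _) (z' ≫ snd _ _) (congrArg (fun v : GrassLib.pt T' ⟶ _ => (v ≫ snd _ _).left) hz)
      have key : Φ T' z' = h₀ ≫ Φ T z := by
        show (repFree n q k T').symm _ = h₀ ≫ (repFree n q k T).symm _
        refine (Equiv.symm_apply_eq _).2 (Eq.trans ?_ (repFree_natural T T' φ ((repFree n q k T).symm _) _ rfl).symm)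
        rw [Equiv.apply_symm_apply]
        refine (congrArg₂ (fun g N => move ha g N) ((congrArg ptOf hw').trans (ptOf_ptSpec _)) hx).trans ?_
        refine (crd_move_push ha φ w _).trans ?_
        exact congrArg (fun g => Module.Grassmannian.map φ.hom (move ha g _)) ((congrArg ptOf hw.symm).trans (ptOf_ptSpec _)).symm
      exact congrArg CommaMorphism.left key)
  have hpt : ∀ (T : CommAlgCat.{u} k) (p : GrassLib.pt T ⟶ spec (k := k) A) (x : GrassLib.pt T ⟶ GrOver n q k),
      repFree n q k T (lift p x ≫ act) = move ha (ptOf p) (repFree n q k T x) := fun T p x => by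
    rw [hact, Equiv.apply_symm_apply]
    exact congrArg₂ (fun g N => move ha g N) (congrArg ptOf (lift_fst p x)) (congrArg (repFree n q k T) (lift_snd p x))
  refine ⟨⟨act, ?_, ?_⟩, hpt⟩
  · refine GrassLib.hom_ext_points fun T z => (repFree n q k T).injective ?_
    have e : z ≫ (η[spec (k := k) A] ▷ GrOver n q k) = lift 1 (z ≫ snd _ _) := by
      refine CartesianMonoidalCategory.hom_ext _ _ ?_ (by simp)
      rw [Category.assoc, whiskerRight_fst, lift_fst, ← Category.assoc,
        toUnit_unique (z ≫ fst _ _) (toUnit _), Hom.one_def]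
    rw [← Category.assoc, e, hpt, ptOf_one, move_one, leftUnitor_hom]
  · refine GrassLib.hom_ext_points fun T z => (repFree n q k T).injective ?_
    let g := z ≫ fst (spec (k := k) A ⊗ spec (k := k) A) (GrOver n q k)
    let x := z ≫ snd (spec (k := k) A ⊗ spec (k := k) A) (GrOver n q k)
    have e1 : z ≫ (μ[spec (k := k) A] ▷ GrOver n q k) = lift ((g ≫ fst _ _) * (g ≫ snd _ _)) x := by
      refine CartesianMonoidalCategory.hom_ext _ _ ?_ (by simp [x])
      rw [Category.assoc, whiskerRight_fst, lift_fst, Hom.mul_def, ← comp_lift, lift_fst_snd, Category.comp_id,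
        ← Category.assoc]
    have e2 : z ≫ (α_ _ _ _).hom ≫ (spec (k := k) A ◁ act) = lift (g ≫ fst _ _) (lift (g ≫ snd _ _) x ≫ act) := by
      refine CartesianMonoidalCategory.hom_ext _ _ ?_ ?_
      · simp [g]
      · rw [Category.assoc, Category.assoc, whiskerLeft_snd, lift_snd, ← Category.assoc (α_ _ _ _).hom,
          ← Category.assoc]
        congr 1
        refine CartesianMonoidalCategory.hom_ext _ _ ?_ ?_ <;> simp [g, x]
    rw [← Category.assoc, e1, ← Category.assoc (α_ _ _ _).hom, ← Category.assoc, e2, hpt, hpt, hpt, ptOf_mul, move_mul]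

end Groth.Agent.AlgGrpLib.GrassAction
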