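import Groth.Agent.AlgGrpLib.TorusToProper
import Groth.Agent.AlgGrpLib.ExactSeqBasics
import Groth.Agent.Et18.RosenlichtGeom
import Groth.Agent.TorusConnLib.Connected
import Groth.Agent.AbVarLib.MulIsogeny
import Groth.Agent.AbVarLib.PerfectReduced
import Groth.Agent.GaGmQuot.GaSmooth
import Groth.Agent.NeronLib.RigidProduct
import Mathlib.AlgebraicGeometry.Morphisms.LocalFlatDescent

/-! Morphisms from a product to a torus; smooth connectedness of extensions by tori. -/

set_option autoImplicit false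
set_option backward.isDefEq.respectTransparency.types false

universe u

open CategoryTheory CategoryTheory.Limits MonoidalCategory CartesianMonoidalCategory MonObj AlgebraicGeometry
open Groth.Agent.SGA3cLib

namespace Groth.Agent.AlgGrpLib.AxesTorus

variable {k : Type u} [Field k]

theorem smooth_of_isTorus {T : Over (Spec (CommRingCat.of k))} [GrpObj T] (hT : Red.IsTorus T) : Smooth T.hom := by
  obtain ⟨Ω, _, _, g, r, e, -⟩ := TorusToProper.exists_split_point hT
  let D := Red.DS (Spec (CommRingCat.of Ω)) (Fin r → ℤ)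
  haveI := TorusToProper.locallyOfFiniteType_DS (K := Ω) r
  haveI := TorusToProper.isReduced_DS (K := Ω) (Fin r → ℤ)
  haveI : GeometricallyReduced D.hom := AbVarLib.geometricallyReduced_of_perfectField D.hom
  haveI : Smooth D.hom := AbVarLib.smooth_of_geometricallyReduced D
  haveI : Smooth (pullback.snd T.hom g) := by
    show Smooth (Red.bc g T).hom
    rw [← Over.w e.hom]
    exact inferInstanceAs (Smooth (e.hom.left ≫ D.hom))
  haveI : Surjective g := ⟨fun y => ⟨IsLocalRing.closedPoint Ω, Subsingleton.elim _ _⟩⟩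
  haveI : QuasiCompact g := inferInstance
  exact MorphismProperty.of_pullback_snd_of_descendsAlong (P := @Smooth) (Q := @Surjective ⊓ @Flat ⊓ @QuasiCompact)
    (g := g) ⟨⟨inferInstance, inferInstance⟩, inferInstance⟩ inferInstance

theorem geometricallyIntegral_of_extension {T G A : Over (Spec (CommRingCat.of k))} [GrpObj T] [GrpObj G] [GrpObj A]
    [LocallyOfFiniteType G.hom] [QuasiCompact G.hom] [Smooth A.hom] [IsSeparated A.hom] [ConnectedSpace A.left]
    (i : T ⟶ G) (q : G ⟶ A) [IsMonHom q] [Surjective q.left] [Flat q.left] (hT : Red.IsTorus T)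
    (hk : AlgGrp.IsKernel i q) : GeometricallyIntegral G.hom := by
  haveI := smooth_of_isTorus hT
  haveI := TorusConnLib.connectedSpace T hT
  haveI : ConnectedSpace G.left := ExactSeqBasics.connectedSpace_of_kernel q i hk
  haveI : QuasiCompact q.left := by
    haveI : QuasiCompact (q.left ≫ A.hom) := by rw [Over.w q]; infer_instance
    exact QuasiCompact.of_comp q.left A.hom
  have h := (AbVarLib.isPullback_kernel q i hk).map (Over.forget (Spec (CommRingCat.of k)))
  haveI : Smooth (pullback.fst q.left q.left) := by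
    haveI : Smooth ((Over.forget _).map (fst G T)) := inferInstanceAs (Smooth (pullback.fst G.hom T.hom))
    have h2 : Smooth (h.isoPullback.inv ≫ (Over.forget _).map (fst G T)) := inferInstance
    rw [h.isoPullback_inv_fst] at h2
    exact h2
  haveI : Smooth q.left := MorphismProperty.of_pullback_fst_of_descendsAlong (P := @Smooth)
    (Q := @Surjective ⊓ @Flat ⊓ @QuasiCompact) (f := q.left) (g := q.left) ⟨⟨inferInstance, inferInstance⟩, inferInstance⟩ inferInstance
  haveI : Smooth G.hom := by rw [← Over.w q]; infer_instance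
  exact GaGmQuot.geometricallyIntegral_of_connected G

theorem eq_one_of_axes_split {Ω : Type u} [Field Ω] {r : ℕ} {P Q : Over (Spec (CommRingCat.of Ω))}
    [LocallyOfFiniteType P.hom] [QuasiCompact P.hom] [GeometricallyReduced P.hom] [GeometricallyConnected P.hom]
    [LocallyOfFiniteType Q.hom] [QuasiCompact Q.hom] [GeometricallyReduced Q.hom] [GeometricallyConnected Q.hom]
    (p : 𝟙_ _ ⟶ P) (p' : 𝟙_ _ ⟶ Q) (φ : P ⊗ Q ⟶ Red.DS (Spec (CommRingCat.of Ω)) (Fin r → ℤ))
    (h1 : lift (𝟙 P) (toUnit P ≫ p') ≫ φ = 1) (h2 : lift (toUnit Q ≫ p) (𝟙 Q) ≫ φ = 1) : φ = 1 := by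
  refine dsFn_injective (MonoidHom.ext fun m => ?_)
  rw [dsFn_one]
  have e1 := congrArg (fun ψ => dsFn ψ m) h1
  have e2 := congrArg (fun ψ => dsFn ψ m) h2
  simp only [dsFn_comp, dsFn_one] at e1 e2
  refine Et18.Rosenlicht.eq_one_of_axes_field P.hom Q.hom ⟨p.left, Over.w p⟩ ⟨p'.left, Over.w p'⟩
    ((Group.isUnit m).map (dsFn φ)) ?_ ?_
  · exact e1
  · exact e2

theorem eq_one_of_axes {T P Q : Over (Spec (CommRingCat.of k))} [GrpObj T] (hT : Red.IsTorus T)
    [LocallyOfFiniteType P.hom] [QuasiCompact P.hom] [GeometricallyIntegral P.hom]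
    [LocallyOfFiniteType Q.hom] [QuasiCompact Q.hom] [GeometricallyIntegral Q.hom]
    (p : 𝟙_ _ ⟶ P) (p' : 𝟙_ _ ⟶ Q) (φ : P ⊗ Q ⟶ T)
    (h1 : lift (𝟙 P) (toUnit P ≫ p') ≫ φ = 1) (h2 : lift (toUnit Q ≫ p) (𝟙 Q) ≫ φ = 1) : φ = 1 := by
  obtain ⟨Ω, _, _, g, r, e, he⟩ := TorusToProper.exists_split_point hT
  haveI := he
  let F := Over.pullback g
  haveI : GeometricallyIntegral (F.obj P).hom := MorphismProperty.pullback_snd P.hom g inferInstance
  haveI : GeometricallyIntegral (F.obj Q).hom := MorphismProperty.pullback_snd Q.hom g inferInstance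
  haveI : LocallyOfFiniteType (F.obj P).hom := MorphismProperty.pullback_snd (P := @LocallyOfFiniteType) P.hom g inferInstance
  haveI : LocallyOfFiniteType (F.obj Q).hom := MorphismProperty.pullback_snd (P := @LocallyOfFiniteType) Q.hom g inferInstance
  haveI : QuasiCompact (F.obj P).hom := MorphismProperty.pullback_snd (P := @QuasiCompact) P.hom g inferInstance
  haveI : QuasiCompact (F.obj Q).hom := MorphismProperty.pullback_snd (P := @QuasiCompact) Q.hom g inferInstance
  haveI : GeometricallyConnected (F.obj P).hom := NeronLib.geometricallyConnected_of_irreducible _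
  haveI : GeometricallyConnected (F.obj Q).hom := NeronLib.geometricallyConnected_of_irreducible _
  refine TorusToProper.eq_of_bc g ?_
  rw [Functor.map_one F, ← cancel_epi (Functor.LaxMonoidal.μ F P Q), MonObj.comp_one]
  have key : (Functor.LaxMonoidal.μ F P Q ≫ F.map φ) ≫ e.hom = 1 := by
    refine eq_one_of_axes_split (P := F.obj P) (Q := F.obj Q) (Functor.LaxMonoidal.ε F ≫ F.map p)
      (Functor.LaxMonoidal.ε F ≫ F.map p') _ ?_ ?_
    · have hl : F.map (lift (𝟙 P) (toUnit P ≫ p')) = lift (𝟙 (F.obj P)) (toUnit (F.obj P) ≫ Functor.LaxMonoidal.ε F ≫ F.map p') ≫ Functor.LaxMonoidal.μ F P Q := by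
        rw [← Functor.Monoidal.lift_μ, Functor.map_comp, CategoryTheory.Functor.map_id, ← Functor.Monoidal.toUnit_ε, Category.assoc]
      rw [← Category.assoc, ← Category.assoc, ← hl, ← Functor.map_comp, h1, Functor.map_one]
      exact MonObj.one_comp (M := Red.bc g T) e.hom
    · have hl : F.map (lift (toUnit Q ≫ p) (𝟙 Q)) = lift (toUnit (F.obj Q) ≫ Functor.LaxMonoidal.ε F ≫ F.map p) (𝟙 (F.obj Q)) ≫ Functor.LaxMonoidal.μ F P Q := by
        rw [← Functor.Monoidal.lift_μ, Functor.map_comp, CategoryTheory.Functor.map_id, ← Functor.Monoidal.toUnit_ε, Category.assoc]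
      rw [← Category.assoc, ← Category.assoc, ← hl, ← Functor.map_comp, h2, Functor.map_one]
      exact MonObj.one_comp (M := Red.bc g T) e.hom
  rw [← cancel_mono e.hom, key]
  exact (MonObj.one_comp (M := Red.bc g T) e.hom).symm

/-- A semi-abelian group is commutative. -/
theorem isCommMonObj_of_extension {T G A : Over (Spec (CommRingCat.of k))} [GrpObj T] [GrpObj G] [GrpObj A]
    [LocallyOfFiniteType G.hom] [QuasiCompact G.hom] [IsProper A.hom] [Smooth A.hom] [ConnectedSpace A.left]
    (i : T ⟶ G) [IsClosedImmersion i.left] [IsMonHom i] (q : G ⟶ A) [IsMonHom q] [Surjective q.left] [Flat q.left] (hT : Red.IsTorus T)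
    (hk : AlgGrp.IsKernel i q) : IsCommMonObj G := by
  haveI := geometricallyIntegral_of_extension i q hT hk
  haveI : GeometricallyIntegral A.hom := GaGmQuot.geometricallyIntegral_of_connected A
  haveI : IsCommMonObj A := isCommMonObj_of_isProper_of_geometricallyIntegral A
  haveI : Mono i := Over.mono_of_mono_left _
  let x : G ⊗ G ⟶ G := fst G G
  let y : G ⊗ G ⟶ G := snd G G
  let c : G ⊗ G ⟶ G := x * y * x⁻¹ * y⁻¹
  have hc : c ≫ q = 1 := by
    simp only [c, MonObj.mul_comp, GrpObj.inv_comp]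
    rw [mul_comm (x ≫ q) (y ≫ q)]
    group
  obtain ⟨d, hd, -⟩ := hk.exists_lift c (toUnit _) (hc.trans Hom.one_def)
  have h1 : (1 : 𝟙_ _ ⟶ G) = η[G] := by rw [Hom.one_def, toUnit_unique (toUnit (𝟙_ _)) (𝟙 _), Category.id_comp]
  have hd1 : d = 1 := by
    refine eq_one_of_axes hT η[G] η[G] d ?_ ?_ <;>
    · rw [← cancel_mono i, Category.assoc, hd, MonObj.one_comp, ← h1, MonObj.comp_one]
      simp only [c, x, y, MonObj.comp_mul, GrpObj.comp_inv, lift_fst, lift_snd]
      simp
  rw [hd1, MonObj.one_comp] at hd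
  have hxy : x * y = y * x := by
    have h2 : x * y * x⁻¹ * y⁻¹ = 1 := hd.symm
    rwa [mul_inv_eq_one, mul_inv_eq_iff_eq_mul] at h2
  constructor
  rw [show μ[G] = x * y from by simp [x, y, Hom.mul_def], MonObj.comp_mul, hxy]
  simp [x, y]

end Groth.Agent.AlgGrpLib.AxesTorus
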