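import Groth.Agent.S3278
import Groth.Agent.AlgGrpLib.ExactSeqBasics
import Groth.Agent.AlgGrpLib.KernelGrp
import Groth.Agent.AlgGrpLib.SubgroupCalc
import Groth.Agent.SGA3cLib.MonoClosed
import Groth.Agent.SGA3cLib.BCPoints
import Groth.Agent.FlatMor12.GeomDescent
import Groth.Agent.SGA3xLib.SepFibre
import Mathlib.AlgebraicGeometry.Morphisms.QuasiFinite

/-! Affine groups: quotients are affine; homomorphisms to proper groups. -/

set_option autoImplicit false
set_option backward.isDefEq.respectTransparency.types false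

universe u

open CategoryTheory CategoryTheory.Limits MonoidalCategory CartesianMonoidalCategory MonObj AlgebraicGeometry

namespace Groth.Agent.AlgGrpLib.AffineToProper

variable {k : Type u} [Field k] {G Q A : Over (Spec (CommRingCat.of k))} [GrpObj G] [GrpObj Q] [GrpObj A]

/-- Every homomorphism has a kernel which is a closed normal subgroup. -/
theorem exists_kernel [LocallyOfFiniteType A.hom] (f : G ⟶ A) [IsMonHom f] :
    ∃ (N : Over (Spec (CommRingCat.of k))) (_ : GrpObj N) (i : N ⟶ G),
      IsMonHom i ∧ IsClosedImmersion i.left ∧ AlgGrp.IsKernel i f ∧ AlgGrp.IsNormalHom i := by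
  let N := Limits.pullback f η[A]
  have hk : AlgGrp.IsKernel (Limits.pullback.fst f η[A]) f := by
    have h := IsPullback.of_hasPullback f η[A]
    rwa [toUnit_unique (Limits.pullback.snd f η[A]) (toUnit _)] at h
  obtain ⟨hN, hi⟩ := exists_grpObj_kernel f _ hk
  letI := hN
  haveI : IsClosedImmersion η[A].left := SGA3xLib.isClosedImmersion_of_section A.hom _ (Over.w η[A])
  exact ⟨N, hN, _, hi, MorphismProperty.of_isPullback (hk.map (Over.forget _)).flip ‹IsClosedImmersion η[A].left›, hk,
    ExactSeqBasics.isNormalHom_kernel f hk⟩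

/-- The target of a flat surjective homomorphism from an affine group is affine. -/
theorem isAffine_of_flat_surjective [IsAffine G.left] [LocallyOfFiniteType G.hom] [LocallyOfFiniteType Q.hom]
    (f : G ⟶ Q) [IsMonHom f] [Flat f.left] [Surjective f.left] : IsAffine Q.left := by
  obtain ⟨N, _, i, _, _, hk, hn⟩ := exists_kernel f
  obtain ⟨Q', _, q', _, haff, _, _, _, hk'⟩ := Groth.Agent.S3278.result k G N i hn
  haveI : QuasiCompact G.hom := inferInstance
  haveI := quasiCompact_left f
  haveI := quasiCompact_left q'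
  obtain ⟨g, hg⟩ := ExactSeqBasics.exists_desc q' hk' f (kernel_comp hk)
  obtain ⟨g', hg'⟩ := ExactSeqBasics.exists_desc f hk q' (kernel_comp hk')
  haveI : Epi q'.left := Flat.epi_of_flat_of_surjective _
  haveI : Epi f.left := Flat.epi_of_flat_of_surjective _
  haveI : Epi q' := Over.epi_of_epi_left _
  haveI : Epi f := Over.epi_of_epi_left _
  let e : Q' ≅ Q := ⟨g, g', by rw [← cancel_epi q', reassoc_of% hg, hg', Category.comp_id],
    by rw [← cancel_epi f, reassoc_of% hg', hg, Category.comp_id]⟩
  haveI := haff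
  haveI : IsIso e.inv.left := ((Over.forget _).mapIso e).isIso_inv
  exact IsAffine.of_isIso e.inv.left

/-- A finite connected reduced group scheme over a field is trivial. -/
theorem isIso_unit [IsFinite Q.hom] [ConnectedSpace Q.left] [IsReduced Q.left] : IsIso η[Q] := by
  haveI : IsClosedImmersion η[Q].left := SGA3xLib.isClosedImmersion_of_section Q.hom _ (Over.w η[Q])
  haveI : Finite ↥Q.left := by
    have h := Q.hom.finite_preimage_singleton (IsLocalRing.closedPoint k)
    exact Set.finite_univ_iff.1 (h.subset fun x _ => Subsingleton.elim (α := PrimeSpectrum k) _ _)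
  haveI : JacobsonSpace ↥Q.left := LocallyOfFiniteType.jacobsonSpace Q.hom
  haveI : DiscreteTopology ↥Q.left := inferInstance
  haveI : Subsingleton ↥Q.left := PreconnectedSpace.trivial_of_discrete
  haveI : Surjective η[Q].left := ⟨fun x => ⟨IsLocalRing.closedPoint k, Subsingleton.elim _ _⟩⟩
  haveI : IsIso η[Q].left := isIso_of_isClosedImmersion_of_surjective _
  exact (isIso_iff_of_reflects_iso η[Q] (Over.forget _)).1 ‹IsIso η[Q].left›

/-- A homomorphism from a connected, geometrically reduced affine group to a proper group is trivial. -/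
theorem eq_one_of_affine_to_proper [IsAffine G.left] [LocallyOfFiniteType G.hom] [ConnectedSpace G.left]
    [IsReduced G.left] [IsProper A.hom] (f : G ⟶ A) [IsMonHom f] : f = 1 := by
  obtain ⟨N, _, i, _, _, hk, hn⟩ := exists_kernel f
  obtain ⟨Q', _, q, _, haff, _, _, _, hk'⟩ := Groth.Agent.S3278.result k G N i hn
  haveI := haff
  haveI : QuasiCompact G.hom := inferInstance
  haveI : QuasiCompact q.left := quasiCompact_left q
  haveI : Epi q.left := Flat.epi_of_flat_of_surjective _
  haveI : Epi q := Over.epi_of_epi_left _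
  obtain ⟨g, hg⟩ := ExactSeqBasics.exists_desc q hk' f (kernel_comp hk)
  haveI : IsMonHom g := by
    refine SGA3cLib.BCPoints.isMonHom_of_mul g fun T x y => ?_
    obtain ⟨T₁, c₁, x', _, _, _, hx⟩ := exists_lift_cover q x
    obtain ⟨T₂, c₂, y', _, _, _, hy⟩ := exists_lift_cover q (c₁ ≫ y)
    haveI : Epi c₁.left := Flat.epi_of_flat_of_surjective _
    haveI : Epi c₂.left := Flat.epi_of_flat_of_surjective _
    haveI : Epi c₁ := Over.epi_of_epi_left _
    haveI : Epi c₂ := Over.epi_of_epi_left _
    rw [← cancel_epi c₁, ← cancel_epi c₂]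
    have h1 : c₂ ≫ c₁ ≫ x = (c₂ ≫ x') ≫ q := by rw [Category.assoc, hx]
    have h2 : c₂ ≫ c₁ ≫ y = y' ≫ q := hy.symm
    simp only [MonObj.comp_mul, ← Category.assoc, ← MonObj.mul_comp] at h1 h2 ⊢
    rw [h1, h2, ← MonObj.mul_comp, Category.assoc, hg, MonObj.mul_comp]
    simp only [Category.assoc, hg]
  haveI : Mono g := ⟨fun {T} x y hxy => by
    have h1 : (x * y⁻¹) ≫ g = 1 := by rw [MonObj.mul_comp, GrpObj.inv_comp, hxy, mul_inv_cancel]
    obtain ⟨T₁, c, z, _, _, _, hz⟩ := exists_lift_cover q (x * y⁻¹)
    haveI : Epi c.left := Flat.epi_of_flat_of_surjective _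
    haveI : Epi c := Over.epi_of_epi_left _
    have h2 : z ≫ f = 1 := by rw [← hg, ← Category.assoc, hz, Category.assoc, h1, MonObj.comp_one]
    obtain ⟨n, rfl⟩ := exists_lift_kernel hk h2
    rw [Category.assoc, kernel_comp hk', MonObj.comp_one] at hz
    have : x * y⁻¹ = 1 := by rw [← cancel_epi c, ← hz, MonObj.comp_one]
    exact mul_inv_eq_one.1 this⟩
  haveI : QuasiCompact Q'.hom := inferInstance
  haveI : QuasiCompact g.left := quasiCompact_left g
  haveI : IsClosedImmersion g.left := SGA3cLib.isClosedImmersion_of_mono g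
  haveI : IsProper Q'.hom := by rw [← Over.w g]; infer_instance
  haveI : IsAffineHom Q'.hom := inferInstance
  haveI : IsFinite Q'.hom := (IsFinite.iff_isProper_and_isAffineHom).2 ⟨inferInstance, inferInstance⟩
  haveI : ConnectedSpace ↥Q'.left := q.left.surjective.connectedSpace q.left.continuous
  haveI : IsReduced Q'.left := FlatMor12.isReduced_of_flat_surjective q.left
  haveI : IsIso η[Q'] := isIso_unit
  have h3 : (toUnit Q') ≫ η[Q'] = 𝟙 Q' := by
    rw [toUnit_unique (toUnit Q') (inv η[Q']), IsIso.inv_hom_id]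
  rw [← hg, ← Category.id_comp g, ← h3, Category.assoc, IsMonHom.one_hom g, ← Hom.one_def, MonObj.comp_one]

end Groth.Agent.AlgGrpLib.AffineToProper
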