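import Groth.Agent.SGA3cLib.DSChar
import Groth.Agent.SGA3cLib.CentralEqBasic
import Groth.Agent.SGA3cLib.TorusBasic
import Groth.Agent.SGA3cLib.BCPoints
import Groth.Agent.SGA3xLib.SepFibre
import Groth.Agent.AlgGrpLib.PointsDense
import Groth.Agent.NeronLib.AffineConst
import Mathlib.RingTheory.TensorProduct.MonoidAlgebra
import Mathlib.Algebra.MonoidAlgebra.NoZeroDivisors
import Mathlib.RingTheory.Polynomial.Basic
import Mathlib.Algebra.MvPolynomial.Nilpotent

/-! Morphisms of pointed schemes from a torus to a proper group scheme over a field are trivial. -/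

set_option autoImplicit false
set_option backward.isDefEq.respectTransparency.types false

universe u

open CategoryTheory CategoryTheory.Limits MonoidalCategory CartesianMonoidalCategory MonObj AlgebraicGeometry
open Groth.Agent.SGA3cLib

namespace Groth.Agent.AlgGrpLib.TorusToProper

variable {K : Type u} [Field K]

attribute [-instance] ULift.module ULift.smulLeft ULift.mulAction ULift.smulZeroClass ULift.distribSMul
  ULift.distribMulAction ULift.mulDistribMulAction ULift.smulWithZero ULift.mulActionWithZero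

open TensorProduct in
theorem isReduced_DS (M : Type) [AddCommGroup M] [UniqueSums M] :
    IsReduced (Red.DS (Spec (CommRingCat.of K)) M).left := by
  letI : Algebra (ULift.{u} ℤ) K := algR₀ K
  let A := MonoidAlgebra (ULift.{u} ℤ) (Multiplicative M)
  haveI : _root_.IsReduced (MonoidAlgebra K (Multiplicative M)) := by
    haveI : NoZeroDivisors (MonoidAlgebra K (Multiplicative M)) := inferInstance
    infer_instance
  let e₁ := (Algebra.TensorProduct.comm (ULift.{u} ℤ) A K).trans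
    ((MonoidAlgebra.scalarTensorEquiv (M := Multiplicative M) (ULift.{u} ℤ) K).restrictScalars (ULift.{u} ℤ))
  haveI : _root_.IsReduced (A ⊗[ULift.{u} ℤ] K) := isReduced_of_injective e₁.toRingHom e₁.injective
  haveI : IsReduced (Spec (CommRingCat.of (A ⊗[ULift.{u} ℤ] K))) := inferInstance
  haveI := isReduced_of_isOpenImmersion (pullbackSpecIso (ULift.{u} ℤ) A K).hom
  refine isReduced_of_isOpenImmersion (X := (Red.DS (Spec (CommRingCat.of K)) M).left)
    (pullback.congrHom (specULiftZIsTerminal.hom_ext _ (Spec.map (CommRingCat.ofHom (algebraMap (ULift.{u} ℤ) A))))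
      (specULiftZIsTerminal.hom_ext _ (Spec.map (CommRingCat.ofHom (algebraMap (ULift.{u} ℤ) K))))).hom

theorem locallyOfFiniteType_DS (r : ℕ) :
    LocallyOfFiniteType (Red.DS (Spec (CommRingCat.of K)) (Fin r → ℤ)).hom := by
  refine MorphismProperty.pullback_snd (P := @LocallyOfFiniteType) _ _ ?_
  show LocallyOfFiniteType (Spec.map (CommRingCat.ofHom (algebraMap (ULift.{u} ℤ) (MonoidAlgebra (ULift.{u} ℤ) (Multiplicative (Fin r → ℤ))))))
  rw [HasRingHomProperty.Spec_iff (P := @LocallyOfFiniteType)]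
  exact RingHom.finiteType_algebraMap.2 inferInstance

/-- A `K`-point of a split torus is sent to the neutral element. -/
theorem point_comp_eq_one [Infinite K] {r : ℕ} {A : Over (Spec (CommRingCat.of K))} [GrpObj A] [IsProper A.hom]
    (f : Red.DS (Spec (CommRingCat.of K)) (Fin r → ℤ) ⟶ A) (h1 : (1 : 𝟙_ _ ⟶ Red.DS (Spec (CommRingCat.of K)) (Fin r → ℤ)) ≫ f = 1)
    (x : 𝟙_ (Over (Spec (CommRingCat.of K))) ⟶ Red.DS (Spec (CommRingCat.of K)) (Fin r → ℤ)) : x ≫ f = 1 := by
  classical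
  let P := MvPolynomial PUnit.{u + 1} K
  let χ : Multiplicative (Fin r → ℤ) →* K := (Scheme.ΓSpecIso (CommRingCat.of K)).hom.hom.toMonoidHom.comp (dsFn x)
  let c : Fin r → K := fun i => χ (Multiplicative.ofAdd (Pi.single i 1))
  have hc : ∀ i, c i ≠ 0 := fun i => ((Group.isUnit _).map χ).ne_zero
  let l : Fin r → P := fun i => 1 + MvPolynomial.C (c i - 1) * MvPolynomial.X PUnit.unit
  let g : P := ∏ i, l i
  let L := Localization.Away g
  have hu : ∀ i, IsUnit (algebraMap P L (l i)) := fun i =>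
    isUnit_of_dvd_unit (map_dvd (algebraMap P L) (Finset.dvd_prod_of_mem l (Finset.mem_univ i)))
      (IsLocalization.Away.algebraMap_isUnit g)
  let φ : Multiplicative (Fin r → ℤ) →* L :=
    { toFun := fun m => ((∏ i, (hu i).unit ^ (Multiplicative.toAdd m i) : Lˣ) : L)
      map_one' := by simp
      map_mul' := fun a b => by
        rw [← Units.val_mul, ← Finset.prod_mul_distrib]
        refine congrArg Units.val (Finset.prod_congr rfl fun i _ => ?_)
        simp [zpow_add] }
  let e : Spec (CommRingCat.of L) ⟶ Spec (CommRingCat.of P) := Spec.map (CommRingCat.ofHom (algebraMap P L))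
  haveI : IsOpenImmersion e := IsOpenImmersion.of_isLocalization g
  let W : Over (Spec (CommRingCat.of K)) := Over.mk (e ≫ NeronLib.lineMap K)
  obtain ⟨p, hp⟩ := exists_dsPt (U := Spec (CommRingCat.of K)) (W := W) (M := Fin r → ℤ)
    ((Scheme.ΓSpecIso (CommRingCat.of L)).inv.hom.toMonoidHom.comp φ)
  -- evaluation at `t`
  have key : ∀ (t : K), MvPolynomial.aeval (fun _ => t) g ≠ (0 : K) →
      ∀ (y : 𝟙_ (Over (Spec (CommRingCat.of K))) ⟶ Red.DS (Spec (CommRingCat.of K)) (Fin r → ℤ)),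
      (∀ i, (Scheme.ΓSpecIso (CommRingCat.of K)).hom.hom (dsFn y (Multiplicative.ofAdd (Pi.single i 1))) =
        MvPolynomial.aeval (fun _ => t) (l i)) →
      ∃ w : 𝟙_ (Over (Spec (CommRingCat.of K))) ⟶ W, w ≫ p = y ∧
        w.left ≫ e = Spec.map (CommRingCat.ofHom (MvPolynomial.aeval (R := K) (fun _ : PUnit.{u + 1} => t)).toRingHom) := by
    intro t ht y hy
    let ev : P →+* K := (MvPolynomial.aeval (R := K) (fun _ : PUnit.{u + 1} => t)).toRingHom
    let ψ : L →+* K := IsLocalization.Away.lift g (g := ev) (isUnit_iff_ne_zero.2 ht)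
    have hψ : ψ.comp (algebraMap P L) = ev := IsLocalization.Away.lift_comp g _
    have hw : Spec.map (CommRingCat.ofHom ψ) ≫ e = Spec.map (CommRingCat.ofHom ev) := by
      rw [← Spec.map_comp, ← CommRingCat.ofHom_comp, hψ]
    have hev : Spec.map (CommRingCat.ofHom ev) ≫ NeronLib.lineMap K = 𝟙 _ := by
      rw [← Spec.map_comp, ← Spec.map_id]
      congr 1
      exact CommRingCat.hom_ext (RingHom.ext fun a => (MvPolynomial.aeval (R := K) (fun _ : PUnit.{u + 1} => t)).commutes a)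
    let w : 𝟙_ (Over (Spec (CommRingCat.of K))) ⟶ W := Over.homMk (Spec.map (CommRingCat.ofHom ψ)) (by
      show Spec.map (CommRingCat.ofHom ψ) ≫ e ≫ NeronLib.lineMap K = 𝟙 _
      rw [reassoc_of% hw, hev])
    refine ⟨w, dsFn_injective ?_, hw⟩
    have hχ : (ψ.toMonoidHom.comp φ) =
        (Scheme.ΓSpecIso (CommRingCat.of K)).hom.hom.toMonoidHom.comp (dsFn y) := by
      refine MonoidHom.toAdditiveRight.injective ?_
      refine AddMonoidHom.functions_ext' _ _ _ (fun i => ?_)
      refine AddMonoidHom.ext_int ?_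
      refine congrArg Additive.ofMul ?_
      show ψ (φ (Multiplicative.ofAdd (Pi.single i 1))) = _
      refine (?_ : ψ (φ _) = ev (l i)).trans (hy i).symm
      have : φ (Multiplicative.ofAdd (Pi.single i 1)) = algebraMap P L (l i) := by
        show ((∏ j, (hu j).unit ^ (Pi.single i (1 : ℤ) : Fin r → ℤ) j : Lˣ) : L) = _
        rw [Finset.prod_eq_single i (fun j _ hj => by simp [Pi.single_eq_of_ne hj]) (by simp)]
        simp
      rw [this]
      exact DFunLike.congr_fun hψ (l i)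
    refine MonoidHom.ext fun m => ?_
    rw [dsFn_comp, hp]
    show (Spec.map (CommRingCat.ofHom ψ)).appTop ((Scheme.ΓSpecIso (CommRingCat.of L)).inv (φ m)) = _
    rw [← CommRingCat.comp_apply, ← Scheme.ΓSpecIso_inv_naturality, CommRingCat.comp_apply]
    refine (congrArg (Scheme.ΓSpecIso (CommRingCat.of K)).inv.hom (DFunLike.congr_fun hχ m)).trans ?_
    exact (Scheme.ΓSpecIso (CommRingCat.of K)).hom_inv_id_apply _
  obtain ⟨w₁, hw₁, he₁⟩ := key 1 (by
    rw [map_prod, Finset.prod_ne_zero_iff]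
    intro i _
    simp [l, hc i]) x (fun i => by simp [l, c, χ])
  obtain ⟨w₀, hw₀, he₀⟩ := key 0 (by simp [g, l]) 1 (fun i => by
    rw [show MvPolynomial.aeval (fun _ : PUnit.{u + 1} => (0 : K)) (l i) = 1 by simp [l]]
    exact (congrArg _ (dsFn_one _)).trans (map_one _))
  -- extension to the affine line
  let U := e.opensRange
  haveI : GrpObj (Over.mk A.hom) := inferInstanceAs (GrpObj A)
  haveI : IrreducibleSpace ↥(Spec (CommRingCat.of P)) := inferInstanceAs (IrreducibleSpace (PrimeSpectrum P))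
  obtain ⟨q, ⟨hq, hqU⟩, -⟩ := NeronLib.weil_extension_dedekind (NeronLib.lineMap K) A.hom U
    (U.isOpen.dense ⟨_, ⟨w₀.left.base (IsLocalRing.closedPoint K), rfl⟩⟩) (e.isoOpensRange.inv ≫ (p ≫ f).left) (by
      rw [Category.assoc, Over.w (p ≫ f), Iso.inv_comp_eq, ← Category.assoc, Scheme.Hom.isoOpensRange_hom_ι]
      rfl)
  have hqe : e ≫ q = (p ≫ f).left := by
    rw [← e.isoOpensRange_hom_ι, Category.assoc, hqU, Iso.hom_inv_id_assoc]
  obtain ⟨a, -, hqa⟩ := NeronLib.eq_const_of_affine K PUnit.{u + 1} A.hom q hq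
  have hval : ∀ w : 𝟙_ (Over (Spec (CommRingCat.of K))) ⟶ W, (w ≫ p ≫ f).left = a := fun w => by
    rw [Over.comp_left, ← hqe, hqa]
    have := Over.w w
    calc w.left ≫ e ≫ NeronLib.specC K PUnit.{u + 1} ≫ a = (w.left ≫ W.hom) ≫ a := by
          simp only [Category.assoc]; rfl
      _ = a := by rw [this]; exact Category.id_comp a
  rw [← hw₁, ← h1, ← hw₀, Category.assoc, Category.assoc]
  exact Over.OverMorphism.ext ((hval w₁).trans (hval w₀).symm)

theorem eq_one_of_split [IsAlgClosed K] {r : ℕ} {A : Over (Spec (CommRingCat.of K))} [GrpObj A] [IsProper A.hom]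
    (f : Red.DS (Spec (CommRingCat.of K)) (Fin r → ℤ) ⟶ A) (h1 : (1 : 𝟙_ _ ⟶ Red.DS (Spec (CommRingCat.of K)) (Fin r → ℤ)) ≫ f = 1) :
    f = 1 := by
  haveI := isReduced_DS (K := K) (Fin r → ℤ)
  haveI := locallyOfFiniteType_DS (K := K) r
  haveI : IsClosedImmersion η[A].left := SGA3xLib.isClosedImmersion_of_section A.hom _ (Over.w η[A])
  obtain ⟨l, hl⟩ := PointsDense.exists_factor_of_points_algClosed K K f η[A] (fun x => by
    let d : 𝟙_ (Over (Spec (CommRingCat.of K))) ⟶ PointsDense.spK K K := Over.homMk (𝟙 _) (by simp)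
    let d' : PointsDense.spK K K ⟶ 𝟙_ (Over (Spec (CommRingCat.of K))) := toUnit _
    refine ⟨d', ?_⟩
    have hdd : d' ≫ d = 𝟙 _ := by
      apply Over.OverMorphism.ext
      show d'.left ≫ 𝟙 _ = 𝟙 _
      rw [Category.comp_id]
      have := Over.w d'
      simpa using this
    have h := point_comp_eq_one f h1 (d ≫ x)
    rw [Category.assoc] at h
    rw [← Category.id_comp (x ≫ f), ← hdd, Category.assoc, h, Hom.one_def, toUnit_unique (toUnit (𝟙_ _)) (𝟙 _), Category.id_comp])
  rw [← hl, toUnit_unique l (toUnit _), Hom.one_def]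

/-- A torus over a field splits over some algebraically closed extension. -/
theorem exists_split_point {k : Type u} [Field k] {T : Over (Spec (CommRingCat.of k))} [GrpObj T] (hT : Red.IsTorus T) :
    ∃ (Ω : Type u) (_ : Field Ω) (_ : IsAlgClosed Ω) (g : Spec (CommRingCat.of Ω) ⟶ Spec (CommRingCat.of k)) (r : ℕ)
      (e : Red.bc g T ≅ Red.DS (Spec (CommRingCat.of Ω)) (Fin r → ℤ)), IsMonHom e.hom := by
  obtain ⟨S', q, hfl, hsu, -, hU⟩ := hT
  obtain ⟨s', -⟩ := hsu.surj (IsLocalRing.closedPoint k)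
  obtain ⟨U, hmem, r, ⟨E⟩⟩ := hU s'
  let u : (U : Scheme.{u}) := ⟨s', hmem⟩
  let Ω := AlgebraicClosure ((U : Scheme.{u}).residueField u)
  let ω : Spec (CommRingCat.of Ω) ⟶ (U : Scheme.{u}) := Red.geomPt u
  obtain ⟨cD, hcD, -⟩ := CentralEq.exists_bc_DS ω
  let α := GrpBC.bcCongr (U.ι ≫ q) ω (ω ≫ U.ι ≫ q) rfl
  haveI : IsMonHom E.hom.hom.hom := E.hom.hom.isMonHom_hom
  haveI := hcD (Fin r → ℤ)
  let Fω := Over.pullback ω
  let a : Red.bc ω (Red.bc (U.ι ≫ q) T) ≅ Red.bc (ω ≫ U.ι ≫ q) T := α.app T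
  haveI : IsMonHom a.hom := (GrpBC.isMonHom_app α T).1
  let w : Red.bc (U.ι ≫ q) T ≅ Red.DS (U : Scheme.{u}) (Fin r → ℤ) := (Grp.forget _).mapIso E
  haveI : IsMonHom w.hom := E.hom.hom.isMonHom_hom
  let b : Red.bc ω (Red.bc (U.ι ≫ q) T) ≅ Red.bc ω (Red.DS (U : Scheme.{u}) (Fin r → ℤ)) := Fω.mapIso w
  haveI : IsMonHom b.hom := by show IsMonHom ((Over.pullback ω).map w.hom); infer_instance
  haveI : IsMonHom a.inv := inferInstance
  let e : Red.bc (ω ≫ U.ι ≫ q) T ≅ Red.DS (Spec (CommRingCat.of Ω)) (Fin r → ℤ) :=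
    a.symm ≪≫ b ≪≫ cD (Fin r → ℤ)
  haveI : IsMonHom e.hom := by
    show IsMonHom (a.inv ≫ b.hom ≫ (cD (Fin r → ℤ)).hom)
    infer_instance
  exact ⟨Ω, inferInstance, inferInstance, ω ≫ U.ι ≫ q, r, e, inferInstance⟩

/-- Morphisms over a field are determined after a field extension. -/
theorem eq_of_bc {k Ω : Type u} [Field k] [Field Ω] (g : Spec (CommRingCat.of Ω) ⟶ Spec (CommRingCat.of k))
    {T A : Over (Spec (CommRingCat.of k))} {f f' : T ⟶ A} (h : (Over.pullback g).map f = (Over.pullback g).map f') :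
    f = f' := by
  haveI : Surjective g := ⟨fun y => ⟨IsLocalRing.closedPoint Ω, Subsingleton.elim _ _⟩⟩
  haveI : Flat g := inferInstance
  haveI : Flat (pullback.fst T.hom g) := inferInstance
  haveI : Surjective (pullback.fst T.hom g) := inferInstance
  haveI : Epi (pullback.fst T.hom g) := Flat.epi_of_flat_of_surjective _
  have h' := congrArg (fun q => CommaMorphism.left q ≫ pullback.fst A.hom g) h
  simp only [Over.pullback_map_left] at h'
  erw [pullback.lift_fst, pullback.lift_fst] at h'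
  exact Over.OverMorphism.ext ((cancel_epi (pullback.fst T.hom g)).1 h')

theorem map_pointed {k Ω : Type u} [Field k] [Field Ω] (g : Spec (CommRingCat.of Ω) ⟶ Spec (CommRingCat.of k))
    {T A : Over (Spec (CommRingCat.of k))} [GrpObj T] [GrpObj A] (f : T ⟶ A) (h1 : η[T] ≫ f = η[A]) :
    (1 : 𝟙_ _ ⟶ Red.bc g T) ≫ (Over.pullback g).map f = 1 := by
  rw [Hom.one_def, Hom.one_def, Category.assoc]
  congr 1
  simp only [Functor.obj.η_def, Category.assoc, ← Functor.map_comp, h1]

/-- A pointed morphism from a torus to a proper group scheme over a field is trivial. -/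
theorem eq_one_of_torus {k : Type u} [Field k] {T A : Over (Spec (CommRingCat.of k))} [GrpObj T] [GrpObj A]
    [IsProper A.hom] (hT : Red.IsTorus T) (f : T ⟶ A) (h1 : η[T] ≫ f = η[A]) : f = 1 := by
  obtain ⟨Ω, _, _, g, r, e, he⟩ := exists_split_point hT
  haveI := he
  haveI : IsProper (Red.bc g A).hom := MorphismProperty.pullback_snd (P := @IsProper) A.hom g inferInstance
  refine eq_of_bc g ?_
  rw [Functor.map_one (Over.pullback g)]
  rw [← cancel_epi e.inv, MonObj.comp_one]
  exact eq_one_of_split _ (by rw [← Category.assoc, MonObj.one_comp, map_pointed g f h1])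

/-- A morphism from the additive group to a split torus which takes the value one is trivial. -/
theorem eq_one_of_Ga_split {Ω : Type u} [Field Ω] {r : ℕ}
    (φ : Red.Ga (Spec (CommRingCat.of Ω)) ⟶ Red.DS (Spec (CommRingCat.of Ω)) (Fin r → ℤ))
    (y₀ : 𝟙_ (Over (Spec (CommRingCat.of Ω))) ⟶ Red.Ga (Spec (CommRingCat.of Ω))) (hy₀ : y₀ ≫ φ = 1) : φ = 1 := by
  -- the additive group is dominated by `Spec` of a polynomial ring
  let G := Red.Ga (Spec (CommRingCat.of Ω))
  let P := MvPolynomial Unit Ω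
  let W : Over (Spec (CommRingCat.of Ω)) := Over.mk (Spec.map (CommRingCat.ofHom (MvPolynomial.C : Ω →+* P)))
  obtain ⟨h, hh⟩ := SGA3cLib.exists_gaFn (X := W) (S := Spec (CommRingCat.of Ω))
    ((Scheme.ΓSpecIso (CommRingCat.of P)).inv (MvPolynomial.X ()))
  let σ : Ω →+* Γ(G.left, ⊤) := G.hom.appTop.hom.comp (Scheme.ΓSpecIso (CommRingCat.of Ω)).inv.hom
  let ψ : P →+* Γ(G.left, ⊤) := MvPolynomial.eval₂Hom σ (fun _ => Red.gaFn (𝟙 G))
  let k : G ⟶ W := Over.homMk (G.left.toSpecΓ ≫ Spec.map (CommRingCat.ofHom ψ)) (by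
    show (G.left.toSpecΓ ≫ Spec.map (CommRingCat.ofHom ψ)) ≫ Spec.map _ = G.hom
    rw [Category.assoc, ← Spec.map_comp, ← CommRingCat.ofHom_comp,
      show ψ.comp MvPolynomial.C = σ from RingHom.ext fun a => MvPolynomial.eval₂_C _ _ a]
    show _ ≫ Spec.map ((Scheme.ΓSpecIso (CommRingCat.of Ω)).inv ≫ G.hom.appTop) = _
    rw [Spec.map_comp, ← Scheme.toSpecΓ_naturality_assoc]
    erw [← SpecMap_ΓSpecIso_hom, ← Spec.map_comp, Iso.inv_hom_id, Spec.map_id, Category.comp_id])
  have hkh : k ≫ h = 𝟙 G := SGA3cLib.gaFn_injective (by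
    rw [SGA3cLib.gaFn_eq_fn, SGA3cLib.fn_comp, ← SGA3cLib.gaFn_eq_fn, hh]
    show (G.left.toSpecΓ ≫ Spec.map (CommRingCat.ofHom ψ)).appTop _ = _
    rw [Scheme.Hom.comp_appTop, Scheme.toSpecΓ_appTop, CommRingCat.comp_apply]
    erw [← CommRingCat.comp_apply (Spec.map (CommRingCat.ofHom ψ)).appTop, Scheme.ΓSpecIso_naturality, CommRingCat.comp_apply, Iso.inv_hom_id_apply]
    exact MvPolynomial.eval₂_X _ _ _)
  rw [← Category.id_comp φ, ← hkh, Category.assoc]
  suffices hφ : h ≫ φ = 1 by rw [hφ, MonObj.comp_one]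
  -- units of polynomial rings are constants
  let o : 𝟙_ (Over (Spec (CommRingCat.of Ω))) ⟶ W := y₀ ≫ k
  have ho : o ≫ h ≫ φ = 1 := by simp only [o, Category.assoc, reassoc_of% hkh, hy₀]
  refine dsFn_injective (MonoidHom.ext fun m => ?_)
  rw [dsFn_one]
  have hu : IsUnit ((Scheme.ΓSpecIso (CommRingCat.of P)).hom.hom (dsFn (h ≫ φ) m)) :=
    ((Group.isUnit m).map (dsFn (h ≫ φ))).map _
  obtain ⟨c, -, hc⟩ := MvPolynomial.isUnit_iff_eq_C_of_isReduced.1 hu
  have hc' : dsFn (h ≫ φ) m = W.hom.appTop ((Scheme.ΓSpecIso (CommRingCat.of Ω)).inv c) := by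
    show _ = (Spec.map (CommRingCat.ofHom (MvPolynomial.C : Ω →+* P))).appTop _
    rw [← CommRingCat.comp_apply, ← Scheme.ΓSpecIso_inv_naturality, CommRingCat.comp_apply]
    apply (Scheme.ΓSpecIso (CommRingCat.of P)).commRingCatIsoToRingEquiv.injective
    exact hc.trans ((Scheme.ΓSpecIso (CommRingCat.of P)).inv_hom_id_apply _).symm
  have h2 := congrArg (fun q => dsFn q m) ho
  simp only [dsFn_one] at h2
  rw [dsFn_comp, hc', ← CommRingCat.comp_apply, ← Scheme.Hom.comp_appTop, Over.w o] at h2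
  have hc1 : (Scheme.ΓSpecIso (CommRingCat.of Ω)).inv c = 1 := by
    have h3 : Scheme.Hom.appTop (𝟙 (Spec (CommRingCat.of Ω))) ((Scheme.ΓSpecIso (CommRingCat.of Ω)).inv c) = 1 := h2
    rwa [Scheme.Hom.id_appTop] at h3
  rw [hc', hc1, map_one]

theorem nonempty_bc_Ga {S S' : Scheme.{u}} (g : S' ⟶ S) : Nonempty (Red.bc g (Red.Ga S) ≅ Red.Ga S') :=
  ⟨(GrpBC.bcCongr _ g _ (specULiftZIsTerminal.hom_ext _ _)).app Red.GaZ⟩

/-- A pointed morphism from the additive group to a torus over a field is trivial. -/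
theorem eq_one_of_Ga {k : Type u} [Field k] {T : Over (Spec (CommRingCat.of k))} [GrpObj T] (hT : Red.IsTorus T)
    (f : Red.Ga (Spec (CommRingCat.of k)) ⟶ T) (η₀ : 𝟙_ (Over (Spec (CommRingCat.of k))) ⟶ Red.Ga (Spec (CommRingCat.of k)))
    (h1 : η₀ ≫ f = η[T]) : f = 1 := by
  obtain ⟨Ω, _, _, g, r, e, he⟩ := exists_split_point hT
  haveI := he
  refine eq_of_bc g ?_
  rw [Functor.map_one (Over.pullback g)]
  suffices h : ((Over.pullback g).map f : Red.bc g (Red.Ga (Spec (CommRingCat.of k))) ⟶ Red.bc g T) ≫ e.hom = 1 from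
    (cancel_mono e.hom).1 (h.trans (MonObj.one_comp (M := Red.bc g T) e.hom).symm)
  obtain ⟨iso⟩ := nonempty_bc_Ga g (S := Spec (CommRingCat.of k))
  rw [← cancel_epi iso.inv, MonObj.comp_one]
  refine eq_one_of_Ga_split _ (Functor.LaxMonoidal.ε (Over.pullback g) ≫ (Over.pullback g).map η₀ ≫ iso.hom) ?_
  simp only [Category.assoc, Iso.hom_inv_id_assoc]
  rw [← Functor.map_comp_assoc, h1, Hom.one_def, toUnit_unique (toUnit (𝟙_ _)) (𝟙 _), Category.id_comp,
    ← Category.assoc]
  exact IsMonHom.one_hom e.hom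

end Groth.Agent.AlgGrpLib.TorusToProper
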