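import Groth.Agent.TorusGal29.Split
import Groth.Agent.TorusConnLib.Connected
import Groth.Agent.AlgGrpLib.TorusToProper
import Groth.Agent.AlgGrpLib.NoTorusScheme
import Groth.Agent.AlgGrpLib.AffineToProper
import Groth.Agent.HopfUnip26.Extension
import Groth.Agent.S2966
import Groth.Agent.SGA3cLib.MonoClosed

/-!
# Tori and groups without subtori
-/

set_option autoImplicit false
set_option backward.isDefEq.respectTransparency.types false
set_option linter.style.haveILetI false

universe u

open CategoryTheory CategoryTheory.Limits MonoidalCategory CartesianMonoidalCategory MonObj AlgebraicGeometry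
open TensorProduct
open Groth.Agent.HopfQuot

noncomputable section

namespace Groth.Agent.AlgGrpLib.TorusUnip

variable {k : Type u} [Field k] [IsAlgClosed k]

/-- A torus over an algebraically closed field is the spectrum of a group algebra. -/
theorem exists_split_hopf (T : Over (Spec (CommRingCat.of k))) [GrpObj T] (hT : Red.IsTorus T) :
    ∃ (A : Type u) (_ : CommRing A) (_ : HopfAlgebra k A) (i : spec (k := k) A ⟶ T), IsIso i ∧ IsMonHom i ∧
      Algebra.FiniteType k A ∧ IsDomain A ∧
      HopfRep.IsDiagonalizable (AlgebraicClosure k) (AlgebraicClosure k ⊗[k] A) := by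
  obtain ⟨Ω, _, _, g, r, e, he⟩ := TorusToProper.exists_split_point hT
  letI : Algebra k Ω := (Spec.preimage g).hom.toAlgebra
  have hg : g = Spec.map (CommRingCat.ofHom (algebraMap k Ω)) := (Spec.map_preimage g).symm
  have key : ∀ g' : Spec (CommRingCat.of Ω) ⟶ Spec (CommRingCat.of k), g = g' →
      Red.IsSplitTorusWith (Fin r → ℤ) (Red.bc g' T) := by
    intro g' hgg
    subst hgg
    haveI := he
    exact ⟨Grp.mkIso' e⟩
  have hex : ∃ (L : Type u) (_ : Field L) (_ : Algebra k L),
      Red.IsSplitTorusWith (Fin r → ℤ) (Red.bc (Spec.map (CommRingCat.ofHom (algebraMap k L))) T) := by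
    exact ⟨Ω, inferInstance, inferInstance, key _ hg⟩
  obtain ⟨A, _, _, i, hi, L, _, _, _, _, N, _, εN, ⟨eA⟩⟩ := TorusGal29.exists_galois_split T hex
  haveI := hi
  have hbij : Function.Bijective (algebraMap k L) :=
    IsAlgClosed.algebraMap_bijective_of_isIntegral
  let σ : A ≃ₐ[k] L ⊗[k] A :=
    (Algebra.TensorProduct.lid k A).symm.trans
      (Algebra.TensorProduct.congr (AlgEquiv.ofBijective (Algebra.ofId k L) hbij) AlgEquiv.refl)
  haveI : Group.FG N := Group.fg_of_surjective (f := εN.symm.toMonoidHom) εN.symm.surjective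
  haveI : IsDomain (MonoidAlgebra L (Multiplicative (Fin r → ℤ))) := NoZeroDivisors.to_isDomain _
  haveI : IsDomain (MonoidAlgebra L N) :=
    (MonoidAlgebra.mapDomainRingEquiv L εN).toMulEquiv.isDomain _
  haveI : IsDomain (L ⊗[k] A) := eA.toAlgEquiv.toRingEquiv.toMulEquiv.isDomain _
  haveI : IsDomain A := σ.toRingEquiv.toMulEquiv.isDomain _
  haveI : Algebra.FiniteType L (MonoidAlgebra L N) := MonoidAlgebra.finiteType_iff_group_fg.mpr inferInstance
  haveI : Algebra.FiniteType L (L ⊗[k] A) :=
    Algebra.FiniteType.equiv (inferInstance : Algebra.FiniteType L (MonoidAlgebra L N)) eA.toAlgEquiv.symm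
  have hft : Algebra.FiniteType k A := Algebra.FiniteType.of_finiteType_tensorProduct_of_faithfullyFlat (T := L)
  refine ⟨A, inferInstance, inferInstance, i.hom, inferInstance, hi, hft, inferInstance, ?_⟩
  let g' : L →ₐ[k] AlgebraicClosure k := IsAlgClosed.lift
  letI : Algebra L (AlgebraicClosure k) := g'.toRingHom.toAlgebra
  haveI : IsScalarTower k L (AlgebraicClosure k) := IsScalarTower.of_algebraMap_eq fun x => (g'.commutes x).symm
  let a : AlgebraicClosure k ⊗[k] A ≃ₐc[AlgebraicClosure k] MonoidAlgebra (AlgebraicClosure k) N :=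
    IsoTriv.bcTriv eA
  refine eq_top_iff.2 fun x _ => ?_
  rw [← a.symm_apply_apply x]
  induction a x using MonoidAlgebra.induction_on with
  | of m =>
    refine Submodule.subset_span ?_
    exact IsGroupLikeElem.map a.symm (MonoidAlgebra.isGroupLikeElem_of m)
  | add p q hp hq => rw [map_add]; exact add_mem hp hq
  | smul c p hp => rw [map_smul]; exact Submodule.smul_mem _ _ hp

theorem locallyOfFiniteType (T : Over (Spec (CommRingCat.of k))) [GrpObj T] (hT : Red.IsTorus T) :
    LocallyOfFiniteType T.hom := by
  obtain ⟨A, _, _, i, hi, -, hft, -, -⟩ := exists_split_hopf T hT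
  haveI := hi
  haveI : IsIso i.left := inferInstanceAs (IsIso ((Over.forget _).map i))
  haveI : LocallyOfFiniteType (spec (k := k) A).hom :=
    (HasRingHomProperty.Spec_iff (P := @LocallyOfFiniteType) (φ := CommRingCat.ofHom (algebraMap k A))).2
      (RingHom.finiteType_algebraMap.2 hft)
  rw [← Over.w (inv i)]
  haveI : IsIso (inv i).left := inferInstanceAs (IsIso ((Over.forget _).map (inv i)))
  infer_instance

theorem isReduced (T : Over (Spec (CommRingCat.of k))) [GrpObj T] (hT : Red.IsTorus T) : IsReduced T.left := by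
  obtain ⟨A, _, _, i, hi, -, -, hd, -⟩ := exists_split_hopf T hT
  haveI := hi
  haveI := hd
  haveI : IsIso i.left := inferInstanceAs (IsIso ((Over.forget _).map i))
  haveI : IsReduced (spec (k := k) A).left := (affine_isReduced_iff (CommRingCat.of A)).2 inferInstance
  exact isReduced_of_isOpenImmersion (inv i.left)

/-- Homomorphisms from tori to unipotent groups are trivial. -/
theorem hom_eq_one {T V : Over (Spec (CommRingCat.of k))} [GrpObj T] [GrpObj V] (hT : Red.IsTorus T)
    {B : Type u} [CommRing B] [HopfAlgebra k B] [Algebra.FiniteType k B] (e : spec (k := k) B ⟶ V) [IsIso e]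
    [IsMonHom e] (hB : HopfRep.IsUnipotent k B) (f : T ⟶ V) [IsMonHom f] : f = 1 := by
  obtain ⟨A, _, _, i, hi, him, hft, -, hdiag⟩ := exists_split_hopf T hT
  haveI := hi
  haveI := him
  haveI := hft
  haveI : IsMonHom (inv e) := inferInstanceAs (IsMonHom (asIso e).inv)
  haveI : IsMonHom (i ≫ f ≫ inv e) := inferInstance
  obtain ⟨φ, hφ⟩ := exists_specHom (i ≫ f ≫ inv e)
  have htriv : SGA3t2b.IsTrivialBialgHom φ := (S2966.result hdiag hB).1 φ
  let c : B →ₐc[k] k := Bialgebra.counitBialgHom k B
  let u : k →ₐc[k] A := Bialgebra.unitBialgHom k A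
  have h1 : specHom φ = specHom u ≫ specHom c := by
    refine Over.OverMorphism.ext ?_
    rw [Over.comp_left, specHom_left, specHom_left, specHom_left]
    exact (congrArg Spec.map (show CommRingCat.ofHom (φ : B →+* A) =
      CommRingCat.ofHom (c : B →+* k) ≫ CommRingCat.ofHom (u : k →+* A) from
        CommRingCat.hom_ext (RingHom.ext fun b => htriv b))).trans (Spec.map_comp _ _)
  haveI : IsIso (spec (k := k) k).hom := by
    show IsIso (Spec.map (CommRingCat.ofHom (algebraMap k k)))
    haveI : IsIso (CommRingCat.ofHom (algebraMap k k)) := by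
      rw [ConcreteCategory.isIso_iff_bijective]; exact Function.bijective_id
    infer_instance
  have h2 : 𝟙 (spec (k := k) k) = 1 :=
    Over.OverMorphism.ext ((cancel_mono (spec (k := k) k).hom).1 (by rw [Over.w, Over.w]))
  haveI : IsMonHom (specHom c) :=
    ((hopfSpec (CommRingCat.of k)).map (CommHopfAlgCat.ofHom c).op).hom.isMonHom_hom
  rw [← Category.id_comp (specHom c), h2, MonObj.one_comp, MonObj.comp_one] at h1
  rw [h1] at hφ
  have h3 := congrArg (fun z => inv i ≫ z ≫ e) hφ
  simp only [MonObj.one_comp, MonObj.comp_one, Category.assoc, IsIso.inv_hom_id, Category.comp_id,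
    IsIso.inv_hom_id_assoc] at h3
  exact h3.symm

/-- A monomorphism from a group with trivial identity has trivial source. -/
theorem isIso_hom_of_mono_one {T V : Over (Spec (CommRingCat.of k))} [GrpObj T] [GrpObj V] (j : T ⟶ V) [IsMonHom j]
    [Mono j] (h : j = 1) : IsIso T.hom := by
  have h' : 𝟙 T = 1 := by rw [← cancel_mono j, Category.id_comp, MonObj.one_comp, h]
  refine ⟨η[T].left, ?_, Over.w η[T]⟩
  have := congrArg Over.Hom.left h'
  rw [Hom.one_def, Over.comp_left] at this
  exact this.symm

/-- Unipotent groups contain no tori. -/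
theorem hasNoSubtorus_of_isUnipotent {V : Over (Spec (CommRingCat.of k))} [GrpObj V]
    {B : Type u} [CommRing B] [HopfAlgebra k B] [Algebra.FiniteType k B] (e : spec (k := k) B ⟶ V) [IsIso e]
    [IsMonHom e] (hB : HopfRep.IsUnipotent k B) : Red.HasNoSubtorus k V :=
  fun _ _ j _ _ hT => isIso_hom_of_mono_one j (hom_eq_one hT e hB j)

variable {U V : Over (Spec (CommRingCat.of k))} [GrpObj U] [GrpObj V] [Smooth U.hom] [Smooth V.hom]
  [ConnectedSpace U.left] [ConnectedSpace V.left] [IsAffine U.left] [IsAffine V.left] (p : U ⟶ V) [IsMonHom p]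
  [Surjective p.left]

include p in
/-- Quotients of groups without subtori have none. -/
theorem hasNoSubtorus_of_surjective (hU : Red.HasNoSubtorus k U) : Red.HasNoSubtorus k V := by
  obtain ⟨A, _, _, a, ha, ham⟩ := exists_spec (k := k) U
  obtain ⟨B, _, _, b, hb, hbm⟩ := exists_spec (k := k) V
  haveI := ha
  haveI := ham
  haveI := hb
  haveI := hbm
  haveI := UnipStruct.finiteType_of_iso a
  haveI := UnipStruct.finiteType_of_iso b
  haveI : IsReduced V.left := AbSchLib.isReduced_of_smooth V.hom
  haveI : IsIso a.left := inferInstanceAs (IsIso ((Over.forget _).map a))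
  haveI : IsIso b.left := inferInstanceAs (IsIso ((Over.forget _).map b))
  haveI : IsReduced (spec (k := k) B).left := isReduced_of_isOpenImmersion b.left
  haveI : _root_.IsReduced B := (affine_isReduced_iff (CommRingCat.of B)).1 ‹IsReduced (spec (k := k) B).left›
  haveI : IsMonHom (inv b) := inferInstanceAs (IsMonHom (asIso b).inv)
  haveI : IsMonHom (a ≫ p ≫ inv b) := inferInstance
  obtain ⟨ψ, hψ⟩ := exists_specHom (a ≫ p ≫ inv b)
  haveI : Surjective (specHom ψ).left := by
    rw [hψ, Over.comp_left, Over.comp_left]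
    haveI : IsIso (inv b).left := inferInstanceAs (IsIso ((Over.forget _).map (inv b)))
    infer_instance
  have hinj : Function.Injective ψ := by
    have hd : DenseRange (PrimeSpectrum.comap (ψ : B →+* A)) := by
      have := (specHom ψ).left.surjective
      exact this.denseRange
    have hk := (PrimeSpectrum.denseRange_comap_iff_ker_le_nilRadical (ψ : B →+* A)).1 hd
    rw [nilradical_eq_zero, Ideal.zero_eq_bot, le_bot_iff, ← RingHom.injective_iff_ker_eq_bot] at hk
    exact hk
  exact hasNoSubtorus_of_isUnipotent b
    (HopfUnip26.isUnipotent_of_injective ψ hinj (NoTorus.isUnipotent_of_hasNoSubtorus hU a))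

omit [Surjective p.left] in
/-- Finite covers of groups without subtori have none. -/
theorem hasNoSubtorus_of_finite [IsFinite p.left] (hV : Red.HasNoSubtorus k V) : Red.HasNoSubtorus k U := by
  intro T _ j _ _ hT
  obtain ⟨B, _, _, b, hb, hbm⟩ := exists_spec (k := k) V
  haveI := hb
  haveI := hbm
  haveI := UnipStruct.finiteType_of_iso b
  have h := hom_eq_one hT b (NoTorus.isUnipotent_of_hasNoSubtorus hV b) (j ≫ p)
  haveI := locallyOfFiniteType T hT
  haveI := isReduced T hT
  haveI := TorusConnLib.connectedSpace T hT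
  haveI : IsAffineHom T.hom := SGA3cLib.torus_isAffineHom hT
  haveI : QuasiCompact T.hom := inferInstance
  haveI : QuasiCompact j.left := quasiCompact_left j
  haveI : IsClosedImmersion j.left := SGA3cLib.isClosedImmersion_of_mono j
  haveI : IsFinite T.hom := by
    haveI : IsSeparated V.hom := inferInstance
    haveI : IsClosedImmersion η[V].left := SGA3xLib.isClosedImmersion_of_section V.hom _ (Over.w η[V])
    haveI : IsFinite (pullback.snd p.left η[V].left) := inferInstance
    let P := pullback p.left η[V].left
    have hw : j.left ≫ p.left = T.hom ≫ η[V].left := by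
      have := congrArg Over.Hom.left h
      rw [Hom.one_def, Over.comp_left, Over.comp_left] at this
      exact this
    let l : T.left ⟶ P := pullback.lift j.left T.hom hw
    haveI : IsClosedImmersion (l ≫ pullback.fst p.left η[V].left) := by
      rw [pullback.lift_fst]; infer_instance
    haveI : IsClosedImmersion l := IsClosedImmersion.of_comp l (pullback.fst p.left η[V].left)
    have e : T.hom = l ≫ pullback.snd p.left η[V].left := (pullback.lift_snd _ _ hw).symm
    rw [e]
    exact inferInstanceAs (IsFinite (l ≫ pullback.snd p.left η[V].left))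
  haveI := AffineToProper.isIso_unit (Q := T)
  have h' : 𝟙 T = 1 := by rw [Hom.one_def, toUnit_unique (toUnit T) (inv η[T]), IsIso.inv_hom_id]
  exact isIso_hom_of_mono_one (𝟙 T) h'

end Groth.Agent.AlgGrpLib.TorusUnip
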