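import Groth.Agent.AlgGrpLib.LargestNormal

/-!
# The image of a homomorphism with smooth source
-/

set_option autoImplicit false
set_option backward.isDefEq.respectTransparency.types false

universe u

open CategoryTheory CategoryTheory.Limits MonoidalCategory CartesianMonoidalCategory MonObj GrpObj AlgebraicGeometry

namespace Groth.Agent.AlgGrpLib.ImageSubgroup

variable {k : Type u} [Field k]

/-- The image of a homomorphism from a smooth group is a smooth closed subgroup. -/
theorem exists_image {E G : Over (Spec (CommRingCat.of k))} [GrpObj E] [GrpObj G] [Smooth E.hom] [QuasiCompact E.hom]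
    [LocallyOfFiniteType G.hom] [QuasiCompact G.hom] (f : E ⟶ G) [IsMonHom f] :
    ∃ (M : Over (Spec (CommRingCat.of k))) (_ : GrpObj M) (i : M ⟶ G) (g : E ⟶ M),
      IsMonHom i ∧ IsMonHom g ∧ IsClosedImmersion i.left ∧ g ≫ i = f ∧ Surjective g.left ∧ Flat g.left ∧
      Smooth M.hom ∧ LocallyOfFiniteType M.hom ∧ QuasiCompact M.hom := by
  haveI : QuasiCompact f.left := quasiCompact_left f
  let C : TopologicalSpace.Closeds G.left := ⟨closure (Set.range f.left), isClosed_closure⟩
  let I := Scheme.IdealSheafData.vanishingIdeal C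
  let M : Over (Spec (CommRingCat.of k)) := Over.mk (I.subschemeι ≫ G.hom)
  let i : M ⟶ G := Over.homMk I.subschemeι rfl
  haveI hci : IsClosedImmersion i.left := inferInstanceAs (IsClosedImmersion I.subschemeι)
  haveI : Mono i.left := inferInstance
  haveI : Mono i := Over.mono_of_mono_left i
  have hrange : Set.range i.left.base = closure (Set.range f.left) := by
    change Set.range I.subschemeι = _
    rw [Scheme.IdealSheafData.range_subschemeι]
    rfl
  haveI : IsReduced M.left := (Props12.isReduced_subscheme_vanishingIdeal C : IsReduced I.subscheme)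
  haveI : LocallyOfFiniteType M.hom := inferInstanceAs (LocallyOfFiniteType (I.subschemeι ≫ G.hom))
  haveI : QuasiCompact M.hom := inferInstanceAs (QuasiCompact (I.subschemeι ≫ G.hom))
  haveI : IsReduced E.left := AbSchLib.isReduced_of_smooth E.hom
  obtain ⟨g', hg'⟩ := RedSepLib.exists_lift_of_range_subset f.left i.left (hrange ▸ subset_closure)
  let g : E ⟶ M := Over.homMk g' (by rw [← Over.w i, ← Category.assoc, hg', Over.w])
  have hg : g ≫ i = f := Over.OverMorphism.ext hg'
  haveI : IsDominant g.left := by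
    refine ⟨fun x => ?_⟩
    rw [i.left.isClosedEmbedding.isInducing.closure_eq_preimage_closure_image, Set.mem_preimage]
    refine closure_mono ?_ (hrange.le ⟨x, rfl⟩)
    rintro _ ⟨t, rfl⟩
    exact ⟨g.left t, ⟨t, rfl⟩, by rw [← hg]; rfl⟩
  haveI : IsSchemeTheoreticallyDominant g.left := IsSchemeTheoreticallyDominant.of_isDominant g.left
  obtain ⟨⟨⟨e, he⟩, hsub⟩, hgs⟩ := Groth.Agent.S18825.result k E G M f i g hg
  have he1 : e ≫ i = 1 := he.trans (MonObj.one_eq_one G)
  obtain ⟨v, hv⟩ : ∃ v : M ⟶ M, v ≫ i = i⁻¹ := by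
    obtain ⟨k₃, hk₃⟩ := hsub M (𝟙 M) (toUnit M ≫ e)
    exact ⟨k₃, by rw [hk₃, Category.id_comp, Category.assoc, he1, MonObj.comp_one, _root_.mul_one]⟩
  obtain ⟨inst, hi⟩ := exists_grpObj_of_mono i ⟨e, he1⟩ (by
    obtain ⟨k₃, hk₃⟩ := hsub (M ⊗ M) (fst M M ≫ v) (snd M M)
    exact ⟨k₃, by rw [hk₃, Category.assoc, hv, GrpObj.comp_inv, _root_.inv_inv]⟩) ⟨v, hv⟩
  haveI : IsMonHom g := MultTypeAct.isMonHom_of_map_mul g fun x y => by
    rw [← cancel_mono i, Category.assoc, hg, MonObj.mul_comp, MonObj.mul_comp, Category.assoc, Category.assoc, hg]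
  have hrg : Set.range i.left.base = Set.range f.left.base := by
    refine Set.Subset.antisymm ?_ ?_
    · rintro _ ⟨x, rfl⟩
      obtain ⟨t, rfl⟩ := hgs.surj x
      exact ⟨t, by rw [← hg]; rfl⟩
    · rw [← hg]
      rintro _ ⟨t, rfl⟩
      exact ⟨g.left t, rfl⟩
  haveI hMs : Smooth M.hom := by
    rw [← Over.w i]
    exact Groth.Agent.S15604.result k E G f M.left i.left hrg
  haveI : GeometricallyReduced M.hom := AbSchLib.geometricallyReduced_of_smooth _
  haveI : Flat g.left := flat_hom_of_surjective g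
  exact ⟨M, inst, i, g, hi, inferInstance, hci, hg, hgs, inferInstance, hMs, inferInstance, inferInstance⟩

end Groth.Agent.AlgGrpLib.ImageSubgroup
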