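import Groth.Agent.AlgGrpLib.SubgroupCalc

/-!
# Subgroup structure from factorisations through a monomorphism
-/

set_option autoImplicit false
set_option backward.isDefEq.respectTransparency.types false

universe u

open CategoryTheory CategoryTheory.Limits MonoidalCategory CartesianMonoidalCategory MonObj GrpObj AlgebraicGeometry

namespace Groth.Agent.AlgGrpLib

variable {S : Scheme.{u}} {N G : Over S} [GrpObj G]

/-- A subobject containing the unit and stable under product and inverse is a subgroup. -/
theorem exists_grpObj_of_mono (i : N ⟶ G) [Mono i]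
    (h1 : ∃ e : 𝟙_ (Over S) ⟶ N, e ≫ i = 1)
    (h2 : ∃ m : N ⊗ N ⟶ N, m ≫ i = (fst N N ≫ i) * (snd N N ≫ i))
    (h3 : ∃ v : N ⟶ N, v ≫ i = i⁻¹) :
    ∃ _ : GrpObj N, IsMonHom i := by
  have hη : η[G] = (1 : 𝟙_ (Over S) ⟶ G) := MonObj.one_eq_one G
  obtain ⟨e, he⟩ := h1
  obtain ⟨m, hm⟩ := h2
  obtain ⟨v, hv⟩ := h3
  have hmT : ∀ {T : Over S} (x y : T ⟶ N), lift x y ≫ m ≫ i = (x ≫ i) * (y ≫ i) := fun x y => by
    rw [hm, MonObj.comp_mul, lift_fst_assoc, lift_snd_assoc]
  have hmul : ∀ {T : Over S} (f : T ⟶ N ⊗ N), f ≫ m ≫ i = ((f ≫ fst N N) ≫ i) * ((f ≫ snd N N) ≫ i) := fun f => by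
    rw [hm, MonObj.comp_mul, Category.assoc, Category.assoc]
  let inst : MonObj N :=
    { one := e
      mul := m
      one_mul := by
        rw [← cancel_mono i, Category.assoc, hmul]
        simp only [whiskerRight_fst, whiskerRight_snd, Category.assoc, he, MonObj.comp_one, _root_.one_mul,
          ← leftUnitor_hom]
      mul_one := by
        rw [← cancel_mono i, Category.assoc, hmul]
        simp only [whiskerLeft_fst, whiskerLeft_snd, Category.assoc, he, MonObj.comp_one, _root_.mul_one,
          ← rightUnitor_hom]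
      mul_assoc := by
        rw [← cancel_mono i, Category.assoc, Category.assoc, Category.assoc, hmul, hmul]
        simp only [whiskerRight_fst, whiskerRight_snd, whiskerLeft_fst, whiskerLeft_snd, Category.assoc, hm,
          MonObj.comp_mul, associator_hom_fst, associator_hom_snd_fst_assoc, associator_hom_snd_snd_assoc,
          associator_hom_fst_assoc, _root_.mul_assoc] }
  refine ⟨@GrpObj.mk (Over S) _ _ N inst v ?_ ?_, ?_⟩
  · show lift v (𝟙 N) ≫ m = toUnit N ≫ e
    rw [← cancel_mono i, Category.assoc, hmT, hv, Category.id_comp, Category.assoc, he, MonObj.comp_one,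
      inv_mul_cancel]
  · show lift (𝟙 N) v ≫ m = toUnit N ≫ e
    rw [← cancel_mono i, Category.assoc, hmT, hv, Category.id_comp, Category.assoc, he, MonObj.comp_one,
      mul_inv_cancel]
  · refine { one_hom := he.trans hη.symm, mul_hom := ?_ }
    show m ≫ i = (i ⊗ₘ i) ≫ μ[G]
    rw [hm, Hom.mul_def]
    congr 1

end Groth.Agent.AlgGrpLib
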