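import Groth.Agent.AlgGrpLib.FixedLocus
import Groth.Agent.SGA3xLib.SepFibre
import Groth.Agent.PicLib.FlatSections
import Groth.Agent.Props12.KerReduced
import Mathlib.AlgebraicGeometry.AlgClosed.Basic
import Mathlib.RingTheory.Filtration

/-!
# Rigidity of maps out of schemes without non-constant functions
-/

set_option autoImplicit false
set_option backward.isDefEq.respectTransparency.types false

universe u

open CategoryTheory CategoryTheory.Limits MonoidalCategory CartesianMonoidalCategory AlgebraicGeometry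

namespace Groth.Agent.AlgGrpLib

variable {k : Type u} [Field k]

local notation "Pt" => 𝟙_ (Over (Spec (CommRingCat.of k)))

/-- A map from `X × Spec B` landing in an affine open comes from `Spec B` when `Γ(X) = k`. -/
theorem eq_snd_section_of_affine (X Z : Over (Spec (CommRingCat.of k))) [CompactSpace X.left]
    [QuasiSeparatedSpace X.left] (hX : Function.Bijective X.hom.appTop)
    {B : CommRingCat.{u}} (b : Spec B ⟶ Spec (CommRingCat.of k))
    (φ : X ⊗ Over.mk b ⟶ Z) (σ : Over.mk b ⟶ X ⊗ Over.mk b) (hσ : σ ≫ snd X (Over.mk b) = 𝟙 _)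
    (V : Z.left.Opens) (hV : IsAffineOpen V) (hφ : Set.range φ.left ⊆ (V : Set Z.left)) :
    φ = snd X (Over.mk b) ≫ σ ≫ φ := by
  haveI : IsAffine (V : Scheme) := hV
  haveI : Flat b := by
    obtain ⟨β, rfl⟩ := Spec.map_surjective b
    refine (HasRingHomProperty.Spec_iff (P := @Flat)).2 ?_
    letI := β.hom.toAlgebra
    exact RingHom.flat_algebraMap_iff.2 (inferInstanceAs (Module.Flat k B))
  let q : (X ⊗ Over.mk b).left ⟶ Spec B := (snd X (Over.mk b)).left
  have hq : Function.Bijective q.appTop :=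
    PicLib.bijective_appTop_of_isPullback (pullback.fst X.hom b) (pullback.snd X.hom b) X.hom b
      (IsPullback.of_hasPullback _ _) hX
  let φ' := IsOpenImmersion.lift V.ι φ.left (by rwa [Scheme.Opens.range_ι])
  have hφ' : φ' ≫ V.ι = φ.left := IsOpenImmersion.lift_fac _ _ _
  have hσ' : σ.left ≫ q = 𝟙 _ := congrArg (fun m => m.left) hσ
  have key : φ' = q ≫ σ.left ≫ φ' := by
    refine ext_of_isAffine (CommRingCat.hom_ext (RingHom.ext fun y => ?_))
    obtain ⟨c, hc⟩ := hq.2 (φ'.appTop y)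
    have h2 : σ.left.appTop (q.appTop c) = c := by
      have h3 := congr($(congrArg Scheme.Hom.appTop hσ') c)
      simp only [Scheme.Hom.comp_appTop, Scheme.Hom.id_appTop] at h3
      exact h3
    show φ'.appTop y = (q ≫ σ.left ≫ φ').appTop y
    simp only [Scheme.Hom.comp_appTop]
    show φ'.appTop y = q.appTop (σ.left.appTop (φ'.appTop y))
    rw [← hc, h2]
  apply Over.OverMorphism.ext
  show φ.left = q ≫ σ.left ≫ φ.left
  rw [← hφ', ← Category.assoc σ.left φ', ← Category.assoc q, ← key]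

/-- `f` agrees with `snd ≫ g` on infinitesimal neighbourhoods of a point where it does so. -/
theorem eq_on_thickening {X Y Z : Over (Spec (CommRingCat.of k))} [CompactSpace X.left]
    [QuasiSeparatedSpace X.left] (hX : Function.Bijective X.hom.appTop)
    (x₀ : Pt ⟶ X) (f : X ⊗ Y ⟶ Z) (g : Y ⟶ Z) (hg : lift (toUnit Y ≫ x₀) (𝟙 Y) ≫ f = g)
    {Q : Over (Spec (CommRingCat.of k))} (q : Q ⟶ Y) (o : Q.left)
    (hq : (X ◁ q) ≫ f = (X ◁ q) ≫ snd X Y ≫ g)
    {B : CommRingCat.{u}} (ρ : Spec B ⟶ Y.left) (hρ : ∀ z, ρ z = q.left o) :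
    (X ◁ (Over.homMk ρ : Over.mk (ρ ≫ Y.hom) ⟶ Y)) ≫ f =
      (X ◁ (Over.homMk ρ : Over.mk (ρ ≫ Y.hom) ⟶ Y)) ≫ snd X Y ≫ g := by
  subst hg
  let W : Over (Spec (CommRingCat.of k)) := Over.mk (ρ ≫ Y.hom)
  let r : W ⟶ Y := Over.homMk ρ
  let g : Y ⟶ Z := lift (toUnit Y ≫ x₀) (𝟙 Y) ≫ f
  obtain ⟨_, ⟨V, hV, rfl⟩, hcV, -⟩ :=
    Z.left.isBasis_affineOpens.exists_subset_of_mem_open (Set.mem_univ (g.left (q.left o))) isOpen_univ
  let σ : W ⟶ X ⊗ W := lift (toUnit W ≫ x₀) (𝟙 W)
  have hsq : IsPullback (X ◁ q).left (snd X Q).left (snd X Y).left q.left := by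
    refine IsPullback.of_right (h₁₂ := (fst X Y).left) (v₁₃ := X.hom) (h₂₂ := Y.hom) ?_
      (congrArg (fun m => m.left) (whiskerLeft_snd X q)) (IsPullback.of_hasPullback X.hom Y.hom)
    rw [show (X ◁ q).left ≫ (fst X Y).left = (fst X Q).left from congrArg (fun m => m.left) (whiskerLeft_fst X q),
      Over.w q]
    exact IsPullback.of_hasPullback X.hom Q.hom
  have hrange : Set.range ((X ◁ r) ≫ f).left ⊆ (V : Set Z.left) := by
    rintro _ ⟨p, rfl⟩
    obtain ⟨x', hx', hxo⟩ := Scheme.Pullback.exists_preimage_pullback (f := (snd X Y).left) (g := q.left)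
      ((X ◁ r).left p) o (by
        rw [← hρ ((snd X W).left p), ← Scheme.Hom.comp_apply,
          show (X ◁ r).left ≫ (snd X Y).left = (snd X W).left ≫ ρ from congrArg (fun m => m.left) (whiskerLeft_snd X r),
          Scheme.Hom.comp_apply])
    let x := hsq.isoPullback.inv x'
    have hx : (X ◁ q).left x = (X ◁ r).left p := by
      rw [← Scheme.Hom.comp_apply, hsq.isoPullback_inv_fst, hx']
    have hxo' : (snd X Q).left x = o := by
      rw [← Scheme.Hom.comp_apply, hsq.isoPullback_inv_snd, hxo]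
    have hq' : (X ◁ q) ≫ f = snd X Q ≫ q ≫ g := by rw [hq, whiskerLeft_snd_assoc]
    have h1 : f.left ((X ◁ q).left x) = g.left (q.left o) := by
      rw [← Scheme.Hom.comp_apply, show (X ◁ q).left ≫ f.left = (snd X Q).left ≫ q.left ≫ g.left from
        congrArg (fun m => m.left) hq', Scheme.Hom.comp_apply, Scheme.Hom.comp_apply, hxo']
    show f.left ((X ◁ r).left p) ∈ V
    rw [← hx, h1]
    exact hcV
  have h := eq_snd_section_of_affine X Z hX (ρ ≫ Y.hom) ((X ◁ r) ≫ f) σ (lift_snd _ _) V hV hrange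
  show (X ◁ r) ≫ f = (X ◁ r) ≫ snd X Y ≫ lift (toUnit Y ≫ x₀) (𝟙 Y) ≫ f
  refine h.trans ?_
  have e : r ≫ lift (toUnit Y ≫ x₀) (𝟙 Y) = σ ≫ (X ◁ r) := by
    rw [lift_whiskerLeft, comp_lift, ← Category.assoc, comp_toUnit, Category.comp_id, Category.id_comp]
  rw [whiskerLeft_snd_assoc, reassoc_of% e]

/-- A closed subscheme containing all infinitesimal neighbourhoods of a rational point contains an open one. -/
theorem exists_open_factor {Y T : Scheme.{u}} [IsLocallyNoetherian Y] (t : T ⟶ Y) [IsClosedImmersion t] (y : Y)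
    (h : ∀ n : ℕ, ∃ z, z ≫ t = Spec.map (CommRingCat.ofHom
      (Ideal.Quotient.mk (IsLocalRing.maximalIdeal (Y.presheaf.stalk y) ^ n))) ≫ Y.fromSpecStalk y) :
    ∃ V : Y.Opens, y ∈ V ∧ ∃ z, z ≫ t = V.ι := by
  obtain ⟨_, ⟨U, hU, rfl⟩, hyU, -⟩ := Y.isBasis_affineOpens.exists_subset_of_mem_open (Set.mem_univ y) isOpen_univ
  haveI : IsNoetherianRing Γ(Y, U) := IsLocallyNoetherian.component_noetherian ⟨U, hU⟩
  let g := Y.presheaf.germ U y hyU
  haveI : IsNoetherianRing (Y.presheaf.stalk y) := inferInstance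
  let I := t.ker.ideal ⟨U, hU⟩
  have hI : I = RingHom.ker (t.app U).hom := t.ker_apply ⟨U, hU⟩
  have h0 : ∀ a ∈ I, g a = 0 := by
    intro a ha
    rw [hI, RingHom.mem_ker] at ha
    have hbot : ⨅ n : ℕ, IsLocalRing.maximalIdeal (Y.presheaf.stalk y) ^ n = ⊥ :=
      Ideal.iInf_pow_eq_bot_of_isLocalRing _ (IsLocalRing.maximalIdeal.isMaximal _).ne_top
    rw [← Submodule.mem_bot (Y.presheaf.stalk y), ← hbot, Submodule.mem_iInf]
    intro n
    obtain ⟨z, hz⟩ := h n
    let q := CommRingCat.ofHom (Ideal.Quotient.mk (IsLocalRing.maximalIdeal (Y.presheaf.stalk y) ^ n))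
    rw [← Ideal.Quotient.eq_zero_iff_mem]
    show (g ≫ q) a = 0
    have hz' : z ≫ t = Spec.map (g ≫ q) ≫ hU.fromSpec := by
      rw [hz, ← hU.fromSpecStalk_eq_fromSpecStalk hyU]
      simp [IsAffineOpen.fromSpecStalk, Spec.map_comp, g, q]
    have h1 : (Spec.map (g ≫ q) ≫ hU.fromSpec).app U a = 0 := by
      have h2 : (z ≫ t).app U a = 0 := by
        show z.app _ (t.app U a) = 0
        exact (congrArg _ ha).trans (map_zero _)
      have h3 : Subsingleton {m : Spec _ ⟶ Y // m = z ≫ t} := ⟨fun a b => Subtype.ext (a.2.trans b.2.symm)⟩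
      revert h2
      generalize hm : z ≫ t = m
      rw [hz'] at hm
      subst hm
      exact id
    replace h1 : (Spec.map (g ≫ q)).app _ (hU.fromSpec.app U a) = 0 := h1
    rw [IsAffineOpen.fromSpec_app_self hU] at h1
    have key : ∀ {R S : CommRingCat.{u}} (ψ : R ⟶ S) (W : (Spec R).Opens) (e : W = ⊤) (r : R),
        (Spec.map ψ).app W ((Spec R).presheaf.map (eqToHom e).op ((Scheme.ΓSpecIso R).inv r)) = 0 → ψ r = 0 := by
      intro R S ψ W e r hr
      subst e
      rw [eqToHom_refl, op_id, (Spec R).presheaf.map_id] at hr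
      have h4 := congr($(Scheme.ΓSpecIso_inv_naturality ψ) r)
      simp only [CommRingCat.comp_apply] at h4
      apply (Scheme.ΓSpecIso S).commRingCatIsoToRingEquiv.symm.injective
      rw [map_zero]
      exact h4.trans hr
    exact key (g ≫ q) _ _ a h1
  have : Algebra Γ(Y, U) (Y.presheaf.stalk y) := TopCat.Presheaf.algebra_section_stalk Y.presheaf ⟨y, hyU⟩
  obtain ⟨s, hs, hsI⟩ : ∃ s : Γ(Y, U), y ∈ Y.basicOpen s ∧ ∀ a ∈ I, s * a = 0 := by
    classical
    obtain ⟨G, hG⟩ := IsNoetherian.noetherian I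
    have hloc := hU.isLocalization_stalk ⟨y, hyU⟩
    have hs : ∀ a ∈ I, ∃ s : (hU.primeIdealOf ⟨y, hyU⟩).asIdeal.primeCompl, (s : Γ(Y, U)) * a = 0 := fun a ha => by
      letI := TopCat.Presheaf.algebra_section_stalk Y.presheaf ⟨y, hyU⟩
      exact (IsLocalization.map_eq_zero_iff _ (Y.presheaf.stalk y) a).1 (h0 a ha)
    choose s hs using hs
    refine ⟨∏ a ∈ G.attach, (s a.1 (hG ▸ Submodule.subset_span a.2)).1, ?_, fun a ha => ?_⟩
    · have hp : (∏ a ∈ G.attach, (s a.1 (hG ▸ Submodule.subset_span a.2)).1) ∈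
          (hU.primeIdealOf ⟨y, hyU⟩).asIdeal.primeCompl :=
        Submonoid.prod_mem _ fun a _ => (s a.1 _).2
      rw [Y.mem_basicOpen _ y hyU]
      letI := TopCat.Presheaf.algebra_section_stalk Y.presheaf ⟨y, hyU⟩
      exact IsLocalization.map_units (Y.presheaf.stalk y) ⟨_, hp⟩
    · rw [← hG] at ha
      induction ha using Submodule.span_induction with
      | mem a ha =>
        rw [← Finset.mul_prod_erase _ _ (Finset.mem_attach G ⟨a, ha⟩), mul_right_comm, hs, zero_mul]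
      | zero => rw [mul_zero]
      | add a b _ _ h1 h2 => rw [mul_add, h1, h2, add_zero]
      | smul r a _ h1 => rw [smul_eq_mul, mul_left_comm, h1, mul_zero]
  let V := Y.basicOpen s
  have hV : IsAffineOpen V := hU.basicOpen s
  have hVbot : t.ker.ideal ⟨V, hV⟩ = ⊥ := by
    have e := t.ker.map_ideal_basicOpen ⟨U, hU⟩ s
    refine e.symm.trans ?_
    rw [Ideal.map_eq_bot_iff_le_ker]
    intro a ha
    rw [RingHom.mem_ker]
    haveI := hU.isLocalization_basicOpen s
    exact (IsLocalization.map_eq_zero_iff (Submonoid.powers s) Γ(Y, Y.basicOpen s) a).2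
      ⟨⟨s, Submonoid.mem_powers s⟩, hsI a ha⟩
  have hinj : Function.Injective (t.app V) := by
    refine (RingHom.injective_iff_ker_eq_bot (t.app V).hom).2 ?_
    rw [← hVbot]; exact (t.ker_apply ⟨V, hV⟩).symm
  haveI : IsAffine (V : Scheme) := hV
  haveI : IsIso (t ∣_ V) := by
    refine IsClosedImmersion.isIso_of_injective_of_isAffine ?_
    rw [morphismRestrict_appTop]
    intro a b hab
    have h3 := ((ConcreteCategory.isIso_iff_bijective (T.presheaf.map
      (eqToHom (image_morphismRestrict_preimage t V ⊤)).op)).1 inferInstance).1 hab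
    have key : ∀ (W : Y.Opens) (e : W = V), Function.Injective (t.app W) := fun W e => by subst e; exact hinj
    exact key _ (Scheme.Opens.ι_image_top V) h3
  exact ⟨V, hs, inv (t ∣_ V) ≫ (t ⁻¹ᵁ V).ι, by rw [Category.assoc, ← morphismRestrict_ι, IsIso.inv_hom_id_assoc]⟩

theorem specMap_quot_eq_closedPoint {R : CommRingCat.{u}} [IsLocalRing R] (n : ℕ)
    (z : ↥(Spec (CommRingCat.of (R ⧸ IsLocalRing.maximalIdeal R ^ n)))) :
    Spec.map (CommRingCat.ofHom (Ideal.Quotient.mk (IsLocalRing.maximalIdeal R ^ n))) z = IsLocalRing.closedPoint R := by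
  apply PrimeSpectrum.ext
  let P := (z : PrimeSpectrum _).asIdeal.comap (Ideal.Quotient.mk (IsLocalRing.maximalIdeal R ^ n))
  show P = IsLocalRing.maximalIdeal R
  haveI : P.IsPrime := Ideal.IsPrime.comap _
  refine (IsLocalRing.le_maximalIdeal ‹P.IsPrime›.ne_top).antisymm fun a ha => ?_
  refine ‹P.IsPrime›.mem_of_pow_mem n ?_
  show Ideal.Quotient.mk (IsLocalRing.maximalIdeal R ^ n) (a ^ n) ∈ (z : PrimeSpectrum (R ⧸ IsLocalRing.maximalIdeal R ^ n)).asIdeal
  rw [Ideal.Quotient.eq_zero_iff_mem.2 (Ideal.pow_mem_pow ha n)]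
  exact zero_mem _

/-- The closed locus where `f` is independent of `X`. -/
theorem exists_locus (X : Over (Spec (CommRingCat.of k))) {Y Z : Over (Spec (CommRingCat.of k))}
    [IsSeparated Z.hom] (φ ψ : X ⊗ Y ⟶ Z) :
    ∃ (T : Over (Spec (CommRingCat.of k))) (t : T ⟶ Y), IsClosedImmersion t.left ∧
      ∀ (S : Over (Spec (CommRingCat.of k))) (r : S ⟶ Y),
        (∃ z, z ≫ t.left = r.left) ↔ (X ◁ r) ≫ φ = (X ◁ r) ≫ ψ := by
  obtain ⟨T, t, ht, hT⟩ := SGA3cLib.exists_transporter_eq (isEssentiallyFree_hom X) φ ψ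
  refine ⟨T, t, ht, fun S r => ?_⟩
  have h1 : (∃ z, z ≫ t.left = r.left) ↔ ∃ z : S ⟶ T, z ≫ t = r := by
    refine ⟨fun ⟨z, hz⟩ => ⟨Over.homMk z ?_, Over.OverMorphism.ext hz⟩, fun ⟨z, hz⟩ =>
      ⟨z.left, congrArg (fun m => m.left) hz⟩⟩
    rw [← Over.w t, ← Category.assoc, hz, Over.w r]
  rw [h1, hT]
  constructor
  · intro h
    have := h (X ⊗ S) (snd X S) (fst X S)
    have e : lift (fst X S) (snd X S ≫ r) = X ◁ r := by
      apply CartesianMonoidalCategory.hom_ext <;> simp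
    rwa [e] at this
  · intro h S' s x
    rw [← lift_whiskerLeft, Category.assoc, Category.assoc, h]

/-- At a point where `f` is independent of `X`, it is so on an open neighbourhood. -/
theorem exists_open_locus {X Y Z : Over (Spec (CommRingCat.of k))} [CompactSpace X.left]
    [QuasiSeparatedSpace X.left] [IsLocallyNoetherian Y.left] (hX : Function.Bijective X.hom.appTop)
    (x₀ : Pt ⟶ X) (f : X ⊗ Y ⟶ Z) (g : Y ⟶ Z) (hg : lift (toUnit Y ≫ x₀) (𝟙 Y) ≫ f = g)
    {Q : Over (Spec (CommRingCat.of k))} (q : Q ⟶ Y) (o : Q.left)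
    (hq : (X ◁ q) ≫ f = (X ◁ q) ≫ snd X Y ≫ g)
    {T : Over (Spec (CommRingCat.of k))} (t : T ⟶ Y) [IsClosedImmersion t.left]
    (hT : ∀ (S : Over (Spec (CommRingCat.of k))) (r : S ⟶ Y), (∃ z, z ≫ t.left = r.left) ↔
      (X ◁ r) ≫ f = (X ◁ r) ≫ snd X Y ≫ g) :
    ∃ V : Y.left.Opens, q.left o ∈ V ∧ ∃ z, z ≫ t.left = V.ι := by
  refine exists_open_factor t.left _ fun n => ?_
  generalize hy : q.left o = y
  let ρ := Spec.map (CommRingCat.ofHom (Ideal.Quotient.mk
    (IsLocalRing.maximalIdeal (Y.left.presheaf.stalk y) ^ n))) ≫ Y.left.fromSpecStalk y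
  refine (hT (Over.mk (ρ ≫ Y.hom)) (Over.homMk ρ)).2 (eq_on_thickening hX x₀ f g hg q o hq ρ fun z => ?_)
  show Y.left.fromSpecStalk y (Spec.map _ z) = _
  rw [specMap_quot_eq_closedPoint (R := Y.left.presheaf.stalk y) n z, Scheme.fromSpecStalk_closedPoint, hy]

/-- Rigidity: for `Γ(X) = k` and a connected locally Noetherian parameter space, a map collapsing one slice
does not depend on `X`. -/
theorem eq_snd_of_antiAffine {X Y Z : Over (Spec (CommRingCat.of k))} [CompactSpace X.left]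
    [QuasiSeparatedSpace X.left] [IsLocallyNoetherian Y.left] [ConnectedSpace Y.left]
    [IsSeparated Z.hom] (hX : Function.Bijective X.hom.appTop)
    (x₀ : Pt ⟶ X) (y₀ : Pt ⟶ Y) (f : X ⊗ Y ⟶ Z) (hf : (X ◁ y₀) ≫ f = toUnit _ ≫ lift x₀ y₀ ≫ f) :
    f = snd X Y ≫ lift (toUnit Y ≫ x₀) (𝟙 Y) ≫ f := by
  let g : Y ⟶ Z := lift (toUnit Y ≫ x₀) (𝟙 Y) ≫ f
  obtain ⟨T, t, ht, hT⟩ := exists_locus X f (snd X Y ≫ g)
  let O : Set Y.left := {y | ∃ V : Y.left.Opens, y ∈ V ∧ ∃ z, z ≫ t.left = V.ι}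
  have hO : IsOpen O := by
    refine isOpen_iff_forall_mem_open.2 fun y ⟨V, hy, hV⟩ => ⟨V, fun w hw => ⟨V, hw, hV⟩, V.isOpen, hy⟩
  have heq : O = Set.range t.left := by
    refine Set.Subset.antisymm ?_ ?_
    · rintro y ⟨V, hy, z, hz⟩
      exact ⟨z ⟨y, hy⟩, by rw [← Scheme.Hom.comp_apply, hz]; rfl⟩
    · rintro _ ⟨w, rfl⟩
      exact exists_open_locus hX x₀ f g rfl t w ((hT T t).1 ⟨𝟙 _, Category.id_comp _⟩) t hT
  have h₀ : (X ◁ y₀) ≫ f = (X ◁ y₀) ≫ snd X Y ≫ g := by
    have e : y₀ ≫ lift (toUnit Y ≫ x₀) (𝟙 Y) = lift x₀ y₀ := by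
      rw [comp_lift, ← Category.assoc, comp_toUnit, Category.comp_id, toUnit_unique (toUnit Pt) (𝟙 _), Category.id_comp]
    show (X ◁ y₀) ≫ f = (X ◁ y₀) ≫ snd X Y ≫ lift (toUnit Y ≫ x₀) (𝟙 Y) ≫ f
    rw [hf, whiskerLeft_snd_assoc, reassoc_of% e, toUnit_unique (snd X Pt) (toUnit _)]
  have huniv : O = Set.univ := by
    refine IsClopen.eq_univ ⟨heq ▸ t.left.isClosedEmbedding.isClosed_range, hO⟩ ?_
    exact ⟨_, exists_open_locus hX x₀ f g rfl y₀ (IsLocalRing.closedPoint k) h₀ t hT⟩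
  choose V hyV z hz using fun y => (huniv.symm ▸ Set.mem_univ y : y ∈ O)
  obtain ⟨l, hl⟩ := SGA3cLib.WeilRes.exists_lift_of_openCover t.left (𝟙 Y.left)
    (Y.left.openCoverOfIsOpenCover V (TopologicalSpace.IsOpenCover.mk (top_le_iff.1 fun y _ =>
      TopologicalSpace.Opens.mem_iSup.2 ⟨y, hyV y⟩))) fun y => ⟨z y, (hz y).trans (Category.comp_id _).symm⟩
  simpa using (hT Y (𝟙 Y)).1 ⟨l, hl⟩

/-- The form in which "only constant functions" is stated. -/
theorem bijective_appTop_of_const {X : Over (Spec (CommRingCat.of k))}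
    (hX : Function.Bijective ((Scheme.ΓSpecIso (CommRingCat.of k)).inv ≫ X.hom.appTop).hom) :
    Function.Bijective X.hom.appTop :=
  (Function.Bijective.of_comp_iff _
    ((ConcreteCategory.isIso_iff_bijective (Scheme.ΓSpecIso (CommRingCat.of k)).inv).1 inferInstance)).1 hX

theorem nonempty_of_bijective {X : Over (Spec (CommRingCat.of k))} (hX : Function.Bijective X.hom.appTop) :
    Nonempty X.left := by
  by_contra h
  rw [not_nonempty_iff] at h
  have h1 : X.hom.appTop ((Scheme.ΓSpecIso (CommRingCat.of k)).inv 1) = X.hom.appTop ((Scheme.ΓSpecIso (CommRingCat.of k)).inv 0) :=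
    Subsingleton.elim _ _
  exact one_ne_zero (α := k) (((ConcreteCategory.isIso_iff_bijective (Scheme.ΓSpecIso (CommRingCat.of k)).inv).1
    inferInstance).1 (hX.1 h1))

theorem exists_rationalPoint [IsAlgClosed k] (X : Over (Spec (CommRingCat.of k))) [LocallyOfFiniteType X.hom]
    [Nonempty X.left] : Nonempty (Pt ⟶ X) := by
  haveI : JacobsonSpace X.left := LocallyOfFiniteType.jacobsonSpace X.hom
  obtain ⟨y, -, hy⟩ := nonempty_inter_closedPoints (X := X.left) (Z := Set.univ) Set.univ_nonempty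
    isClosed_univ.isLocallyClosed
  exact ⟨Over.homMk (pointOfClosedPoint X.hom y hy) (pointOfClosedPoint_comp X.hom y hy)⟩

/-- A scheme without non-constant functions is connected. -/
theorem connectedSpace_of_bijective {Y : Over (Spec (CommRingCat.of k))} (hY : Function.Bijective Y.hom.appTop) :
    ConnectedSpace Y.left := by
  haveI := nonempty_of_bijective hY
  let X := Y.left
  let φ : k →+* Γ(X, ⊤) := ((Scheme.ΓSpecIso (CommRingCat.of k)).inv ≫ Y.hom.appTop).hom
  have hspan : ∀ e : Γ(X, ⊤), ∃ c, φ c = e :=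
    (Function.Bijective.comp hY ((ConcreteCategory.isIso_iff_bijective (Scheme.ΓSpecIso (CommRingCat.of k)).inv).1 inferInstance)).2
  refine { isPreconnected_univ := ?_, toNonempty := inferInstance }
  suffices h2 : PreconnectedSpace X from h2.isPreconnected_univ
  refine preconnectedSpace_iff_clopen.2 fun s hs => ?_
  let U : X.Opens := ⟨s, hs.2⟩
  let V : X.Opens := ⟨sᶜ, hs.1.isOpen_compl⟩
  let W : ULift.{u} Bool → X.Opens := fun b => if b.down then U else V
  let sf : ∀ b, Γ(X, W b) := fun b =>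
    match b with
    | ⟨true⟩ => (1 : Γ(X, U))
    | ⟨false⟩ => (0 : Γ(X, V))
  have hcompat : TopCat.Presheaf.IsCompatible X.presheaf W sf := by
    have hsub : Subsingleton Γ(X, U ⊓ V) := CommRingCat.subsingleton_of_isTerminal (by
      rw [show U ⊓ V = ⊥ from TopologicalSpace.Opens.ext (Set.inter_compl_self s)]
      exact X.sheaf.isTerminalOfEmpty)
    have hsub' : Subsingleton Γ(X, V ⊓ U) := inf_comm U V ▸ hsub
    rintro ⟨_ | _⟩ ⟨_ | _⟩
    · rfl
    · exact hsub'.elim _ _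
    · exact hsub.elim _ _
    · rfl
  obtain ⟨e, he, -⟩ := X.sheaf.existsUnique_gluing' W ⊤ (fun _ => homOfLE le_top)
    (fun z _ => by
      by_cases hz : z ∈ s
      · exact TopologicalSpace.Opens.mem_iSup.2 ⟨⟨true⟩, hz⟩
      · exact TopologicalSpace.Opens.mem_iSup.2 ⟨⟨false⟩, hz⟩) sf hcompat
  obtain ⟨c, rfl⟩ := hspan e
  rcases eq_or_ne c 0 with rfl | hc
  · refine Or.inl (Set.eq_empty_of_forall_notMem fun z hz => ?_)
    have h01 := he ⟨true⟩
    rw [map_zero] at h01
    haveI : Subsingleton Γ(X, U) := subsingleton_of_zero_eq_one ((map_zero _).symm.trans h01)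
    exact not_subsingleton (X.presheaf.stalk z) (subsingleton_of_zero_eq_one (by
      rw [← map_zero (X.presheaf.germ U z hz).hom, ← map_one (X.presheaf.germ U z hz).hom,
        Subsingleton.elim (0 : Γ(X, U)) 1]))
  · refine Or.inr (Set.eq_univ_of_forall fun z => ?_)
    by_contra hz
    have h01 := he ⟨false⟩
    have hu : IsUnit (X.presheaf.germ V z hz (0 : Γ(X, V))) := by
      rw [show (0 : Γ(X, V)) = _ from h01.symm]
      exact (((IsUnit.mk0 c hc).map φ).map (X.presheaf.map _).hom).map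
        (X.presheaf.germ V z hz).hom
    rw [map_zero] at hu
    exact not_isUnit_zero hu

section Groups

open MonObj GrpObj

theorem slice_eq_one {X Y G : Over (Spec (CommRingCat.of k))} [GrpObj G] [CompactSpace X.left]
    [QuasiSeparatedSpace X.left] [IsLocallyNoetherian Y.left] [ConnectedSpace Y.left]
    (hX : Function.Bijective X.hom.appTop) (x₀ : Pt ⟶ X) (y₀ : Pt ⟶ Y) (F : X ⊗ Y ⟶ G)
    (h₁ : (X ◁ y₀) ≫ F = 1) (h₂ : lift (toUnit Y ≫ x₀) (𝟙 Y) ≫ F = 1) : F = 1 := by
  haveI := SGA3xLib.isSeparated_of_grpObj G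
  have e : lift x₀ y₀ = lift x₀ (𝟙 Pt) ≫ (X ◁ y₀) := by rw [lift_whiskerLeft, Category.id_comp]
  rw [eq_snd_of_antiAffine hX x₀ y₀ F (by rw [h₁, e, Category.assoc, h₁, MonObj.comp_one, MonObj.comp_one]), h₂,
    MonObj.comp_one]

/-- A morphism from an anti-affine group to a group respecting units is a homomorphism. -/
theorem isMonHom_of_antiAffine {H G : Over (Spec (CommRingCat.of k))} [GrpObj H] [GrpObj G]
    [LocallyOfFiniteType H.hom] [QuasiCompact H.hom] (hH : Function.Bijective H.hom.appTop)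
    (f : H ⟶ G) (hf : η[H] ≫ f = η[G]) : IsMonHom f := by
  haveI : CompactSpace H.left := QuasiCompact.compactSpace_of_compactSpace H.hom
  haveI : IsLocallyNoetherian H.left := LocallyOfFiniteType.isLocallyNoetherian H.hom
  haveI := connectedSpace_of_bijective hH
  let F : H ⊗ H ⟶ G := ((fst H H * snd H H) ≫ f) * ((fst H H ≫ f) * (snd H H ≫ f))⁻¹
  have h1 : η[H] ≫ f = (1 : Pt ⟶ G) := by rw [hf]; exact MonObj.one_eq_one G
  have hu : ∀ T : Over (Spec (CommRingCat.of k)), (toUnit T ≫ η[H]) ≫ f = 1 := fun T => by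
    rw [Category.assoc, h1, MonObj.comp_one]
  have hF : F = 1 := by
    refine slice_eq_one hH η[H] η[H] F ?_ ?_
    · simp only [F, MonObj.comp_mul, GrpObj.comp_inv, whiskerLeft_fst_assoc, whiskerLeft_snd_assoc,
        h1, MonObj.comp_one, _root_.mul_one]
      rw [← Category.assoc, MonObj.comp_mul, whiskerLeft_fst, whiskerLeft_snd, toUnit_unique (snd H Pt) (toUnit _),
        ← Hom.one_def, _root_.mul_one, mul_inv_cancel]
    · simp only [F, MonObj.comp_mul, GrpObj.comp_inv, lift_fst_assoc, lift_snd_assoc]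
      rw [← Category.assoc, MonObj.comp_mul, lift_fst, lift_snd, ← Hom.one_def, _root_.one_mul, Category.id_comp]
      rw [show (1 : H ⟶ H) ≫ f = 1 from by rw [Hom.one_def]; exact hu H, _root_.one_mul, mul_inv_cancel]
  refine ⟨hf, ?_⟩
  have h2 : (fst H H * snd H H) ≫ f = (fst H H ≫ f) * (snd H H ≫ f) := mul_inv_eq_one.1 hF
  rw [Hom.mul_def, lift_fst_snd, Category.id_comp] at h2
  rw [h2, Hom.mul_def]
  congr 1

end Groups

end Groth.Agent.AlgGrpLib
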