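import Groth.Agent.SGA3cLib.WeilRes
import Groth.Agent.SGA3xLib.SepFibre
import Mathlib.Algebra.Category.Ring.Constructions
import Mathlib.RingTheory.TensorProduct.Free
import Mathlib.AlgebraicGeometry.Morphisms.Affine

/-! The centre of a group scheme over a field is a closed subscheme. -/

universe u

open CategoryTheory Limits AlgebraicGeometry MonoidalCategory CartesianMonoidalCategory MonObj GrpObj

namespace Groth.Agent.AlgGrpLib

set_option backward.isDefEq.respectTransparency.types false in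
/-- Base changes of schemes over a field are essentially free. -/
theorem isEssentiallyFree_of_field {K : Type u} [Field K] {Z S Y : Scheme.{u}} {p : Z ⟶ Y} {f : Z ⟶ S}
    {q : Y ⟶ Spec (CommRingCat.of K)} {b : S ⟶ Spec (CommRingCat.of K)} (h : IsPullback p f q b) :
    SGA3x.IsEssentiallyFree f := by
  intro s
  obtain ⟨_, ⟨U, hU, rfl⟩, hsU, -⟩ := S.isBasis_affineOpens.exists_subset_of_mem_open (Set.mem_univ s) isOpen_univ
  replace hU : IsAffineOpen U := hU
  refine ⟨U, hsU, hU, (Scheme.Opens.toScheme U), hU, 𝟙 _, inferInstance, inferInstance, fun x => ?_⟩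
  let P := pullback f (𝟙 (Scheme.Opens.toScheme U) ≫ (Scheme.Opens.ι U))
  let p' : P ⟶ Y := pullback.fst f (𝟙 (Scheme.Opens.toScheme U) ≫ (Scheme.Opens.ι U)) ≫ p
  obtain ⟨_, ⟨V, hV, rfl⟩, hxV, -⟩ := Y.isBasis_affineOpens.exists_subset_of_mem_open (Set.mem_univ (p' x)) isOpen_univ
  replace hV : IsAffineOpen V := hV
  let W : P.Opens := p' ⁻¹ᵁ V
  have hb : IsPullback p' (pullback.snd f (𝟙 (Scheme.Opens.toScheme U) ≫ (Scheme.Opens.ι U))) q ((𝟙 (Scheme.Opens.toScheme U) ≫ (Scheme.Opens.ι U)) ≫ b) :=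
    (IsPullback.of_hasPullback f (𝟙 (Scheme.Opens.toScheme U) ≫ (Scheme.Opens.ι U))).paste_horiz h
  have hW : IsPullback (p' ∣_ V) ((Scheme.Opens.ι W) ≫ pullback.snd f (𝟙 (Scheme.Opens.toScheme U) ≫ (Scheme.Opens.ι U))) ((Scheme.Opens.ι V) ≫ q)
      ((𝟙 (Scheme.Opens.toScheme U) ≫ (Scheme.Opens.ι U)) ≫ b) :=
    (isPullback_morphismRestrict p' V).paste_vert hb
  have : IsAffine (Scheme.Opens.toScheme U) := hU
  have : IsAffine (Scheme.Opens.toScheme V) := hV
  have hWaff : IsAffine (Scheme.Opens.toScheme W) := .of_isIso hW.isoPullback.hom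
  refine ⟨W, hxV, hWaff, ?_⟩
  have hp := isPushout_appTop_of_isPullback hW
  let R0 : CommRingCat.{u} := Γ(Spec (CommRingCat.of K), ⊤)
  let : Field R0 := (((Scheme.ΓSpecIso (CommRingCat.of K)).commRingCatIsoToRingEquiv.toMulEquiv).isField
    (Field.toIsField K)).toField
  let : Algebra R0 Γ((Scheme.Opens.toScheme U), ⊤) := ((𝟙 (Scheme.Opens.toScheme U) ≫ (Scheme.Opens.ι U)) ≫ b).appTop.hom.toAlgebra
  let : Algebra R0 Γ((Scheme.Opens.toScheme V), ⊤) := ((Scheme.Opens.ι V) ≫ q).appTop.hom.toAlgebra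
  let := ((Scheme.Opens.ι W) ≫ pullback.snd f (𝟙 (Scheme.Opens.toScheme U) ≫ (Scheme.Opens.ι U))).appTop.hom.toAlgebra
  let : Algebra Γ((Scheme.Opens.toScheme V), ⊤) Γ((Scheme.Opens.toScheme W), ⊤) := (p' ∣_ V).appTop.hom.toAlgebra
  let : Algebra R0 Γ((Scheme.Opens.toScheme W), ⊤) :=
    (((𝟙 (Scheme.Opens.toScheme U) ≫ (Scheme.Opens.ι U)) ≫ b).appTop ≫ ((Scheme.Opens.ι W) ≫ pullback.snd f (𝟙 (Scheme.Opens.toScheme U) ≫ (Scheme.Opens.ι U))).appTop).hom.toAlgebra
  have : IsScalarTower R0 Γ((Scheme.Opens.toScheme U), ⊤) Γ((Scheme.Opens.toScheme W), ⊤) := IsScalarTower.of_algebraMap_eq fun _ => rfl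
  have : IsScalarTower R0 Γ((Scheme.Opens.toScheme V), ⊤) Γ((Scheme.Opens.toScheme W), ⊤) := IsScalarTower.of_algebraMap_eq fun r => by
    exact (congrArg (fun φ : R0 ⟶ Γ((Scheme.Opens.toScheme W), ⊤) => φ.hom r) hp.w).symm
  have hpo : Algebra.IsPushout R0 Γ((Scheme.Opens.toScheme U), ⊤) Γ((Scheme.Opens.toScheme V), ⊤) Γ((Scheme.Opens.toScheme W), ⊤) :=
    CommRingCat.isPushout_iff_isPushout.mp hp.flip
  have : Module.Free R0 Γ((Scheme.Opens.toScheme V), ⊤) := Module.Free.of_divisionRing _ _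
  exact Module.Projective.of_equiv hpo.out.equiv

/-- The centre of a group scheme over a field. -/
theorem exists_centre {K : Type u} [Field K] (G : Over (Spec (CommRingCat.of K))) [GrpObj G] :
    ∃ (Z : Over (Spec (CommRingCat.of K))) (incl : Z ⟶ G), IsClosedImmersion incl.left ∧
      ∀ (T : Over (Spec (CommRingCat.of K))) (g : T ⟶ G), (∃ z : T ⟶ Z, z ≫ incl = g) ↔
        ∀ (T' : Over (Spec (CommRingCat.of K))) (h : T' ⟶ T) (g' : T' ⟶ G),
          (h ≫ g) * g' = g' * (h ≫ g) := by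
  let δ : G ⊗ G ⟶ G := (fst G G * snd G G) * (snd G G * fst G G)⁻¹
  let f : (G ⊗ G).left ⟶ G.left := (fst G G).left
  let j : pullback δ.left η[G].left ⟶ (G ⊗ G).left := pullback.fst _ _
  have : IsClosedImmersion η[G].left :=
    Groth.Agent.SGA3xLib.isClosedImmersion_of_section G.hom η[G].left (Over.w η[G])
  have : IsClosedImmersion j := inferInstanceAs (IsClosedImmersion (pullback.fst δ.left η[G].left))
  have hfree : SGA3x.IsEssentiallyFree f :=
    isEssentiallyFree_of_field (IsPullback.of_hasPullback G.hom G.hom).flip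
  obtain ⟨T, t, ht, hT, -⟩ := Groth.Agent.SGA3cLib.WeilRes.exists_closedImmersion f j hfree
  refine ⟨Over.mk (t ≫ G.hom), Over.homMk t, ht, fun T₀ g => ?_⟩
  have hkey : (∃ z : T₀ ⟶ Over.mk (t ≫ G.hom), z ≫ Over.homMk t = g) ↔
      Groth.Agent.SGA3cLib.WeilRes.Factors f j T₀.left g.left := by
    rw [hT]
    constructor
    · rintro ⟨z, hz⟩
      exact ⟨z.left, congrArg CommaMorphism.left hz⟩
    · rintro ⟨z, hz⟩
      refine ⟨Over.homMk z ?_, Over.OverMorphism.ext hz⟩
      exact (by rw [← Category.assoc]; exact (congrArg (· ≫ G.hom) hz).trans (Over.w g) :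
        z ≫ (t ≫ G.hom) = T₀.hom)
  rw [hkey]
  constructor
  · rintro ⟨l, hl⟩ T' h g'
    let p : T' ⟶ G ⊗ G := lift (h ≫ g) g'
    have hp : (p ≫ δ).left = T'.hom ≫ η[G].left := by
      have h1 : p.left ≫ f = h.left ≫ g.left := congrArg CommaMorphism.left (lift_fst (h ≫ g) g')
      have h2 : p.left = (pullback.lift p.left h.left h1 ≫ l) ≫ j := by
        rw [Category.assoc, hl, pullback.lift_fst]
      have h3 : p.left ≫ δ.left = ((pullback.lift p.left h.left h1 ≫ l) ≫ pullback.snd δ.left η[G].left) ≫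
          η[G].left := by
        conv_lhs => rw [h2]
        simp only [j, Category.assoc, pullback.condition]
      have h4 : (pullback.lift p.left h.left h1 ≫ l) ≫ pullback.snd δ.left η[G].left = T'.hom := by
        have h5 := congrArg (· ≫ G.hom) h3
        simp only [Category.assoc, Over.w δ, Over.w p, Over.w η[G]] at h5
        exact (h5.trans (by simp)).symm
      rw [h4] at h3
      exact h3
    have hp' : p ≫ δ = 1 := by
      rw [Hom.one_def]
      exact Over.OverMorphism.ext hp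
    simp only [p, δ, MonObj.comp_mul, GrpObj.comp_inv, lift_fst, lift_snd, mul_inv_eq_one] at hp'
    exact hp'
  · intro hc
    let W : Over (Spec (CommRingCat.of K)) := Over.mk (pullback.snd f g.left ≫ T₀.hom)
    let h : W ⟶ T₀ := Over.homMk (pullback.snd f g.left)
    have hw : pullback.fst f g.left ≫ (G ⊗ G).hom = pullback.snd f g.left ≫ T₀.hom := by
      rw [← Over.w (fst G G), ← Category.assoc]
      change (pullback.fst f g.left ≫ f) ≫ G.hom = _
      rw [pullback.condition, Category.assoc, Over.w g]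
    let p : W ⟶ G ⊗ G := Over.homMk (pullback.fst f g.left) hw
    have hpf : p ≫ fst G G = h ≫ g := Over.OverMorphism.ext pullback.condition
    have hp : p ≫ δ = 1 := by
      simp only [δ, MonObj.comp_mul, GrpObj.comp_inv, hpf, mul_inv_eq_one]
      exact hc W h (p ≫ snd G G)
    have hp' : pullback.fst f g.left ≫ δ.left = (toUnit W).left ≫ η[G].left := by
      rw [Hom.one_def] at hp
      exact congrArg CommaMorphism.left hp
    exact ⟨pullback.lift _ _ hp', pullback.lift_fst _ _ _⟩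

end Groth.Agent.AlgGrpLib
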