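import Groth.Agent.AlgGrpLib.TorsorNormRel
import Groth.Agent.Quot8.QuotientProjective
import Groth.Agent.CohDer1.QP.Final
import Groth.Agent.MorProj.VeryAmple
import Groth.Agent.AbVarLib.GeomIntegralSmooth
import Groth.Agent.AbVarLib.HomFlat
import Groth.Agent.AbVarLib.HomDim
import Groth.Agent.AbCubeLib.MulBy
import Groth.Agent.NeronLib.MonHomOfUnit
import Groth.Agent.SGA3Centre26.Quot
import Groth.Agent.AbSchLib.GlobalSections

/-!
Quotients of algebraic groups by abelian subvarieties and almost-retractions onto them.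
-/

set_option autoImplicit false
set_option backward.isDefEq.respectTransparency.types false

universe u

open CategoryTheory CategoryTheory.Limits MonoidalCategory CartesianMonoidalCategory MonObj GrpObj AlgebraicGeometry

namespace Groth.Agent.AlgGrpLib.AbelianSubvariety

variable {k : Type u} [Field k]

/-- Geometric connectedness of connected groups. -/
theorem geometricallyConnected_of_connected (G : Over (Spec (CommRingCat.of k))) [GrpObj G] [ConnectedSpace ↥G.left] :
    GeometricallyConnected G.hom :=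
  AbSchLib.geometricallyConnected_of_section G.hom η[G].left (Over.w η[G]) fun s => by
    have hsurj : Function.Surjective (G.hom.fiberι s) := fun a => by
      have ha : a ∈ Set.range (G.hom.fiberι s) := by
        rw [Scheme.Hom.range_fiberι]
        exact Subsingleton.elim (α := PrimeSpectrum k) _ _
      exact ha
    let e := (G.hom.fiberι s).isEmbedding.toHomeomorphOfSurjective hsurj
    exact e.symm.surjective.connectedSpace e.symm.continuous

variable {G A : Over (Spec (CommRingCat.of k))} [GrpObj G] [GrpObj A]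

/-- The right translation action of a commutative subgroup. -/
noncomputable def transAct [IsCommMonObj A] (i : A ⟶ G) [IsMonHom i] : AlgGrp.Action A G where
  act := snd A G * (fst A G ≫ i)
  one_act := by
    rw [MonObj.comp_mul, whiskerRight_snd, whiskerRight_fst_assoc, MonObj.one_eq_one, MonObj.one_comp,
      MonObj.comp_one, _root_.mul_one, leftUnitor_hom]
  mul_act := by
    simp only [MonObj.comp_mul, whiskerRight_snd, whiskerRight_fst_assoc, whiskerLeft_snd, whiskerLeft_fst_assoc,
      associator_hom_fst_assoc, associator_hom_snd_fst_assoc, associator_hom_snd_snd, Category.assoc, MonObj.mul_comp]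
    rw [_root_.mul_assoc]
    congr 1
    have h : μ[A] = fst A A * snd A A := by rw [Hom.mul_def, lift_fst_snd, Category.id_comp]
    rw [h, _root_.mul_comm (fst A A), MonObj.mul_comp _ _ i, MonObj.comp_mul]

theorem transAct_pts [IsCommMonObj A] (i : A ⟶ G) [IsMonHom i] {T : Over (Spec (CommRingCat.of k))} (a : T ⟶ A)
    (g : T ⟶ G) : lift a g ≫ (transAct i).act = g * (a ≫ i) := by
  show lift a g ≫ (snd A G * (fst A G ≫ i)) = _
  rw [MonObj.comp_mul, lift_snd, lift_fst_assoc]

/-- An immersion of an algebraic group into projective space. -/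
theorem exists_immersion (G : Over (Spec (CommRingCat.of k))) [GrpObj G] [LocallyOfFiniteType G.hom] [QuasiCompact G.hom] :
    ∃ (n : ℕ) (e : G.left ⟶ CohB1.ProjSpaceOver n (Spec (CommRingCat.of k))), IsImmersion e ∧
      e ≫ CohB1.ProjSpaceOver.toBase n (Spec (CommRingCat.of k)) = G.hom := by
  obtain ⟨L, hL⟩ := CohDer1.QP.exists_ample G
  obtain ⟨n₀, h⟩ := MorProj.eventually_isRelVeryAmplePn_pow G.hom hL
  obtain ⟨n, i, hi, hiv, -⟩ := h n₀ le_rfl
  exact ⟨n, i, hi, hiv⟩

/-- The quotient of an algebraic group by a proper flat commutative subgroup. -/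
theorem exists_quot [IsCommMonObj A] [LocallyOfFiniteType G.hom] [QuasiCompact G.hom] [IsProper A.hom]
    (i : A ⟶ G) [IsMonHom i] [Mono i] :
    ∃ (Q : Over (Spec (CommRingCat.of k))) (q : G ⟶ Q) (hinv : (transAct i).act ≫ q = snd A G ≫ q),
      IsSeparated Q.hom ∧ Surjective q.left ∧ Flat q.left ∧
      IsIso (pullback.lift (transAct i).act (snd A G) hinv) := by
  obtain ⟨n, e, he, hew⟩ := exists_immersion G
  haveI := he
  haveI : IsProper (snd A G).left := inferInstanceAs (IsProper (pullback.snd A.hom G.hom))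
  haveI : Flat (snd A G).left := inferInstanceAs (Flat (pullback.snd A.hom G.hom))
  have hinj : ∀ (T : Over (Spec (CommRingCat.of k))) (r r' : T ⟶ A ⊗ G), r ≫ snd A G = r' ≫ snd A G →
      r ≫ (transAct i).act = r' ≫ (transAct i).act → r = r' := fun T r r' h1 h2 => by
    refine CartesianMonoidalCategory.hom_ext _ _ ?_ h1
    rw [show r = lift (r ≫ fst A G) (r ≫ snd A G) by simp, show r' = lift (r' ≫ fst A G) (r' ≫ snd A G) by simp,
      transAct_pts, transAct_pts, h1] at h2
    rw [← cancel_mono i]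
    exact mul_left_cancel h2
  have hequiv : ∀ T : Over (Spec (CommRingCat.of k)),
      Equivalence (fun a b : T ⟶ G => ∃ r : T ⟶ A ⊗ G, r ≫ snd A G = a ∧ r ≫ (transAct i).act = b) := fun T => by
    refine ⟨fun a => ⟨lift 1 a, lift_snd _ _, ?_⟩, ?_, ?_⟩
    · rw [transAct_pts, MonObj.one_comp, _root_.mul_one]
    · rintro a b ⟨r, rfl, rfl⟩
      refine ⟨lift (r ≫ fst A G)⁻¹ (r ≫ (transAct i).act), lift_snd _ _, ?_⟩
      rw [transAct_pts, GrpObj.inv_comp _ i]
      nth_rw 1 [show r = lift (r ≫ fst A G) (r ≫ snd A G) by simp]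
      rw [transAct_pts, mul_inv_cancel_right]
    · rintro a b c ⟨r, rfl, rfl⟩ ⟨r', h, rfl⟩
      refine ⟨lift ((r ≫ fst A G) * (r' ≫ fst A G)) (r ≫ snd A G), lift_snd _ _, ?_⟩
      rw [transAct_pts, MonObj.mul_comp _ _ i, ← _root_.mul_assoc]
      conv_rhs => rw [show r' = lift (r' ≫ fst A G) (r' ≫ snd A G) by simp, transAct_pts, h,
        show r = lift (r ≫ fst A G) (r ≫ snd A G) by simp, transAct_pts]
  obtain ⟨Q, q, w, -, ⟨m, e', he', he'w⟩, hs, hf, -, heff⟩ :=
    Quot8.exists_quotient_quasiProjective G (A ⊗ G) e hew (snd A G) (transAct i).act hinj hequiv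
  haveI := he'
  haveI : IsSeparated Q.hom := by
    haveI := RelVALib.isProper_toBase m (Spec (CommRingCat.of k))
    rw [← he'w]
    infer_instance
  refine ⟨Q, q, w.symm, inferInstance, ⟨hs⟩, hf, ?_⟩
  obtain ⟨r, hr1, hr2⟩ := heff _ (pullback.snd q q) (pullback.fst q q) pullback.condition.symm
  refine ⟨r, hinj _ _ _ ?_ ?_, ?_⟩
  · rw [Category.assoc, hr1, pullback.lift_snd, Category.id_comp]
  · rw [Category.assoc, hr2, pullback.lift_fst, Category.id_comp]
  · apply pullback.hom_ext
    · rw [Category.assoc, pullback.lift_fst, Category.id_comp, hr2]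
    · rw [Category.assoc, pullback.lift_snd, Category.id_comp, hr1]

/-- An almost retraction onto an abelian subvariety. -/
theorem exists_map [LocallyOfFiniteType G.hom] [QuasiCompact G.hom] [Smooth G.hom] [ConnectedSpace ↥G.left]
    [IsProper A.hom] [Smooth A.hom] [ConnectedSpace ↥A.left] (i : A ⟶ G) [IsMonHom i] [Mono i] :
    ∃ (φ : G ⟶ A) (n : ℕ), 0 < n ∧
      ∀ (T : Over (Spec (CommRingCat.of k))) (g : T ⟶ G) (a : T ⟶ A), (g * (a ≫ i)) ≫ φ = (g ≫ φ) * a ^ n := by
  haveI := TorsorNormRel.isCommMonObj_abelianVariety A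
  obtain ⟨Q, q, hinv, hQ, hs, hf, hiso⟩ := exists_quot i
  haveI := hs
  haveI := hf
  haveI := hQ
  haveI := AbVarLib.isIntegral_of_smooth_connected G.hom
  obtain ⟨φ, n, hn, h⟩ := TorsorNormRel.exists_map A G Q (transAct i) q hinv hiso
  exact ⟨φ, n, hn, fun T g a => by rw [← h T a g, ← Category.assoc, transAct_pts]⟩

/-- An almost retraction onto an abelian subvariety which is a homomorphism. -/
theorem exists_hom [LocallyOfFiniteType G.hom] [QuasiCompact G.hom] [Smooth G.hom] [ConnectedSpace ↥G.left]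
    [IsProper A.hom] [Smooth A.hom] [ConnectedSpace ↥A.left] (i : A ⟶ G) [IsMonHom i] [Mono i] :
    ∃ (ψ : G ⟶ A) (n : ℕ), 0 < n ∧ IsMonHom ψ ∧ i ≫ ψ = (𝟙 A) ^ n := by
  obtain ⟨φ, n, hn, h⟩ := exists_map i
  haveI := geometricallyConnected_of_connected G
  haveI := AbVarLib.geometricallyIntegral_of_smooth G.hom
  let c : 𝟙_ (Over (Spec (CommRingCat.of k))) ⟶ A := η[G] ≫ φ
  let ψ : G ⟶ A := φ * (toUnit G ≫ c)⁻¹
  have hpt : ∀ {T : Over (Spec (CommRingCat.of k))} (g : T ⟶ G), g ≫ ψ = (g ≫ φ) * (toUnit T ≫ c)⁻¹ := fun {T} g => by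
    rw [MonObj.comp_mul, GrpObj.comp_inv, ← Category.assoc g (toUnit G) c, toUnit_unique (g ≫ toUnit G) (toUnit T)]
  refine ⟨ψ, n, hn, NeronLib.isMonHom_of_map_unit G A ψ ?_, ?_⟩
  · rw [hpt, toUnit_unique (toUnit _) (𝟙 _), Category.id_comp, mul_inv_cancel, MonObj.one_eq_one]
  · have h1 := h A 1 (𝟙 A)
    rw [_root_.one_mul, Category.id_comp, Hom.one_def, Category.assoc] at h1
    haveI := TorsorNormRel.isCommMonObj_abelianVariety A
    rw [hpt, h1, mul_comm (toUnit A ≫ η[G] ≫ φ), _root_.mul_assoc, mul_inv_cancel, _root_.mul_one]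

/-- Abelian subvarieties are central. -/
theorem central [LocallyOfFiniteType G.hom] [ConnectedSpace ↥G.left]
    [IsProper A.hom] [Smooth A.hom] [ConnectedSpace ↥A.left] (i : A ⟶ G) [IsMonHom i]
    {W : Over (Spec (CommRingCat.of k))} (a : W ⟶ A) (g : W ⟶ G) : (a ≫ i) * g = g * (a ≫ i) := by
  haveI := geometricallyConnected_of_connected A
  haveI := AbSchLib.geometricallyReduced_of_smooth A.hom
  exact SGA3Centre26.central_of_antiAffine (AbSchLib.bijective_appTop_of_field k A.hom) i a g

end Groth.Agent.AlgGrpLib.AbelianSubvariety
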