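import Groth.Agent.AlgGrpLib.TorusToProper
import Groth.Agent.AlgGrpLib.AbelianSubvariety
import Groth.Agent.Cochar26.SplitData
import Groth.Prelude.Def_SGA3x

/-!
# Smooth connected groups of multiplicative type over a field are tori
-/

set_option autoImplicit false
set_option backward.isDefEq.respectTransparency.types false
set_option linter.style.haveILetI false

universe u

open CategoryTheory CategoryTheory.Limits MonoidalCategory CartesianMonoidalCategory MonObj AlgebraicGeometry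
open Groth.Agent.SGA3cLib

namespace Groth.Agent.AlgGrpLib.MultTypeTorus

attribute [-instance] ULift.module ULift.smulLeft ULift.mulAction ULift.smulZeroClass ULift.distribSMul
  ULift.distribMulAction ULift.mulDistribMulAction ULift.smulWithZero ULift.mulActionWithZero

open TensorProduct in
/-- The character group of an integral diagonalisable group over an algebraically closed field is torsion-free. -/
theorem eq_zero_of_nsmul {Ω : Type u} [Field Ω] [IsAlgClosed Ω] {M : Type} [AddCommGroup M]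
    [IsIntegral (Red.DS (Spec (CommRingCat.of Ω)) M).left] {n : ℕ} (hn : 0 < n) {m : M} (hm : n • m = 0) : m = 0 := by
  classical
  letI : Algebra (ULift.{u} ℤ) Ω := algR₀ Ω
  let A := MonoidAlgebra (ULift.{u} ℤ) (Multiplicative M)
  let e₁ := (Algebra.TensorProduct.comm (ULift.{u} ℤ) A Ω).trans
    ((MonoidAlgebra.scalarTensorEquiv (M := Multiplicative M) (ULift.{u} ℤ) Ω).restrictScalars (ULift.{u} ℤ))
  let φ : (Red.DS (Spec (CommRingCat.of Ω)) M).left ⟶ Spec (CommRingCat.of (A ⊗[ULift.{u} ℤ] Ω)) := (pullback.congrHom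
      (specULiftZIsTerminal.hom_ext _ (Spec.map (CommRingCat.ofHom (algebraMap (ULift.{u} ℤ) A))))
      (specULiftZIsTerminal.hom_ext _ (Spec.map (CommRingCat.ofHom (algebraMap (ULift.{u} ℤ) Ω))))).hom ≫
    (pullbackSpecIso (ULift.{u} ℤ) A Ω).hom
  haveI : IsIso φ := inferInstance
  let ψ : Spec (CommRingCat.of (A ⊗[ULift.{u} ℤ] Ω)) ⟶ (Red.DS (Spec (CommRingCat.of Ω)) M).left := inv φ
  haveI : IsIso ψ := inferInstance
  haveI : Nonempty ↥(Spec (CommRingCat.of (A ⊗[ULift.{u} ℤ] Ω))) :=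
    ⟨φ.base (Classical.arbitrary _)⟩
  haveI : IsIntegral (Spec (CommRingCat.of (A ⊗[ULift.{u} ℤ] Ω))) := isIntegral_of_isOpenImmersion ψ
  haveI : IsDomain (A ⊗[ULift.{u} ℤ] Ω) := (affine_isIntegral_iff (CommRingCat.of (A ⊗[ULift.{u} ℤ] Ω))).1 inferInstance
  haveI : IsDomain (MonoidAlgebra Ω (Multiplicative M)) := e₁.symm.toRingEquiv.toMulEquiv.isDomain
  let x : MonoidAlgebra Ω (Multiplicative M) := MonoidAlgebra.single (Multiplicative.ofAdd m) 1
  have hx : x ^ n = 1 := by
    rw [MonoidAlgebra.single_pow, _root_.one_pow, ← ofAdd_nsmul, hm]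
    rfl
  have hxi : _root_.IsIntegral Ω x := by
    refine IsIntegral.of_pow hn ?_
    rw [hx]
    exact isIntegral_one
  have hr : x ∈ (algebraMap Ω (MonoidAlgebra Ω (Multiplicative M))).range :=
    minpoly.degree_eq_one_iff.1 (IsAlgClosed.degree_eq_one_of_irreducible Ω (minpoly.irreducible hxi))
  obtain ⟨c, hc⟩ := hr
  rw [MonoidAlgebra.coe_algebraMap, Function.comp_apply] at hc
  have h1 := congrArg MonoidAlgebra.coeff hc
  simp only [x, MonoidAlgebra.coeff_single] at h1
  rcases (Finsupp.single_eq_single_iff _ _ _ _).1 h1 with ⟨h1, -⟩ | ⟨-, h2⟩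
  · exact (Multiplicative.ofAdd.injective h1.symm)
  · exact absurd h2 one_ne_zero

variable {k : Type u} [Field k]

/-- A smooth connected group of multiplicative type over a field is a torus. -/
theorem isTorus_of_multType (R : Over (Spec (CommRingCat.of k))) [GrpObj R] [Smooth R.hom] [QuasiCompact R.hom]
    [ConnectedSpace R.left] (h : SGA3x.IsMultTypeFT R) : Red.IsTorus R := by
  haveI := AbelianSubvariety.geometricallyConnected_of_connected R
  haveI : GeometricallyIntegral R.hom := AbVarLib.geometricallyIntegral_of_smooth R.hom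
  obtain ⟨S', q, hfl, hsu, hq, hU⟩ := h
  refine ⟨S', q, hfl, hsu, hq, fun s' => ?_⟩
  obtain ⟨U, hmem, M, _, hfg, ⟨E⟩⟩ := hU s'
  haveI : Module.Finite ℤ M := Module.Finite.iff_addGroup_fg.2 hfg
  let u : (U : Scheme.{u}) := ⟨s', hmem⟩
  let Ω := AlgebraicClosure ((U : Scheme.{u}).residueField u)
  let ω : Spec (CommRingCat.of Ω) ⟶ (U : Scheme.{u}) := Red.geomPt u
  let g : Spec (CommRingCat.of Ω) ⟶ Spec (CommRingCat.of k) := ω ≫ U.ι ≫ q
  obtain ⟨σ, -, -⟩ := GrpBC.nonempty_iso_restrict (U.ι ≫ q) ω g rfl R E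
  haveI : IsIso σ.inv.left := ((Over.forget _).mapIso σ.symm).isIso_hom
  haveI : GeometricallyIntegral (Red.bc g R).hom :=
    MorphismProperty.pullback_snd (P := @GeometricallyIntegral) R.hom g inferInstance
  haveI : Subsingleton ↥(Spec (CommRingCat.of Ω)) := inferInstanceAs (Subsingleton (PrimeSpectrum Ω))
  haveI : IsIntegral (Red.bc g R).left := GeometricallyIntegral.isIntegral_of_subsingleton (Red.bc g R).hom
  haveI : Nonempty ↥(Red.DS (Spec (CommRingCat.of Ω)) M).left := ⟨σ.hom.left.base (Classical.arbitrary _)⟩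
  haveI : IsIntegral (Red.DS (Spec (CommRingCat.of Ω)) M).left := isIntegral_of_isOpenImmersion σ.inv.left
  have htor : ∀ (n : ℕ) (m : M), 0 < n → n • m = 0 → m = 0 := fun n m hn hm => eq_zero_of_nsmul (Ω := Ω) hn hm
  haveI : Module.IsTorsionFree ℤ M := by
    refine Module.IsTorsionFree.of_smul_eq_zero fun z m hzm => ?_
    by_contra hne
    push_neg at hne
    refine hne.2 (htor z.natAbs m (Int.natAbs_pos.2 hne.1) ?_)
    rcases Int.natAbs_eq z with hz | hz
    · rw [← natCast_zsmul, ← hz, hzm]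
    · rw [← natCast_zsmul, show ((z.natAbs : ℕ) : ℤ) = -z by omega, neg_smul, hzm, neg_zero]
  haveI : Module.Free ℤ M := Module.free_of_finite_type_torsion_free'
  let ε : M ≃+ (Fin (Module.finrank ℤ M) → ℤ) := (Module.finBasis ℤ M).equivFun.toAddEquiv
  haveI : IsIso (Red.DSmap (U : Scheme.{u}) ε.symm.toAddMonoidHom) :=
    ⟨Red.DSmap _ ε.toAddMonoidHom, by
      rw [Cochar26.DSmap_comp, show ε.symm.toAddMonoidHom.comp ε.toAddMonoidHom = AddMonoidHom.id _ from
        AddMonoidHom.ext fun x => ε.symm_apply_apply x, Cochar26.DSmap_id], by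
      rw [Cochar26.DSmap_comp, show ε.toAddMonoidHom.comp ε.symm.toAddMonoidHom = AddMonoidHom.id _ from
        AddMonoidHom.ext fun x => ε.apply_symm_apply x, Cochar26.DSmap_id]⟩
  haveI : IsMonHom (asIso (Red.DSmap (U : Scheme.{u}) ε.symm.toAddMonoidHom)).hom :=
    inferInstanceAs (IsMonHom (Red.DSmap (U : Scheme.{u}) ε.symm.toAddMonoidHom))
  exact ⟨U, hmem, _, ⟨E ≪≫ Grp.mkIso' (asIso (Red.DSmap (U : Scheme.{u}) ε.symm.toAddMonoidHom))⟩⟩

theorem isIso_DS_zero_hom (S : Scheme.{u}) : IsIso (Red.DS S (Fin 0 → ℤ)).hom := by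
  haveI : IsIso (Red.diag (ULift.{u} ℤ) (Fin 0 → ℤ)).hom := by
    show IsIso (Spec.map (CommRingCat.ofHom (algebraMap (ULift.{u} ℤ) (MonoidAlgebra (ULift.{u} ℤ) (Multiplicative (Fin 0 → ℤ))))))
    have : IsIso (CommRingCat.ofHom (algebraMap (ULift.{u} ℤ) (MonoidAlgebra (ULift.{u} ℤ) (Multiplicative (Fin 0 → ℤ))))) :=
      (ConcreteCategory.isIso_iff_bijective _).2
        (MonoidAlgebra.uniqueAlgEquiv (ULift.{u} ℤ) (Multiplicative (Fin 0 → ℤ)) (A := ULift.{u} ℤ)).symm.bijective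
    infer_instance
  exact inferInstanceAs (IsIso (pullback.snd _ _))

/-- The trivial group is a torus. -/
theorem isTorus_unit (S : Scheme.{u}) : Red.IsTorus (𝟙_ (Over S)) := by
  refine ⟨S, 𝟙 S, inferInstance, inferInstance, fun V hV => ⟨V, hV.isCompact, by simp⟩,
    fun s => ⟨⊤, trivial, 0, ?_⟩⟩
  let j := (⊤ : S.Opens).ι ≫ 𝟙 S
  haveI h1 : IsIso (Red.bc j (𝟙_ (Over S))).hom := inferInstanceAs (IsIso (pullback.snd (𝟙 S) j))
  haveI h2 := isIso_DS_zero_hom (⊤ : S.Opens).toScheme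
  let A := Red.bc j (𝟙_ (Over S))
  let B := Red.DS (⊤ : S.Opens).toScheme (Fin 0 → ℤ)
  let e : A ≅ B := Over.isoMk (asIso A.hom ≪≫ (asIso B.hom).symm) (by simp)
  haveI : Subsingleton (A ⊗ A ⟶ B) := ⟨fun f g => Over.OverMorphism.ext (by
    rw [← cancel_mono B.hom, Over.w f, Over.w g])⟩
  haveI : Subsingleton (𝟙_ _ ⟶ B) := ⟨fun f g => Over.OverMorphism.ext (by
    rw [← cancel_mono B.hom, Over.w f, Over.w g])⟩
  haveI : IsMonHom e.hom := { one_hom := Subsingleton.elim _ _, mul_hom := Subsingleton.elim _ _ }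
  exact ⟨Grp.mkIso' e⟩

end Groth.Agent.AlgGrpLib.MultTypeTorus
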