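import Groth.Agent.AlgGrpLib.AntiAffine

/-!
# Maps from anti-affine schemes into affine schemes
-/

set_option autoImplicit false
set_option backward.isDefEq.respectTransparency.types false

universe u

open CategoryTheory CategoryTheory.Limits MonoidalCategory CartesianMonoidalCategory AlgebraicGeometry

namespace Groth.Agent.AlgGrpLib

variable {k : Type u} [Field k]

local notation "Pt" => 𝟙_ (Over (Spec (CommRingCat.of k)))

/-- A map from `X × Y` into an affine scheme does not depend on an anti-affine `X`; `Y` arbitrary. -/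
theorem eq_snd_of_affine {X Y Z : Over (Spec (CommRingCat.of k))} [CompactSpace X.left]
    [QuasiSeparatedSpace X.left] [IsAffine Z.left] (hX : Function.Bijective X.hom.appTop) (x₀ : Pt ⟶ X)
    (f : X ⊗ Y ⟶ Z) : f = snd X Y ≫ lift (toUnit Y ≫ x₀) (𝟙 Y) ≫ f := by
  obtain ⟨T, t, ht, hT⟩ := exists_locus X f (snd X Y ≫ lift (toUnit Y ≫ x₀) (𝟙 Y) ≫ f)
  have h : ∀ i, ∃ z, z ≫ t.left = Y.left.affineCover.f i ≫ 𝟙 Y.left := fun i => by
    let ρ := Y.left.affineCover.f i
    let W : Over (Spec (CommRingCat.of k)) := Over.mk (ρ ≫ Y.hom)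
    let r : W ⟶ Y := Over.homMk ρ
    let σ : W ⟶ X ⊗ W := lift (toUnit W ≫ x₀) (𝟙 W)
    have e : (X ◁ r) ≫ f = (X ◁ r) ≫ snd X Y ≫ lift (toUnit Y ≫ x₀) (𝟙 Y) ≫ f := by
      refine (eq_snd_section_of_affine X Z hX (ρ ≫ Y.hom) ((X ◁ r) ≫ f) σ (lift_snd _ _) ⊤ (isAffineOpen_top _)
        (fun _ _ => trivial)).trans ?_
      have e : r ≫ lift (toUnit Y ≫ x₀) (𝟙 Y) = σ ≫ (X ◁ r) := by
        rw [lift_whiskerLeft, comp_lift, ← Category.assoc, comp_toUnit, Category.comp_id, Category.id_comp]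
      rw [whiskerLeft_snd_assoc, reassoc_of% e]
      rfl
    obtain ⟨z, hz⟩ := (hT W r).2 e
    exact ⟨z, hz.trans (Category.comp_id _).symm⟩
  obtain ⟨l, hl⟩ := SGA3cLib.WeilRes.exists_lift_of_openCover t.left (𝟙 Y.left) Y.left.affineCover h
  simpa using (hT Y (𝟙 Y)).1 ⟨l, hl⟩

/-- A map from an anti-affine scheme into an affine scheme is constant. -/
theorem eq_const_of_affine {X Z : Over (Spec (CommRingCat.of k))} [CompactSpace X.left]
    [QuasiSeparatedSpace X.left] [IsAffine Z.left] (hX : Function.Bijective X.hom.appTop) (x₀ : Pt ⟶ X)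
    (f : X ⟶ Z) : f = toUnit X ≫ x₀ ≫ f := by
  have h := eq_snd_of_affine hX x₀ (fst X Pt ≫ f)
  have h2 := congrArg (lift (𝟙 X) (toUnit X) ≫ ·) h
  simp only [lift_fst_assoc, lift_snd_assoc, Category.id_comp] at h2
  rw [toUnit_unique (toUnit Pt) (𝟙 _), Category.id_comp] at h2
  exact h2

/-- The spectrum of the global functions, over `k`. -/
noncomputable def affOf (P : Over (Spec (CommRingCat.of k))) : Over (Spec (CommRingCat.of k)) :=
  Over.mk (Spec.map ((Scheme.ΓSpecIso (CommRingCat.of k)).inv ≫ P.hom.appTop))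

instance (P : Over (Spec (CommRingCat.of k))) : IsAffine (affOf P).left := inferInstanceAs (IsAffine (Spec _))

/-- The canonical map to the spectrum of global functions. -/
noncomputable def toAffOf (P : Over (Spec (CommRingCat.of k))) : P ⟶ affOf P :=
  Over.homMk P.left.toSpecΓ (by
    show P.left.toSpecΓ ≫ Spec.map _ = P.hom
    rw [Spec.map_comp, ← Scheme.toSpecΓ_naturality_assoc, toSpecΓ_SpecMap_ΓSpecIso_inv, Category.comp_id])

/-- `Γ(P) = k` once the map to `Spec Γ(P)` is constant. -/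
theorem bijective_of_toAffOf {P : Over (Spec (CommRingCat.of k))} [Nonempty P.left] (c : Pt ⟶ affOf P)
    (h : toAffOf P = toUnit P ≫ c) :
    Function.Bijective ((Scheme.ΓSpecIso (CommRingCat.of k)).inv ≫ P.hom.appTop).hom := by
  constructor
  · haveI : Nonempty (⊤ : P.left.Opens) := ⟨⟨(inferInstance : Nonempty P.left).some, trivial⟩⟩
    exact RingHom.injective _
  · intro e
    let y := (Scheme.ΓSpecIso Γ(P.left, ⊤)).inv e
    refine ⟨(Scheme.ΓSpecIso (CommRingCat.of k)).hom (c.left.appTop y), ?_⟩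
    show P.hom.appTop ((Scheme.ΓSpecIso (CommRingCat.of k)).inv ((Scheme.ΓSpecIso (CommRingCat.of k)).hom (c.left.appTop y))) = e
    rw [← CommRingCat.comp_apply (Scheme.ΓSpecIso (CommRingCat.of k)).hom, Iso.hom_inv_id]
    have h1 : P.left.toSpecΓ = P.hom ≫ c.left := congrArg (fun m => m.left) h
    have h2 : (P.hom ≫ c.left).appTop y = e := by
      rw [← h1]
      show P.left.toSpecΓ.appTop ((Scheme.ΓSpecIso Γ(P.left, ⊤)).inv e) = e
      rw [Scheme.toSpecΓ_appTop]
      exact congr($((Scheme.ΓSpecIso Γ(P.left, ⊤)).inv_hom_id) e)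
    exact h2

end Groth.Agent.AlgGrpLib
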