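import Groth.Agent.DimLib.Sub
import Groth.Agent.DimLib.Maximal
import Groth.Agent.H8Lim.ProConsLimit
import Groth.Agent.H8Top.Noetherian
import Groth.Agent.AlgGrpLib.OrbitLC
import Mathlib.AlgebraicGeometry.AlgClosed.Basic
import Mathlib.AlgebraicGeometry.Morphisms.FinitePresentation

/-!
# Boundary of a locally closed subset and of an orbit
-/

set_option autoImplicit false
set_option backward.isDefEq.respectTransparency.types false

universe u

open CategoryTheory Limits MonoidalCategory CartesianMonoidalCategory MonObj GrpObj AlgebraicGeometry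

namespace Groth.Agent.AlgGrpLib.OrbitDim

variable {K : Type u} [Field K] {Y : Scheme.{u}} (p : Y ⟶ Spec (CommRingCat.of K))
  [LocallyOfFiniteType p] [CompactSpace Y]

include p in
theorem isNoetherian_of_lft : IsNoetherian Y := by
  haveI : IsLocallyNoetherian Y := LocallyOfFiniteType.isLocallyNoetherian p
  exact ⟨⟩

theorem exists_bound_ptDim : ∃ N : ℕ, ∀ y : Y, DimLib.ptDim p y ≤ N := by
  haveI := isNoetherian_of_lft p
  have hfin : (irreducibleComponents Y).Finite :=
    TopologicalSpace.NoetherianSpace.finite_irreducibleComponents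
  have hb : ∀ T ∈ irreducibleComponents Y, ∃ n : ℕ, ∀ y ∈ T, DimLib.ptDim p y ≤ n := by
    intro T hT
    obtain ⟨ξ, hη, -⟩ := DimLib.exists_genericPoint_of_mem_components hT
    exact ⟨DimLib.ptDim p ξ, fun y hy => DimLib.ptDim_le_of_specializes p (hη.specializes hy)⟩
  choose n hn using hb
  haveI := hfin.to_subtype
  obtain ⟨N, hN⟩ := (Set.finite_range fun T : irreducibleComponents Y => n T.1 T.2).bddAbove
  refine ⟨N, fun y => ?_⟩
  have hT := irreducibleComponent_mem_irreducibleComponents y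
  exact (hn _ hT y mem_irreducibleComponent).trans (hN ⟨⟨_, hT⟩, rfl⟩)

include p in
/-- The boundary of a nonempty locally closed subset has smaller dimension. -/
theorem topologicalKrullDim_closure_diff_lt {C : Set Y} (hC : IsLocallyClosed C) (hne : C.Nonempty) :
    topologicalKrullDim ↥(closure C \ C) < topologicalKrullDim ↥C := by
  haveI := isNoetherian_of_lft p
  obtain ⟨U, Z, hU, hZ, hUZ⟩ := hC
  have hC' : IsLocallyClosed C := ⟨U, Z, hU, hZ, hUZ⟩
  have hpro : ProCons.IsProConstructible C :=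
    (H8ProCons.isLocallyConstructible_iff_ind_and_pro.1
      (H8Top.isConstructible_of_isLocallyClosed hC').isLocallyConstructible).2
  have hB : IsLocallyClosed (closure C \ C) := by
    have : closure C \ C = closure C ∩ Uᶜ := by
      ext y
      refine ⟨fun h => ⟨h.1, fun hy => h.2 (hUZ ▸ ⟨hy, closure_minimal (hUZ ▸ Set.inter_subset_right) hZ h.1⟩)⟩,
        fun h => ⟨h.1, fun hy => h.2 (hUZ ▸ hy : y ∈ U ∩ Z).1⟩⟩
    rw [this]
    exact (isClosed_closure.inter hU.isClosed_compl).isLocallyClosed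
  obtain ⟨N, hN⟩ := exists_bound_ptDim p
  classical
  have hex : ∃ n, ∀ c ∈ C, DimLib.ptDim p c ≤ n := ⟨N, fun c _ => hN c⟩
  set M := Nat.find hex with hM
  have hMge : ∀ c ∈ C, DimLib.ptDim p c ≤ M := Nat.find_spec hex
  obtain ⟨c₀, hc₀, hc₀M⟩ : ∃ c ∈ C, M ≤ DimLib.ptDim p c := by
    by_contra h
    push Not at h
    obtain ⟨c, hc⟩ := hne
    have hpos : 0 < M := lt_of_le_of_lt (Nat.zero_le _) (h c hc)
    exact Nat.find_min hex (show M - 1 < M by omega) fun c hc => by have := h c hc; omega
  have hCdim : ((M : ℕ) : WithBot ℕ∞) ≤ topologicalKrullDim ↥C := by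
    rw [DimLib.topologicalKrullDim_locallyClosed_eq_iSup p hC']
    refine le_trans ?_ (le_iSup (fun x : C => (DimLib.ptDim p x.1 : WithBot ℕ∞)) ⟨c₀, hc₀⟩)
    exact_mod_cast hc₀M
  refine lt_of_lt_of_le ?_ hCdim
  rw [DimLib.topologicalKrullDim_locallyClosed_eq_iSup p hB]
  have hlt : ∀ y ∈ closure C \ C, DimLib.ptDim p y < M := by
    rintro y ⟨hy, hyC⟩
    obtain ⟨c, hc, hcy⟩ := (H8Lim.mem_closure_iff_exists_specializes hpro).1 hy
    exact lt_of_lt_of_le (DimLib.ptDim_lt_of_specializes p hcy fun h => hyC (h ▸ hc)) (hMge c hc)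
  rcases Nat.eq_zero_or_pos M with h0 | h0
  · rw [h0]
    refine lt_of_le_of_lt (iSup_le fun x => ?_) (WithBot.bot_lt_coe (0 : ℕ∞))
    exact absurd (hlt x.1 x.2) (by omega)
  · refine lt_of_le_of_lt (iSup_le fun x : ↥(closure C \ C) => ?_) ((Nat.cast_lt).2 (show M - 1 < M by omega))
    exact_mod_cast Nat.le_sub_one_of_lt (hlt x.1 x.2)

section Orbit

variable {G X : Over (Spec (CommRingCat.of K))} [GrpObj G] [LocallyOfFiniteType G.hom] [QuasiCompact G.hom]
  [LocallyOfFiniteType X.hom] [QuasiCompact X.hom] (a : AlgGrp.Action G X)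
  (x : 𝟙_ (Over (Spec (CommRingCat.of K))) ⟶ X)

theorem isConstructible_range_orbitMap : Topology.IsConstructible (Set.range (a.orbitMap x).left.base) := by
  haveI : CompactSpace ↥X.left := QuasiCompact.compactSpace_of_compactSpace X.hom
  haveI := isNoetherian_of_lft X.hom
  haveI : LocallyOfFiniteType ((a.orbitMap x).left ≫ X.hom) := by rw [Over.w]; infer_instance
  haveI : LocallyOfFiniteType (a.orbitMap x).left := locallyOfFiniteType_of_comp _ X.hom
  haveI : LocallyOfFinitePresentation (a.orbitMap x).left := inferInstance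
  haveI : QuasiCompact ((a.orbitMap x).left ≫ X.hom) := by rw [Over.w]; infer_instance
  haveI : QuasiCompact (a.orbitMap x).left := QuasiCompact.of_comp _ X.hom
  rw [← Set.image_univ]
  exact (a.orbitMap x).left.isConstructible_image .univ

theorem isLocallyClosed_orbit : IsLocallyClosed (Set.range (a.orbitMap x).left.base) :=
  OrbitLC.isLocallyClosed_range_orbitMap a x (isConstructible_range_orbitMap a x)

omit [LocallyOfFiniteType G.hom] [QuasiCompact G.hom] [LocallyOfFiniteType X.hom] [QuasiCompact X.hom] in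
theorem orbit_nonempty : (Set.range (a.orbitMap x).left.base).Nonempty :=
  ⟨_, η[G].left.base (Classical.arbitrary ↥(Spec (CommRingCat.of K))), rfl⟩

theorem topologicalKrullDim_boundary_orbit_lt :
    topologicalKrullDim ↥(closure (Set.range (a.orbitMap x).left.base) \ Set.range (a.orbitMap x).left.base) <
      topologicalKrullDim ↥(Set.range (a.orbitMap x).left.base) :=
  haveI : CompactSpace ↥X.left := QuasiCompact.compactSpace_of_compactSpace X.hom
  topologicalKrullDim_closure_diff_lt X.hom (isLocallyClosed_orbit a x) (orbit_nonempty a x)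

omit [GrpObj G] [LocallyOfFiniteType G.hom] [QuasiCompact G.hom] [QuasiCompact X.hom] in
theorem exists_ratPoint_mem [IsAlgClosed K] {S : Set X.left} (hS : IsLocallyClosed S) (hne : S.Nonempty) :
    ∃ y : 𝟙_ (Over (Spec (CommRingCat.of K))) ⟶ X, ∀ t, y.left.base t ∈ S := by
  haveI : JacobsonSpace ↥X.left := LocallyOfFiniteType.jacobsonSpace X.hom
  obtain ⟨z, hzS, hz⟩ := nonempty_inter_closedPoints hne hS
  let q := (pointEquivClosedPoint X.hom).symm ⟨z, hz⟩
  refine ⟨Over.homMk q.1 q.2, fun t => ?_⟩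
  have ht : t = IsLocalRing.closedPoint K :=
    @Subsingleton.elim _ (inferInstanceAs (Subsingleton (PrimeSpectrum K))) _ _
  have h2 : q.1.base (IsLocalRing.closedPoint K) = z :=
    congrArg Subtype.val ((pointEquivClosedPoint X.hom).apply_symm_apply ⟨z, hz⟩)
  subst ht
  show q.1.base (IsLocalRing.closedPoint K) ∈ S
  rw [h2]
  exact hzS

theorem exists_boundary_orbit [IsAlgClosed K] (hnc : ¬ IsClosed (Set.range (a.orbitMap x).left.base)) :
    ∃ y : 𝟙_ (Over (Spec (CommRingCat.of K))) ⟶ X, Set.range (a.orbitMap y).left.base ⊆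
      closure (Set.range (a.orbitMap x).left.base) \ Set.range (a.orbitMap x).left.base := by
  set C := Set.range (a.orbitMap x).left.base with hC
  have hne : (closure C \ C).Nonempty := by
    by_contra h
    rw [Set.not_nonempty_iff_eq_empty, Set.sdiff_eq_empty] at h
    exact hnc (closure_subset_iff_isClosed.1 h)
  obtain ⟨U, Z, hU, hZ, hUZ⟩ := isLocallyClosed_orbit a x
  have hB : closure C \ C = closure C ∩ Uᶜ := by
    ext y
    refine ⟨fun h => ⟨h.1, fun hy => h.2 (hC ▸ hUZ ▸ ⟨hy, closure_minimal (hUZ ▸ Set.inter_subset_right : Set.range (a.orbitMap x).left.base ⊆ Z) hZ h.1⟩)⟩,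
      fun h => ⟨h.1, fun hy => h.2 (hUZ ▸ hy : y ∈ U ∩ Z).1⟩⟩
  obtain ⟨y, hy⟩ := exists_ratPoint_mem (S := closure C \ C)
    (hB ▸ (isClosed_closure.inter hU.isClosed_compl).isLocallyClosed) hne
  exact ⟨y, OrbitLC.range_orbitMap_subset_boundary a x y hy⟩

theorem isClosed_orbit_of_dim_le [IsAlgClosed K]
    (hmin : ∀ y : 𝟙_ (Over (Spec (CommRingCat.of K))) ⟶ X,
      topologicalKrullDim (Set.range (a.orbitMap x).left.base) ≤ topologicalKrullDim (Set.range (a.orbitMap y).left.base)) :
    IsClosed (Set.range (a.orbitMap x).left.base) := by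
  by_contra hnc
  obtain ⟨y, hy⟩ := exists_boundary_orbit a x hnc
  exact absurd (lt_of_le_of_lt ((hmin y).trans (Topology.IsEmbedding.inclusion hy).isInducing.topologicalKrullDim_le)
    (topologicalKrullDim_boundary_orbit_lt a x)) (lt_irrefl _)

theorem exists_isClosed_orbit [IsAlgClosed K] [Nonempty ↥X.left] :
    ∃ x : 𝟙_ (Over (Spec (CommRingCat.of K))) ⟶ X, IsClosed (Set.range (a.orbitMap x).left.base) := by
  haveI : CompactSpace ↥X.left := QuasiCompact.compactSpace_of_compactSpace X.hom
  haveI := isNoetherian_of_lft X.hom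
  obtain ⟨x₁, -⟩ := exists_ratPoint_mem (X := X) (S := Set.univ) isOpen_univ.isLocallyClosed Set.univ_nonempty
  obtain ⟨Z, ⟨x, rfl⟩, hmin⟩ := (wellFounded_lt (α := TopologicalSpace.Closeds ↥X.left)).has_min
    (Set.range fun x : 𝟙_ (Over (Spec (CommRingCat.of K))) ⟶ X =>
      (⟨closure (Set.range (a.orbitMap x).left.base), isClosed_closure⟩ : TopologicalSpace.Closeds ↥X.left))
    ⟨_, x₁, rfl⟩
  refine ⟨x, ?_⟩
  by_contra hnc
  obtain ⟨y, hy⟩ := exists_boundary_orbit a x hnc
  refine hmin _ ⟨y, rfl⟩ ?_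
  obtain ⟨U, Z, hU, hZ, hUZ⟩ := isLocallyClosed_orbit a x
  have hsub : closure (Set.range (a.orbitMap y).left.base) ⊆ closure (Set.range (a.orbitMap x).left.base) ∩ Uᶜ := by
    refine closure_minimal (fun z hz => ⟨(hy hz).1, fun hzU => (hy hz).2 ?_⟩)
      (isClosed_closure.inter hU.isClosed_compl)
    exact hUZ ▸ ⟨hzU, closure_minimal (hUZ ▸ Set.inter_subset_right) hZ (hy hz).1⟩
  obtain ⟨c, hc⟩ := orbit_nonempty a x
  refine lt_of_le_of_ne (SetLike.coe_subset_coe.1 (hsub.trans Set.inter_subset_left)) fun heq => ?_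
  have hc' : c ∈ closure (Set.range (a.orbitMap y).left.base) := by
    have h := congrArg (fun Z : TopologicalSpace.Closeds ↥X.left => (Z : Set ↥X.left)) heq
    have h' : closure (Set.range (a.orbitMap y).left.base) = closure (Set.range (a.orbitMap x).left.base) := h
    rw [h']
    exact subset_closure hc
  exact (hsub hc').2 (hUZ ▸ hc : c ∈ U ∩ Z).1

end Orbit

end Groth.Agent.AlgGrpLib.OrbitDim
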