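import Groth.Agent.AlgGrpLib.OrbitDim
import Groth.Agent.DimLib.Sub
import Groth.Agent.Props12.KerReduced
import Groth.Agent.RedSepLib.Immersion
import Groth.Agent.AbSchLib.SmoothReduced
import Groth.Agent.S8020

/-!
# dim G = dim orbit + dim stabiliser
-/

set_option autoImplicit false
set_option backward.isDefEq.respectTransparency.types false

universe u

open CategoryTheory Limits MonoidalCategory CartesianMonoidalCategory MonObj GrpObj AlgebraicGeometry
open Groth.Agent.SGA3cLib

namespace Groth.Agent.AlgGrpLib.OrbitDimFormula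

variable {K : Type u} [Field K]

/-- Transitive automorphisms on closed points force equidimensionality. -/
theorem exists_ptDim_maximal_eq {Z : Scheme.{u}} (p : Z ⟶ Spec (CommRingCat.of K)) [LocallyOfFiniteType p]
    [CompactSpace Z] (h : ∀ z₁ z₂ : Z, IsClosed ({z₁} : Set Z) → IsClosed ({z₂} : Set Z) →
      ∃ e : Z ≅ Z, e.hom ≫ p = p ∧ e.hom.base z₁ = z₂) :
    ∃ d : ℕ, ∀ x : Z, (∀ y, y ⤳ x → x = y) → DimLib.ptDim p x = d := by
  haveI := OrbitDim.isNoetherian_of_lft p
  haveI : JacobsonSpace Z := LocallyOfFiniteType.jacobsonSpace p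
  have hfin : (irreducibleComponents Z).Finite :=
    TopologicalSpace.NoetherianSpace.finite_irreducibleComponents
  -- a closed point lying on one component only
  have hpick : ∀ x : Z, (∀ y, y ⤳ x → x = y) →
      ∃ z : Z, IsClosed ({z} : Set Z) ∧ x ⤳ z ∧ ∀ y, (∀ w, w ⤳ y → y = w) → y ⤳ z → y = x := by
    intro x hx
    have hcx := DimLib.closure_mem_components hx
    let others : Set Z := ⋃₀ (irreducibleComponents Z \ {closure {x}})
    have hoc : IsClosed others := by
      rw [show others = ⋃ T ∈ irreducibleComponents Z \ {closure {x}}, T from Set.sUnion_eq_biUnion]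
      exact hfin.sdiff.isClosed_biUnion fun T hT => isClosed_of_mem_irreducibleComponents T hT.1
    have hxo : x ∉ others := by
      rintro ⟨T, ⟨hT, hTx⟩, hxT⟩
      obtain ⟨y, hy, hymax⟩ := DimLib.exists_genericPoint_of_mem_components hT
      have : x = y := hx y (hy.specializes hxT)
      exact hTx (by rw [Set.mem_singleton_iff, this, hy.def])
    obtain ⟨z, ⟨hz1, hz2⟩, hzc⟩ := nonempty_inter_closedPoints (Z := closure {x} ∩ othersᶜ)
      ⟨x, subset_closure rfl, hxo⟩ (isClosed_closure.isLocallyClosed.inter hoc.isOpen_compl.isLocallyClosed)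
    refine ⟨z, hzc, specializes_iff_mem_closure.2 hz1, fun y hy hyz => ?_⟩
    by_contra hne
    refine hz2 ⟨closure {y}, ⟨DimLib.closure_mem_components hy, fun he => hne ?_⟩, specializes_iff_mem_closure.1 hyz⟩
    exact (hy x (specializes_iff_mem_closure.2 (he.symm ▸ subset_closure rfl : y ∈ closure {x})))
  rcases isEmpty_or_nonempty Z with hZ | ⟨⟨z₀⟩⟩
  · exact ⟨0, fun x => (hZ.false x).elim⟩
  obtain ⟨x₀, -, hx₀⟩ := DimLib.exists_maximal_specializes z₀
  refine ⟨DimLib.ptDim p x₀, fun x hx => ?_⟩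
  obtain ⟨z, hzc, hxz, -⟩ := hpick x hx
  obtain ⟨w, hwc, -, hw⟩ := hpick x₀ hx₀
  obtain ⟨e, he, hez⟩ := h z w hzc hwc
  have hmax : ∀ y, y ⤳ e.hom.base x → e.hom.base x = y := by
    intro y hy
    have hy' := hy.map e.inv.continuous
    rw [show e.inv.base (e.hom.base x) = x by rw [← Scheme.Hom.comp_apply, Iso.hom_inv_id]; rfl] at hy'
    rw [hx _ hy', ← Scheme.Hom.comp_apply, Iso.inv_hom_id]
    rfl
  have hxx : e.hom.base x = x₀ := hw _ hmax (hez ▸ hxz.map e.hom.continuous)
  rw [← hxx, ← DimLib.ptDim_comp_preimmersion p e.hom x, he]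

/-- A locally closed subset carries a reduced subscheme structure. -/
theorem exists_reduced_immersion {X : Over (Spec (CommRingCat.of K))} {C : Set X.left} (hC : IsLocallyClosed C) :
    ∃ (O : Over (Spec (CommRingCat.of K))) (i : O ⟶ X),
      IsImmersion i.left ∧ IsReduced O.left ∧ Set.range i.left.base = C := by
  obtain ⟨U, Z, hU, hZ, rfl⟩ := hC
  let I := Scheme.IdealSheafData.vanishingIdeal (⟨Z, hZ⟩ : TopologicalSpace.Closeds X.left)
  haveI : IsReduced I.subscheme := Props12.isReduced_subscheme_vanishingIdeal _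
  let V : I.subscheme.Opens := I.subschemeι ⁻¹ᵁ ⟨U, hU⟩
  refine ⟨Over.mk ((V.ι ≫ I.subschemeι) ≫ X.hom), Over.homMk (V.ι ≫ I.subschemeι) rfl,
    inferInstanceAs (IsImmersion (V.ι ≫ I.subschemeι)), inferInstanceAs (IsReduced V.toScheme), ?_⟩
  change Set.range (V.ι ≫ I.subschemeι).base = U ∩ Z
  rw [Scheme.Hom.comp_base, TopCat.coe_comp, Set.range_comp, Scheme.Opens.range_ι]
  change I.subschemeι.base '' (I.subschemeι.base ⁻¹' U) = U ∩ Z
  rw [Set.image_preimage_eq_inter_range]
  congr 1
  exact (Scheme.IdealSheafData.range_subschemeι I).trans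
    (Scheme.IdealSheafData.coe_support_vanishingIdeal _)

variable [IsAlgClosed K] {G X : Over (Spec (CommRingCat.of K))} [GrpObj G] [Smooth G.hom] [QuasiCompact G.hom]
  [LocallyOfFiniteType X.hom] [QuasiCompact X.hom] (a : AlgGrp.Action G X)
  (x : 𝟙_ (Over (Spec (CommRingCat.of K))) ⟶ X)

theorem dim_eq :
    topologicalKrullDim ↥G.left =
      topologicalKrullDim ↥(Set.range (a.orbitMap x).left.base) +
        topologicalKrullDim ↥(Limits.pullback (a.orbitMap x).left x.left) := by
  haveI : CompactSpace ↥G.left := QuasiCompact.compactSpace_of_compactSpace G.hom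
  haveI : IsReduced G.left := AbSchLib.isReduced_of_smooth G.hom
  haveI : CompactSpace ↥X.left := QuasiCompact.compactSpace_of_compactSpace X.hom
  have hC := OrbitDim.isLocallyClosed_orbit a x
  obtain ⟨O, i, hi, hred, hrange⟩ := exists_reduced_immersion hC
  haveI : Mono i := Over.mono_of_mono_left i
  obtain ⟨g0', hg0'⟩ := RedSepLib.exists_lift_of_range_subset (a.orbitMap x).left i.left hrange.ge
  let g0 : G ⟶ O := Over.homMk g0' (by rw [← Over.w i, ← Category.assoc, hg0', Over.w])
  have hg0 : g0 ≫ i = a.orbitMap x := Over.OverMorphism.ext hg0'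
  haveI : LocallyOfFiniteType O.hom := by rw [← Over.w i]; infer_instance
  haveI hOc : CompactSpace ↥O.left := by
    rw [← isCompact_univ_iff, i.left.isEmbedding.isCompact_iff, Set.image_univ, hrange]
    exact isCompact_range (a.orbitMap x).left.continuous
  haveI : QuasiCompact O.hom := (quasiCompact_iff_compactSpace _).mpr hOc
  -- the induced action on the orbit
  haveI : IsReduced (G ⊗ O).left := by
    haveI : Smooth (snd G O).left :=
      MorphismProperty.pullback_snd (P := @Smooth) G.hom O.hom inferInstance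
    exact AbSchLib.isReduced_of_smooth (snd G O).left
  obtain ⟨act', hact'⟩ := RedSepLib.exists_lift_of_range_subset ((G ◁ i) ≫ a.act).left i.left (by
    rintro _ ⟨p, rfl⟩
    rw [hrange]
    refine OrbitLC.act_mem_range_orbitMap a x ?_
    rw [← hrange]
    change ((G ◁ i) ≫ snd G X).left.base p ∈ _
    rw [whiskerLeft_snd]
    exact ⟨_, rfl⟩)
  let bAct : G ⊗ O ⟶ O := Over.homMk act' (by rw [← Over.w i, ← Category.assoc, hact', Over.w])
  have hb : bAct ≫ i = (G ◁ i) ≫ a.act := Over.OverMorphism.ext hact'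
  let b : AlgGrp.Action G O :=
    { act := bAct
      one_act := by
        rw [← cancel_mono i, Category.assoc, hb, ← whisker_exchange_assoc, a.one_act]
        simp
      mul_act := by
        rw [← cancel_mono i, Category.assoc, hb, ← whisker_exchange_assoc, a.mul_act]
        simp only [Category.assoc, hb, ← MonoidalCategory.whiskerLeft_comp_assoc]
        simp only [MonoidalCategory.whiskerLeft_comp, Category.assoc, MonoidalCategory.tensor_whiskerLeft,
          Iso.inv_hom_id_assoc] }
  have hbsmul : ∀ {T : Over (Spec (CommRingCat.of K))} (g : T ⟶ G) (o : T ⟶ O),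
      smulPt b g o ≫ i = smulPt a g (o ≫ i) := by
    intro T g o
    rw [smulPt, Category.assoc]
    change lift g o ≫ bAct ≫ i = _
    rw [hb, lift_whiskerLeft_assoc]
    rfl
  -- flatness of the orbit map onto the orbit
  haveI hg0s : Surjective g0.left := ⟨fun o => by
    obtain ⟨g, hg⟩ : i.left.base o ∈ Set.range (a.orbitMap x).left.base := hrange ▸ ⟨o, rfl⟩
    refine ⟨g, i.left.isEmbedding.injective ?_⟩
    rw [← hg, ← hg0]
    rfl⟩
  have hrat : ∀ {Z : Over (Spec (CommRingCat.of K))} [LocallyOfFiniteType Z.hom] (z : Z.left),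
      IsClosed ({z} : Set Z.left) → ∃ q : 𝟙_ (Over (Spec (CommRingCat.of K))) ⟶ Z, ∀ t, q.left.base t = z :=
    fun {Z} _ z hz => OrbitDim.exists_ratPoint_mem (X := Z) (S := {z}) hz.isLocallyClosed ⟨z, rfl⟩
  have horb : ∀ q : 𝟙_ (Over (Spec (CommRingCat.of K))) ⟶ G, q ≫ a.orbitMap x = smulPt a q x := by
    intro q
    rw [OrbitLC.orbitMap_eq_smulPt, comp_smulPt, Category.comp_id, ← Category.assoc, toUnit_unique (q ≫ toUnit G) (𝟙 _),
      Category.id_comp]
  have hlift : ∀ q : 𝟙_ (Over (Spec (CommRingCat.of K))) ⟶ O, ∃ g, g ≫ g0 = q := by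
    intro q
    let t0 : (𝟙_ (Over (Spec (CommRingCat.of K)))).left := IsLocalRing.closedPoint K
    have hqc : IsClosed ({q.left.base t0} : Set O.left) :=
      ((pointEquivClosedPoint O.hom) ⟨q.left, Over.w q⟩).2
    obtain ⟨g, hg⟩ := OrbitDim.exists_ratPoint_mem (X := G) (S := g0.left.base ⁻¹' {q.left.base t0})
      (hqc.preimage g0.left.continuous).isLocallyClosed
      ((g0.left.surjective _).imp fun _ h => h)
    exact ⟨g, Over.OverMorphism.ext (ext_of_apply_closedPoint_eq O.hom (Over.w (g ≫ g0)) (Over.w q) (hg t0))⟩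
  have hidOver : Over.mk (Spec.map (CommRingCat.ofHom (algebraMap K K))) = 𝟙_ (Over (Spec (CommRingCat.of K))) := by
    change Over.mk _ = Over.mk (𝟙 _)
    rw [Algebra.algebraMap_self]
    exact congrArg Over.mk (Spec.map_id _)
  have htrans : ∀ q q' : 𝟙_ (Over (Spec (CommRingCat.of K))) ⟶ O, ∃ g, lift g q ≫ b.act = q' := by
    intro q q'
    obtain ⟨g1, h1⟩ := hlift q
    obtain ⟨g2, h2⟩ := hlift q'
    refine ⟨g2 * g1⁻¹, ?_⟩
    change smulPt b (g2 * g1⁻¹) q = q'
    rw [← cancel_mono i, hbsmul, ← h1, ← h2, Category.assoc, Category.assoc, hg0, horb, horb, ← mul_smulPt,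
      inv_mul_cancel_right]
  haveI : Nonempty G.left := ⟨η[G].left.base (IsLocalRing.closedPoint K)⟩
  obtain ⟨hflat, -⟩ := Groth.Agent.S8020.result K K G G O (regAction G) b g0 (by
      rw [← cancel_mono i, Category.assoc, Category.assoc, hg0]
      change (G ◁ g0) ≫ bAct ≫ i = μ[G] ≫ a.orbitMap x
      rw [hb, ← MonoidalCategory.whiskerLeft_comp_assoc, hg0, OrbitLC.orbitMap_eq_smulPt, comp_smulPt,
        Category.comp_id]
      have h1 : G ◁ smulPt a (𝟙 G) (toUnit G ≫ x) = lift (fst G G) (snd G G ≫ smulPt a (𝟙 G) (toUnit G ≫ x)) := by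
        apply CartesianMonoidalCategory.hom_ext <;> simp
      have h2 : μ[G] = fst G G * snd G G := by rw [Hom.mul_def, lift_fst_snd, Category.id_comp]
      rw [h1]
      change smulPt a (fst G G) (snd G G ≫ smulPt a (𝟙 G) (toUnit G ≫ x)) = _
      rw [comp_smulPt, Category.comp_id, ← mul_smulPt, ← h2]
      simp)
    (hidOver ▸ htrans)
  haveI : LocallyOfFiniteType (g0.left ≫ O.hom) := by rw [Over.w]; infer_instance
  -- equidimensionality
  obtain ⟨dG, hdG⟩ := exists_ptDim_maximal_eq G.hom (by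
    intro z₁ z₂ h₁ h₂
    obtain ⟨q1, hq1⟩ := hrat z₁ h₁
    obtain ⟨q2, hq2⟩ := hrat z₂ h₂
    let h0 : 𝟙_ (Over (Spec (CommRingCat.of K))) ⟶ G := q2 * q1⁻¹
    let L : G ≅ G :=
      { hom := (toUnit G ≫ h0) * 𝟙 G
        inv := (toUnit G ≫ h0)⁻¹ * 𝟙 G
        hom_inv_id := by simp [MonObj.comp_mul, GrpObj.comp_inv, toUnit_unique _ (toUnit G)]
        inv_hom_id := by simp [MonObj.comp_mul, GrpObj.comp_inv, toUnit_unique _ (toUnit G)] }
    refine ⟨(Over.forget _).mapIso L, Over.w L.hom, ?_⟩
    have e : q1 ≫ L.hom = q2 := by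
      simp [L, h0, MonObj.comp_mul, toUnit_unique _ (𝟙 (𝟙_ (Over (Spec (CommRingCat.of K)))))]
    rw [← hq1 (IsLocalRing.closedPoint K), ← hq2 (IsLocalRing.closedPoint K)]
    exact congrArg (fun r => r.left.base (IsLocalRing.closedPoint K)) e)
  obtain ⟨dO, hdO⟩ := exists_ptDim_maximal_eq O.hom (by
    intro z₁ z₂ h₁ h₂
    obtain ⟨q1, hq1⟩ := hrat z₁ h₁
    obtain ⟨q2, hq2⟩ := hrat z₂ h₂
    obtain ⟨h0, hh0⟩ := htrans q1 q2
    let M : O ≅ O :=
      { hom := smulPt b (toUnit O ≫ h0) (𝟙 O)
        inv := smulPt b (toUnit O ≫ h0)⁻¹ (𝟙 O)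
        hom_inv_id := by
          rw [comp_smulPt, GrpObj.comp_inv, ← Category.assoc, toUnit_unique (_ ≫ toUnit O) (toUnit O), Category.comp_id,
            inv_smulPt]
        inv_hom_id := by
          rw [comp_smulPt, ← Category.assoc, toUnit_unique (_ ≫ toUnit O) (toUnit O), Category.comp_id,
            ← mul_smulPt, mul_inv_cancel, one_smulPt] }
    refine ⟨(Over.forget _).mapIso M, Over.w M.hom, ?_⟩
    have e : q1 ≫ M.hom = q2 := by
      change q1 ≫ smulPt b (toUnit O ≫ h0) (𝟙 O) = q2
      rw [comp_smulPt, Category.comp_id, ← Category.assoc, toUnit_unique (q1 ≫ toUnit O) (𝟙 _), Category.id_comp]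
      exact hh0
    rw [← hq1 (IsLocalRing.closedPoint K), ← hq2 (IsLocalRing.closedPoint K)]
    exact congrArg (fun r => r.left.base (IsLocalRing.closedPoint K)) e)
  have hw : g0.left ≫ O.hom = G.hom := Over.w g0
  have hdimle : ∀ {Z : Scheme.{u}} (p : Z ⟶ Spec (CommRingCat.of K)) [LocallyOfFiniteType p] (d : ℕ) [Nonempty Z],
      (∀ y : Z, (∀ w, w ⤳ y → y = w) → DimLib.ptDim p y = d) → topologicalKrullDim Z = (d : WithBot ℕ∞) := by
    intro Z p _ d _ hd
    rw [DimLib.topologicalKrullDim_eq_iSup p]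
    apply le_antisymm
    · refine iSup_le fun z => ?_
      obtain ⟨y, hy, hmax⟩ := DimLib.exists_maximal_specializes z
      rw [← hd y hmax]
      exact_mod_cast DimLib.ptDim_le_of_specializes p hy
    · obtain ⟨y, -, hmax⟩ := DimLib.exists_maximal_specializes (Classical.arbitrary Z)
      rw [← hd y hmax]
      exact le_iSup (fun x : Z => (DimLib.ptDim p x : WithBot ℕ∞)) y
  haveI : Nonempty O.left := ⟨g0.left.base (Classical.arbitrary G.left)⟩
  have hle : dO ≤ dG := by
    obtain ⟨y, -, hmax⟩ := DimLib.exists_maximal_specializes (Classical.arbitrary G.left)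
    rw [← hdG y hmax, ← hdO _ (DimLib.isMax_apply_of_flat g0.left hmax)]
    have := DimLib.ptDim_apply_le O.hom g0.left y
    rwa [hw] at this
  have hfib := (DimLib.fibre_equidim_iff_of_flat O.hom g0.left dO (dG - dO) hdO).1 (fun y hy => by
    rw [hw, hdG y hy]; omega)
  -- the stabiliser
  let o0 : O.left := g0.left.base (η[G].left.base (IsLocalRing.closedPoint K))
  have ho0 : i.left.base o0 = x.left.base (IsLocalRing.closedPoint K) := by
    have e : η[G] ≫ a.orbitMap x = x := by
      rw [horb, ← show (1 : 𝟙_ (Over (Spec (CommRingCat.of K))) ⟶ G) = η[G] by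
        rw [Hom.one_def, toUnit_unique (toUnit _) (𝟙 _), Category.id_comp], one_smulPt]
    rw [← hg0] at e
    exact congrArg (fun r => r.left.base (IsLocalRing.closedPoint K)) e
  have ho0c : IsClosed ({o0} : Set O.left) := by
    have h := ((pointEquivClosedPoint O.hom) ⟨(η[G] ≫ g0).left, Over.w _⟩).2
    exact h
  set S : Set G.left := g0.left.base ⁻¹' {o0} with hS
  have hSc : IsClosed S := ho0c.preimage g0.left.continuous
  haveI : IsClosedImmersion x.left := isClosedImmersion_of_comp_eq_id X.hom x.left (Over.w x)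
  have hPS : Set.range (pullback.fst (a.orbitMap x).left x.left).base = S := by
    rw [Scheme.Pullback.range_fst]
    ext y
    have hy : (a.orbitMap x).left.base y = i.left.base (g0.left.base y) :=
      congrArg (fun r => r.left.base y) hg0.symm
    constructor
    · rintro ⟨t, ht⟩
      refine i.left.isEmbedding.injective ?_
      have e1 : x.left.base t = (a.orbitMap x).left.base y := ht
      have e2 : t = IsLocalRing.closedPoint K :=
        @Subsingleton.elim _ (inferInstanceAs (Subsingleton (PrimeSpectrum K))) _ _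
      rw [ho0, ← hy, ← e1, e2]
    · intro (h : g0.left.base y = o0)
      refine ⟨IsLocalRing.closedPoint K, ?_⟩
      change x.left.base _ = (a.orbitMap x).left.base y
      rw [hy, h, ho0]
  have hdimS : topologicalKrullDim ↥(Limits.pullback (a.orbitMap x).left x.left) = topologicalKrullDim ↥S := by
    rw [← hPS]
    exact (pullback.fst (a.orbitMap x).left x.left).isEmbedding.toHomeomorph.isHomeomorph.topologicalKrullDim_eq
  have hdimC : topologicalKrullDim ↥(Set.range (a.orbitMap x).left.base) = topologicalKrullDim ↥O.left := by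
    rw [← hrange]
    exact i.left.isEmbedding.toHomeomorph.isHomeomorph.topologicalKrullDim_eq.symm
  have hn : topologicalKrullDim ↥S = ((dG - dO : ℕ) : WithBot ℕ∞) := by
    rw [DimLib.topologicalKrullDim_locallyClosed_eq_iSup G.hom hSc.isLocallyClosed]
    have hpt0 : DimLib.ptDim O.hom o0 = 0 := (DimLib.ptDim_eq_zero_iff O.hom o0).2 ho0c
    haveI := OrbitDim.isNoetherian_of_lft G.hom
    have hval : ∀ z ∈ S, (∀ w, w ⤳ z → g0.left.base w = g0.left.base z → z = w) → DimLib.ptDim G.hom z = dG - dO := by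
      intro z hz hmax
      have := hfib z hmax
      rw [hw, show g0.left.base z = o0 from hz, hpt0, Nat.zero_add] at this
      exact this
    have hgen : ∀ z ∈ S, ∃ z' ∈ S, z' ⤳ z ∧ (∀ w, w ⤳ z' → g0.left.base w = g0.left.base z' → z' = w) := by
      intro z hz
      haveI : QuasiSober ↥S := DimLib.quasiSober_of_isLocallyClosed hSc.isLocallyClosed
      obtain ⟨⟨z', hz'⟩, hgp⟩ := QuasiSober.sober (S := irreducibleComponent (⟨z, hz⟩ : ↥S))
        isIrreducible_irreducibleComponent isClosed_irreducibleComponent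
      refine ⟨z', hz', (subtype_specializes_iff _ _).1 (hgp.specializes mem_irreducibleComponent), fun w hw he => ?_⟩
      have hwS : w ∈ S := show g0.left.base w = o0 from he.trans hz'
      have h2 : (⟨w, hwS⟩ : ↥S) ⤳ ⟨z', hz'⟩ := (subtype_specializes_iff _ _).2 hw
      have h3 := (DimLib.mem_components_iff (⟨z', hz'⟩ : ↥S)).1
        (by rw [hgp.def]; exact irreducibleComponent_mem_irreducibleComponents _) _ h2
      exact (((subtype_specializes_iff _ _).1 h3).antisymm hw).eq
    have hηS : η[G].left.base (IsLocalRing.closedPoint K) ∈ S := rfl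
    apply le_antisymm
    · refine iSup_le fun z => ?_
      obtain ⟨z', hz', hs, hmax⟩ := hgen z.1 z.2
      rw [← hval z' hz' hmax]
      exact_mod_cast DimLib.ptDim_le_of_specializes G.hom hs
    · obtain ⟨z', hz', -, hmax⟩ := hgen _ hηS
      rw [← hval z' hz' hmax]
      exact le_iSup (fun z : S => (DimLib.ptDim G.hom z.1 : WithBot ℕ∞)) ⟨z', hz'⟩
  rw [hdimC, hdimS, hn, hdimle G.hom dG hdG, hdimle O.hom dO hdO, ← Nat.cast_add,
    Nat.add_sub_of_le hle]

end Groth.Agent.AlgGrpLib.OrbitDimFormula
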