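import Groth.Agent.AlgGrpLib.MultTypeAction
import Groth.Agent.AlgGrpLib.SubgroupCalc
import Groth.Agent.GrpQLib.AffineGroupQuot
import Groth.Agent.IsoTriv.MultTypeComm
import Groth.Agent.S5431

/-! Connected groups act trivially on central extensions of multiplicative type groups. -/

universe u

set_option autoImplicit false
set_option backward.isDefEq.respectTransparency.types false
set_option maxHeartbeats 800000

open CategoryTheory CategoryTheory.Limits MonoidalCategory CartesianMonoidalCategory MonObj GrpObj AlgebraicGeometry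

namespace Groth.Agent.AlgGrpLib.MultTypeAct

variable {k : Type u} [Field k] {G H N Hq : Over (Spec (CommRingCat.of k))}

/-- An action from its behaviour on points. -/
theorem exists_action {S : Scheme.{u}} {G X : Over S} [GrpObj G] (m : G ⊗ X ⟶ X)
    (h1 : ∀ {W : Over S} (x : W ⟶ X), lift (1 : W ⟶ G) x ≫ m = x)
    (h2 : ∀ {W : Over S} (g g' : W ⟶ G) (x : W ⟶ X), lift g (lift g' x ≫ m) ≫ m = lift (g * g') x ≫ m) :
    ∃ a : AlgGrp.Action G X, a.act = m := by
  refine ⟨⟨m, ?_, ?_⟩, rfl⟩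
  · have e : η[G] ▷ X = lift (1 : 𝟙_ (Over S) ⊗ X ⟶ G) (snd _ _) := by
      refine CartesianMonoidalCategory.hom_ext _ _ ?_ (by simp)
      rw [whiskerRight_fst, lift_fst, Hom.one_def, toUnit_unique (toUnit _) (fst (𝟙_ (Over S)) X)]
    rw [e, h1, leftUnitor_hom]
  · have e1 : μ[G] ▷ X = lift ((fst _ _ ≫ fst G G) * (fst _ _ ≫ snd G G)) (snd (G ⊗ G) X) := by
      refine CartesianMonoidalCategory.hom_ext _ _ ?_ (by simp)
      rw [whiskerRight_fst, lift_fst, ← MonObj.comp_mul, Hom.mul_def, lift_fst_snd, Category.id_comp]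
    have e2 : (α_ G G X).hom ≫ (G ◁ m) =
        lift (fst _ _ ≫ fst G G) (lift (fst _ _ ≫ snd G G) (snd _ _) ≫ m) := by
      refine CartesianMonoidalCategory.hom_ext _ _ (by simp) ?_
      rw [lift_snd, Category.assoc, whiskerLeft_snd, ← Category.assoc]
      congr 1
      ext <;> simp
    rw [e1, ← h2, ← Category.assoc (α_ G G X).hom, e2]

/-- `A × G → A × Q` is fppf when `G → Q` is. -/
theorem whisker_fppf (A : Over (Spec (CommRingCat.of k))) {H Q : Over (Spec (CommRingCat.of k))} (p : H ⟶ Q)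
    [Surjective p.left] [Flat p.left] [LocallyOfFinitePresentation p.left] :
    Surjective (A ◁ p).left ∧ Flat (A ◁ p).left ∧ LocallyOfFinitePresentation (A ◁ p).left :=
  ⟨MorphismProperty.pullbackMap (P := @Surjective) (inferInstanceAs (Surjective (𝟙 A.left)))
      ‹Surjective p.left› (Category.id_comp A.hom).symm (Over.w p).symm,
    MorphismProperty.pullbackMap (P := @Flat) (inferInstanceAs (Flat (𝟙 A.left)))
      ‹Flat p.left› (Category.id_comp A.hom).symm (Over.w p).symm,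
    MorphismProperty.pullbackMap (P := @LocallyOfFinitePresentation)
      (inferInstanceAs (LocallyOfFinitePresentation (𝟙 A.left)))
      ‹LocallyOfFinitePresentation p.left› (Category.id_comp A.hom).symm (Over.w p).symm⟩

theorem desc_whisker [GrpObj H] [GrpObj Hq] (p : H ⟶ Hq) [IsMonHom p]
    [Surjective p.left] [Flat p.left] [LocallyOfFinitePresentation p.left] (iN : N ⟶ H)
    (hp : AlgGrp.IsKernel iN p) {X : Over (Spec (CommRingCat.of k))} (F : G ⊗ H ⟶ X)
    (hF : ∀ {W : Over (Spec (CommRingCat.of k))} (g : W ⟶ G) (h : W ⟶ H) (n : W ⟶ N),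
      lift g (h * (n ≫ iN)) ≫ F = lift g h ≫ F) :
    ∃ f : G ⊗ Hq ⟶ X, ∀ {W : Over (Spec (CommRingCat.of k))} (g : W ⟶ G) (h : W ⟶ H),
      lift g (h ≫ p) ≫ f = lift g h ≫ F := by
  obtain ⟨_, _, _⟩ := whisker_fppf G p
  obtain ⟨f, hf⟩ := GrpQLib.exists_desc_fppf (G ◁ p) F (fun {W} x y hxy => by
    have h1 : x ≫ fst G H = y ≫ fst G H := by simpa using congrArg (· ≫ fst G Hq) hxy
    have h2 : (x ≫ snd G H) ≫ p = (y ≫ snd G H) ≫ p := by simpa using congrArg (· ≫ snd G Hq) hxy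
    obtain ⟨n, hn⟩ := exists_lift_kernel hp (g := (x ≫ snd G H)⁻¹ * (y ≫ snd G H))
      (by rw [MonObj.mul_comp, GrpObj.inv_comp, h2, inv_mul_cancel])
    have ex : ∀ w : W ⟶ G ⊗ H, w ≫ F = lift (w ≫ fst G H) (w ≫ snd G H) ≫ F := fun w => by
      rw [← comp_lift, lift_fst_snd, Category.comp_id]
    rw [ex x, ex y, ← h1, ← mul_inv_cancel_left (x ≫ snd G H) (y ≫ snd G H), ← hn, hF])
  exact ⟨f, fun g h => by rw [← lift_whiskerLeft g h p, Category.assoc, hf]⟩

theorem isMultTypeFT_prod [GrpObj N] [GrpObj Hq] (hN : SGA3x.IsMultTypeFT N) (hHq : SGA3x.IsMultTypeFT Hq)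
    [QuasiCompact N.hom] : SGA3x.IsMultTypeFT (N ⊗ Hq) := by
  haveI : IsMonHom (snd N Hq) := inferInstance
  haveI : IsMonHom (lift (𝟙 N) (1 : N ⟶ Hq)) := isMonHom_of_map_mul _ fun x y => by
    refine CartesianMonoidalCategory.hom_ext _ _ ?_ ?_
    · rw [Category.assoc, lift_fst, MonObj.mul_comp]; simp [comp_lift, MonObj.mul_comp]
    · rw [Category.assoc, lift_snd, MonObj.comp_one, MonObj.mul_comp]; simp [comp_lift, MonObj.comp_one]
  haveI : Surjective N.hom :=
    ⟨fun s => ⟨(η[N] : 𝟙_ (Over (Spec (CommRingCat.of k))) ⟶ N).left.base s, Subsingleton.elim _ _⟩⟩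
  haveI : Surjective (snd N Hq).left := inferInstanceAs (Surjective (pullback.snd N.hom Hq.hom))
  haveI : Flat (snd N Hq).left := inferInstanceAs (Flat (pullback.snd N.hom Hq.hom))
  haveI : QuasiCompact (snd N Hq).left := inferInstanceAs (QuasiCompact (pullback.snd N.hom Hq.hom))
  refine S5431.result _ (N ⊗ Hq) N Hq (snd N Hq) (lift (𝟙 N) (1 : N ⟶ Hq)) ?_ hN hHq (Or.inl ?_)
  · refine IsPullback.of_isLimit' ⟨by rw [lift_snd, Hom.one_def]⟩ (PullbackCone.IsLimit.mk _
      (fun s => s.fst ≫ fst N Hq) (fun s => ?_) (fun s => toUnit_unique _ _) (fun s m h1 _ => ?_))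
    · refine CartesianMonoidalCategory.hom_ext _ _ (by simp) ?_
      rw [Category.assoc, lift_snd, MonObj.comp_one, s.condition, Hom.one_def, toUnit_unique s.snd (toUnit _)]
    · rw [← h1, Category.assoc, lift_fst, Category.comp_id]
  · refine isCommMonObj_iff_isMulCommutative (N ⊗ Hq) |>.2 fun W => ⟨⟨fun x y => ?_⟩⟩
    refine CartesianMonoidalCategory.hom_ext _ _ ?_ ?_ <;> rw [MonObj.mul_comp, MonObj.mul_comp]
    · exact IsoTriv.mul_comm_of_multTypeFT hN _ _
    · exact IsoTriv.mul_comm_of_multTypeFT hHq _ _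

theorem fixes_of_central_extension [GrpObj G] [GrpObj H] [GrpObj N] [GrpObj Hq] [ConnectedSpace G.left]
    [LocallyOfFiniteType H.hom] [LocallyOfFiniteType Hq.hom] [QuasiCompact H.hom] [QuasiCompact N.hom]
    [QuasiCompact Hq.hom]
    (iN : N ⟶ H) [IsMonHom iN] [Mono iN]
    (hcen : ∀ (T : Over (Spec (CommRingCat.of k))) (h : T ⟶ H) (n : T ⟶ N), h * (n ≫ iN) = (n ≫ iN) * h)
    (p : H ⟶ Hq) [IsMonHom p] [Flat p.left] [Surjective p.left] (hp : AlgGrp.IsKernel iN p)
    (hN : SGA3x.IsMultTypeFT N) (hHq : SGA3x.IsMultTypeFT Hq) (a : AlgGrp.Action G H) (ha : IsGrpAction a)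
    (hpres : ∀ (T : Over (Spec (CommRingCat.of k))) (g : T ⟶ G) (n : T ⟶ N),
      ∃ n' : T ⟶ N, lift g (n ≫ iN) ≫ a.act = n' ≫ iN)
    {T : Over (Spec (CommRingCat.of k))} (g : T ⟶ G) (h : T ⟶ H) : lift g h ≫ a.act = h := by
  haveI : LocallyOfFinitePresentation H.hom := LocallyOfFinitePresentation.iff_locallyOfFiniteType.2 ‹_›
  haveI : LocallyOfFinitePresentation (p.left ≫ Hq.hom) := by rw [Over.w]; infer_instance
  haveI : QuasiCompact (p.left ≫ Hq.hom) := by rw [Over.w]; infer_instance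
  haveI : IsLocallyNoetherian Hq.left := LocallyOfFiniteType.isLocallyNoetherian Hq.hom
  haveI : QuasiSeparated Hq.hom := inferInstance
  haveI : QuasiCompact p.left := QuasiCompact.of_comp p.left Hq.hom
  haveI : LocallyOfFinitePresentation p.left := H8Lim.lfp_cancel_right p.left Hq.hom
  -- restriction to the kernel
  obtain ⟨b, hb⟩ := hpres _ (fst G N) (snd G N)
  have hb' : ∀ {W : Over (Spec (CommRingCat.of k))} (g : W ⟶ G) (n : W ⟶ N),
      (lift g n ≫ b) ≫ iN = lift g (n ≫ iN) ≫ a.act := fun g n => by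
    rw [Category.assoc, ← hb, ← Category.assoc, comp_lift, lift_fst, lift_snd_assoc]
  obtain ⟨aN, haN0⟩ := exists_action b
    (fun n => by rw [← cancel_mono iN, hb', one_act'])
    (fun g g' n => by rw [← cancel_mono iN, hb', hb', hb', act_act])
  have haN : IsGrpAction aN := fun W g n n' => by
    rw [haN0, ← cancel_mono iN, MonObj.mul_comp, hb', hb', hb', MonObj.mul_comp, ha]
  have fixN : ∀ {W : Over (Spec (CommRingCat.of k))} (g : W ⟶ G) (n : W ⟶ N),
      lift g (n ≫ iN) ≫ a.act = n ≫ iN := fun g n => by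
    rw [← hb', show lift g n ≫ b = n by rw [← haN0]; exact fixes_of_extension haN hN g n]
  -- the quotient action
  obtain ⟨c, hc⟩ := desc_whisker p iN hp (a.act ≫ p) (fun g h n => by
    rw [← Category.assoc, ← Category.assoc, ha, fixN, MonObj.mul_comp, Category.assoc _ iN, kernel_comp hp,
      MonObj.comp_one, _root_.mul_one])
  obtain ⟨_, _, _⟩ := whisker_fppf (𝟙_ (Over (Spec (CommRingCat.of k)))) p
  obtain ⟨_, _, _⟩ := whisker_fppf (G ⊗ G) p
  have hcw : (G ◁ p) ≫ c = a.act ≫ p := by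
    have := hc (fst G H) (snd G H)
    rwa [← lift_whiskerLeft, lift_fst_snd, Category.id_comp, Category.id_comp] at this
  let aQ : AlgGrp.Action G Hq := ⟨c, by
    have : Epi (𝟙_ (Over (Spec (CommRingCat.of k))) ◁ p) := Over.epi_of_epi_left _
    rw [← cancel_epi (𝟙_ (Over (Spec (CommRingCat.of k))) ◁ p), whisker_exchange_assoc, hcw, ← Category.assoc,
      a.one_act, leftUnitor_naturality], by
    have : Epi ((G ⊗ G) ◁ p) := Over.epi_of_epi_left _
    rw [← cancel_epi ((G ⊗ G) ◁ p), whisker_exchange_assoc, hcw, MonoidalCategory.associator_naturality_right_assoc,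
      ← MonoidalCategory.whiskerLeft_comp_assoc, hcw, MonoidalCategory.whiskerLeft_comp, Category.assoc, hcw,
      reassoc_of% a.mul_act]⟩
  have haQ : IsGrpAction aQ := fun W g y y' => by
    obtain ⟨W₁, c₁, h₁, _, _, _, e₁⟩ := exists_lift_cover p y
    obtain ⟨W₂, c₂, h₂, _, _, _, e₂⟩ := exists_lift_cover p (c₁ ≫ y')
    haveI : Epi c₁ := Over.epi_of_epi_left _
    haveI : Epi c₂ := Over.epi_of_epi_left _
    rw [← cancel_epi c₁, ← cancel_epi c₂]
    simp only [MonObj.comp_mul, comp_lift_assoc]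
    rw [← e₁, ← Category.assoc c₂ h₁, ← e₂, ← MonObj.mul_comp]
    show lift _ _ ≫ c = (lift _ _ ≫ c) * (lift _ _ ≫ c)
    rw [hc, hc, hc, ← Category.assoc, ha, MonObj.mul_comp, Category.assoc, Category.assoc]
  have fixQ : ∀ {W : Over (Spec (CommRingCat.of k))} (g : W ⟶ G) (h : W ⟶ H),
      (lift g h ≫ a.act) ≫ p = h ≫ p := fun g h => by
    rw [Category.assoc, ← hc]; exact fixes_of_extension haQ hHq g (h ≫ p)
  -- the pairing
  obtain ⟨d, hd⟩ := exists_lift_kernel hp (g := a.act * (snd G H)⁻¹) (by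
    rw [MonObj.mul_comp, GrpObj.inv_comp]
    have := fixQ (fst G H) (snd G H)
    rw [lift_fst_snd, Category.id_comp] at this
    rw [this, mul_inv_cancel])
  have hd' : ∀ {W : Over (Spec (CommRingCat.of k))} (g : W ⟶ G) (h : W ⟶ H),
      lift g h ≫ a.act = ((lift g h ≫ d) ≫ iN) * h := fun g h => by
    rw [Category.assoc, hd, MonObj.comp_mul, GrpObj.comp_inv, lift_snd, inv_mul_cancel_right]
  obtain ⟨δ, hδ⟩ := desc_whisker p iN hp d (fun g h n => by
    rw [← cancel_mono iN]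
    have h1 := hd' g (h * (n ≫ iN))
    rw [ha, fixN, hd' g h, _root_.mul_assoc] at h1
    exact (mul_right_cancel h1).symm)
  have dmul₁ : ∀ {W : Over (Spec (CommRingCat.of k))} (g g' : W ⟶ G) (h : W ⟶ H),
      lift (g * g') h ≫ d = (lift g h ≫ d) * (lift g' h ≫ d) := fun g g' h => by
    rw [← cancel_mono iN]
    have h1 := act_act a g g' h
    rw [hd' g' h, ha, fixN, hd' g h, hd' (g * g') h, ← _root_.mul_assoc] at h1
    rw [MonObj.mul_comp, ← hcen, ← mul_right_cancel h1]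
  have dmul₂ : ∀ {W : Over (Spec (CommRingCat.of k))} (g : W ⟶ G) (h h' : W ⟶ H),
      lift g (h * h') ≫ d = (lift g h ≫ d) * (lift g h' ≫ d) := fun g h h' => by
    rw [← cancel_mono iN, MonObj.mul_comp]
    have h1 := ha _ g h h'
    rw [hd', hd', hd', _root_.mul_assoc ((lift g h ≫ d) ≫ iN), ← _root_.mul_assoc h, hcen _ h, _root_.mul_assoc,
      ← _root_.mul_assoc, ← _root_.mul_assoc] at h1
    rw [_root_.mul_assoc _ h h'] at h1
    exact mul_right_cancel h1
  have δmul₁ : ∀ {W : Over (Spec (CommRingCat.of k))} (g g' : W ⟶ G) (y : W ⟶ Hq),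
      lift (g * g') y ≫ δ = (lift g y ≫ δ) * (lift g' y ≫ δ) := fun g g' y => by
    obtain ⟨W₁, c₁, h₁, _, _, _, e₁⟩ := exists_lift_cover p y
    haveI : Epi c₁ := Over.epi_of_epi_left _
    rw [← cancel_epi c₁]
    simp only [MonObj.comp_mul, comp_lift_assoc]
    rw [← e₁, hδ, hδ, hδ, dmul₁]
  have δmul₂ : ∀ {W : Over (Spec (CommRingCat.of k))} (g : W ⟶ G) (y y' : W ⟶ Hq),
      lift g (y * y') ≫ δ = (lift g y ≫ δ) * (lift g y' ≫ δ) := fun g y y' => by
    obtain ⟨W₁, c₁, h₁, _, _, _, e₁⟩ := exists_lift_cover p y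
    obtain ⟨W₂, c₂, h₂, _, _, _, e₂⟩ := exists_lift_cover p (c₁ ≫ y')
    haveI : Epi c₁ := Over.epi_of_epi_left _
    haveI : Epi c₂ := Over.epi_of_epi_left _
    rw [← cancel_epi c₁, ← cancel_epi c₂]
    simp only [MonObj.comp_mul, comp_lift_assoc]
    rw [← e₁, ← Category.assoc c₂ h₁, ← e₂, ← MonObj.mul_comp, hδ, hδ, hδ, dmul₂]
  -- the action on the product
  let m : G ⊗ (N ⊗ Hq) ⟶ N ⊗ Hq :=
    lift ((snd _ _ ≫ fst N Hq) * (lift (fst _ _) (snd _ _ ≫ snd N Hq) ≫ δ)) (snd _ _ ≫ snd N Hq)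
  have hm : ∀ {W : Over (Spec (CommRingCat.of k))} (g : W ⟶ G) (z : W ⟶ N ⊗ Hq),
      lift g z ≫ m = lift ((z ≫ fst N Hq) * (lift g (z ≫ snd N Hq) ≫ δ)) (z ≫ snd N Hq) := fun g z => by
    simp only [m, comp_lift, MonObj.comp_mul, comp_lift_assoc, lift_fst, lift_snd_assoc]
  have hone : ∀ {W : Over (Spec (CommRingCat.of k))} (y : W ⟶ Hq), lift (1 : W ⟶ G) y ≫ δ = 1 := fun y => by
    have := δmul₁ (1 : _ ⟶ G) 1 y
    rwa [_root_.one_mul, left_eq_mul] at this
  obtain ⟨aP, haP0⟩ := exists_action m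
    (fun z => by
      rw [hm, hone, _root_.mul_one, ← comp_lift, lift_fst_snd, Category.comp_id])
    (fun g g' z => by
      rw [hm, hm g', hm, lift_fst, lift_snd, δmul₁, _root_.mul_assoc,
        IsoTriv.mul_comm_of_multTypeFT hN (lift g' _ ≫ δ)])
  have haP : IsGrpAction aP := fun W g z z' => by
    rw [haP0, hm, hm, hm]
    refine CartesianMonoidalCategory.hom_ext _ _ ?_ ?_
    · simp only [MonObj.mul_comp, lift_fst, δmul₂]
      letI : CommMonoid (W ⟶ N) := { (inferInstance : Monoid (W ⟶ N)) with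
        mul_comm := IsoTriv.mul_comm_of_multTypeFT hN }
      exact mul_mul_mul_comm _ _ _ _
    · simp only [MonObj.mul_comp, lift_snd]
  haveI : QuasiCompact (N ⊗ Hq).hom := inferInstanceAs (QuasiCompact (pullback.fst N.hom Hq.hom ≫ N.hom))
  have := fixes_of_extension haP (isMultTypeFT_prod hN hHq) g (lift (1 : T ⟶ N) (h ≫ p))
  have h1 : lift g (h ≫ p) ≫ δ = 1 := by
    have h2 := congrArg (· ≫ fst N Hq) this
    simp only [haP0, hm, lift_fst, lift_snd, _root_.one_mul] at h2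
    exact h2
  rw [hd', ← hδ, h1, MonObj.one_comp, _root_.one_mul]

end Groth.Agent.AlgGrpLib.MultTypeAct
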