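import Groth.Agent.AlgGrpLib.OrbitLC
import Groth.Agent.RedSepLib.Immersion
import Groth.Agent.FlatMorGeneric.Scheme
import Groth.Agent.AlgSpLib.SmoothSource
import Groth.Agent.AbSchLib.SmoothReduced
import Mathlib.AlgebraicGeometry.Morphisms.Smooth

/-!
# Reduced orbits of smooth groups are smooth
-/

set_option autoImplicit false
set_option backward.isDefEq.respectTransparency.types false

universe u

open CategoryTheory Limits MonoidalCategory CartesianMonoidalCategory MonObj GrpObj AlgebraicGeometry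
open Groth.Agent.SGA3cLib Groth.Agent.AlgGrpLib.OrbitLC

namespace Groth.Agent.AlgGrpLib.OrbitSmooth

variable {K : Type u} [Field K] {G X : Over (Spec (CommRingCat.of K))} [GrpObj G]

theorem smooth_orbit [Smooth G.hom] [QuasiCompact G.hom] [LocallyOfFiniteType X.hom]
    (a : AlgGrp.Action G X) (x : 𝟙_ (Over (Spec (CommRingCat.of K))) ⟶ X)
    {O : Over (Spec (CommRingCat.of K))} (i : O ⟶ X) [IsImmersion i.left] [IsReduced O.left]
    (hO : Set.range i.left.base = Set.range (a.orbitMap x).left.base) : Smooth O.hom := by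
  haveI : IsReduced G.left := AbSchLib.isReduced_of_smooth G.hom
  obtain ⟨g0', hg0'⟩ := RedSepLib.exists_lift_of_range_subset (a.orbitMap x).left i.left hO.ge
  let g0 : G ⟶ O := Over.homMk g0' (by rw [← Over.w i, ← Category.assoc, hg0', Over.w])
  have hg0 : g0 ≫ i = a.orbitMap x := Over.OverMorphism.ext hg0'
  haveI : Mono i := Over.mono_of_mono_left i
  haveI : LocallyOfFiniteType (i.left ≫ X.hom) := inferInstance
  haveI hOlft : LocallyOfFiniteType O.hom := by rw [← Over.w i]; infer_instance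
  haveI : IsLocallyNoetherian O.left := LocallyOfFiniteType.isLocallyNoetherian O.hom
  haveI hg0s : Surjective g0.left := ⟨fun o => by
    obtain ⟨g, hg⟩ : i.left.base o ∈ Set.range (a.orbitMap x).left.base := hO ▸ ⟨o, rfl⟩
    refine ⟨g, i.left.isEmbedding.injective ?_⟩
    rw [← hg, ← hg0]
    rfl⟩
  haveI : LocallyOfFiniteType (g0.left ≫ O.hom) := by rw [Over.w]; infer_instance
  haveI : LocallyOfFiniteType g0.left := locallyOfFiniteType_of_comp _ O.hom
  haveI : QuasiCompact (g0.left ≫ O.hom) := by rw [Over.w]; infer_instance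
  haveI : QuasiCompact g0.left := QuasiCompact.of_comp _ O.hom
  obtain ⟨V, hVd, hVflat, -⟩ := FlatMorGeneric.exists_dense_flat_lfp g0.left
  -- the open piece of `G` over `V`
  let W : Over (Spec (CommRingCat.of K)) := Over.mk ((g0.left ⁻¹ᵁ V).ι ≫ G.hom)
  let jW : W ⟶ G := Over.homMk (g0.left ⁻¹ᵁ V).ι rfl
  haveI : Flat (jW ≫ g0).left := by
    change Flat ((g0.left ⁻¹ᵁ V).ι ≫ g0.left)
    rw [← morphismRestrict_ι]
    infer_instance
  -- the swap restricted to `G × O`
  haveI : IsReduced (G ⊗ O).left := by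
    haveI : Smooth (snd G O).left :=
      MorphismProperty.pullback_snd (P := @Smooth) G.hom O.hom inferInstance
    exact AbSchLib.isReduced_of_smooth (snd G O).left
  have hact : ∀ p : ↥(G ⊗ O).left, ((G ◁ i) ≫ a.act).left.base p ∈ Set.range i.left.base := by
    intro p
    rw [hO]
    refine act_mem_range_orbitMap a x ?_
    rw [← hO]
    change ((G ◁ i) ≫ snd G X).left.base p ∈ _
    rw [whiskerLeft_snd]
    exact ⟨_, rfl⟩
  obtain ⟨act', hact'⟩ := RedSepLib.exists_lift_of_range_subset ((G ◁ i) ≫ a.act).left i.left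
    (by rintro _ ⟨p, rfl⟩; exact hact p)
  let b : G ⊗ O ⟶ O := Over.homMk act' (by rw [← Over.w i, ← Category.assoc, hact', Over.w])
  have hb : b ≫ i = (G ◁ i) ≫ a.act := Over.OverMorphism.ext hact'
  let τ : G ⊗ O ⟶ G ⊗ O := lift (fst G O)⁻¹ b
  have hτi : τ ≫ (G ◁ i) = (G ◁ i) ≫ swapHom a := by
    apply CartesianMonoidalCategory.hom_ext
    · simp only [Category.assoc, whiskerLeft_fst, τ, lift_fst, swapHom, GrpObj.comp_inv]
    · simp only [Category.assoc, whiskerLeft_snd, τ, lift_snd_assoc, hb, swapHom_snd]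
  haveI : Mono (G ◁ i) := ⟨fun u v h => by
    apply CartesianMonoidalCategory.hom_ext
    · simpa using congrArg (fun φ => φ ≫ fst G X) h
    · rw [← cancel_mono i]
      simpa using congrArg (fun φ => φ ≫ snd G X) h⟩
  have hττ : τ ≫ τ = 𝟙 _ := by
    rw [← cancel_mono (G ◁ i), Category.assoc, hτi, ← Category.assoc, hτi, Category.assoc,
      swapHom_swapHom, Category.comp_id, Category.id_comp]
  haveI : IsIso τ := ⟨τ, hττ, hττ⟩
  haveI : Flat τ.left := haveI : IsIso τ.left := inferInstanceAs (IsIso ((Over.forget _).map τ)); inferInstance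
  let Ψ : G ⊗ W ⟶ O := (G ◁ (jW ≫ g0)) ≫ τ ≫ snd G O
  haveI : Flat (G ◁ (jW ≫ g0)).left := by
    rw [Over.whiskerLeft_left]
    exact MorphismProperty.pullbackMap (P := @Flat) inferInstance inferInstance (by simp) (by simp)
  haveI : Flat (snd G O).left := MorphismProperty.pullback_snd (P := @Flat) G.hom O.hom inferInstance
  haveI : Flat Ψ.left := by
    simp only [Ψ, Over.comp_left]
    infer_instance
  have hW : W.hom = (g0.left ⁻¹ᵁ V).ι ≫ G.hom := rfl
  haveI : LocallyOfFiniteType W.hom := by rw [hW]; infer_instance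
  haveI : Smooth W.hom := by rw [hW]; infer_instance
  haveI : Smooth (G ⊗ W).hom := by
    change Smooth (pullback.fst G.hom W.hom ≫ G.hom)
    infer_instance
  haveI : LocallyOfFiniteType (Ψ.left ≫ O.hom) := by rw [Over.w]; infer_instance
  haveI : LocallyOfFiniteType Ψ.left := locallyOfFiniteType_of_comp _ O.hom
  haveI : LocallyOfFinitePresentation Ψ.left := inferInstance
  haveI : Surjective Ψ.left := ⟨fun o => by
    obtain ⟨g1, rfl⟩ := g0.left.surjective o
    obtain ⟨v, hv⟩ := hVd.nonempty_iff.2 ⟨g0.left.base g1⟩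
    obtain ⟨g2, rfl⟩ := g0.left.surjective v
    obtain ⟨w0, hw0⟩ : g2 ∈ Set.range (g0.left ⁻¹ᵁ V).ι := by rw [Scheme.Opens.range_ι]; exact hv
    obtain ⟨q, hq1, hq2⟩ := exists_point_over G W g1 w0
    let w : G ⊗ W ⟶ G ⊗ W := lift (fst G W * (snd G W ≫ jW)⁻¹) (snd G W)
    refine ⟨w.left.base q, i.left.isEmbedding.injective ?_⟩
    have e : w ≫ Ψ ≫ i = fst G W ≫ g0 ≫ i := by
      rw [hg0]
      have e1 : w ≫ (G ◁ (jW ≫ g0)) ≫ (G ◁ i) = lift (fst G W * (snd G W ≫ jW)⁻¹) (snd G W ≫ jW ≫ a.orbitMap x) := by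
        apply CartesianMonoidalCategory.hom_ext
        · simp [w]
        · simp [w, hg0]
      have e2 : τ ≫ snd G O ≫ i = (G ◁ i) ≫ a.act := by
        rw [lift_snd_assoc, hb]
      simp only [Ψ, Category.assoc]
      rw [e2, reassoc_of% e1]
      change smulPt a (fst G W * (snd G W ≫ jW)⁻¹) (snd G W ≫ jW ≫ a.orbitMap x) = _
      rw [orbitMap_eq_smulPt, comp_smulPt, comp_smulPt, comp_smulPt, ← mul_smulPt]
      simp
    have h := congrArg (fun φ => φ.left.base q) e
    simp only [Over.comp_left, Scheme.Hom.comp_base, TopCat.comp_app] at h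
    exact h.trans (by rw [hq1])⟩
  exact AlgSpLib.smooth_of_comp_fppf Ψ.left O.hom (by rw [Over.w]; infer_instance)

end Groth.Agent.AlgGrpLib.OrbitSmooth
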