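import Groth.Agent.AlgGrpLib.DenseMul
import Groth.Agent.GrpdField.GeomIrred
import Groth.Agent.SGA3xLib.SepFibre

/-!
# The identity component of an arbitrary group scheme over a field
-/

set_option autoImplicit false
set_option backward.isDefEq.respectTransparency.types false
set_option linter.style.haveILetI false

universe u

open CategoryTheory Limits MonoidalCategory CartesianMonoidalCategory MonObj GrpObj AlgebraicGeometry

namespace Groth.Agent.AlgGrpLib.ConnComp

open Groth.Agent.AlgGrpLib.DenseMul

variable {k : Type u} [Field k] (G : Over (Spec (CommRingCat.of k))) [GrpObj G]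

/-- The unit point. -/
noncomputable abbrev e₀ : G.left := η[G].left.base (IsLocalRing.closedPoint k)

theorem uniqueMax (x : G.left) : GrpdField.UniqueMax x := fun _ _ h₁ h₂ s₁ s₂ =>
  SGA3cLib.eq_of_specializes_of_homogeneous (SGA3cLib.regAction G) (SGA3cLib.surjective_regAction G)
    (VarietyLib.mem_genericPoints_iff.2 fun w hw => (h₁ w hw).symm)
    (VarietyLib.mem_genericPoints_iff.2 fun w hw => (h₂ w hw).symm) s₁ s₂

theorem uniqueMax_bc {L : Type u} [Field L] (g : Spec (CommRingCat.of L) ⟶ Spec (CommRingCat.of k))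
    (x : ↥(pullback G.hom g)) : GrpdField.UniqueMax x := fun _ _ h₁ h₂ s₁ s₂ =>
  SGA3cLib.eq_of_specializes_of_homogeneous ((SGA3cLib.regAction G).bc g)
    (SGA3cLib.surjective_bc (SGA3cLib.regAction G) (SGA3cLib.surjective_regAction G) g)
    (VarietyLib.mem_genericPoints_iff.2 fun w hw => (h₁ w hw).symm)
    (VarietyLib.mem_genericPoints_iff.2 fun w hw => (h₂ w hw).symm) s₁ s₂

/-- The component of the unit with its reduced structure. -/
noncomputable def Z₀ : Scheme.IdealSheafData G.left :=
  Scheme.IdealSheafData.vanishingIdeal ⟨irreducibleComponent (e₀ G), isClosed_irreducibleComponent⟩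

theorem range_Z₀ : Set.range ⇑(Z₀ G).subschemeι = irreducibleComponent (e₀ G) := by
  rw [Scheme.IdealSheafData.range_subschemeι]
  exact Scheme.IdealSheafData.coe_support_vanishingIdeal _

theorem isIrreducible_fst_preimage (P : Over (Spec (CommRingCat.of k))) (L : Type u) [Field L]
    (hP : P.left = Spec (CommRingCat.of L)) :
    IsIrreducible (⇑(fst G P).left ⁻¹' irreducibleComponent (e₀ G)) := by
  obtain ⟨P, _, p⟩ := P
  subst hP
  let I := Z₀ G
  haveI : IrreducibleSpace ↥I.subscheme := by
    have h : IsIrreducible (Set.range ⇑I.subschemeι) := range_Z₀ G ▸ isIrreducible_irreducibleComponent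
    haveI : IrreducibleSpace ↥(Set.range ⇑I.subschemeι) := Subtype.irreducibleSpace h
    exact I.subschemeι.isClosedEmbedding.isEmbedding.toHomeomorph.symm.surjective.irreducibleSpace
      I.subschemeι.isClosedEmbedding.isEmbedding.toHomeomorph.symm.continuous
  haveI : GeometricallyIrreducible (I.subschemeι ≫ G.hom) :=
    GrpdField.geometricallyIrreducible_component G.hom η[G].left (Over.w η[G])
      (fun _ _ g => uniqueMax_bc G g _) (uniqueMax G) _
      (range_Z₀ G ▸ irreducibleComponent_mem_irreducibleComponents _) (range_Z₀ G ▸ mem_irreducibleComponent)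
  haveI : IrreducibleSpace ↥(pullback (I.subschemeι ≫ G.hom) p) :=
    GeometricallyIrreducible.geometrically_irreducibleSpace (f := I.subschemeι ≫ G.hom) p
      (pullback.fst _ _) (pullback.snd _ _) (IsPullback.of_hasPullback _ _)
  let m := pullback.map (I.subschemeι ≫ G.hom) p G.hom p I.subschemeι (𝟙 _) (𝟙 _) (Category.comp_id _) (by simp)
  have h : Set.range ⇑m = ⇑(pullback.fst G.hom p) ⁻¹' irreducibleComponent (e₀ G) := by
    rw [Scheme.Pullback.range_map, range_Z₀]
    simp
  have hi := (IrreducibleSpace.isIrreducible_univ _).image ⇑m m.continuous.continuousOn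
  rw [Set.image_univ, h] at hi
  exact hi

/-- The point `(y, o)` of `G × y` is carried by `a ↦ a⁻¹ y` into the unit component; so is the generic
point of the component through it, which lies over the generic point of the component of `y`. -/
theorem exists_generic_lift (y : G.left) :
    ∃ ω : ↥(G ⊗ ptObj y).left, (∀ z, z ⤳ (fst G (ptObj y)).left.base ω → (fst G (ptObj y)).left.base ω = z) ∧
      (fst G (ptObj y)).left.base ω ⤳ y ∧
      (fst G (ptObj y)).left.base ((sigma y).hom.left.base ω) ∈ irreducibleComponent (e₀ G) ∧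
      ∀ r : ↥(G ⊗ ptObj y).left,
        (fst G (ptObj y)).left.base ((sigma y).hom.left.base r) ∈ irreducibleComponent (e₀ G) → ω ⤳ r := by
  let P := ptObj y
  let h : ↥(G ⊗ P).left ≃ₜ ↥(G ⊗ P).left := ((Over.forget _).mapIso (sigma y)).hom.homeomorph
  let p := (fst G P).left
  haveI : Flat p := MorphismProperty.pullback_fst (P := @Flat) (f := G.hom) (g := P.hom)
    (show Flat P.hom from inferInstance)
  let Z' := ⇑p ⁻¹' irreducibleComponent (e₀ G)
  have hirr : IsIrreducible Z' := isIrreducible_fst_preimage G P (G.left.residueField y) rfl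
  have hclosed : IsClosed Z' := isClosed_irreducibleComponent.preimage p.continuous
  have hirr' : IsIrreducible (h.symm '' Z') := hirr.image _ h.symm.continuous.continuousOn
  have hcl' : IsClosed (h.symm '' Z') := h.symm.isClosedMap _ hclosed
  obtain ⟨ω, hω⟩ := QuasiSober.sober hirr' hcl'
  obtain ⟨ω', hω', hmax⟩ := DimLib.exists_maximal_specializes (X := (G ⊗ P).left) ω
  have hmem : ∀ r : ↥(G ⊗ P).left, r ∈ h.symm '' Z' ↔ p (h r) ∈ irreducibleComponent (e₀ G) := fun r => by
    rw [h.image_symm]; rfl
  -- the maximal point above the generic point still lies in the translate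
  have hωω : ω' = ω := by
    refine (hω.specializes ?_).antisymm hω' |>.eq.symm
    rw [hmem]
    obtain ⟨θ, hθ, hθmax⟩ := DimLib.exists_genericPoint_of_mem_components
      (irreducibleComponent_mem_irreducibleComponents (e₀ G))
    have hmax' : ∀ z, z ⤳ h ω' → h ω' = z := fun z hz => by
      have := hz.map h.symm.continuous
      rw [h.symm_apply_apply] at this
      rw [hmax _ this, h.apply_symm_apply]
    have h1 : p (h ω) ∈ irreducibleComponent (e₀ G) := (hmem ω).1 hω.mem
    have h2 : p (h ω') = θ := uniqueMax G (p (h ω)) _ _ (DimLib.isMax_apply_of_flat p hmax') hθmax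
      ((hω'.map h.continuous).map p.continuous) (hθ.specializes h1)
    rw [h2]
    exact hθ.mem
  subst hωω
  refine ⟨ω', DimLib.isMax_apply_of_flat p hmax, ?_, (hmem ω').1 hω.mem, fun r hr => hω.specializes ((hmem r).2 hr)⟩
  obtain ⟨o⟩ : Nonempty ↥(Spec (G.left.residueField y)) :=
    inferInstanceAs (Nonempty (PrimeSpectrum (G.left.residueField y)))
  let r₀ : ↥(G ⊗ P).left := (lift (ptHom y) (𝟙 P)).left.base o
  have h0 : p r₀ = y := by
    change (lift (ptHom y) (𝟙 P) ≫ fst G P).left.base o = y
    rw [lift_fst]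
    exact (G.left.range_fromSpecResidueField y).le ⟨o, rfl⟩
  have h1 : p (h r₀) ∈ irreducibleComponent (e₀ G) := by
    change (lift (ptHom y) (𝟙 P) ≫ (sigma y).hom ≫ fst G P).left.base o ∈ _
    have : lift (ptHom y) (𝟙 P) ≫ (sigma y).hom ≫ fst G P = 1 := by
      simp [sigma, P, MonObj.comp_mul, GrpObj.comp_inv]
    rw [this]
    change η[G].left.base ((toUnit P).left.base o) ∈ _
    rw [Subsingleton.elim (α := ↥(Spec (CommRingCat.of k))) ((toUnit P).left.base o) (IsLocalRing.closedPoint k)]
    exact mem_irreducibleComponent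
  have := (hω.specializes ((hmem r₀).2 h1)).map p.continuous
  rwa [h0] at this

/-- A point of `W Z₀` gives a point of `G × y`. -/
theorem exists_of_mul (y : G.left) (q : ↥(G ⊗ G).left) (hq : μ[G].left.base q = y) :
    ∃ r : ↥(G ⊗ ptObj y).left, (fst G (ptObj y)).left.base r = (fst G G).left.base q ∧
      (fst G (ptObj y)).left.base ((sigma y).hom.left.base r) = (snd G G).left.base q := by
  subst hq
  let Q : Over (Spec (CommRingCat.of k)) := Over.mk ((G ⊗ G).left.fromSpecResidueField q ≫ (G ⊗ G).hom)
  let qh : Q ⟶ G ⊗ G := Over.homMk ((G ⊗ G).left.fromSpecResidueField q)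
  let v : Q ⟶ ptObj (μ[G].left.base q) := Over.homMk (Spec.map (μ[G].left.residueFieldMap q)) (by
    show Spec.map _ ≫ G.left.fromSpecResidueField _ ≫ G.hom = _
    rw [Scheme.Hom.SpecMap_residueFieldMap_fromSpecResidueField_assoc, Over.w μ[G]]
    rfl)
  have hv : v ≫ ptHom (μ[G].left.base q) = qh ≫ μ[G] :=
    Over.OverMorphism.ext (Scheme.Hom.SpecMap_residueFieldMap_fromSpecResidueField _ _)
  let L : Q ⟶ G ⊗ ptObj (μ[G].left.base q) := lift (qh ≫ fst G G) v
  obtain ⟨o⟩ : Nonempty ↥(Spec ((G ⊗ G).left.residueField q)) :=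
    inferInstanceAs (Nonempty (PrimeSpectrum ((G ⊗ G).left.residueField q)))
  have hq : qh.left.base o = q := ((G ⊗ G).left.range_fromSpecResidueField q).le ⟨o, rfl⟩
  refine ⟨L.left.base o, ?_, ?_⟩
  · change (L ≫ fst G _).left.base o = _
    rw [lift_fst]
    exact congrArg (fst G G).left.base hq
  · change (L ≫ (sigma _).hom ≫ fst G _).left.base o = _
    have : L ≫ (sigma _).hom ≫ fst G _ = qh ≫ snd G G := by
      have hμ : μ[G] = fst G G * snd G G := by rw [Hom.mul_def, lift_fst_snd, Category.id_comp]
      simp [sigma, L, MonObj.comp_mul, GrpObj.comp_inv, hv, hμ]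
    rw [this]
    exact congrArg (snd G G).left.base hq

/-- The closure of a quasi-compact open is open. -/
theorem isOpen_closure (W : G.left.Opens) (hW : IsCompact (W : Set G.left)) :
    IsOpen (closure (W : Set G.left)) := by
  haveI : IsSeparated G.hom := SGA3xLib.isSeparated_of_grpObj G
  haveI : IsSeparated (terminal.from G.left) := by
    rw [← terminal.comp_from G.hom]; infer_instance
  haveI : G.left.IsSeparated := ⟨inferInstance⟩
  have hret : IsRetrocompact (W : Set G.left) := fun V hV hVo =>
    QuasiSeparatedSpace.inter_isCompact (W : Set G.left) V W.isOpen hW hVo hV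
  let T : Over (Spec (CommRingCat.of k)) := Over.mk ((Z₀ G).subschemeι ≫ G.hom)
  let j : T ⟶ G := Over.homMk (Z₀ G).subschemeι
  let h : G ⊗ T ⟶ G := fst G T * (snd G T ≫ j)
  let sh : G ⊗ T ≅ G ⊗ T :=
    { hom := lift h (snd G T)
      inv := lift (fst G T * (snd G T ≫ j)⁻¹) (snd G T)
      hom_inv_id := by
        apply CartesianMonoidalCategory.hom_ext
        · simp [h, MonObj.comp_mul, GrpObj.comp_inv]
        · simp
      inv_hom_id := by
        apply CartesianMonoidalCategory.hom_ext
        · simp [h, MonObj.comp_mul, GrpObj.comp_inv]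
        · simp }
  have hopen : IsOpenMap ⇑h.left := by
    have e : h = sh.hom ≫ fst G T := (lift_fst _ _).symm
    rw [e]
    exact (DenseMul.isOpenMap_fst_left G T).comp ((Over.forget _).mapIso sh).hom.homeomorph.isOpenMap
  suffices closure (W : Set G.left) = ⇑h.left '' (⇑(fst G T).left ⁻¹' (W : Set G.left)) by
    rw [this]; exact hopen _ (W.isOpen.preimage (fst G T).left.continuous)
  let m : G ⊗ T ⟶ G ⊗ G := lift (fst G T) (snd G T ≫ j)
  have hm : h = m ≫ μ[G] := Hom.mul_def _ _
  have hrm : Set.range ⇑m.left = ⇑(snd G G).left ⁻¹' irreducibleComponent (e₀ G) := by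
    have e : m.left = pullback.map G.hom T.hom G.hom G.hom (𝟙 _) j.left (𝟙 _) (by simp) (by simp [T, j]) := by
      apply pullback.hom_ext
      · rw [pullback.lift_fst, Category.comp_id]
        exact congrArg Over.Hom.left (lift_fst (fst G T) (snd G T ≫ j))
      · rw [pullback.lift_snd]
        exact congrArg Over.Hom.left (lift_snd (fst G T) (snd G T ≫ j))
    rw [e, Scheme.Pullback.range_map, show Set.range ⇑j.left = irreducibleComponent (e₀ G) from range_Z₀ G]
    simp
  refine Set.Subset.antisymm (fun y hy => ?_) ?_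
  · obtain ⟨z, hzW, hzy⟩ := SGA3cLib.exists_specializes_of_mem_closure W hret hy
    obtain ⟨θ, hθ, hθmax⟩ := DimLib.exists_maximal_specializes z
    obtain ⟨ω, hωmax, hωy, hωσ, -⟩ := exists_generic_lift G y
    have hθω : (fst G (ptObj y)).left.base ω = θ := uniqueMax G y _ _ hωmax hθmax hωy (hθ.trans hzy)
    obtain ⟨q, ⟨hq1, hq2⟩, hq3⟩ := DenseMul.mem_mul_of_mem (U := (W : Set G.left))
      (V := irreducibleComponent (e₀ G)) y ω (hθω ▸ hθ.mem_open W.isOpen hzW) hωσ
    obtain ⟨t, rfl⟩ : q ∈ Set.range ⇑m.left := hrm.ge hq2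
    refine ⟨t, ?_, ?_⟩
    · have := hq1
      change (m ≫ fst G G).left.base t ∈ (W : Set G.left) at this
      rw [lift_fst] at this
      exact this
    · rw [hm]; exact hq3
  · rintro _ ⟨t, ht, rfl⟩
    obtain ⟨ω, hωmax, hωy, -, hω⟩ := exists_generic_lift G (h.left.base t)
    obtain ⟨r, hr1, hr2⟩ := exists_of_mul G (h.left.base t) (m.left.base t) (by rw [hm]; rfl)
    have hrσ : (fst G (ptObj (h.left.base t))).left.base ((sigma (h.left.base t)).hom.left.base r) ∈
        irreducibleComponent (e₀ G) := hr2 ▸ hrm.le ⟨t, rfl⟩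
    have hrW : (fst G (ptObj (h.left.base t))).left.base r ∈ (W : Set G.left) := by
      rw [hr1]
      change (m ≫ fst G G).left.base t ∈ _
      rw [lift_fst]
      exact ht
    have hW' := ((hω r hrσ).map (fst G (ptObj (h.left.base t))).left.continuous).mem_open W.isOpen hrW
    exact closure_mono (Set.singleton_subset_iff.2 hW') hωy.mem_closure

/-- The connected component of the unit is irreducible. -/
theorem connectedComponent_eq : connectedComponent (e₀ G) = irreducibleComponent (e₀ G) := by
  refine Set.Subset.antisymm (fun y hy => ?_) ?_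
  case refine_2 => exact _root_.IsPreconnected.subset_connectedComponent isIrreducible_irreducibleComponent.isPreirreducible.isPreconnected mem_irreducibleComponent
  obtain ⟨θ, hθ, hθmax⟩ := DimLib.exists_genericPoint_of_mem_components
    (irreducibleComponent_mem_irreducibleComponents (e₀ G))
  obtain ⟨θ', hθ', hθ'max⟩ := DimLib.exists_maximal_specializes y
  by_cases e : θ' = θ
  · subst e
    exact hθ.def ▸ hθ'.mem_closure
  exfalso
  have : ¬ θ' ⤳ θ := fun h => e (hθmax _ h).symm
  obtain ⟨U, hU, hθU, hθ'U⟩ := not_specializes_iff_exists_open.1 this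
  obtain ⟨W, (hW : IsAffineOpen W), hθW, hWU⟩ :=
    TopologicalSpace.Opens.isBasis_iff_nbhd.1 G.left.isBasis_affineOpens (U := ⟨U, hU⟩) hθU
  have hclopen : IsClopen (closure (W : Set G.left)) := ⟨isClosed_closure, isOpen_closure G W hW.isCompact⟩
  have he : e₀ G ∈ closure (W : Set G.left) :=
    closure_mono (Set.singleton_subset_iff.2 hθW) (hθ.def.symm ▸ mem_irreducibleComponent)
  have hy' := hclopen.connectedComponent_subset he hy
  haveI : IsSeparated G.hom := SGA3xLib.isSeparated_of_grpObj G
  haveI : IsSeparated (terminal.from G.left) := by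
    rw [← terminal.comp_from G.hom]; infer_instance
  haveI : G.left.IsSeparated := ⟨inferInstance⟩
  have hret : IsRetrocompact (W : Set G.left) := fun V hV hVo =>
    QuasiSeparatedSpace.inter_isCompact (W : Set G.left) V W.isOpen hW.isCompact hVo hV
  obtain ⟨z, hzW, hzy⟩ := SGA3cLib.exists_specializes_of_mem_closure W hret hy'
  obtain ⟨θz, hθz, hθzmax⟩ := DimLib.exists_maximal_specializes z
  have := uniqueMax G y _ _ hθzmax hθ'max (hθz.trans hzy) hθ'
  exact hθ'U (hWU (this ▸ hθz.mem_open W.isOpen hzW))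

/-- The unit component is stable under products. -/
theorem mul_mem (q : ↥(G ⊗ G).left) (hq1 : (fst G G).left.base q ∈ irreducibleComponent (e₀ G))
    (hq2 : (snd G G).left.base q ∈ irreducibleComponent (e₀ G)) :
    μ[G].left.base q ∈ irreducibleComponent (e₀ G) := by
  obtain ⟨θ, hθ, hθmax⟩ := DimLib.exists_genericPoint_of_mem_components
    (irreducibleComponent_mem_irreducibleComponents (e₀ G))
  obtain ⟨ω, hωmax, hωy, -, hω⟩ := exists_generic_lift G (μ[G].left.base q)
  obtain ⟨r, hr1, hr2⟩ := exists_of_mul G _ q rfl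
  have h1 := (hω r (hr2 ▸ hq2)).map (fst G (ptObj (μ[G].left.base q))).left.continuous
  rw [hr1] at h1
  have h2 := uniqueMax G ((fst G G).left.base q) _ _ hωmax hθmax h1 (hθ.specializes hq1)
  rw [h2] at hωy
  exact hθ.def.le hωy.mem_closure

/-- The unit component is quasi-compact. -/
theorem isCompact_component : IsCompact (irreducibleComponent (e₀ G)) := by
  obtain ⟨θ, hθ, hθmax⟩ := DimLib.exists_genericPoint_of_mem_components
    (irreducibleComponent_mem_irreducibleComponents (e₀ G))
  obtain ⟨U, (hU : IsAffineOpen U), hθU, -⟩ :=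
    TopologicalSpace.Opens.isBasis_iff_nbhd.1 G.left.isBasis_affineOpens (U := ⊤) (TopologicalSpace.Opens.mem_top θ)
  let C := irreducibleComponent (e₀ G)
  let S := DenseMul.prodSet (U : Set G.left) (U : Set G.left) ∩ (⇑(fst G G).left ⁻¹' C ∩ ⇑(snd G G).left ⁻¹' C)
  suffices C = ⇑μ[G].left '' S by
    show IsCompact C
    rw [this]
    exact ((DenseMul.isCompact_prodSet U U hU.isCompact hU.isCompact).inter_right
      ((isClosed_irreducibleComponent.preimage (fst G G).left.continuous).inter
        (isClosed_irreducibleComponent.preimage (snd G G).left.continuous))).image μ[G].left.continuous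
  refine Set.Subset.antisymm (fun y hy => ?_) ?_
  · obtain ⟨ω, hωmax, hωy, hωσ, hω⟩ := exists_generic_lift G y
    let P := ptObj y
    let p := (fst G P).left
    let hh : ↥(G ⊗ P).left ≃ₜ ↥(G ⊗ P).left := ((Over.forget _).mapIso (sigma y)).hom.homeomorph
    haveI : Flat p := MorphismProperty.pullback_fst (P := @Flat) (f := G.hom) (g := P.hom)
      (show Flat P.hom from inferInstance)
    have hωθ : p ω = θ := uniqueMax G y _ _ hωmax hθmax hωy (hθ.specializes hy)
    obtain ⟨ω₁, hω₁, hmax₁⟩ := DimLib.exists_maximal_specializes (X := (G ⊗ P).left) ω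
    have hp₁ : p ω₁ = θ := by
      have h := (hω₁.map p.continuous)
      rw [hωθ] at h
      exact (hθmax _ h).symm
    have hσ₁ : p (hh ω₁) = θ := by
      have hm : ∀ z, z ⤳ hh ω₁ → hh ω₁ = z := fun z hz => by
        have := hz.map hh.symm.continuous
        rw [hh.symm_apply_apply] at this
        rw [hmax₁ _ this, hh.apply_symm_apply]
      exact uniqueMax G (p (hh ω)) _ _ (DimLib.isMax_apply_of_flat p hm) hθmax
        ((hω₁.map hh.continuous).map p.continuous) (hθ.specializes hωσ)
    obtain ⟨q, ⟨⟨a1, b1⟩, a2, b2⟩, hq⟩ : ∃ q, q ∈ DenseMul.prodSet ((U : Set G.left) ∩ C) ((U : Set G.left) ∩ C) ∧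
        μ[G].left.base q = y :=
      DenseMul.mem_mul_of_mem y ω₁ (hp₁.symm ▸ ⟨hθU, hθ.mem⟩) (show p (hh ω₁) ∈ _ from hσ₁.symm ▸ ⟨hθU, hθ.mem⟩)
    exact ⟨q, ⟨⟨a1, a2⟩, b1, b2⟩, hq⟩
  · rintro _ ⟨q, ⟨-, hq1, hq2⟩, rfl⟩
    exact mul_mem G q hq1 hq2

end Groth.Agent.AlgGrpLib.ConnComp
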