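import Groth.Agent.SGA3cLib.Components
import Groth.Agent.DimLib.BaseChange
import Groth.Agent.DimLib.Components
import Groth.Agent.VarietyLib.LocalDimPt
import Groth.Prelude.Def_Red
import Mathlib.AlgebraicGeometry.AlgClosed.Basic

/-!
# Group schemes locally of finite type over a field are equidimensional
-/

set_option autoImplicit false
set_option backward.isDefEq.respectTransparency.types false

universe u

open CategoryTheory Limits AlgebraicGeometry MonoidalCategory CartesianMonoidalCategory MonObj GrpObj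

namespace Groth.Agent.AlgGrpLib

/-- A homeomorphism of schemes locally of finite type over fields preserves `trdeg κ(x)`. -/
theorem ptDim_eq_of_homeomorph {k l : Type u} [Field k] [Field l] {X Y : Scheme.{u}}
    (f : X ⟶ Spec (.of k)) (g : Y ⟶ Spec (.of l)) [LocallyOfFiniteType f] [LocallyOfFiniteType g]
    (h : X ≃ₜ Y) (x : X) : DimLib.ptDim g (h x) = DimLib.ptDim f x := by
  let e : X ≃o Y :=
    { toEquiv := h.toEquiv
      map_rel_iff' := by
        intro a b
        simp only [Scheme.le_iff_specializes]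
        exact h.isInducing.specializes_iff }
  have h1 : Order.height (e x) = Order.height x := Order.height_orderIso e x
  rw [DimLib.height_eq_ptDim f x, show e x = h x from rfl, DimLib.height_eq_ptDim g (h x)] at h1
  exact_mod_cast h1

variable {k : Type u} [Field k]

/-- Over an algebraically closed field some homeomorphism moves the unit to a given closed point. -/
theorem exists_homeomorph_of_isClosed [IsAlgClosed k] (G : Over (Spec (CommRingCat.of k))) [GrpObj G]
    [LocallyOfFiniteType G.hom] (x : G.left) (hx : IsClosed ({x} : Set G.left)) :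
    ∃ h : G.left ≃ₜ G.left, h (η[G].left.base (IsLocalRing.closedPoint k)) = x := by
  let y : 𝟙_ (Over (Spec (CommRingCat.of k))) ⟶ G :=
    Over.homMk (pointOfClosedPoint G.hom x hx) (pointOfClosedPoint_comp G.hom x hx)
  let α : G ≅ G := (GrpObj.mulRight η[G]).symm ≪≫ GrpObj.mulRight y
  have hα : η[G] ≫ α.hom = y := by
    dsimp only [Iso.trans_hom, Iso.symm_hom, α]
    rw [← Category.assoc, ← Iso.eq_comp_inv]
    simp [comp_lift_assoc]
  refine ⟨((Over.forget _).mapIso α).hom.homeomorph, ?_⟩
  have h := congrArg (fun q : 𝟙_ (Over (Spec (CommRingCat.of k))) ⟶ G => q.left.base (IsLocalRing.closedPoint k)) hα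
  exact h.trans (pointOfClosedPoint_apply G.hom x hx _)

/-- All maximal points of a group scheme over an algebraically closed field have the same dimension. -/
theorem ptDim_eq_of_maximal_aux [IsAlgClosed k] (G : Over (Spec (CommRingCat.of k))) [GrpObj G]
    [LocallyOfFiniteType G.hom] {ζ₁ ζ₂ : G.left} (h₁ : ∀ z : G.left, z ⤳ ζ₁ → ζ₁ = z)
    (h₂ : ∀ z : G.left, z ⤳ ζ₂ → ζ₂ = z) : DimLib.ptDim G.hom ζ₁ = DimLib.ptDim G.hom ζ₂ := by
  obtain ⟨θ, hθ, hθmax⟩ := DimLib.exists_maximal_specializes (η[G].left.base (IsLocalRing.closedPoint k))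
  suffices ∀ ζ : G.left, (∀ z : G.left, z ⤳ ζ → ζ = z) → DimLib.ptDim G.hom ζ = DimLib.ptDim G.hom θ from
    (this ζ₁ h₁).trans (this ζ₂ h₂).symm
  intro ζ hζ
  obtain ⟨x, hx, hxc⟩ := DimLib.exists_isClosed_singleton_mem G.hom (S := closure {ζ})
    ⟨ζ, subset_closure rfl⟩ isClosed_closure.isLocallyClosed
  obtain ⟨h, he⟩ := exists_homeomorph_of_isClosed G x hxc
  have e : ζ = h θ := by
    refine SGA3cLib.eq_of_specializes_of_homogeneous (SGA3cLib.regAction G) (SGA3cLib.surjective_regAction G)
      (z := x) ?_ ?_ (specializes_iff_mem_closure.2 hx) (he ▸ hθ.map h.continuous)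
    · exact VarietyLib.mem_genericPoints_iff.2 fun z hz => (hζ z hz).symm
    · exact SGA3cLib.homeomorph_mem_genericPoints h
        (VarietyLib.mem_genericPoints_iff.2 fun z hz => (hθmax z hz).symm)
  rw [e]
  exact ptDim_eq_of_homeomorph G.hom G.hom h θ

/-- All maximal points of a group scheme locally of finite type over a field have the same dimension. -/
theorem ptDim_eq_topologicalKrullDim_of_maximal (G : Over (Spec (CommRingCat.of k))) [GrpObj G]
    [LocallyOfFiniteType G.hom] {ζ : G.left} (h : ∀ z : G.left, z ⤳ ζ → ζ = z) :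
    (DimLib.ptDim G.hom ζ : WithBot ℕ∞) = topologicalKrullDim G.left := by
  refine le_antisymm (DimLib.ptDim_le_topologicalKrullDim G.hom ζ) ?_
  refine DimLib.topologicalKrullDim_le_of_forall_maximal G.hom _ fun ζ' h' => ?_
  let K := AlgebraicClosure k
  let s : Spec (CommRingCat.of K) ⟶ Spec (CommRingCat.of k) := Spec.map (CommRingCat.ofHom (algebraMap k K))
  let GK : Over (Spec (CommRingCat.of K)) := Red.bc s G
  haveI : LocallyOfFiniteType GK.hom := inferInstanceAs (LocallyOfFiniteType (pullback.snd G.hom s))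
  have key : ∀ x : G.left, (∀ z : G.left, z ⤳ x → x = z) → ∃ z : GK.left, (∀ w : GK.left, w ⤳ z → z = w) ∧
      DimLib.ptDim GK.hom z = DimLib.ptDim G.hom x := by
    intro x hx
    obtain ⟨z₀, hz₀, -⟩ := DimLib.exists_bc_point G.hom K x
    obtain ⟨z, hz, hmax⟩ := DimLib.exists_maximal_specializes (X := GK.left) z₀
    have hzx : DimLib.bcFst G.hom K z = x :=
      (hx _ (hz₀ ▸ hz.map (DimLib.bcFst G.hom K).continuous)).symm
    refine ⟨z, hmax, ?_⟩
    rw [← hzx]
    exact DimLib.ptDim_bc_eq_of_maximal G.hom K fun w hw _ => hmax w hw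
  obtain ⟨z, hz, ez⟩ := key ζ h
  obtain ⟨z', hz', ez'⟩ := key ζ' h'
  rw [← ez, ← ez', ptDim_eq_of_maximal_aux GK hz' hz]

/-- The local dimension of a group scheme is its dimension at every point. -/
theorem localDim_eq_topologicalKrullDim (G : Over (Spec (CommRingCat.of k))) [GrpObj G]
    [LocallyOfFiniteType G.hom] (x : G.left) :
    FlatMor.localDim G.left x = topologicalKrullDim G.left := by
  refine le_antisymm ((iInf_le _ ⟨⊤, trivial⟩).trans
    (Homeomorph.isHomeomorph (Homeomorph.Set.univ G.left)).topologicalKrullDim_eq.le) (le_iInf fun U => ?_)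
  obtain ⟨U, hxU⟩ := U
  obtain ⟨ζ, hζ, hmax⟩ := DimLib.exists_maximal_specializes x
  let V : G.left.Opens := U
  let z : (V : Scheme.{u}) := ⟨ζ, hζ.mem_open U.isOpen hxU⟩
  calc topologicalKrullDim G.left = (DimLib.ptDim G.hom ζ : WithBot ℕ∞) :=
        (ptDim_eq_topologicalKrullDim_of_maximal G hmax).symm
    _ = (DimLib.ptDim (V.ι ≫ G.hom) z : WithBot ℕ∞) := by
        rw [DimLib.ptDim_comp_preimmersion G.hom V.ι z]; rfl
    _ ≤ topologicalKrullDim ↥(V : Scheme.{u}) := DimLib.ptDim_le_topologicalKrullDim (V.ι ≫ G.hom) z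
    _ ≤ _ := le_rfl

/-- `dim O_{G,x} = dim G` at a closed point. -/
theorem ringKrullDim_stalk_of_isClosed (G : Over (Spec (CommRingCat.of k))) [GrpObj G]
    [LocallyOfFiniteType G.hom] (x : G.left) (hx : IsClosed ({x} : Set G.left)) :
    ringKrullDim (G.left.presheaf.stalk x) = topologicalKrullDim G.left := by
  have h := VarietyLib.localDim_eq_stalk_add_ptDim G.hom x
  rw [localDim_eq_topologicalKrullDim G x, (DimLib.ptDim_eq_zero_iff G.hom x).2 hx] at h
  simpa using h.symm

end Groth.Agent.AlgGrpLib
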