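import Groth.Prelude.Def_AlgGrp
import Groth.Agent.AlgGrpLib.MultTypeAction2
import Groth.Agent.AlgGrpLib.HomFlatRed
import Groth.Agent.AlgGrpLib.SubGrpMono
import Groth.Agent.AlgGrpLib.OrbitDim
import Groth.Agent.DimLib.Morphism
import Groth.Agent.RedSepLib.Immersion
import Groth.Agent.Props12.KerReduced
import Groth.Agent.S7982
import Groth.Agent.S15604
import Groth.Agent.S15593
import Groth.Agent.S18027
import Groth.Agent.S18825

/-!
# Largest smooth connected normal subgroups with a property stable under extensions and quotients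
-/

set_option autoImplicit false
set_option backward.isDefEq.respectTransparency.types false
set_option maxHeartbeats 800000

universe u

open CategoryTheory CategoryTheory.Limits MonoidalCategory CartesianMonoidalCategory MonObj GrpObj AlgebraicGeometry

namespace Groth.Agent.AlgGrpLib.LargestNormal

variable {k : Type u} [Field k]

/-- A property of group schemes. -/
abbrev GrpProp (k : Type u) [Field k] := ∀ (E : Over (Spec (CommRingCat.of k))) [GrpObj E], Prop

/-- A smooth connected normal closed subgroup with the property `P`. -/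
structure Good (P : GrpProp k) (G : Over (Spec (CommRingCat.of k))) [GrpObj G] where
  obj : Over (Spec (CommRingCat.of k))
  grp : GrpObj obj
  emb : obj ⟶ G
  isHom : IsMonHom emb
  closed : IsClosedImmersion emb.left
  smooth : Smooth obj.hom
  conn : ConnectedSpace obj.left
  normal : AlgGrp.IsNormalHom emb
  prop : P obj

/-- Stability under extensions. -/
def ExtStable (P : GrpProp k) : Prop :=
  ∀ (N E Q : Over (Spec (CommRingCat.of k))) [GrpObj N] [GrpObj E] [GrpObj Q]
    [LocallyOfFiniteType N.hom] [QuasiCompact N.hom] [LocallyOfFiniteType E.hom] [QuasiCompact E.hom]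
    [LocallyOfFiniteType Q.hom] [QuasiCompact Q.hom]
    (i : N ⟶ E) (q : E ⟶ Q) [IsMonHom i] [IsMonHom q] [Flat q.left] [Surjective q.left],
    AlgGrp.IsKernel i q → P N → P Q → P E

/-- Stability under quotients. -/
def QuotStable (P : GrpProp k) : Prop :=
  ∀ (E Q : Over (Spec (CommRingCat.of k))) [GrpObj E] [GrpObj Q] [LocallyOfFiniteType E.hom] [QuasiCompact E.hom]
    [LocallyOfFiniteType Q.hom] [QuasiCompact Q.hom]
    (q : E ⟶ Q) [IsMonHom q] [Flat q.left] [Surjective q.left], P E → P Q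

variable {P : GrpProp k} {G : Over (Spec (CommRingCat.of k))} [GrpObj G] [LocallyOfFiniteType G.hom]
  [QuasiCompact G.hom]

theorem exists_conj (j : Good P G) {T : Over (Spec (CommRingCat.of k))} (g : T ⟶ G) (n : T ⟶ j.obj) :
    ∃ n' : T ⟶ j.obj, g * (n ≫ j.emb) * g⁻¹ = n' ≫ j.emb :=
  letI := j.grp
  j.normal T g n

/-- Two good subgroups are contained in a third one. -/
theorem exists_sup (hPa : ExtStable P) (hPb : QuotStable P) (A B : Good P G) :
    ∃ M : Good P G, (∃ f : A.obj ⟶ M.obj, f ≫ M.emb = A.emb) ∧ ∃ f : B.obj ⟶ M.obj, f ≫ M.emb = B.emb := by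
  obtain ⟨H, hHgrp, j, hj, hjc, hHs, hHc, hHn, hHP⟩ := A
  obtain ⟨H', hH'grp, j', hj', hj'c, hH's, hH'c, hH'n, hH'P⟩ := B
  dsimp only
  haveI : Mono j.left := inferInstance
  haveI : Mono j := Over.mono_of_mono_left j
  haveI : LocallyOfFiniteType H.hom := by rw [← Over.w j]; infer_instance
  haveI : LocallyOfFiniteType H'.hom := by rw [← Over.w j']; infer_instance
  haveI : QuasiCompact H.hom := by rw [← Over.w j]; infer_instance
  haveI : QuasiCompact H'.hom := by rw [← Over.w j']; infer_instance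
  -- conjugation of `H'` on `H`
  obtain ⟨m, hm⟩ := hHn (H' ⊗ H) (fst H' H ≫ j') (snd H' H)
  have hmT : ∀ {W : Over (Spec (CommRingCat.of k))} (g : W ⟶ H') (h : W ⟶ H),
      lift g h ≫ m ≫ j = (g ≫ j') * (h ≫ j) * (g ≫ j')⁻¹ := fun g h => by
    rw [← hm, MonObj.comp_mul, MonObj.comp_mul, GrpObj.comp_inv, lift_fst_assoc, lift_snd_assoc]
  obtain ⟨a, ha⟩ := MultTypeAct.exists_action m
    (fun x => by rw [← cancel_mono j, Category.assoc, hmT, MonObj.one_comp, _root_.one_mul, _root_.inv_one,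
      _root_.mul_one])
    (fun g g' x => by
      rw [← cancel_mono j, Category.assoc, Category.assoc, hmT, hmT, MonObj.mul_comp, Category.assoc, hmT,
        _root_.mul_inv_rev]
      simp only [_root_.mul_assoc])
  have haT : ∀ {W : Over (Spec (CommRingCat.of k))} (g : W ⟶ H') (h : W ⟶ H),
      (lift g h ≫ a.act) ≫ j = (g ≫ j') * (h ≫ j) * (g ≫ j')⁻¹ := fun g h => by
    rw [ha, Category.assoc, hmT]
  have hga : MultTypeAct.IsGrpAction a := fun T g h h' => by
    rw [← cancel_mono j, MonObj.mul_comp, haT, haT, haT, MonObj.mul_comp]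
    simp only [_root_.mul_assoc, _root_.inv_mul_cancel_left]
  -- the semidirect product
  letI := MultTypeAct.sdGrp hga
  let E := MultTypeAct.sdObj H H'
  haveI : LocallyOfFiniteType E.hom :=
    inferInstanceAs (LocallyOfFiniteType (pullback.fst H.hom H'.hom ≫ H.hom))
  haveI : QuasiCompact E.hom := inferInstanceAs (QuasiCompact (pullback.fst H.hom H'.hom ≫ H.hom))
  let i₀ : H ⟶ E := MultTypeAct.pair (𝟙 H) 1
  let q₀ : E ⟶ H' := MultTypeAct.π₂ H H'
  haveI : IsMonHom q₀ := MultTypeAct.isMonHom_of_map_mul q₀ fun x y => by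
    rw [MultTypeAct.sd_mul hga, MultTypeAct.pair_π₂]
  haveI : IsMonHom i₀ := MultTypeAct.isMonHom_of_map_mul i₀ fun x y => by
    rw [MultTypeAct.sd_mul hga, MultTypeAct.comp_pair, MultTypeAct.comp_pair, MultTypeAct.comp_pair,
      MultTypeAct.pair_π₁, MultTypeAct.pair_π₂, MultTypeAct.pair_π₁, MultTypeAct.pair_π₂, Category.comp_id,
      Category.comp_id, Category.comp_id]
    simp only [MonObj.comp_one, _root_.one_mul]
    congr 1
    congr 1
    rw [← cancel_mono j, haT]
    simp [MonObj.one_comp]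
  haveI : Mono i₀ := ⟨fun x y h => by
    have h2 := congrArg (· ≫ MultTypeAct.π₁ H H') h
    simpa [i₀, MultTypeAct.comp_pair] using h2⟩
  haveI : Surjective q₀.left := ⟨fun x => ⟨(MultTypeAct.pair (1 : H' ⟶ H) (𝟙 H')).left x, by
    have e : MultTypeAct.pair (1 : H' ⟶ H) (𝟙 H') ≫ q₀ = 𝟙 H' := MultTypeAct.pair_π₂ _ _
    exact congrArg (fun f : H' ⟶ H' => f.left x) e⟩⟩
  haveI : Flat q₀.left := inferInstanceAs (Flat (pullback.snd H.hom H'.hom))
  have hk₀ : AlgGrp.IsKernel i₀ q₀ := by
    refine isKernel_of_points i₀ q₀ (MultTypeAct.pair_π₂ _ _) fun T g hg => ⟨g ≫ MultTypeAct.π₁ H H', ?_⟩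
    refine MultTypeAct.pair_ext ?_ ?_
    · rw [Category.assoc, MultTypeAct.pair_π₁, Category.comp_id]
    · rw [Category.assoc, MultTypeAct.pair_π₂, MonObj.comp_one]
      exact hg.symm
  have hPE : P E := hPa H E H' i₀ q₀ hk₀ hHP hH'P
  obtain ⟨-, hsm, hco⟩ := Groth.Agent.S7982.result k H E H' i₀ q₀ hk₀
  haveI : Smooth E.hom := hsm hHs hH's
  haveI : ConnectedSpace E.left := hco hHc hH'c
  -- its image
  let f : E ⟶ G := (MultTypeAct.π₁ H H' ≫ j) * (MultTypeAct.π₂ H H' ≫ j')
  have hfT : ∀ {W : Over (Spec (CommRingCat.of k))} (x : W ⟶ E),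
      x ≫ f = ((x ≫ MultTypeAct.π₁ H H') ≫ j) * ((x ≫ MultTypeAct.π₂ H H') ≫ j') := fun x => by
    simp only [f, MonObj.comp_mul, Category.assoc]
  haveI : IsMonHom f := MultTypeAct.isMonHom_of_map_mul f fun x y => by
    rw [hfT, hfT, hfT, MultTypeAct.sd_mul hga, MultTypeAct.pair_π₁, MultTypeAct.pair_π₂, MonObj.mul_comp,
      MonObj.mul_comp, haT]
    simp only [_root_.mul_assoc, _root_.inv_mul_cancel_left]
  haveI : QuasiCompact f.left := quasiCompact_left f
  let C : TopologicalSpace.Closeds G.left := ⟨closure (Set.range f.left), isClosed_closure⟩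
  let I := Scheme.IdealSheafData.vanishingIdeal C
  let M : Over (Spec (CommRingCat.of k)) := Over.mk (I.subschemeι ≫ G.hom)
  let i : M ⟶ G := Over.homMk I.subschemeι rfl
  haveI hci : IsClosedImmersion i.left := inferInstanceAs (IsClosedImmersion I.subschemeι)
  haveI : Mono i.left := inferInstance
  haveI : Mono i := Over.mono_of_mono_left i
  have hrange : Set.range i.left.base = closure (Set.range f.left) := by
    change Set.range I.subschemeι = _
    rw [Scheme.IdealSheafData.range_subschemeι]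
    rfl
  haveI : IsReduced M.left := (Props12.isReduced_subscheme_vanishingIdeal C : IsReduced I.subscheme)
  haveI : LocallyOfFiniteType M.hom := inferInstanceAs (LocallyOfFiniteType (I.subschemeι ≫ G.hom))
  haveI : QuasiCompact M.hom := inferInstanceAs (QuasiCompact (I.subschemeι ≫ G.hom))
  haveI : IsReduced E.left := AbSchLib.isReduced_of_smooth E.hom
  obtain ⟨g', hg'⟩ := RedSepLib.exists_lift_of_range_subset f.left i.left (hrange ▸ subset_closure)
  let g : E ⟶ M := Over.homMk g' (by rw [← Over.w i, ← Category.assoc, hg', Over.w])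
  have hg : g ≫ i = f := Over.OverMorphism.ext hg'
  haveI : IsDominant g.left := by
    refine ⟨fun x => ?_⟩
    rw [i.left.isClosedEmbedding.isInducing.closure_eq_preimage_closure_image, Set.mem_preimage]
    refine closure_mono ?_ (hrange.le ⟨x, rfl⟩)
    rintro _ ⟨t, rfl⟩
    exact ⟨g.left t, ⟨t, rfl⟩, by rw [← hg]; rfl⟩
  haveI : IsSchemeTheoreticallyDominant g.left := IsSchemeTheoreticallyDominant.of_isDominant g.left
  obtain ⟨⟨⟨e, he⟩, hsub⟩, hgs⟩ := Groth.Agent.S18825.result k E G M f i g hg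
  have he1 : e ≫ i = 1 := he.trans (MonObj.one_eq_one G)
  obtain ⟨v, hv⟩ : ∃ v : M ⟶ M, v ≫ i = i⁻¹ := by
    obtain ⟨k₃, hk₃⟩ := hsub M (𝟙 M) (toUnit M ≫ e)
    exact ⟨k₃, by rw [hk₃, Category.id_comp, Category.assoc, he1, MonObj.comp_one, _root_.mul_one]⟩
  obtain ⟨inst, hi⟩ := exists_grpObj_of_mono i ⟨e, he1⟩ (by
    obtain ⟨k₃, hk₃⟩ := hsub (M ⊗ M) (fst M M ≫ v) (snd M M)
    exact ⟨k₃, by rw [hk₃, Category.assoc, hv, GrpObj.comp_inv, _root_.inv_inv]⟩) ⟨v, hv⟩
  haveI : IsMonHom g := MultTypeAct.isMonHom_of_map_mul g fun x y => by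
    rw [← cancel_mono i, Category.assoc, hg, MonObj.mul_comp, MonObj.mul_comp, Category.assoc, Category.assoc, hg]
  have hrg : Set.range i.left.base = Set.range f.left.base := by
    refine Set.Subset.antisymm ?_ ?_
    · rintro _ ⟨x, rfl⟩
      obtain ⟨t, rfl⟩ := hgs.surj x
      exact ⟨t, by rw [← hg]; rfl⟩
    · rw [← hg]
      rintro _ ⟨t, rfl⟩
      exact ⟨g.left t, rfl⟩
  haveI hMs : Smooth M.hom := by
    rw [← Over.w i]
    exact Groth.Agent.S15604.result k E G f M.left i.left hrg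
  haveI : GeometricallyReduced M.hom := AbSchLib.geometricallyReduced_of_smooth _
  haveI : Flat g.left := flat_hom_of_surjective g
  haveI : QuasiCompact g.left := quasiCompact_left g
  have hPM : P M := hPb E M g hPE
  haveI : ConnectedSpace M.left :=
    hgs.surj.connectedSpace g.left.continuous
  have hnorm : AlgGrp.IsNormalHom i := by
    intro T gg n
    obtain ⟨T', c, x, _, _, _, hx⟩ := exists_lift_cover g n
    obtain ⟨n₁, hn₁⟩ := hHn T' (c ≫ gg) (x ≫ MultTypeAct.π₁ H H')
    obtain ⟨n₂, hn₂⟩ := hH'n T' (c ≫ gg) (x ≫ MultTypeAct.π₂ H H')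
    have key : (MultTypeAct.pair n₁ n₂ ≫ g) ≫ i = c ≫ (gg * (n ≫ i) * gg⁻¹) := by
      rw [Category.assoc, hg, hfT, MultTypeAct.pair_π₁, MultTypeAct.pair_π₂, ← hn₁, ← hn₂,
        MonObj.comp_mul, MonObj.comp_mul, GrpObj.comp_inv, ← Category.assoc c n i, ← hx, Category.assoc x g i, hg, hfT]
      simp only [_root_.mul_assoc, _root_.inv_mul_cancel_left]
    obtain ⟨y, hy⟩ := exists_factor_of_cover c i _ _ key
    exact ⟨y, hy.symm⟩
  refine ⟨⟨M, inst, i, hi, hci, hMs, inferInstance, hnorm, hPM⟩, ⟨i₀ ≫ g, ?_⟩, ⟨MultTypeAct.pair 1 (𝟙 H') ≫ g, ?_⟩⟩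
  · rw [Category.assoc, hg, hfT, MultTypeAct.pair_π₁, MultTypeAct.pair_π₂, MonObj.one_comp, _root_.mul_one,
      Category.id_comp]
  · rw [Category.assoc, hg, hfT, MultTypeAct.pair_π₁, MultTypeAct.pair_π₂, MonObj.one_comp, _root_.one_mul,
      Category.id_comp]

/-- An inclusion of good subgroups of the same dimension is an equality. -/
theorem exists_inv_of_dim (A M : Good P G) (f : A.obj ⟶ M.obj) (hf : f ≫ M.emb = A.emb)
    (hd : topologicalKrullDim M.obj.left ≤ topologicalKrullDim A.obj.left) :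
    ∃ f' : M.obj ⟶ A.obj, f' ≫ A.emb = M.emb := by
  obtain ⟨H, hHgrp, j, hj, hjc, hHs, hHc, hHn, hHP⟩ := A
  obtain ⟨N, hNgrp, i, hi, hic, hNs, hNc, hNn, hNP⟩ := M
  dsimp only at *
  haveI : Mono i.left := inferInstance
  haveI : Mono i := Over.mono_of_mono_left i
  haveI : IsMonHom f := MultTypeAct.isMonHom_of_map_mul f fun x y => by
    rw [← cancel_mono i, Category.assoc, hf, MonObj.mul_comp, MonObj.mul_comp, Category.assoc, Category.assoc, hf]
  haveI : IsClosedImmersion f.left := by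
    haveI : IsClosedImmersion (f.left ≫ i.left) := by rw [← Over.comp_left, hf]; infer_instance
    exact IsClosedImmersion.of_comp f.left i.left
  haveI : QuasiCompact H.hom := by rw [← Over.w j]; infer_instance
  haveI : QuasiCompact N.hom := by rw [← Over.w i]; infer_instance
  have hdim : topologicalKrullDim H.left = topologicalKrullDim N.left :=
    le_antisymm f.left.isClosedEmbedding.isInducing.topologicalKrullDim_le hd
  have h := Groth.Agent.S18027.result k H N f hdim (IsLocalRing.closedPoint k)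
  rw [PreconnectedSpace.connectedComponent_eq_univ, PreconnectedSpace.connectedComponent_eq_univ,
    Set.image_univ] at h
  haveI : Surjective f.left := ⟨fun x => h.ge trivial⟩
  haveI : Mono f.left := inferInstance
  haveI : Mono f := Over.mono_of_mono_left f
  haveI := Groth.Agent.S15593.result k H N f
  exact ⟨inv f, by rw [← hf, IsIso.inv_hom_id_assoc]⟩

/-- There is a largest good subgroup. -/
theorem exists_largest (hPa : ExtStable P) (hPb : QuotStable P) (h0 : Nonempty (Good P G)) :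
    ∃ H : Good P G, ∀ A : Good P G, ∃ f : A.obj ⟶ H.obj, f ≫ H.emb = A.emb := by
  classical
  haveI : CompactSpace ↥G.left := QuasiCompact.compactSpace_of_compactSpace G.hom
  obtain ⟨N, hN⟩ := OrbitDim.exists_bound_ptDim G.hom
  have hle : ∀ A : Good P G, topologicalKrullDim A.obj.left ≤ ((N : ℕ∞) : WithBot ℕ∞) := fun A => by
    haveI := A.closed
    refine A.emb.left.isClosedEmbedding.isInducing.topologicalKrullDim_le.trans ?_
    exact DimLib.topologicalKrullDim_le_of_forall_maximal G.hom _ fun x _ => WithBot.coe_le_coe.2 (by exact_mod_cast hN x)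
  have hnat : ∀ A : Good P G, ∃ n : ℕ, n ≤ N ∧ topologicalKrullDim A.obj.left = ((n : ℕ∞) : WithBot ℕ∞) := fun A => by
    haveI := A.conn
    have h1 := hle A
    haveI := A.smooth
    obtain ⟨x⟩ : Nonempty A.obj.left := inferInstance
    have h2 : 0 ≤ topologicalKrullDim A.obj.left :=
      le_trans (WithBot.coe_le_coe.2 bot_le) (DimLib.ptDim_le_topologicalKrullDim A.obj.hom x)
    generalize topologicalKrullDim A.obj.left = d at h1 h2 ⊢
    induction d using WithBot.recBotCoe with
    | bot => exact absurd h2 (by simp)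
    | coe d =>
      obtain ⟨n, rfl⟩ := ENat.ne_top_iff_exists.1 (ne_top_of_le_ne_top (ENat.natCast_ne_top N)
        (WithBot.coe_le_coe.1 h1))
      exact ⟨n, by exact_mod_cast WithBot.coe_le_coe.1 h1, rfl⟩
  choose d hdN hd using hnat
  obtain ⟨A₀⟩ := h0
  let p : ℕ → Prop := fun n => ∃ A : Good P G, d A = n
  have hp : p (Nat.findGreatest p N) := Nat.findGreatest_spec (hdN A₀) ⟨A₀, rfl⟩
  obtain ⟨H, hH⟩ := hp
  refine ⟨H, fun A => ?_⟩
  obtain ⟨M, ⟨f, hf⟩, f₂, hf₂⟩ := exists_sup hPa hPb H A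
  obtain ⟨f', hf'⟩ := exists_inv_of_dim H M f hf (by
    rw [hd, hd, hH]
    exact WithBot.coe_le_coe.2 (by exact_mod_cast Nat.le_findGreatest (P := p) (hdN M) ⟨M, rfl⟩))
  exact ⟨f₂ ≫ f', by rw [Category.assoc, hf', hf₂]⟩

/-- In the quotient by the largest good subgroup all good subgroups are trivial. -/
theorem isIso_unit_of_quotient (hPa : ExtStable P) (H : Good P G)
    (hmax : ∀ A : Good P G, ∃ f : A.obj ⟶ H.obj, f ≫ H.emb = A.emb)
    (Q : Over (Spec (CommRingCat.of k))) [GrpObj Q] [LocallyOfFiniteType Q.hom] [QuasiCompact Q.hom]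
    (q : G ⟶ Q) [IsMonHom q] [Flat q.left] [Surjective q.left] (hk : AlgGrp.IsKernel H.emb q)
    (B : Good P Q) : letI := B.grp; IsIso η[B.obj] := by
  obtain ⟨N, hNgrp, j, hj, hjc, hNs, hNc, hNn, hNP⟩ := H
  obtain ⟨H'', hH''grp, j'', hj'', hj''c, hH''s, hH''c, hH''n, hH''P⟩ := B
  dsimp only at *
  haveI : Mono j.left := inferInstance
  haveI : Mono j := Over.mono_of_mono_left j
  haveI : Mono j''.left := inferInstance
  haveI : Mono j'' := Over.mono_of_mono_left j''
  haveI : LocallyOfFiniteType N.hom := by rw [← Over.w j]; infer_instance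
  haveI : QuasiCompact N.hom := by rw [← Over.w j]; infer_instance
  haveI : LocallyOfFiniteType H''.hom := by rw [← Over.w j'']; infer_instance
  haveI : QuasiCompact H''.hom := by rw [← Over.w j'']; infer_instance
  haveI : QuasiCompact q.left := quasiCompact_left q
  let E := pullback q j''
  let p₁ : E ⟶ G := pullback.fst q j''
  let p₂ : E ⟶ H'' := pullback.snd q j''
  have hsq : IsPullback p₁ p₂ q j'' := IsPullback.of_hasPullback q j''
  have hsqS := hsq.map (Over.forget (Spec (CommRingCat.of k)))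
  haveI : Mono p₁ := inferInstance
  haveI : IsClosedImmersion p₁.left := MorphismProperty.of_isPullback hsqS.flip ‹_›
  haveI : Flat p₂.left := MorphismProperty.of_isPullback hsqS ‹_›
  haveI : Surjective p₂.left := MorphismProperty.of_isPullback hsqS ‹_›
  haveI : QuasiCompact p₂.left := MorphismProperty.of_isPullback hsqS ‹_›
  haveI : LocallyOfFiniteType E.hom := by rw [← Over.w p₁]; infer_instance
  haveI : QuasiCompact E.hom := by rw [← Over.w p₁]; infer_instance
  have hlift : ∀ {T : Over (Spec (CommRingCat.of k))} (g : T ⟶ G) (y : T ⟶ H''), g ≫ q = y ≫ j'' →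
      ∃ x : T ⟶ E, x ≫ p₁ = g := fun g y e => ⟨hsq.lift g y e, hsq.lift_fst _ _ _⟩
  obtain ⟨inst, hp₁⟩ := exists_grpObj_of_mono p₁ (hlift 1 1 (by rw [MonObj.one_comp, MonObj.one_comp]))
    (hlift _ ((fst E E ≫ p₂) * (snd E E ≫ p₂)) (by
      simp only [MonObj.mul_comp, Category.assoc, hsq.w]))
    (hlift _ p₂⁻¹ (by rw [GrpObj.inv_comp, GrpObj.inv_comp, hsq.w]))
  haveI : IsMonHom p₂ := MultTypeAct.isMonHom_of_map_mul p₂ fun x y => by
    rw [← cancel_mono j'', Category.assoc, ← hsq.w, ← Category.assoc, MonObj.mul_comp x y p₁,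
      MonObj.mul_comp _ _ q, MonObj.mul_comp _ _ j'', Category.assoc, Category.assoc, Category.assoc,
      Category.assoc, hsq.w]
  let i₀ : N ⟶ E := hsq.lift j 1 (by rw [kernel_comp hk, MonObj.one_comp])
  have hi₀ : i₀ ≫ p₁ = j := hsq.lift_fst _ _ _
  haveI : IsMonHom i₀ := MultTypeAct.isMonHom_of_map_mul i₀ fun x y => by
    rw [← cancel_mono p₁, Category.assoc, hi₀, MonObj.mul_comp, MonObj.mul_comp, Category.assoc, Category.assoc, hi₀]
  haveI : Mono i₀ := by
    haveI : Mono (i₀ ≫ p₁) := by rw [hi₀]; infer_instance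
    exact mono_of_mono i₀ p₁
  have hk₀ : AlgGrp.IsKernel i₀ p₂ := isKernel_of_points i₀ p₂ (hsq.lift_snd _ _ _) fun T g hg => by
    obtain ⟨n, hn⟩ := exists_lift_kernel hk (g := g ≫ p₁) (by
      rw [Category.assoc, hsq.w, ← Category.assoc, hg, MonObj.one_comp])
    exact ⟨n, by rw [← cancel_mono p₁, Category.assoc, hi₀, hn]⟩
  obtain ⟨-, hsm, hco⟩ := Groth.Agent.S7982.result k N E H'' i₀ p₂ hk₀
  have hEn : AlgGrp.IsNormalHom p₁ := fun T g n => by
    obtain ⟨n', hn'⟩ := hH''n T (g ≫ q) (n ≫ p₂)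
    obtain ⟨x, hx⟩ := hlift (g * (n ≫ p₁) * g⁻¹) n' (by
      rw [MonObj.mul_comp, MonObj.mul_comp, GrpObj.inv_comp, Category.assoc, hsq.w, ← hn', Category.assoc])
    exact ⟨x, hx.symm⟩
  obtain ⟨f, hf⟩ := hmax ⟨E, inst, p₁, hp₁, inferInstance, hsm hNs hH''s, hco hNc hH''c, hEn,
    hPa N E H'' i₀ p₂ hk₀ hNP hH''P⟩
  dsimp only at hf
  have e1 : p₂ ≫ j'' = 1 := by rw [← hsq.w, ← hf, Category.assoc, kernel_comp hk, MonObj.comp_one]
  haveI : EffectiveEpi p₂.left := inferInstance
  haveI : Epi p₂ := Over.epi_of_epi_left p₂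
  have e2 : j'' = 1 := by rw [← cancel_epi p₂, e1, MonObj.comp_one]
  have e3 : 𝟙 H'' = 1 := by rw [← cancel_mono j'', Category.id_comp, MonObj.one_comp]; exact e2
  refine ⟨toUnit H'', toUnit_unique _ _, ?_⟩
  rw [e3, Hom.one_def]

end Groth.Agent.AlgGrpLib.LargestNormal
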