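import Groth.Agent.AlgGrpLib.AffineHullFT
import Groth.Agent.AlgGrpLib.KernelGrp
import Groth.Agent.SGA3cLib.DiagPoints

/-! The affinization theorem for algebraic groups over a field. -/

universe u

set_option autoImplicit false
set_option backward.isDefEq.respectTransparency.types false
set_option maxHeartbeats 800000

open CategoryTheory CategoryTheory.Limits MonoidalCategory CartesianMonoidalCategory MonObj GrpObj AlgebraicGeometry
open Groth.Agent.HopfQuot

namespace Groth.Agent.AlgGrpLib.AffineHull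

variable {k : Type u} [Field k] (G : Over (Spec (CommRingCat.of k))) [GrpObj G] [LocallyOfFiniteType G.hom]
  [QuasiCompact G.hom]

theorem affinization :
    ∃ _ : GrpObj (affOf G), IsMonHom (toAffOf G) ∧ Surjective (toAffOf G).left ∧ Flat (toAffOf G).left ∧
      LocallyOfFiniteType (affOf G).hom := by
  haveI : CompactSpace G.left := QuasiCompact.compactSpace_of_compactSpace G.hom
  haveI : IsLocallyNoetherian G.left := LocallyOfFiniteType.isLocallyNoetherian G.hom
  haveI : QuasiSeparatedSpace G.left := inferInstance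
  obtain ⟨g, hρ⟩ := exists_grpObj G
  obtain ⟨A, _, _, e, _, _⟩ := exists_spec (k := k) (affOf G)
  haveI : IsIso e.left := inferInstanceAs (IsIso ((Over.forget _).map e))
  haveI : IsIso (CategoryTheory.inv e).left := inferInstanceAs (IsIso ((Over.forget _).map (CategoryTheory.inv e)))
  haveI : IsMonHom (CategoryTheory.inv e) := inferInstanceAs (IsMonHom (asIso e).inv)
  let r : G ⟶ spec (k := k) A := toAffOf G ≫ CategoryTheory.inv e
  have hr : Function.Injective r.left.appTop := by
    rw [show r.left = (toAffOf G).left ≫ (CategoryTheory.inv e).left from rfl, Scheme.Hom.comp_appTop]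
    haveI : IsIso (CategoryTheory.inv e).left.appTop :=
      inferInstanceAs (IsIso (Scheme.Γ.map (CategoryTheory.inv e).left.op))
    exact (bijective_appTop_toAffOf G).1.comp (ConcreteCategory.bijective_of_isIso _).1
  obtain ⟨hft, hs, hf⟩ := finiteType_and_ff r hr
  have hρe : toAffOf G = r ≫ e := by simp [r]
  haveI : LocallyOfFiniteType (spec (k := k) A).hom :=
    (HasRingHomProperty.Spec_iff (P := @LocallyOfFiniteType) (φ := CommRingCat.ofHom (algebraMap k A))).2
      (RingHom.finiteType_algebraMap.2 hft)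
  haveI := hs; haveI := hf
  refine ⟨g, hρ, ?_, ?_, ?_⟩
  · rw [hρe, Over.comp_left]; infer_instance
  · rw [hρe, Over.comp_left]; exact MorphismProperty.comp_mem @Flat _ _ hf inferInstance
  · rw [← Over.w (CategoryTheory.inv e)]; infer_instance

/-- The kernel of the affinization map has no non-constant functions. -/
theorem bijective_appTop_kernel [GrpObj (affOf G)] [IsMonHom (toAffOf G)] [Flat (toAffOf G).left]
    {N : Over (Spec (CommRingCat.of k))} (i : N ⟶ G) (hN : AlgGrp.IsKernel i (toAffOf G)) :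
    Function.Bijective N.hom.appTop := by
  haveI : CompactSpace G.left := QuasiCompact.compactSpace_of_compactSpace G.hom
  haveI : IsLocallyNoetherian G.left := LocallyOfFiniteType.isLocallyNoetherian G.hom
  haveI : QuasiSeparatedSpace G.left := inferInstance
  obtain ⟨z⟩ : Nonempty G.left := ⟨η[G].left (Classical.arbitrary (Spec (CommRingCat.of k)))⟩
  obtain ⟨_, ⟨V, hV, rfl⟩, hzV, -⟩ :=
    G.left.isBasis_affineOpens.exists_subset_of_mem_open (Set.mem_univ z) isOpen_univ
  let E : CommRingCat := Γ(G.left, V)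
  let Z : Over (Spec (CommRingCat.of k)) := Over.mk (hV.fromSpec ≫ G.hom)
  let v : Z ⟶ G := Over.homMk hV.fromSpec
  haveI : Flat hV.fromSpec := inferInstance
  haveI : Flat Z.hom := GrpdLib.flat_to_field Z.hom k (Iso.refl _)
  haveI : IsAffine Z.left := inferInstanceAs (IsAffine (Spec E))
  let ρ := toAffOf G
  let F : N ⊗ Z ⟶ G := (snd N Z ≫ v) * (fst N Z ≫ i)
  have hi : i ≫ ρ = 1 := kernel_comp hN
  have hF : F ≫ ρ = snd N Z ≫ v ≫ ρ := by
    rw [MonObj.mul_comp, Category.assoc (fst N Z), hi, MonObj.comp_one, _root_.mul_one, Category.assoc]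
  have sq : IsPullback F (snd N Z) ρ (v ≫ ρ) := by
    haveI : Mono i := kernel_mono hN
    refine IsPullback.of_isLimit' ⟨hF⟩ (PullbackCone.IsLimit.mk _
      (fun s => lift (hN.lift ((s.snd ≫ v)⁻¹ * s.fst) (toUnit _) (by
        rw [MonObj.mul_comp, GrpObj.inv_comp, s.condition, Category.assoc, inv_mul_cancel, Hom.one_def])) s.snd)
      (fun s => ?_) (fun s => lift_snd _ _) (fun s m h1 h2 => ?_))
    · rw [MonObj.comp_mul, lift_snd_assoc, lift_fst_assoc, hN.lift_fst, mul_inv_cancel_left]
    · refine CartesianMonoidalCategory.hom_ext _ _ ?_ (h2.trans (lift_snd _ _).symm)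
      rw [lift_fst, ← cancel_mono i, hN.lift_fst, Category.assoc, ← h1, ← h2]
      show _ = _ * (m ≫ ((snd N Z ≫ v) * (fst N Z ≫ i)))
      rw [MonObj.comp_mul, Category.assoc m, inv_mul_cancel_left]
  have sq' := sq.map (Over.forget _)
  have hflat : Flat (hV.fromSpec ≫ ρ.left) := MorphismProperty.comp_mem @Flat _ _ inferInstance ‹_›
  have hbij : Function.Bijective (snd N Z).left.appTop :=
    @PicLib.bijective_appTop_of_isPullback _ _ (CommRingCat.of Γ(G.left, ⊤)) E F.left (snd N Z).left ρ.left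
      (hV.fromSpec ≫ ρ.left) hflat sq' _ _ (bijective_appTop_toAffOf G)
  -- descend from `E` to `k`
  obtain ⟨ν, -⟩ : ∃ ν : 𝟙_ (Over (Spec (CommRingCat.of k))) ⟶ N, ν ≫ i = η[G] :=
    ⟨_, hN.lift_fst η[G] (toUnit _) (by rw [IsMonHom.one_hom, toUnit_unique (toUnit _) (𝟙 _), Category.id_comp])⟩
  haveI hZne : Nonempty Z.left := by
    obtain ⟨w, -⟩ : z ∈ Set.range hV.fromSpec := by rw [hV.range_fromSpec]; exact hzV
    exact ⟨w⟩
  haveI : Surjective Z.hom := ⟨fun s => ⟨Classical.arbitrary Z.left, Subsingleton.elim _ _⟩⟩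
  haveI : Flat (fst N Z).left := inferInstanceAs (Flat (pullback.fst N.hom Z.hom))
  haveI : Surjective (fst N Z).left := inferInstanceAs (Surjective (pullback.fst N.hom Z.hom))
  haveI : IsAffineHom Z.hom := inferInstance
  haveI : QuasiCompact (fst N Z).left := inferInstanceAs (QuasiCompact (pullback.fst N.hom Z.hom))
  haveI : Epi (fst N Z).left := Flat.epi_of_flat_of_surjective _
  haveI : Epi (fst N Z) := Over.epi_of_epi_left _
  refine ⟨?_, fun x => ?_⟩
  · haveI : Nonempty N.left := ⟨ν.left (Classical.arbitrary (Spec (CommRingCat.of k)))⟩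
    haveI : Nonempty (⊤ : N.left.Opens) := ⟨⟨Classical.arbitrary N.left, trivial⟩⟩
    have h1 : Function.Injective ((Scheme.ΓSpecIso (CommRingCat.of k)).inv ≫ N.hom.appTop).hom :=
      RingHom.injective _
    intro p q e
    obtain ⟨p', rfl⟩ := (ConcreteCategory.bijective_of_isIso (Scheme.ΓSpecIso (CommRingCat.of k)).inv).2 p
    obtain ⟨q', rfl⟩ := (ConcreteCategory.bijective_of_isIso (Scheme.ΓSpecIso (CommRingCat.of k)).inv).2 q
    rw [h1 e]
  · obtain ⟨t, ht⟩ := SGA3cLib.exists_gaFn (S := Spec (CommRingCat.of k)) x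
    obtain ⟨c, hc⟩ := hbij.2 (Red.gaFn (fst N Z ≫ t))
    obtain ⟨t', ht'⟩ := SGA3cLib.exists_gaFn (S := Spec (CommRingCat.of k)) c
    have h1 : fst N Z ≫ t = snd N Z ≫ t' := SGA3cLib.gaFn_injective (by
      rw [SGA3cLib.gaFn_comp (snd N Z), ht', hc])
    have h2 : t' = (toUnit Z ≫ ν) ≫ t := by
      have h3 := congrArg (lift (toUnit Z ≫ ν) (𝟙 Z) ≫ ·) h1
      simp only [lift_fst_assoc, lift_snd_assoc, Category.id_comp] at h3
      simp only [Category.assoc] at h3 ⊢; exact h3.symm
    have h4 : t = toUnit N ≫ ν ≫ t := by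
      rw [← cancel_epi (fst N Z), h1, h2, ← Category.assoc (fst N Z), comp_toUnit, Category.assoc,
        ← Category.assoc (snd N Z), comp_toUnit]
    refine ⟨Red.gaFn (ν ≫ t), ?_⟩
    rw [← ht]
    conv_rhs => rw [h4, SGA3cLib.gaFn_comp]
    rfl

end Groth.Agent.AlgGrpLib.AffineHull
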