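import Groth.Prelude.Def_W4bk4git07Quot
import Mathlib.AlgebraicGeometry.Sites.Fpqc
import Mathlib.AlgebraicGeometry.Morphisms.Flat
import Mathlib.Algebra.Polynomial.Eval.Defs

/-!
# Faithfully flat quasi-compact torsors are geometric quotients
-/

set_option autoImplicit false
set_option backward.isDefEq.respectTransparency.types false

universe u

open CategoryTheory Limits MonoidalCategory CartesianMonoidalCategory MonObj AlgebraicGeometry

namespace Groth.Agent.AlgGrpLib.TorsorQuot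

/-- fpqc descent of global functions along a cartesian kernel pair. -/
theorem appTop_injective_range {X Y R : Scheme.{u}} (φ : X ⟶ Y) [Flat φ] [Surjective φ] [QuasiCompact φ]
    (p q : R ⟶ X) (hsq : IsPullback p q φ φ) :
    Function.Injective φ.appTop ∧ Set.range φ.appTop = {s : Γ(X, ⊤) | p.appTop s = q.appTop s} := by
  let A := CommRingCat.of (Polynomial (ULift.{u} ℤ))
  let Λ : ∀ (Z : Scheme.{u}) (s : Γ(Z, ⊤)), Z ⟶ Spec A := fun Z s =>
    Z.toSpecΓ ≫ Spec.map (CommRingCat.ofHom (Polynomial.eval₂RingHom ((Int.castRingHom _).comp ULift.ringEquiv.toRingHom) s))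
  let T : Γ(Spec A, ⊤) := (Scheme.ΓSpecIso A).inv Polynomial.X
  have hΛ : ∀ Z s, (Λ Z s).appTop T = s := by
    intro Z s
    simp only [Λ, T, Scheme.Hom.comp_appTop, CommRingCat.comp_apply, Scheme.toSpecΓ_appTop]
    rw [← CommRingCat.comp_apply (Scheme.ΓSpecIso A).inv, ← Scheme.ΓSpecIso_inv_naturality, CommRingCat.comp_apply,
      ← CommRingCat.comp_apply (Scheme.ΓSpecIso Γ(Z, ⊤)).inv, Iso.inv_hom_id, CommRingCat.id_apply]
    exact Polynomial.eval₂_X _ _
  have hext : ∀ {Z : Scheme.{u}} (u v : Z ⟶ Spec A), u.appTop T = v.appTop T → u = v := by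
    intro Z u v h
    refine ext_of_isAffine ?_
    rw [← cancel_epi (Scheme.ΓSpecIso A).inv]
    refine CommRingCat.hom_ext (Polynomial.ringHom_ext' ?_ h)
    exact RingHom.ext fun z => by
      obtain ⟨z⟩ := z
      have h0 : (⟨z⟩ : ULift.{u} ℤ) = (z : ULift.{u} ℤ) := by ext; simp
      rw [h0, map_intCast, map_intCast]
  refine ⟨fun y y' h => ?_, Set.ext fun s => ⟨?_, fun hs => ?_⟩⟩
  · have h1 : Λ Y y = Λ Y y' := by
      rw [← cancel_epi φ]
      refine hext _ _ ?_
      simp only [Scheme.Hom.comp_appTop, CommRingCat.comp_apply, hΛ, h]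
    rw [← hΛ Y y, h1, hΛ]
  · rintro ⟨y, rfl⟩
    show _ = _
    rw [← CommRingCat.comp_apply, ← CommRingCat.comp_apply, ← Scheme.Hom.comp_appTop, ← Scheme.Hom.comp_appTop, hsq.w]
  · have hd : ∀ {W : Scheme.{u}} (g₁ g₂ : W ⟶ X), g₁ ≫ φ = g₂ ≫ φ → g₁ ≫ Λ X s = g₂ ≫ Λ X s := fun {W} g₁ g₂ h => by
      rw [← hsq.lift_fst g₁ g₂ h, Category.assoc]
      conv_rhs => rw [← hsq.lift_snd g₁ g₂ h, Category.assoc]
      congr 1
      refine hext _ _ ?_
      simp only [Scheme.Hom.comp_appTop, CommRingCat.comp_apply, hΛ]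
      exact hs
    refine ⟨(EffectiveEpi.desc φ (Λ X s) hd).appTop T, ?_⟩
    rw [← CommRingCat.comp_apply, ← Scheme.Hom.comp_appTop, EffectiveEpi.fac, hΛ]

/-- fpqc descent of functions on opens along a cartesian kernel pair. -/
theorem app_injective_range {X Y R : Scheme.{u}} (φ : X ⟶ Y) [Flat φ] [Surjective φ] [QuasiCompact φ]
    (p q : R ⟶ X) (hsq : IsPullback p q φ φ) (U : Y.Opens) :
    Function.Injective (φ.app U) ∧ Set.range (φ.app U) = {s : Γ(X, φ ⁻¹ᵁ U) |
      p.appLE (φ ⁻¹ᵁ U) (p ⁻¹ᵁ (φ ⁻¹ᵁ U) ⊓ q ⁻¹ᵁ (φ ⁻¹ᵁ U)) inf_le_left s =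
        q.appLE (φ ⁻¹ᵁ U) (p ⁻¹ᵁ (φ ⁻¹ᵁ U) ⊓ q ⁻¹ᵁ (φ ⁻¹ᵁ U)) inf_le_right s} := by
  set V := φ ⁻¹ᵁ U with hV
  set W := p ⁻¹ᵁ V ⊓ q ⁻¹ᵁ V with hW
  have hsq' := Scheme.Hom.isPullback_resLE hsq (US := U) (UT := V) (UX := V) le_rfl le_rfl (UY := W) rfl
  haveI : Flat (φ.resLE U V le_rfl) := by rw [Scheme.Hom.resLE_eq_morphismRestrict]; infer_instance
  haveI : Surjective (φ.resLE U V le_rfl) := by rw [Scheme.Hom.resLE_eq_morphismRestrict]; exact IsZariskiLocalAtTarget.restrict (P := @Surjective) inferInstance U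
  haveI : QuasiCompact (φ.resLE U V le_rfl) := by rw [Scheme.Hom.resLE_eq_morphismRestrict]; infer_instance
  obtain ⟨hinj, hran⟩ := appTop_injective_range (φ.resLE U V le_rfl) _ _ hsq'
  have hconv : ∀ {A B : Scheme.{u}} (f : A ⟶ B) (U : B.Opens) (V : A.Opens) (e : V ≤ f ⁻¹ᵁ U) (x : Γ(↑U, ⊤)),
      V.topIso.hom ((f.resLE U V e).appTop x) = f.appLE U V e (U.topIso.hom x) := by
    intro A B f U V e x
    rw [← CommRingCat.comp_apply, ← CommRingCat.comp_apply]
    exact congrArg (fun h => h.hom x) (arrowResLEAppIso f U V e).hom.w.symm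
  have hbij : ∀ {A : Scheme.{u}} (U : A.Opens), Function.Bijective U.topIso.hom.hom :=
    fun U => ConcreteCategory.bijective_of_isIso U.topIso.hom
  have happ : φ.app U = φ.appLE U V le_rfl := (Scheme.Hom.app_eq_appLE φ).trans rfl
  refine ⟨fun y y' h => ?_, Set.ext fun s => ⟨?_, fun hs => ?_⟩⟩
  · obtain ⟨y, rfl⟩ := (hbij U).2 y
    obtain ⟨y', rfl⟩ := (hbij U).2 y'
    rw [happ] at h
    rw [← hconv φ U V le_rfl y, ← hconv φ U V le_rfl y'] at h
    rw [hinj ((hbij V).1 h)]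
  · rintro ⟨y, rfl⟩
    obtain ⟨y, rfl⟩ := (hbij U).2 y
    show _ = _
    rw [happ, ← hconv φ U V le_rfl y, ← hconv, ← hconv]
    exact congrArg W.topIso.hom.hom (hran.le ⟨y, rfl⟩)
  · obtain ⟨s, rfl⟩ := (hbij V).2 s
    change _ = _ at hs
    rw [← hconv, ← hconv] at hs
    obtain ⟨y, hy⟩ := hran.ge ((hbij W).1 hs)
    exact ⟨U.topIso.hom y, by rw [happ, ← hconv, hy]⟩

/-- A faithfully flat quasi-compact torsor is a geometric quotient. -/
theorem isGeomQuot_of_torsor {S : Scheme.{u}} {G X Y : Over S} [GrpObj G] (a : AlgGrp.Action G X) (φ : X ⟶ Y)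
    (hinv : GIT.IsInvariant a φ) [Flat φ.left] [Surjective φ.left] [QuasiCompact φ.left]
    (hsq : IsPullback a.act.left (snd G X).left φ.left φ.left) : GIT.IsGeomQuot a φ where
  inv := hinv
  surj := φ.left.surjective
  orbit := by
    haveI : IsIso (GIT.PsiY a φ hinv) := by
      have : GIT.PsiY a φ hinv = hsq.isoPullback.hom := by
        apply pullback.hom_ext
        · exact (pullback.lift_fst _ _ _).trans hsq.isoPullback_hom_fst.symm
        · exact (pullback.lift_snd _ _ _).trans hsq.isoPullback_hom_snd.symm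
      rw [this]; infer_instance
    exact (GIT.PsiY a φ hinv).homeomorph.surjective
  subm := by
    intro X' Y' i₁ i₂ φ' h
    haveI : Flat φ' := MorphismProperty.of_isPullback h.flip ‹Flat φ.left›
    haveI : Surjective φ' := MorphismProperty.of_isPullback h.flip ‹Surjective φ.left›
    haveI : QuasiCompact φ' := MorphismProperty.of_isPullback h.flip ‹QuasiCompact φ.left›
    exact Flat.isQuotientMap_of_surjective φ'
  sections := fun U => app_injective_range φ.left a.act.left (snd G X).left hsq U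

end Groth.Agent.AlgGrpLib.TorsorQuot
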