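import Groth.Agent.S16133
import Groth.Agent.Stk19b.Quot.Basic
import Groth.Agent.AlgGrpLib.TorsorQuot
import Groth.Prelude.Def_NonAbH2
import Groth.Prelude.Def_ChGrp

/-!
Associated bundle `X ×^G Z → Y` of a torsor `X → Y` (flat, surjective, quasi-compact) and an affine `Z`,
over any field, with no smoothness or reducedness: it exists and `X × Z → X ×^G Z` is again a torsor.
-/

set_option autoImplicit false
set_option backward.isDefEq.respectTransparency.types false

universe u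

open CategoryTheory CategoryTheory.Limits MonoidalCategory CartesianMonoidalCategory MonObj AlgebraicGeometry
open Groth.Agent.S16133

namespace Groth.Agent.AlgGrpLib.AssociatedBundle

variable {k : Type u} [Field k] {G X Y Z : Over (Spec (CommRingCat.of k))} [GrpObj G]

/-- The associated bundle of a torsor with affine fibre exists. -/
theorem exists_bundle (a : AlgGrp.Action G X) (f : X ⟶ Y) [Flat f.left] [Surjective f.left] [QuasiCompact f.left]
    (hsq : IsPullback a.act.left (snd G X).left f.left f.left) [IsAffine Z.left] (b : AlgGrp.Action G Z) :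
    ∃ (W : Over (Spec (CommRingCat.of k))) (φ : X ⊗ Z ⟶ W) (ψ : W ⟶ Y),
      (a.prod b).act ≫ φ = snd G (X ⊗ Z) ≫ φ ∧
      IsPullback (fst X Z).left φ.left f.left ψ.left ∧ IsAffineHom ψ.left := by
  haveI : IsAffineHom Z.hom := isAffineHom_of_isAffine _
  haveI hfa : IsAffineHom (fst X Z).left := MorphismProperty.pullback_fst (P := @IsAffineHom) X.hom Z.hom inferInstance
  have hmem : Presieve.ofArrows (fun _ : PUnit.{u + 1} => X.left) (fun _ => f.left) ∈ Scheme.fpqcPrecoverage Y.left := by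
    rw [Presieve.ofArrows_pUnit]; exact f.left.singleton_mem_fpqcPrecoverage
  obtain ⟨U, ⟨e⟩⟩ := Groth.Agent.Desc19b.isEffective_of_isAffineHom hmem (datum a f hsq b) fun _ => hfa
  have e1 : ((e.inv.hom ⟨⟩).left ≫ (e.hom.hom ⟨⟩).left) = 𝟙 _ :=
    congrArg (fun q : datum a f hsq b ⟶ datum a f hsq b => (q.hom ⟨⟩).left) e.inv_hom_id
  have e2 : ((e.hom.hom ⟨⟩).left ≫ (e.inv.hom ⟨⟩).left) = 𝟙 _ :=
    congrArg (fun q : Desc.canonicalDDFam (fun _ : PUnit.{u + 1} => f.left) U ⟶ _ => (q.hom ⟨⟩).left) e.hom_inv_id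
  let ei : (X ⊗ Z).left ≅ pullback f.left U.hom := ⟨(e.inv.hom ⟨⟩).left, (e.hom.hom ⟨⟩).left, e1, e2⟩
  let q : (X ⊗ Z).left ⟶ U.left := (e.inv.hom ⟨⟩).left ≫ pullback.snd f.left U.hom
  have hfst : (e.inv.hom ⟨⟩).left ≫ pullback.fst f.left U.hom = (fst X Z).left := Over.w (e.inv.hom ⟨⟩)
  have hsq' : IsPullback (fst X Z).left q f.left U.hom := by
    refine IsPullback.of_iso_pullback ⟨?_⟩ ei hfst rfl
    rw [← hfst]
    exact (Category.assoc _ _ _).trans
      ((congrArg (fun r => (e.inv.hom ⟨⟩).left ≫ r) pullback.condition).trans (Category.assoc _ _ _).symm)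
  let W : Over (Spec (CommRingCat.of k)) := Over.mk (U.hom ≫ Y.hom)
  let φ : X ⊗ Z ⟶ W := Over.homMk q (by
    show q ≫ U.hom ≫ Y.hom = _
    rw [← Category.assoc, ← hsq'.w, Category.assoc, Over.w f, Over.w (fst X Z)])
  let ψ : W ⟶ Y := Over.homMk U.hom rfl
  refine ⟨W, φ, ψ, ?_, hsq',
    Et18.descends_isAffineHom.of_isPullback (f := f.left) (g := U.hom)
      hsq' ⟨⟨inferInstance, inferInstance⟩, inferInstance⟩ hfa⟩
  refine Over.OverMorphism.ext ?_
  let v : Desc.Lifts ((datum a f hsq b).obj ⟨⟩) ((snd G (X ⊗ Z)).left ≫ (fst X Z).left) := ⟨(snd G (X ⊗ Z)).left, rfl⟩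
  let P := snd G (X ⊗ Z)
  let x₁ : G ⊗ (X ⊗ Z) ⟶ X := (G ◁ fst X Z) ≫ a.act
  have hinv : a.act ≫ f = snd G X ≫ f := Over.OverMorphism.ext hsq.w
  have h : (P ≫ fst X Z) ≫ f = x₁ ≫ f := by
    simp only [P, x₁, Category.assoc, hinv, whiskerLeft_snd_assoc]
  have hl : (P.left ≫ (fst X Z).left) ≫ f.left = x₁.left ≫ f.left := congrArg CommaMorphism.left h
  have hc := e.inv.comm (i := ⟨⟩) (j := ⟨⟩) (P.left ≫ (fst X Z).left) x₁.left hl v (e.inv.push v) rfl
  have h2 := congrArg (· ≫ pullback.snd f.left U.hom) hc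
  simp only [Desc.toDDFam, Desc.canonicalDDFam, Equiv.coe_fn_mk, Desc.canMapFam_val] at h2
  erw [pullback.lift_snd] at h2
  have hd : ((datum a f hsq b).φ (i := ⟨⟩) (j := ⟨⟩) (P.left ≫ (fst X Z).left) x₁.left hl v).1 =
      (lift ((G ◁ fst X Z) ≫ a.act) ((G ◁ snd X Z) ≫ b.act)).left := by
    show val a f hsq b P.left x₁.left hl = _
    rw [val_eq a f hsq b P x₁ h, tr_eq a f hsq b P x₁ h (fst G (X ⊗ Z))
      (congrArg (· ≫ a.act) (by ext <;> simp [P]))]
    refine congrArg CommaMorphism.left (congrArg (lift x₁) (congrArg (· ≫ b.act) ?_))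
    ext <;> simp [P]
  rw [hd] at h2
  exact ((h2.trans (Category.assoc _ _ _)).symm.trans (Category.assoc _ _ _))

/-- The diagonal action on points. -/
theorem prod_act_pts (a : AlgGrp.Action G X) (b : AlgGrp.Action G Z) {T : Over (Spec (CommRingCat.of k))}
    (g : T ⟶ G) (p : T ⟶ X ⊗ Z) :
    lift g p ≫ (a.prod b).act = lift (lift g (p ≫ fst X Z) ≫ a.act) (lift g (p ≫ snd X Z) ≫ b.act) := by
  simp [AlgGrp.Action.prod, comp_lift, lift_whiskerLeft_assoc, Category.assoc]

/-- `X × Z → X ×^G Z` is a torsor. -/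
theorem isPullback_prod (a : AlgGrp.Action G X) (f : X ⟶ Y) (hsq : IsPullback a.act.left (snd G X).left f.left f.left)
    (b : AlgGrp.Action G Z) {W : Over (Spec (CommRingCat.of k))} (φ : X ⊗ Z ⟶ W) (ψ : W ⟶ Y)
    (hinv : (a.prod b).act ≫ φ = snd G (X ⊗ Z) ≫ φ) (hp : IsPullback (fst X Z).left φ.left f.left ψ.left) :
    IsPullback (a.prod b).act (snd G (X ⊗ Z)) φ φ := by
  refine Groth.Agent.Stk19b.Quot.isPullback_of_existsUnique _ _ hinv fun p p' hpp => ?_
  have hφψ : φ ≫ ψ = fst X Z ≫ f := Over.OverMorphism.ext hp.w.symm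
  have hx : (p ≫ fst X Z) ≫ f = (p' ≫ fst X Z) ≫ f := by
    rw [Category.assoc, Category.assoc, ← hφψ, ← Category.assoc, ← Category.assoc, hpp]
  obtain ⟨g, hg, hu⟩ := existsUnique_transl a f hsq _ _ hx
  refine ⟨g, ?_, fun g' hg' => hu g' ?_⟩
  · show lift g p ≫ (a.prod b).act = p'
    have h1 : (lift g p ≫ (a.prod b).act) ≫ fst X Z = p' ≫ fst X Z := by
      rw [prod_act_pts, lift_fst]; exact hg
    have h2 : (lift g p ≫ (a.prod b).act) ≫ φ = p' ≫ φ := by
      rw [Category.assoc, hinv, lift_snd_assoc, hpp]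
    exact Over.OverMorphism.ext (hp.hom_ext
      (by rw [← Over.comp_left, ← Over.comp_left, h1]) (by rw [← Over.comp_left, ← Over.comp_left, h2]))
  · have := congrArg (· ≫ fst X Z) (show lift g' p ≫ (a.prod b).act = p' from hg')
    simpa only [prod_act_pts, lift_fst] using this

/-- A morphism through which a flat surjective quasi-compact map is its own covering. -/
theorem isLocallyTrivialFor_self {A B : Scheme.{u}} (q : A ⟶ B) [Flat q] [Surjective q] [QuasiCompact q] :
    NonAbH1.IsLocallyTrivialFor Scheme.fpqcPrecoverage (Over.mk q : Over B) := by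
  refine ⟨Presieve.singleton q, q.singleton_mem_fpqcPrecoverage, ?_⟩
  intro T g hg
  cases hg
  exact ⟨𝟙 _, Category.id_comp _⟩

end Groth.Agent.AlgGrpLib.AssociatedBundle
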