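import Groth.Prelude.Def_W4bk4git07Quot
import Mathlib.AlgebraicGeometry.Morphisms.FlatDescent
import Mathlib.CategoryTheory.Monoidal.Cartesian.Over

/-!
# Equivariant maps of torsors are cartesian
-/

set_option autoImplicit false
set_option backward.isDefEq.respectTransparency.types false

universe u

open CategoryTheory Limits MonoidalCategory CartesianMonoidalCategory MonObj AlgebraicGeometry

namespace Groth.Agent.AlgGrpLib.TorsorMap

variable {S : Scheme.{u}} {H : Over S}

theorem isPullback_whiskerLeft {A B : Over S} (f : A ⟶ B) :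
    IsPullback (H ◁ f).left (snd H A).left (snd H B).left f.left := by
  have hA : IsPullback (pullback.fst H.hom A.hom) (pullback.snd H.hom A.hom) H.hom A.hom :=
    IsPullback.of_hasPullback _ _
  have hB : IsPullback (pullback.fst H.hom B.hom) (pullback.snd H.hom B.hom) H.hom B.hom :=
    IsPullback.of_hasPullback _ _
  refine IsPullback.of_right ?_ (by simp) hB
  rw [Over.whiskerLeft_left_fst, Over.w f]
  exact hA

variable [GrpObj H]

theorem isPullback_of_isIso_psiY {A Q : Over S} (a : AlgGrp.Action H A) (p : A ⟶ Q)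
    (hp : GIT.IsInvariant a p) [IsIso (GIT.PsiY a p hp)] :
    IsPullback a.act.left (snd H A).left p.left p.left :=
  IsPullback.of_iso_pullback ⟨hp.left⟩ (asIso (GIT.PsiY a p hp))
    (pullback.lift_fst _ _ _) (pullback.lift_snd _ _ _)

variable {A B QA QB : Over S} (a : AlgGrp.Action H A) (b : AlgGrp.Action H B) (p : A ⟶ QA) (q : B ⟶ QB)
  (f : A ⟶ B) (m : QA ⟶ QB)

theorem isPullback_of_equivariant (hp : GIT.IsInvariant a p) (hq : GIT.IsInvariant b q)
    [IsIso (GIT.PsiY a p hp)] [IsIso (GIT.PsiY b q hq)]
    [Surjective p.left] [Flat p.left] [QuasiCompact p.left]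
    (hf : a.act ≫ f = (H ◁ f) ≫ b.act) (hm : p ≫ m = f ≫ q) :
    IsPullback f.left p.left q.left m.left := by
  have hsqA := isPullback_of_isIso_psiY a p hp
  have hw : f.left ≫ q.left = p.left ≫ m.left := by
    rw [← Over.comp_left, ← hm, Over.comp_left]
  let φ : A.left ⟶ pullback q.left m.left := pullback.lift f.left p.left hw
  have houter : IsPullback (a.act.left ≫ f.left) (snd H A).left q.left (p.left ≫ m.left) := by
    have h := (isPullback_whiskerLeft f).paste_horiz (isPullback_of_isIso_psiY b q hq)
    rw [← Over.comp_left, ← Over.comp_left, ← hf, ← hm, Over.comp_left, Over.comp_left] at h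
    exact h
  have hL : IsPullback (a.act.left ≫ φ) (snd H A).left (pullback.snd q.left m.left) p.left := by
    refine IsPullback.of_right ?_ ?_ (IsPullback.of_hasPullback q.left m.left)
    · rw [Category.assoc, pullback.lift_fst]
      exact houter
    · rw [Category.assoc, pullback.lift_snd]
      exact hp.left
  have hT : IsPullback a.act.left (𝟙 _) φ (a.act.left ≫ φ) := by
    refine IsPullback.of_bot ?_ (by simp) hL
    rw [Category.id_comp, pullback.lift_snd]
    exact hsqA
  have hQ : (@Surjective ⊓ @Flat ⊓ @QuasiCompact : MorphismProperty Scheme.{u}) (a.act.left ≫ φ) :=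
    ⟨⟨MorphismProperty.of_isPullback hL.flip ‹Surjective p.left›,
      MorphismProperty.of_isPullback hL.flip ‹Flat p.left›⟩,
      MorphismProperty.of_isPullback hL.flip ‹QuasiCompact p.left›⟩
  haveI : IsIso φ := MorphismProperty.of_isPullback_of_descendsAlong
    (P := MorphismProperty.isomorphisms Scheme.{u}) hT.flip hQ
    (inferInstanceAs (IsIso (𝟙 (H ⊗ A).left)))
  exact IsPullback.of_iso_pullback ⟨hw⟩ (asIso φ) (pullback.lift_fst _ _ _) (pullback.lift_snd _ _ _)

theorem isOpenImmersion_of_equivariant (hp : GIT.IsInvariant a p) (hq : GIT.IsInvariant b q)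
    [IsIso (GIT.PsiY a p hp)] [IsIso (GIT.PsiY b q hq)]
    [Surjective p.left] [Flat p.left] [QuasiCompact p.left]
    [Surjective q.left] [Flat q.left] [QuasiCompact q.left] [IsOpenImmersion f.left]
    (hf : a.act ≫ f = (H ◁ f) ≫ b.act) (hm : p ≫ m = f ≫ q) :
    IsOpenImmersion m.left :=
  MorphismProperty.of_isPullback_of_descendsAlong (P := @IsOpenImmersion)
    (Q := @Surjective ⊓ @Flat ⊓ @QuasiCompact) (isPullback_of_equivariant a b p q f m hp hq hf hm)
    ⟨⟨inferInstance, inferInstance⟩, inferInstance⟩ inferInstance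

end Groth.Agent.AlgGrpLib.TorsorMap
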