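import Groth.Prelude.Def_AlgGrp
import Groth.Agent.AlgGrpLib.AssociatedBundle
import Groth.Agent.AlgGrpLib.AffineHullMain
import Groth.Agent.AlgGrpLib.AntiAffine
import Groth.Agent.AlgGrpLib.ExactSeqBasics
import Groth.Agent.AlgGrpLib.MultTypeAction2
import Groth.Agent.AlgGrpLib.TorsorMap
import Groth.Agent.AlgGrpLib.SubgroupCalc
import Groth.Agent.SGA3xLib.SepFibre
import Groth.Agent.AlgGrpLib.KernelGrp
import Groth.Agent.AlgGrpLib.SubGrpMono
import Groth.Agent.AlgGrpLib.ConnComp
import Groth.Agent.SGA3cLib.ActionPoints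
import Groth.Agent.SGA3cLib.ArtinComponent
import Groth.Agent.AlgSpLib.SmoothSource
import Groth.Agent.FlatLocal.Descent
import Groth.Agent.Et18.Descent
import Groth.Agent.DimLib.Zero
import Groth.Agent.FlatMorWeight.Comp
import Mathlib.AlgebraicGeometry.Morphisms.FlatMono
import Mathlib.AlgebraicGeometry.Morphisms.LocalFlatDescent
import Groth.Agent.S3278
import Groth.Agent.S5353
import Groth.Agent.S5372

/-!
Component groups and the quotient by the component part of a kernel: for a flat surjective
homomorphism `α : G → A` with kernel `N` there is `G → W → A` with `W → A` finite and connected kernel.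
-/

set_option autoImplicit false
set_option backward.isDefEq.respectTransparency.types false

universe u

open CategoryTheory CategoryTheory.Limits MonoidalCategory CartesianMonoidalCategory MonObj GrpObj AlgebraicGeometry

namespace Groth.Agent.AlgGrpLib.ComponentQuot

variable {k : Type u} [Field k]

/-- A family of maps from a connected group which is trivial at the unit lands in the neutral component. -/
theorem range_subset_component {T K M : Over (Spec (CommRingCat.of k))} [GrpObj K] [GrpObj M] [ConnectedSpace K.left]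
    (c : T ⊗ K ⟶ M) (hc : lift (𝟙 T) (toUnit T ≫ η[K]) ≫ c = 1) (z : (T ⊗ K).left) :
    c.left z ∈ connectedComponent (ConnComp.e₀ M) := by
  haveI : GeometricallyConnected K.hom := by
    have := SGA3cLib.geometricallyConnected_of_rational_point k K.hom (𝟙 K.left) η[K].left (Over.w η[K]) (by simp)
    simpa using this
  haveI : GeometricallyConnected (fst T K).left := inferInstanceAs (GeometricallyConnected (pullback.fst T.hom K.hom))
  haveI : Subsingleton ↥(Spec (CommRingCat.of k)) := inferInstanceAs (Subsingleton (PrimeSpectrum k))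
  haveI : Subsingleton ↥(𝟙_ (Over (Spec (CommRingCat.of k)))).left := inferInstanceAs (Subsingleton (PrimeSpectrum k))
  let w := (fst T K).left z
  have hpre := ((fst T K).left.isConnected_preimage_singleton w).isPreconnected.image _ c.left.continuous.continuousOn
  refine hpre.subset_connectedComponent ?_ ⟨z, rfl, rfl⟩
  refine ⟨(lift (𝟙 T) (toUnit T ≫ η[K])).left w, ?_, ?_⟩
  · show (lift (𝟙 T) (toUnit T ≫ η[K]) ≫ fst T K).left w = w
    rw [lift_fst]; rfl
  · show (lift (𝟙 T) (toUnit T ≫ η[K]) ≫ c).left w = _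
    rw [hc, Hom.one_def]
    exact congrArg η[M].left (Subsingleton.elim _ _)

/-- An affine algebraic group maps onto a finite etale group with connected kernel. -/
theorem exists_componentGroup_affine (H : Over (Spec (CommRingCat.of k))) [GrpObj H] [IsAffine H.left]
    [LocallyOfFiniteType H.hom] :
    ∃ (H₀ : Over (Spec (CommRingCat.of k))) (_ : GrpObj H₀) (u : H₀ ⟶ H) (Q : Over (Spec (CommRingCat.of k)))
      (_ : GrpObj Q) (q : H ⟶ Q), IsMonHom u ∧ IsMonHom q ∧ ConnectedSpace H₀.left ∧ AlgGrp.IsKernel u q ∧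
      Flat q.left ∧ Surjective q.left ∧ IsAffine Q.left ∧ IsFinite Q.hom ∧ Etale Q.hom := by
  haveI : IsAffineHom H.hom := isAffineHom_of_isAffine _
  haveI : CompactSpace H.left := inferInstance
  haveI : IsLocallyNoetherian H.left := LocallyOfFiniteType.isLocallyNoetherian H.hom
  haveI : Subsingleton ↥(Spec (CommRingCat.of k)) := inferInstanceAs (Subsingleton (PrimeSpectrum k))
  haveI : Subsingleton ↥(𝟙_ (Over (Spec (CommRingCat.of k)))).left := inferInstanceAs (Subsingleton (PrimeSpectrum k))
  let C := connectedComponent (ConnComp.e₀ H)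
  let U : H.left.Opens := ⟨C, SGA3cLib.isOpen_connectedComponent _⟩
  let H₀ : Over (Spec (CommRingCat.of k)) := Over.mk (U.ι ≫ H.hom)
  let u : H₀ ⟶ H := Over.homMk U.ι rfl
  haveI : IsOpenImmersion u.left := inferInstanceAs (IsOpenImmersion U.ι)
  haveI : Mono u := Over.mono_of_mono_left u
  have hrange : Set.range u.left = C := Scheme.Opens.range_ι U
  haveI : IsClosedImmersion u.left := by
    refine IsClosedImmersion.of_isPreimmersion _ ?_
    rw [hrange]; exact isClosed_connectedComponent
  have lift_u : ∀ {T : Over (Spec (CommRingCat.of k))} (f : T ⟶ H), (∀ t, f.left t ∈ C) → ∃ f' : T ⟶ H₀, f' ≫ u = f := by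
    intro T f hf
    have h : Set.range f.left ⊆ Set.range u.left := by rw [hrange]; rintro _ ⟨t, rfl⟩; exact hf t
    refine ⟨Over.homMk (IsOpenImmersion.lift u.left f.left h) ?_, Over.OverMorphism.ext ?_⟩
    · rw [← Over.w u, IsOpenImmersion.lift_fac_assoc, Over.w f]
    · exact IsOpenImmersion.lift_fac _ _ h
  have he : ∀ p, η[H].left p ∈ C := fun p => by
    rw [Subsingleton.elim p (IsLocalRing.closedPoint k)]; exact mem_connectedComponent
  haveI : ConnectedSpace H₀.left := by
    refine Subtype.connectedSpace ?_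
    exact isConnected_connectedComponent
  obtain ⟨e, he'⟩ := lift_u η[H] he
  have hmul : ∃ m : H₀ ⊗ H₀ ⟶ H₀, m ≫ u = (fst H₀ H₀ ≫ u) * (snd H₀ H₀ ≫ u) := by
    refine lift_u _ fun z => ?_
    have h1 : (lift (fst H₀ H₀ ≫ u) (snd H₀ H₀ ≫ u) ≫ μ[H]) = (fst H₀ H₀ ≫ u) * (snd H₀ H₀ ≫ u) := (Hom.mul_def _ _).symm
    rw [← h1]
    show μ[H].left ((lift (fst H₀ H₀ ≫ u) (snd H₀ H₀ ≫ u)).left z) ∈ C
    simp only [C, ConnComp.connectedComponent_eq]
    refine ConnComp.mul_mem H _ ?_ ?_
    · show (lift (fst H₀ H₀ ≫ u) (snd H₀ H₀ ≫ u) ≫ fst H H).left z ∈ _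
      rw [lift_fst, ← ConnComp.connectedComponent_eq]
      exact (((fst H₀ H₀).left z).2 :)
    · show (lift (fst H₀ H₀ ≫ u) (snd H₀ H₀ ≫ u) ≫ snd H H).left z ∈ _
      rw [lift_snd, ← ConnComp.connectedComponent_eq]
      exact (((snd H₀ H₀).left z).2 :)
  have hinv : ∃ v : H₀ ⟶ H₀, v ≫ u = u⁻¹ := by
    refine lift_u _ fun z => ?_
    have h := isPreconnected_univ.image _ (u⁻¹).left.continuous.continuousOn
    have he₀ : e.left (IsLocalRing.closedPoint k) ∈ (Set.univ : Set H₀.left) := trivial
    refine h.subset_connectedComponent ⟨_, he₀, ?_⟩ ⟨z, trivial, rfl⟩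
    show (e ≫ u⁻¹).left _ = _
    rw [GrpObj.comp_inv, he', Groth.Agent.AlgGrpLib.one_unit, inv_one, ← Groth.Agent.AlgGrpLib.one_unit]
  obtain ⟨gH₀, hu⟩ := Groth.Agent.AlgGrpLib.exists_grpObj_of_mono u ⟨e, he'.trans Groth.Agent.AlgGrpLib.one_unit⟩ hmul hinv
  letI := gH₀
  haveI := hu
  have hN : AlgGrp.IsNormalHom u := by
    intro T g n
    let c : T ⊗ H₀ ⟶ H := (fst T H₀ ≫ g) * (snd T H₀ ≫ u) * (fst T H₀ ≫ g)⁻¹
    obtain ⟨c', hc'⟩ := lift_u c (range_subset_component c (by
      simp only [c, MonObj.comp_mul, GrpObj.comp_inv, lift_fst_assoc, lift_snd_assoc, Category.assoc,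
        IsMonHom.one_hom, Category.id_comp]
      rw [← Hom.one_def, _root_.mul_one, mul_inv_cancel]))
    refine ⟨lift (𝟙 T) n ≫ c', ?_⟩
    rw [Category.assoc, hc']
    simp [c, MonObj.comp_mul, GrpObj.comp_inv]
  obtain ⟨Q, gQ, q, hq, hQa, hQl, hqf, hqs, hker⟩ := Groth.Agent.S3278.result k H H₀ u hN
  letI := gQ
  haveI := hq
  haveI := hQa
  haveI := hQl
  haveI := hqf
  haveI := hqs
  haveI := ExactSeqBasics.locallyOfFinitePresentation_left q
  haveI : Etale Q.hom := Groth.Agent.S5353.result k H₀ H Q u (IsLocalRing.closedPoint k) hrange q hker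
  haveI : IsAffineHom Q.hom := isAffineHom_of_isAffine _
  haveI : LocallyQuasiFinite Q.hom := Groth.Agent.FlatMorWeight.locallyQuasiFinite_of_etale Q.hom
  haveI : DiscreteTopology Q.left := by
    have h := (locallyQuasiFinite_iff_isDiscrete_preimage_singleton (f := Q.hom)).1 inferInstance (IsLocalRing.closedPoint k)
    refine isDiscrete_univ_iff.1 ?_
    convert h using 1
    exact (Set.eq_univ_of_forall fun x => Subsingleton.elim (Q.hom x) _).symm
  haveI : Finite Q.left := finite_of_compact_of_discrete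
  exact ⟨H₀, gH₀, u, Q, gQ, q, hu, hq, inferInstance, hker, hqf, hqs, hQa, DimLib.isFinite_of_finite Q.hom, inferInstance⟩

/-- A homomorphism from an algebraic group onto a finite etale group with connected kernel. -/
theorem exists_componentGroup (N : Over (Spec (CommRingCat.of k))) [GrpObj N] [LocallyOfFiniteType N.hom]
    [QuasiCompact N.hom] :
    ∃ (K : Over (Spec (CommRingCat.of k))) (_ : GrpObj K) (u : K ⟶ N) (Q : Over (Spec (CommRingCat.of k)))
      (_ : GrpObj Q) (q : N ⟶ Q), IsMonHom u ∧ IsMonHom q ∧ ConnectedSpace K.left ∧ AlgGrp.IsKernel u q ∧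
      Flat q.left ∧ Surjective q.left ∧ IsAffine Q.left ∧ IsFinite Q.hom ∧ Etale Q.hom := by
  obtain ⟨gH, hρ, hρs, hρf, hHl⟩ := AffineHull.affinization (G := N)
  letI := gH
  haveI := hρ
  haveI := hρs
  haveI := hρf
  haveI := hHl
  obtain ⟨H₀, gH₀, u, Q, gQ, q, hu, hq, hH₀, hkq, hqf, hqs, hQa, hQfin, hQe⟩ := exists_componentGroup_affine (affOf N)
  letI := gH₀
  letI := gQ
  haveI := hq
  haveI := hu
  haveI := hH₀
  haveI := hqf
  haveI := hqs
  let ρ := toAffOf N
  let i : pullback (ρ ≫ q) η[Q] ⟶ N := pullback.fst _ _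
  have hk : AlgGrp.IsKernel i (ρ ≫ q) := by
    have h := IsPullback.of_hasPullback (ρ ≫ q) η[Q]
    rwa [toUnit_unique (pullback.snd (ρ ≫ q) η[Q]) (toUnit _)] at h
  obtain ⟨gK, hi⟩ := Groth.Agent.AlgGrpLib.exists_grpObj_kernel (ρ ≫ q) i hk
  letI := gK
  haveI := hi
  have hiq : (i ≫ ρ) ≫ q = 1 := by rw [Category.assoc]; exact kernel_comp hk
  obtain ⟨p, hp⟩ := exists_lift_kernel hkq hiq
  haveI : Mono u := kernel_mono hkq
  haveI : Mono i := kernel_mono hk
  have hp' : IsPullback p i u ρ := by
    refine IsPullback.of_isLimit' ⟨hp⟩ (PullbackCone.IsLimit.mk _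
      (fun s => hk.lift s.snd (toUnit _) ?_) (fun s => ?_) (fun s => hk.lift_fst _ _ _) (fun s m h1 h2 => ?_))
    · rw [← Category.assoc, ← s.condition, Category.assoc, kernel_comp hkq, MonObj.comp_one, Groth.Agent.AlgGrpLib.one_unit, MonObj.comp_one]
    · rw [← cancel_mono u, Category.assoc, hp, hk.lift_fst_assoc, s.condition]
    · exact hk.hom_ext (by rw [h2, hk.lift_fst]) (toUnit_unique _ _)
  haveI : IsMonHom p := by
    have h : IsMonHom (p ≫ u) := by rw [hp]; infer_instance
    constructor
    · rw [← cancel_mono u, Category.assoc, hp, IsMonHom.one_hom, IsMonHom.one_hom]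
    · rw [← cancel_mono u, Category.assoc, hp, Category.assoc, IsMonHom.mul_hom, IsMonHom.mul_hom,
        MonoidalCategory.tensorHom_comp_tensorHom_assoc, hp]
  have hρf' : Flat ρ.left := hρf
  have hρs' : Surjective ρ.left := hρs
  haveI : Flat p.left := MorphismProperty.of_isPullback (P := @Flat) (hp'.map (Over.forget _)).flip (by assumption)
  haveI : Surjective p.left := MorphismProperty.of_isPullback (P := @Surjective) (hp'.map (Over.forget _)).flip (by assumption)
  let j : pullback p η[H₀] ⟶ pullback (ρ ≫ q) η[Q] := pullback.fst _ _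
  have hkj : AlgGrp.IsKernel j p := by
    have h := IsPullback.of_hasPullback p η[H₀]
    rwa [toUnit_unique (pullback.snd p η[H₀]) (toUnit _)] at h
  obtain ⟨gJ, hj⟩ := Groth.Agent.AlgGrpLib.exists_grpObj_kernel p j hkj
  letI := gJ
  have hkρ : AlgGrp.IsKernel (j ≫ i) ρ := by
    haveI : Mono j := kernel_mono hkj
    refine isKernel_of_points _ _ ?_ fun T g hg => ?_
    · rw [Category.assoc, ← hp, ← Category.assoc, kernel_comp hkj, MonObj.one_comp]
    · obtain ⟨g', hg'⟩ := exists_lift_kernel hk (g := g) (by rw [← Category.assoc, hg, MonObj.one_comp])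
      obtain ⟨n, hn⟩ := exists_lift_kernel hkj (g := g') (by
        rw [← cancel_mono u, Category.assoc, hp, ← Category.assoc, hg', hg, MonObj.one_comp])
      exact ⟨n, by rw [← Category.assoc, hn, hg']⟩
  haveI : ConnectedSpace (pullback p η[H₀]).left :=
    Groth.Agent.AlgGrpLib.connectedSpace_of_bijective (AffineHull.bijective_appTop_kernel N (j ≫ i) hkρ)
  haveI : IsAffineHom Q.hom := inferInstance
  haveI : IsClosedImmersion η[Q].left := isClosedImmersion_of_comp_eq_id Q.hom η[Q].left (Over.w η[Q])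
  have hηQ : LocallyOfFiniteType η[Q].left := inferInstance
  haveI : LocallyOfFiniteType H₀.hom := by
    haveI : LocallyOfFiniteType u.left :=
      MorphismProperty.of_isPullback (P := @LocallyOfFiniteType) (hkq.map (Over.forget _)).flip hηQ
    rw [← Over.w u]; infer_instance
  haveI : LocallyOfFiniteType (pullback (ρ ≫ q) η[Q]).hom := by
    haveI : LocallyOfFiniteType i.left :=
      MorphismProperty.of_isPullback (P := @LocallyOfFiniteType) (hk.map (Over.forget _)).flip hηQ
    rw [← Over.w i]; infer_instance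
  haveI : ConnectedSpace (pullback (ρ ≫ q) η[Q]).left := ExactSeqBasics.connectedSpace_of_kernel p j hkj
  haveI : Flat (ρ ≫ q).left := by rw [Over.comp_left]; infer_instance
  haveI : Surjective (ρ ≫ q).left := by rw [Over.comp_left]; infer_instance
  exact ⟨_, gK, i, Q, gQ, ρ ≫ q, hi, inferInstance, inferInstance, hk, inferInstance, inferInstance, hQa, hQfin, hQe⟩

/-- The action of a subgroup by inverse right translation. -/
theorem exists_rightAction {N G : Over (Spec (CommRingCat.of k))} [GrpObj N] [GrpObj G] (i : N ⟶ G) [IsMonHom i] :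
    ∃ a : AlgGrp.Action N G, ∀ {T : Over (Spec (CommRingCat.of k))} (n : T ⟶ N) (g : T ⟶ G),
      lift n g ≫ a.act = g * (n ≫ i)⁻¹ := by
  let m : N ⊗ G ⟶ G := snd N G * (fst N G ≫ i)⁻¹
  have hm : ∀ {W : Over (Spec (CommRingCat.of k))} (n : W ⟶ N) (g : W ⟶ G), lift n g ≫ m = g * (n ≫ i)⁻¹ := by
    intro W n g
    simp only [m, MonObj.comp_mul, GrpObj.comp_inv, lift_snd, lift_fst_assoc]
  obtain ⟨a, ha⟩ := MultTypeAct.exists_action m
    (fun x => by rw [hm, MonObj.one_comp, _root_.inv_one, _root_.mul_one])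
    (fun g g' x => by rw [hm, hm, hm, MonObj.mul_comp, _root_.mul_inv_rev, _root_.mul_assoc])
  exact ⟨a, fun n g => by rw [ha, hm]⟩

/-- A homomorphism acts by left translation. -/
theorem exists_leftAction {N Q : Over (Spec (CommRingCat.of k))} [GrpObj N] [GrpObj Q] (q : N ⟶ Q) [IsMonHom q] :
    ∃ a : AlgGrp.Action N Q, ∀ {T : Over (Spec (CommRingCat.of k))} (n : T ⟶ N) (x : T ⟶ Q),
      lift n x ≫ a.act = (n ≫ q) * x := by
  let m : N ⊗ Q ⟶ Q := (fst N Q ≫ q) * snd N Q
  have hm : ∀ {W : Over (Spec (CommRingCat.of k))} (n : W ⟶ N) (g : W ⟶ Q), lift n g ≫ m = (n ≫ q) * g := by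
    intro W n g
    simp only [m, MonObj.comp_mul, lift_snd, lift_fst_assoc]
  obtain ⟨a, ha⟩ := MultTypeAct.exists_action m
    (fun x => by rw [hm, MonObj.one_comp, _root_.one_mul])
    (fun g g' x => by rw [hm, hm, hm, MonObj.mul_comp, _root_.mul_assoc])
  exact ⟨a, fun n g => by rw [ha, hm]⟩

/-- A flat surjective homomorphism factors through a finite morphism and one with connected kernel. -/
theorem exists_componentQuot_etale {G A N : Over (Spec (CommRingCat.of k))} [GrpObj G] [GrpObj A] [GrpObj N]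
    [LocallyOfFiniteType G.hom] [QuasiCompact G.hom] [LocallyOfFiniteType A.hom]
    (α : G ⟶ A) [IsMonHom α] [Flat α.left] [Surjective α.left] (i : N ⟶ G) [IsMonHom i]
    (hker : AlgGrp.IsKernel i α) :
    ∃ (K : Over (Spec (CommRingCat.of k))) (_ : GrpObj K) (v : K ⟶ G) (W : Over (Spec (CommRingCat.of k)))
      (_ : GrpObj W) (p : G ⟶ W) (r : W ⟶ A), IsMonHom v ∧ IsMonHom p ∧ ConnectedSpace K.left ∧
      Flat p.left ∧ Surjective p.left ∧ AlgGrp.IsKernel v p ∧ IsFinite r.left ∧ p ≫ r = α ∧
      (Smooth G.hom → Smooth W.hom) ∧ Etale r.left := by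
  haveI : QuasiCompact α.left := Groth.Agent.AlgGrpLib.quasiCompact_left α
  haveI : Mono i := kernel_mono hker
  haveI : IsClosedImmersion i.left := by
    haveI : IsSeparated A.hom := Groth.Agent.SGA3xLib.isSeparated_of_grpObj A
    haveI : IsClosedImmersion η[A].left := isClosedImmersion_of_comp_eq_id A.hom η[A].left (Over.w η[A])
    exact MorphismProperty.of_isPullback (P := @IsClosedImmersion) (hker.map (Over.forget _)).flip (by assumption)
  haveI : LocallyOfFiniteType N.hom := by rw [← Over.w i]; infer_instance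
  haveI : QuasiCompact N.hom := by rw [← Over.w i]; infer_instance
  obtain ⟨K, gK, u, Q, gQ, q, hu, hq, hK, hkq, hqf, hqs, hQa, hQfin, hQe⟩ := exists_componentGroup N
  letI := gK
  letI := gQ
  haveI := hu
  haveI := hq
  haveI := hqf
  haveI := hqs
  haveI := hQa
  obtain ⟨a, ha⟩ := exists_rightAction i
  obtain ⟨b, hb⟩ := exists_leftAction q
  -- `α` is a torsor under `N`
  have ha0 : a.act = snd N G * (fst N G ≫ i)⁻¹ := by
    rw [← ha (fst N G) (snd N G), lift_fst_snd, Category.id_comp]
  have hw : a.act ≫ α = snd N G ≫ α := by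
    rw [ha0, MonObj.mul_comp, GrpObj.inv_comp, Category.assoc, kernel_comp hker, MonObj.comp_one, _root_.inv_one,
      _root_.mul_one]
  have hcart : IsPullback a.act (snd N G) α α := by
    refine Groth.Agent.Stk19b.Quot.isPullback_of_existsUnique a α hw fun g g' hgg => ?_
    obtain ⟨n, hn⟩ := exists_lift_kernel hker (g := g'⁻¹ * g) (by
      rw [MonObj.mul_comp, GrpObj.inv_comp, hgg, inv_mul_cancel])
    refine ⟨n, ?_, fun n' hn' => ?_⟩
    · show lift n g ≫ a.act = g'
      rw [ha, hn, _root_.mul_inv_rev, _root_.inv_inv, mul_inv_cancel_left]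
    · have h : lift n' g ≫ a.act = g' := hn'
      rw [ha] at h
      rw [← cancel_mono i, hn, ← h, _root_.mul_inv_rev, _root_.inv_inv, inv_mul_cancel_right]
  have hsq : IsPullback a.act.left (snd N G).left α.left α.left := (Over.forget _).map_isPullback hcart
  obtain ⟨W, φ, ψ, hinv, hp, -⟩ := AssociatedBundle.exists_bundle a α hsq b
  have hφ := AssociatedBundle.isPullback_prod a α hsq b φ ψ hinv hp
  let p : G ⟶ W := lift (𝟙 G) 1 ≫ φ
  have hpT : ∀ {T : Over (Spec (CommRingCat.of k))} (g : T ⟶ G), g ≫ p = lift g 1 ≫ φ := fun g => by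
    simp only [p, comp_lift_assoc, Category.comp_id, MonObj.comp_one]
  have hmove : ∀ {T : Over (Spec (CommRingCat.of k))} (n : T ⟶ N) (g : T ⟶ G) (e : T ⟶ Q),
      lift (g * (n ≫ i)⁻¹) ((n ≫ q) * e) ≫ φ = lift g e ≫ φ := fun n g e => by
    have h := AssociatedBundle.prod_act_pts a b n (lift g e)
    rw [lift_fst, lift_snd, ha, hb] at h
    rw [← h, Category.assoc, hinv, lift_snd_assoc]
  have hpα : p ≫ ψ = α := by
    have h : φ ≫ ψ = fst G Q ≫ α := Over.OverMorphism.ext hp.w.symm
    simp only [p, Category.assoc, h, lift_fst_assoc, Category.id_comp]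
  -- its fibres
  haveI : Mono u := kernel_mono hkq
  let v : K ⟶ G := u ≫ i
  haveI : Mono v := mono_comp u i
  have hpsq : IsPullback ((G ◁ v) ≫ μ[G]) (fst G K) p p := by
    have e0 : (G ◁ v) ≫ μ[G] = fst G K * (snd G K ≫ v) := by
      rw [Hom.mul_def]
      congr 1
    have hw' : ((G ◁ v) ≫ μ[G]) ≫ p = fst G K ≫ p := by
      rw [e0, hpT, hpT]
      have h := hmove (snd G K ≫ u) (fst G K * (snd G K ≫ v)) 1
      simp only [v, Category.assoc, kernel_comp hkq, MonObj.comp_one, _root_.one_mul, mul_inv_cancel_right] at h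
      simpa only [v, Category.assoc] using h.symm
    have hfib : ∀ {T : Over (Spec (CommRingCat.of k))} (g g' : T ⟶ G), g ≫ p = g' ≫ p →
        ∃ n : T ⟶ K, g = g' * (n ≫ v) := by
      intro T g g' h
      rw [hpT, hpT] at h
      let n := hφ.lift (lift g 1) (lift g' 1) h ≫ fst N (G ⊗ Q)
      have h1 : lift n (lift g' 1) ≫ (a.prod b).act = lift g (1 : T ⟶ Q) := by
        conv_lhs => arg 1; arg 2; rw [← hφ.lift_snd (lift g 1) (lift g' 1) h]
        rw [← comp_lift, lift_fst_snd, Category.comp_id, hφ.lift_fst]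
      rw [AssociatedBundle.prod_act_pts, lift_fst, lift_snd, ha, hb, _root_.mul_one] at h1
      have h2 : g' * (n ≫ i)⁻¹ = g := by simpa using congrArg (· ≫ fst G Q) h1
      have h3 : n ≫ q = 1 := by simpa using congrArg (· ≫ snd G Q) h1
      obtain ⟨m, hm⟩ := exists_lift_kernel hkq h3
      refine ⟨m⁻¹, ?_⟩
      rw [GrpObj.inv_comp, ← Category.assoc, hm, h2]
    choose f hf using fun s : PullbackCone p p => hfib s.fst s.snd s.condition
    refine IsPullback.of_isLimit' ⟨hw'⟩ (PullbackCone.IsLimit.mk _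
      (fun s => lift s.snd (f s)) (fun s => ?_) (fun s => lift_fst _ _) (fun s m h1 h2 => ?_))
    · rw [e0, MonObj.comp_mul, lift_fst, lift_snd_assoc, ← hf]
    · refine CartesianMonoidalCategory.hom_ext _ _ (h2.trans (lift_fst _ _).symm) ?_
      rw [lift_snd, ← cancel_mono v, Category.assoc]
      rw [e0, MonObj.comp_mul, h2, hf s] at h1
      exact mul_left_cancel h1
  -- flatness and surjectivity
  let sh : G ⊗ N ⟶ G := fst G N * (snd G N ≫ i)
  have hshq : (G ◁ q) ≫ φ = sh ≫ p := by
    rw [hpT]
    have h := hmove ((snd G N)⁻¹) (fst G N) (snd G N ≫ q)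
    simp only [GrpObj.inv_comp, inv_mul_cancel, _root_.inv_inv] at h
    rw [h]
    congr 1
  let e : G ⊗ N ⟶ N ⊗ G := lift ((snd G N)⁻¹) (fst G N)
  haveI : IsIso e := ⟨lift (snd N G) ((fst N G)⁻¹),
    CartesianMonoidalCategory.hom_ext _ _ (by simp [e]) (by simp [e, GrpObj.comp_inv]),
    CartesianMonoidalCategory.hom_ext _ _ (by simp [e, GrpObj.comp_inv]) (by simp [e])⟩
  have hsh : e ≫ a.act = sh := by
    rw [ha]
    simp [sh, GrpObj.inv_comp]
  haveI : IsIso e.left := inferInstanceAs (IsIso ((Over.forget _).map e))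
  haveI : Flat a.act.left := MorphismProperty.of_isPullback (P := @Flat) hsq.flip inferInstance
  haveI : Surjective a.act.left := MorphismProperty.of_isPullback (P := @Surjective) hsq.flip inferInstance
  haveI : Flat sh.left := by rw [← hsh, Over.comp_left]; infer_instance
  haveI : Surjective sh.left := by rw [← hsh, Over.comp_left]; infer_instance
  haveI : Flat (G ◁ q).left := MorphismProperty.of_isPullback (P := @Flat)
    (TorsorMap.isPullback_whiskerLeft q).flip inferInstance
  haveI : Surjective (G ◁ q).left := MorphismProperty.of_isPullback (P := @Surjective)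
    (TorsorMap.isPullback_whiskerLeft q).flip inferInstance
  haveI : Flat φ.left := MorphismProperty.of_isPullback (P := @Flat) hp inferInstance
  haveI : Surjective φ.left := MorphismProperty.of_isPullback (P := @Surjective) hp inferInstance
  haveI : QuasiCompact φ.left := MorphismProperty.of_isPullback (P := @QuasiCompact) hp inferInstance
  have hcomp : sh.left ≫ p.left = (G ◁ q).left ≫ φ.left := (congrArg CommaMorphism.left hshq).symm
  haveI : Flat (sh.left ≫ p.left) := by rw [hcomp]; infer_instance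
  haveI : Surjective (sh.left ≫ p.left) := by rw [hcomp]; infer_instance
  haveI : Flat p.left := Groth.Agent.FlatLocal.flat_of_comp sh.left p.left
  haveI : Surjective p.left := Surjective.of_comp sh.left p.left
  -- the finite map
  haveI : IsFinite ψ.left := by
    refine Et18.descends_isFinite.of_isPullback (f := α.left) hp ⟨⟨inferInstance, inferInstance⟩, inferInstance⟩ ?_
    exact MorphismProperty.pullback_fst (P := @IsFinite) G.hom Q.hom hQfin
  haveI : LocallyOfFiniteType W.hom := by rw [← Over.w ψ]; infer_instance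
  haveI : QuasiCompact p.left := Groth.Agent.AlgGrpLib.quasiCompact_left p
  have hN : AlgGrp.IsNormalHom v := by
    haveI := hK
    intro T g n
    obtain ⟨c, hc⟩ := ExactSeqBasics.isNormalHom_kernel α hker (T ⊗ K) (fst T K ≫ g) (snd T K ≫ u)
    have hc1 : c ≫ q = 1 := by
      have hsec : lift (𝟙 T) (toUnit T ≫ η[K]) ≫ (c ≫ q) = 1 := by
        rw [← Category.assoc]
        have : lift (𝟙 T) (toUnit T ≫ η[K]) ≫ c = 1 := by
          rw [← cancel_mono i, Category.assoc, ← hc, MonObj.one_comp]
          simp only [MonObj.comp_mul, GrpObj.comp_inv, lift_fst_assoc, lift_snd_assoc, Category.assoc,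
            Category.id_comp, reassoc_of% (IsMonHom.one_hom u), IsMonHom.one_hom]
          rw [← Hom.one_def, _root_.mul_one, mul_inv_cancel]
        rw [this, MonObj.one_comp]
      haveI : Etale Q.hom := hQe
      haveI : IsOpenImmersion η[Q].left := by
        haveI : Etale (η[Q].left ≫ Q.hom) := by
          rw [Over.w η[Q]]; exact inferInstanceAs (Etale (𝟙 (Spec (CommRingCat.of k))))
        haveI : Etale η[Q].left := Etale.of_comp η[Q].left Q.hom
        haveI : IsClosedImmersion η[Q].left := isClosedImmersion_of_comp_eq_id Q.hom η[Q].left (Over.w η[Q])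
        exact IsOpenImmersion.of_flat_of_mono _
      haveI : Subsingleton ↥(Spec (CommRingCat.of k)) := inferInstanceAs (Subsingleton (PrimeSpectrum k))
      haveI : DiscreteTopology Q.left := by
        haveI := hQfin
        have h := (locallyQuasiFinite_iff_isDiscrete_preimage_singleton (f := Q.hom)).1 inferInstance (IsLocalRing.closedPoint k)
        refine isDiscrete_univ_iff.1 ?_
        convert h using 1
        exact (Set.eq_univ_of_forall fun x => Subsingleton.elim (Q.hom x) _).symm
      have hr : Set.range (c ≫ q).left ⊆ Set.range η[Q].left := by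
        rintro _ ⟨z, rfl⟩
        have h := range_subset_component (c ≫ q) hsec z
        rw [connectedComponent_eq_singleton] at h
        exact ⟨_, h.symm⟩
      have : c ≫ q = toUnit _ ≫ η[Q] := by
        let w := IsOpenImmersion.lift η[Q].left (c ≫ q).left hr
        have hw : w ≫ η[Q].left = (c ≫ q).left := IsOpenImmersion.lift_fac _ _ hr
        refine Over.OverMorphism.ext ?_
        rw [← hw, Over.comp_left]
        congr 1
        have h1 := Over.w (c ≫ q)
        rw [← hw, Category.assoc, Over.w η[Q]] at h1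
        have h2 : (toUnit (T ⊗ K)).left = (T ⊗ K).hom := rfl
        rw [h2, ← h1]
        exact (Category.comp_id w).symm
      rw [this, ← Hom.one_def]
    obtain ⟨d, hd⟩ := exists_lift_kernel hkq hc1
    refine ⟨lift (𝟙 T) n ≫ d, ?_⟩
    have h := congrArg (lift (𝟙 T) n ≫ ·) hc
    simp only [MonObj.comp_mul, GrpObj.comp_inv, lift_fst_assoc, lift_snd_assoc, Category.id_comp,
      Category.assoc] at h
    simp only [v, Category.assoc]
    rw [← Category.assoc d u i, hd]
    exact h
  obtain ⟨gW, hpW, -⟩ := Groth.Agent.S5372.result (Spec (CommRingCat.of k)) G K W v p ⟨G.left, p.left, 𝟙 _,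
      Category.id_comp _, inferInstance, inferInstance, fun V hV => ⟨p.left ⁻¹ᵁ V, p.left.isCompact_preimage hV.isCompact, by
        exact Set.image_preimage_eq _ p.left.surjective⟩⟩ hpsq hN
  letI := gW
  haveI := hpW
  have hk : AlgGrp.IsKernel v p := by
    refine isKernel_of_points v p ?_ fun T g hg => ?_
    · have h := congrArg (lift (toUnit K ≫ η[G]) (𝟙 K) ≫ ·) hpsq.w
      rw [← Hom.one_def, lift_fst_assoc, MonObj.one_comp, Category.assoc, lift_whiskerLeft_assoc, ← Category.assoc,
        ← Hom.mul_def, Category.id_comp, _root_.one_mul] at h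
      exact h
    · have hc : g ≫ p = (1 : T ⟶ G) ≫ p := by rw [hg, MonObj.one_comp]
      refine ⟨hpsq.lift g 1 hc ≫ snd G K, ?_⟩
      have h1 := hpsq.lift_fst g 1 hc
      have h2 := hpsq.lift_snd g 1 hc
      rw [← lift_comp_fst_snd (hpsq.lift g 1 hc), lift_whiskerLeft_assoc, ← Hom.mul_def, h2, _root_.one_mul] at h1
      exact h1
  refine ⟨K, gK, v, W, gW, p, ψ, inferInstance, hpW, hK, inferInstance, inferInstance, hk, inferInstance, hpα, fun hG => ?_, ?_⟩
  swap
  · exact MorphismProperty.of_isPullback_of_descendsAlong (P := @Etale)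
      (Q := (@Surjective ⊓ @Flat ⊓ @QuasiCompact : MorphismProperty Scheme.{u})) (f := α.left) hp
      ⟨⟨inferInstance, inferInstance⟩, inferInstance⟩
      (MorphismProperty.pullback_fst (P := @Etale) G.hom Q.hom hQe)
  haveI : LocallyOfFinitePresentation p.left := ExactSeqBasics.locallyOfFinitePresentation_left p
  haveI : Smooth (p.left ≫ W.hom) := by rw [Over.w p]; exact hG
  exact Groth.Agent.AlgSpLib.smooth_of_comp_fppf p.left W.hom (by assumption)

/-- `exists_componentQuot_etale` without the étaleness. -/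
theorem exists_componentQuot {G A N : Over (Spec (CommRingCat.of k))} [GrpObj G] [GrpObj A] [GrpObj N]
    [LocallyOfFiniteType G.hom] [QuasiCompact G.hom] [LocallyOfFiniteType A.hom]
    (α : G ⟶ A) [IsMonHom α] [Flat α.left] [Surjective α.left] (i : N ⟶ G) [IsMonHom i]
    (hker : AlgGrp.IsKernel i α) :
    ∃ (K : Over (Spec (CommRingCat.of k))) (_ : GrpObj K) (v : K ⟶ G) (W : Over (Spec (CommRingCat.of k)))
      (_ : GrpObj W) (p : G ⟶ W) (r : W ⟶ A), IsMonHom v ∧ IsMonHom p ∧ ConnectedSpace K.left ∧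
      Flat p.left ∧ Surjective p.left ∧ AlgGrp.IsKernel v p ∧ IsFinite r.left ∧ p ≫ r = α ∧
      (Smooth G.hom → Smooth W.hom) := by
  obtain ⟨K, gK, v, W, gW, p, r, h1, h2, h3, h4, h5, h6, h7, h8, h9, -⟩ := exists_componentQuot_etale α i hker
  exact ⟨K, gK, v, W, gW, p, r, h1, h2, h3, h4, h5, h6, h7, h8, h9⟩

end Groth.Agent.AlgGrpLib.ComponentQuot
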