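import Groth.Agent.AbVarLib.HomFibre
import Groth.Agent.AbVarLib.KernelTorsor
import Groth.Agent.Et18.Descent
import Mathlib.AlgebraicGeometry.AlgClosed.Basic

/-! Homomorphisms of smooth connected algebraic groups: flat quasi-finite ones are finite and surjective. -/

universe u

open CategoryTheory CategoryTheory.Limits AlgebraicGeometry MonoidalCategory CartesianMonoidalCategory MonObj

namespace Groth.Agent.AlgGrpLib

open Groth.Agent.AbVarLib

section AlgClosed

variable {K : Type u} [Field K] [IsAlgClosed K] {X Y : Over (Spec (CommRingCat.of K))} [GrpObj X] [GrpObj Y]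

theorem surjective_of_flat_algClosed [LocallyOfFiniteType X.hom] [LocallyOfFiniteType Y.hom]
    [IrreducibleSpace Y.left] (f : X ⟶ Y) [IsMonHom f] [Flat f.left] : Surjective f.left := by
  have : LocallyOfFinitePresentation X.hom := inferInstance
  have : LocallyOfFinitePresentation f.left := by
    have : LocallyOfFinitePresentation (f.left ≫ Y.hom) := by rw [Over.w f]; infer_instance
    exact Groth.Agent.H8Lim.lfp_cancel_right f.left Y.hom
  have := LocallyOfFiniteType.jacobsonSpace X.hom
  have := LocallyOfFiniteType.jacobsonSpace Y.hom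
  set O : Set Y.left := Set.range f.left
  have hO : IsOpen O := f.left.isOpenMap.isOpen_range
  refine ⟨fun y0 => ?_⟩
  by_contra hy0
  obtain ⟨y, hy, hyc⟩ := nonempty_inter_closedPoints (Z := Oᶜ) ⟨y0, hy0⟩ hO.isClosed_compl.isLocallyClosed
  replace hyc : IsClosed ({y} : Set Y.left) := hyc
  let y' : 𝟙_ (Over (Spec (CommRingCat.of K))) ⟶ Y :=
    Over.homMk (pointOfClosedPoint Y.hom y hyc) (pointOfClosedPoint_comp Y.hom y hyc)
  let h : Y ⟶ Y := (toUnit Y ≫ y') * (𝟙 Y)⁻¹
  -- `h` has a left and a right inverse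
  let h' : Y ⟶ Y := (𝟙 Y)⁻¹ * (toUnit Y ≫ y')
  have h1 : h ≫ h' = 𝟙 Y := by
    simp only [h', h, MonObj.comp_mul, GrpObj.comp_inv, Category.comp_id]
    rw [← Category.assoc, toUnit_unique (_ ≫ toUnit Y) (toUnit Y)]
    rw [mul_inv_rev, inv_inv, inv_mul_cancel_right]
  have h2 : h' ≫ h = 𝟙 Y := by
    simp only [h', h, MonObj.comp_mul, GrpObj.comp_inv, Category.comp_id]
    rw [← Category.assoc, toUnit_unique (_ ≫ toUnit Y) (toUnit Y)]
    rw [mul_inv_rev, inv_inv, mul_inv_cancel_left]
  have hne : (O ∩ h.left ⁻¹' O).Nonempty := by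
    have hone : f.left (η[X].left (IsLocalRing.closedPoint K)) ∈ O := ⟨_, rfl⟩
    refine nonempty_preirreducible_inter hO (hO.preimage h.left.continuous) ⟨_, hone⟩
      ⟨h'.left (f.left (η[X].left (IsLocalRing.closedPoint K))), ?_⟩
    show h.left (h'.left _) ∈ O
    rw [← Scheme.Hom.comp_apply, ← Over.comp_left, h2]
    exact hone
  obtain ⟨w, ⟨hwO, hwh⟩, hwc⟩ :=
    nonempty_inter_closedPoints hne (hO.inter (hO.preimage h.left.continuous)).isLocallyClosed
  replace hwc : IsClosed ({w} : Set Y.left) := hwc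
  let w' : 𝟙_ (Over (Spec (CommRingCat.of K))) ⟶ Y :=
    Over.homMk (pointOfClosedPoint Y.hom w hwc) (pointOfClosedPoint_comp Y.hom w hwc)
  have lift_point : ∀ z' : 𝟙_ (Over (Spec (CommRingCat.of K))) ⟶ Y,
      z'.left (IsLocalRing.closedPoint K) ∈ O → ∃ x' : 𝟙_ (Over (Spec (CommRingCat.of K))) ⟶ X, x' ≫ f = z' := by
    intro z' hz
    set z := z'.left (IsLocalRing.closedPoint K)
    have hzc : IsClosed ({z} : Set Y.left) :=
      (pointEquivClosedPoint Y.hom ⟨z'.left, Over.w z'⟩).2
    obtain ⟨x, hx, hxc⟩ := nonempty_inter_closedPoints (Z := f.left ⁻¹' {z}) hz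
      (hzc.preimage f.left.continuous).isLocallyClosed
    replace hxc : IsClosed ({x} : Set X.left) := hxc
    refine ⟨Over.homMk (pointOfClosedPoint X.hom x hxc) (pointOfClosedPoint_comp X.hom x hxc), Over.OverMorphism.ext ?_⟩
    refine ext_of_apply_closedPoint_eq Y.hom ?_ (Over.w z') ?_
    · exact Over.w (_ ≫ f)
    · show f.left (pointOfClosedPoint X.hom x hxc _) = _
      exact (congrArg f.left (pointOfClosedPoint_apply X.hom x hxc _)).trans hx
  obtain ⟨a, ha⟩ := lift_point w' (by
    show pointOfClosedPoint Y.hom w hwc _ ∈ O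
    exact (pointOfClosedPoint_apply Y.hom w hwc _).symm ▸ hwO)
  obtain ⟨c, hc⟩ := lift_point (w' ≫ h) (by
    show h.left (pointOfClosedPoint Y.hom w hwc _) ∈ O
    exact (congrArg h.left (pointOfClosedPoint_apply Y.hom w hwc _)).symm ▸ hwh)
  have hwh' : w' ≫ h = y' * w'⁻¹ := by
    simp only [h, MonObj.comp_mul, GrpObj.comp_inv, Category.comp_id]
    rw [← Category.assoc, toUnit_unique (w' ≫ toUnit Y) (𝟙 _), Category.id_comp]
  have hy' : (c * a) ≫ f = y' := by
    rw [MonObj.mul_comp, ha, hc, hwh', inv_mul_cancel_right]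
  apply hy
  refine ⟨(c * a).left (IsLocalRing.closedPoint K), ?_⟩
  exact (congrArg (fun m : 𝟙_ (Over (Spec (CommRingCat.of K))) ⟶ Y => m.left (IsLocalRing.closedPoint K))
    hy').trans (pointOfClosedPoint_apply Y.hom y hyc _)

end AlgClosed

variable {k : Type u} [Field k] {X Y : Over (Spec (CommRingCat.of k))} [GrpObj X] [GrpObj Y]
  [LocallyOfFiniteType X.hom] [LocallyOfFiniteType Y.hom]

theorem surjective_of_flat [GeometricallyIntegral Y.hom] (f : X ⟶ Y) [IsMonHom f] [Flat f.left] :
    Surjective f.left := by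
  let G := Over.pullback (algPt k)
  let _ : GrpObj (G.obj X) := Functor.grpObjObj
  let _ : GrpObj (G.obj Y) := Functor.grpObjObj
  have hP := isPullback_pullback_map (algPt k) f
  have : Flat (G.map f).left := MorphismProperty.of_isPullback hP inferInstance
  have : IsIntegral (G.obj Y).left :=
    GeometricallyIntegral.geometrically_isIntegral (f := Y.hom) (algPt k) _ _ (IsPullback.of_hasPullback Y.hom _)
  have : LocallyOfFiniteType (G.obj X).hom := inferInstanceAs (LocallyOfFiniteType (pullback.snd _ _))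
  have : LocallyOfFiniteType (G.obj Y).hom := inferInstanceAs (LocallyOfFiniteType (pullback.snd _ _))
  have := surjective_of_flat_algClosed (G.map f)
  refine ⟨fun y => ?_⟩
  obtain ⟨y1, rfl⟩ := (pullback.fst Y.hom (algPt k)).surjective y
  obtain ⟨x1, rfl⟩ := (G.map f).left.surjective y1
  refine ⟨pullback.fst X.hom (algPt k) x1, ?_⟩
  rw [← Scheme.Hom.comp_apply, hP.w, Scheme.Hom.comp_apply]

omit [LocallyOfFiniteType X.hom] [LocallyOfFiniteType Y.hom] in
theorem isFinite_of_flat_lqf (f : X ⟶ Y) [IsMonHom f] [Surjective f.left] [Flat f.left] [QuasiCompact f.left]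
    [LocallyQuasiFinite f.left] : IsFinite f.left := by
  have hN : AlgGrp.IsKernel (pullback.fst f η[Y]) f :=
    (IsPullback.of_hasPullback f η[Y]).of_iso (Iso.refl _) (Iso.refl _) (Iso.refl _) (Iso.refl _)
      (by simp) (by simpa using toUnit_unique _ _) (by simp) (by simp)
  have := Et18.descends_isFinite.{u}
  refine of_kernel f _ @IsFinite hN ?_
  have h1 := kernel_of f _ @LocallyQuasiFinite hN inferInstance
  have h2 := kernel_of f _ @QuasiCompact hN inferInstance
  exact IsFinite.of_locallyQuasiFinite _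

end Groth.Agent.AlgGrpLib
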