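import Groth.Agent.AlgGrpLib.AbelianSubvariety
import Groth.Agent.Props12.KerReduced
import Groth.Agent.AlgGrpLib.SubgroupCalc
import Groth.Agent.AlgGrpLib.SubGrpMono
import Groth.Agent.AlgGrpLib.ComponentQuot
import Groth.Agent.AlgGrpLib.SmoothIsogeny
import Groth.Agent.AlgGrpLib.HomFlatRed
import Groth.Agent.SGA3cLib.BCPoints
import Groth.Agent.AbVarLib.PerfectReduced

/-!
Normal almost complements of abelian subvarieties.
-/

set_option autoImplicit false
set_option backward.isDefEq.respectTransparency.types false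

universe u

open CategoryTheory CategoryTheory.Limits MonoidalCategory CartesianMonoidalCategory MonObj GrpObj AlgebraicGeometry

namespace Groth.Agent.AlgGrpLib.AbelianComplement

open Groth.Agent.AlgGrpLib

variable {k : Type u} [Field k] {G A N : Over (Spec (CommRingCat.of k))} [GrpObj G] [GrpObj A] [GrpObj N]

/-- The pullback of an abelian subvariety and a subgroup killed by an almost retraction is finite. -/
theorem isFinite_inter [IsProper A.hom] [Smooth A.hom] [ConnectedSpace ↥A.left] (i : A ⟶ G) (j : N ⟶ G)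
    [IsClosedImmersion j.left] (ψ : G ⟶ A) (hjψ : j ≫ ψ = 1) {n : ℕ} (hn : 0 < n)
    (hiψ : i ≫ ψ = (𝟙 A) ^ n) : IsFinite (pullback.fst i.left j.left ≫ A.hom) := by
  haveI := AbelianSubvariety.geometricallyConnected_of_connected A
  haveI := AbVarLib.geometricallyIntegral_of_smooth A.hom
  haveI : IsFinite ((𝟙 A) ^ n).left := AbCubeLib.isFinite_pow hn
  let W : Over (Spec (CommRingCat.of k)) := Over.mk (pullback.fst i.left j.left ≫ A.hom)
  let w₁ : W ⟶ A := Over.homMk (pullback.fst i.left j.left)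
  let w₂ : W ⟶ N := Over.homMk (pullback.snd i.left j.left) (by
    show pullback.snd i.left j.left ≫ N.hom = pullback.fst i.left j.left ≫ A.hom
    rw [← Over.w j, ← pullback.condition_assoc, Over.w i])
  have hw : w₁ ≫ i = w₂ ≫ j := Over.OverMorphism.ext pullback.condition
  let K := pullback ((𝟙 A) ^ n) η[A]
  let m : W ⟶ K := pullback.lift w₁ (toUnit W) (by
    rw [← hiψ, ← Category.assoc, hw, Category.assoc, hjψ, MonObj.comp_one, one_unit, MonObj.comp_one])
  have hm : m ≫ pullback.fst _ _ = w₁ := pullback.lift_fst _ _ _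
  have hKsq : IsPullback (pullback.fst ((𝟙 A) ^ n) η[A]).left (pullback.snd ((𝟙 A) ^ n) η[A]).left
      ((𝟙 A) ^ n).left η[A].left := (IsPullback.of_hasPullback ((𝟙 A) ^ n) η[A]).map (Over.forget _)
  haveI : IsFinite (pullback.snd ((𝟙 A) ^ n) η[A]).left := MorphismProperty.of_isPullback hKsq inferInstance
  haveI : IsFinite K.hom := by
    rw [← Over.w (pullback.snd ((𝟙 A) ^ n) η[A])]
    haveI : IsFinite (𝟙_ (Over (Spec (CommRingCat.of k)))).hom := inferInstanceAs (IsFinite (𝟙 _))
    infer_instance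
  haveI : IsClosedImmersion η[A].left := isClosedImmersion_of_comp_eq_id A.hom η[A].left (Over.w η[A])
  haveI : IsClosedImmersion (pullback.fst ((𝟙 A) ^ n) η[A]).left := MorphismProperty.of_isPullback hKsq.flip inferInstance
  haveI : IsClosedImmersion (m.left ≫ (pullback.fst ((𝟙 A) ^ n) η[A]).left) := by
    rw [← Over.comp_left, hm]
    exact MorphismProperty.pullback_fst (P := @IsClosedImmersion) i.left j.left inferInstance
  haveI : IsClosedImmersion m.left := IsClosedImmersion.of_comp m.left (pullback.fst ((𝟙 A) ^ n) η[A]).left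
  show IsFinite W.hom
  rw [← Over.w m]
  infer_instance

/-- The multiplication map of an abelian subvariety and the kernel of an almost retraction is flat and surjective. -/
theorem flat_surjective_mul [IsProper A.hom] [Smooth A.hom] [ConnectedSpace ↥A.left] (i : A ⟶ G) [IsMonHom i]
    (j : N ⟶ G) (ψ : G ⟶ A) [IsMonHom ψ] (hker : AlgGrp.IsKernel j ψ) {n : ℕ} (hn : 0 < n)
    (hiψ : i ≫ ψ = (𝟙 A) ^ n)
    (hcen : ∀ (T : Over (Spec (CommRingCat.of k))) (a : T ⟶ A) (g : T ⟶ G), (a ≫ i) * g = g * (a ≫ i)) :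
    Flat ((i ⊗ₘ j) ≫ μ[G]).left ∧ Surjective ((i ⊗ₘ j) ≫ μ[G]).left := by
  haveI := TorsorNormRel.isCommMonObj_abelianVariety A
  haveI := AbelianSubvariety.geometricallyConnected_of_connected A
  haveI := AbVarLib.geometricallyIntegral_of_smooth A.hom
  haveI : IsFinite ((𝟙 A) ^ n).left := AbCubeLib.isFinite_pow hn
  haveI : IsMonHom ((𝟙 A) ^ n) := by rw [← hiψ]; infer_instance
  obtain ⟨hs, hf⟩ := AbVarLib.surjective_and_flat_of_isFinite ((𝟙 A) ^ n) rfl
  haveI : Mono j := kernel_mono hker
  have hm : (i ⊗ₘ j) ≫ μ[G] = (fst A N ≫ i) * (snd A N ≫ j) := by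
    rw [Hom.mul_def, ← lift_map, lift_fst_snd, Category.id_comp]
  have hjψ := kernel_comp hker
  have hsq : IsPullback ((fst A N ≫ i) * (snd A N ≫ j)) (fst A N) ψ ((𝟙 A) ^ n) := by
    have hc : ((fst A N ≫ i) * (snd A N ≫ j)) ≫ ψ = fst A N ≫ (𝟙 A) ^ n := by
      rw [MonObj.mul_comp _ _ ψ, Category.assoc, Category.assoc, hjψ, hiψ, MonObj.comp_one, _root_.mul_one]
    refine IsPullback.of_isLimit' ⟨hc⟩ (PullbackCone.IsLimit.mk _
      (fun s => lift s.snd (hker.lift ((s.snd ≫ i)⁻¹ * s.fst) (toUnit _) ?_)) (fun s => ?_) (fun s => lift_fst _ _)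
      (fun s m h1 h2 => ?_))
    · rw [MonObj.mul_comp _ _ ψ, GrpObj.inv_comp _ ψ, s.condition, Category.assoc, hiψ, inv_mul_cancel,
        one_unit, MonObj.comp_one]
    · rw [MonObj.comp_mul, lift_fst_assoc, lift_snd_assoc, hker.lift_fst, mul_inv_cancel_left]
    · refine CartesianMonoidalCategory.hom_ext _ _ (by rw [lift_fst, h2]) ?_
      rw [lift_snd, ← cancel_mono j, hker.lift_fst, ← h1, MonObj.comp_mul, ← h2, Category.assoc, Category.assoc,
        inv_mul_cancel_left]
  have hsq' := (hsq.map (Over.forget _)).flip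
  rw [hm]
  exact ⟨MorphismProperty.of_isPullback hsq' hf, MorphismProperty.of_isPullback hsq' hs⟩

/-- The multiplication map of commuting subgroups is a homomorphism. -/
theorem isMonHom_mul (i : A ⟶ G) [IsMonHom i] (j : N ⟶ G) [IsMonHom j]
    (hc : ∀ (T : Over (Spec (CommRingCat.of k))) (a : T ⟶ A) (x : T ⟶ N), (a ≫ i) * (x ≫ j) = (x ≫ j) * (a ≫ i)) :
    IsMonHom ((i ⊗ₘ j) ≫ μ[G]) := by
  have hm : (i ⊗ₘ j) ≫ μ[G] = (fst A N ≫ i) * (snd A N ≫ j) := by
    rw [Hom.mul_def, ← lift_map, lift_fst_snd, Category.id_comp]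
  rw [hm]
  refine SGA3cLib.BCPoints.isMonHom_of_mul _ fun T a b => ?_
  simp only [MonObj.comp_mul, ← Category.assoc, MonObj.mul_comp]
  rw [_root_.mul_assoc, _root_.mul_assoc]
  congr 1
  rw [← _root_.mul_assoc, hc, _root_.mul_assoc]

omit [GrpObj A] [GrpObj N] in
/-- The reduced subgroup of a group over a perfect field. -/
theorem exists_smooth_reduction [PerfectField k] (H : Over (Spec (CommRingCat.of k))) [GrpObj H]
    [LocallyOfFiniteType H.hom] :
    ∃ (R : Over (Spec (CommRingCat.of k))) (_ : GrpObj R) (r : R ⟶ H), IsMonHom r ∧ IsClosedImmersion r.left ∧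
      Smooth R.hom ∧ Surjective r.left ∧
      ∀ (T : Over (Spec (CommRingCat.of k))) [IsReduced T.left] (t : T ⟶ H), ∃ t' : T ⟶ R, t' ≫ r = t := by
  let R : Over (Spec (CommRingCat.of k)) := Over.mk (H.left.nilradical.subschemeι ≫ H.hom)
  let r : R ⟶ H := Over.homMk H.left.nilradical.subschemeι
  haveI : IsReduced R.left := by
    show IsReduced H.left.nilradical.subscheme
    rw [← Scheme.IdealSheafData.vanishingIdeal_top]
    exact Props12.isReduced_subscheme_vanishingIdeal _
  haveI : GeometricallyReduced R.hom := AbVarLib.geometricallyReduced_of_perfectField R.hom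
  haveI : Mono r := Over.mono_of_mono_left r
  have hfac : ∀ (T : Over (Spec (CommRingCat.of k))) [IsReduced T.left] (t : T ⟶ H), ∃ t' : T ⟶ R, t' ≫ r = t := by
    intro T _ t
    have hle : H.left.nilradical.subschemeι.ker ≤ t.left.ker := by
      rw [Scheme.IdealSheafData.ker_subschemeι]; exact CohDer1.QP.nilradical_le_ker t.left
    refine ⟨Over.homMk (IsClosedImmersion.lift _ _ hle) ?_, ?_⟩
    · show IsClosedImmersion.lift _ _ hle ≫ H.left.nilradical.subschemeι ≫ H.hom = _
      rw [IsClosedImmersion.lift_fac_assoc]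
      exact Over.w t
    · ext1
      exact IsClosedImmersion.lift_fac _ _ hle
  haveI : IsReduced (R ⊗ R).left := FBaseLib.isReduced_pullback R.hom R.hom
  haveI : IsReduced (𝟙_ (Over (Spec (CommRingCat.of k)))).left :=
    inferInstanceAs (IsReduced (Spec (CommRingCat.of k)))
  obtain ⟨g, hg⟩ := exists_grpObj_of_mono r (hfac _ 1) (hfac _ _) (hfac _ _)
  haveI : LocallyOfFiniteType R.hom :=
    inferInstanceAs (LocallyOfFiniteType (H.left.nilradical.subschemeι ≫ H.hom))
  letI : GrpObj (Over.mk R.hom) := g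
  haveI : Smooth R.hom := AlgebraicGeometry.smooth_of_grpObj R.hom
  refine ⟨R, g, r, hg, inferInstanceAs (IsClosedImmersion H.left.nilradical.subschemeι), inferInstance, ⟨?_⟩, hfac⟩
  rw [← Set.range_eq_univ]
  show Set.range H.left.nilradical.subschemeι = _
  rw [Scheme.IdealSheafData.range_subschemeι, Scheme.support_nilradical]
  rfl

omit [GrpObj A] [GrpObj N] in
/-- The reduced subgroup of a normal subgroup of a smooth group is normal. -/
theorem isNormalHom_reduction [Smooth G.hom] {N R : Over (Spec (CommRingCat.of k))} [GrpObj N] [GrpObj R]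
    (j : N ⟶ G) (hj : AlgGrp.IsNormalHom j) (r : R ⟶ N) [Smooth R.hom]
    (hfac : ∀ (T : Over (Spec (CommRingCat.of k))) [IsReduced T.left] (t : T ⟶ N), ∃ t' : T ⟶ R, t' ≫ r = t) :
    AlgGrp.IsNormalHom (r ≫ j) := by
  intro T g x
  obtain ⟨c, hc⟩ := hj (G ⊗ R) (fst G R) (snd G R ≫ r)
  haveI : Smooth (G ⊗ R).hom := inferInstanceAs (Smooth (pullback.fst G.hom R.hom ≫ G.hom))
  haveI : IsReduced (G ⊗ R).left := AbSchLib.isReduced_of_smooth (G ⊗ R).hom
  obtain ⟨c', hc'⟩ := hfac _ c
  refine ⟨lift g x ≫ c', ?_⟩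
  have h := congrArg (lift g x ≫ ·) hc
  simp only [MonObj.comp_mul, GrpObj.comp_inv, lift_fst, Category.assoc, lift_snd_assoc] at h
  rw [h, ← hc']
  simp only [Category.assoc]

omit [GrpObj A] [GrpObj N] in
/-- The identity component of a smooth normal subgroup. -/
theorem exists_component [Smooth G.hom] {N : Over (Spec (CommRingCat.of k))} [GrpObj N]
    [Smooth N.hom] [QuasiCompact N.hom] (j : N ⟶ G) [IsMonHom j] [Mono j] (hj : AlgGrp.IsNormalHom j) :
    ∃ (K : Over (Spec (CommRingCat.of k))) (_ : GrpObj K) (u : K ⟶ N), IsMonHom u ∧ IsClosedImmersion u.left ∧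
      IsOpenImmersion u.left ∧ Smooth K.hom ∧ ConnectedSpace ↥K.left ∧ AlgGrp.IsNormalHom (u ≫ j) := by
  obtain ⟨K, gK, u, Q, gQ, q, hu, hq, hK, hkq, -, -, hQa, hQf, hQe⟩ := ComponentQuot.exists_componentGroup N
  letI := gK
  letI := gQ
  haveI := hu
  haveI := hq
  haveI := hK
  haveI := hQe
  haveI := hQf
  have hη : η[Q].left ≫ Q.hom = 𝟙 _ := Over.w η[Q]
  haveI : Etale η[Q].left := by
    haveI : Etale (η[Q].left ≫ Q.hom) := by rw [hη]; infer_instance
    exact Etale.of_comp η[Q].left Q.hom
  haveI hηc : IsClosedImmersion η[Q].left := isClosedImmersion_of_comp_eq_id Q.hom η[Q].left hη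
  haveI : Mono η[Q].left := inferInstance
  haveI hηo : IsOpenImmersion η[Q].left := IsOpenImmersion.of_flat_of_mono η[Q].left
  have sq := (hkq.map (Over.forget _)).flip
  haveI : IsOpenImmersion u.left := MorphismProperty.of_isPullback sq hηo
  haveI : IsClosedImmersion u.left := MorphismProperty.of_isPullback sq hηc
  haveI : Smooth K.hom := by rw [← Over.w u]; infer_instance
  refine ⟨K, gK, u, hu, inferInstance, inferInstance, inferInstance, hK, fun T g x => ?_⟩
  obtain ⟨c, hc⟩ := hj (G ⊗ K) (fst G K) (snd G K ≫ u)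
  have hone : ∀ (x : G ⊗ K ⟶ N), x ≫ q = 1 → ∃ x', x' ≫ u = x := fun x hx => exists_lift_kernel hkq hx
  have hc1 : lift (𝟙 G) (toUnit G ≫ η[K]) ≫ c = 1 := by
    rw [← cancel_mono j, Category.assoc, ← hc, MonObj.comp_mul, MonObj.comp_mul, GrpObj.comp_inv, lift_fst,
      Category.assoc (snd G K), lift_snd_assoc, Category.assoc, IsMonHom.one_hom, MonObj.one_eq_one, MonObj.comp_one, MonObj.one_comp,
      _root_.mul_one, mul_inv_cancel]
  haveI : IsLocallyArtinian Q.left := IsLocallyArtinian.of_locallyQuasiFinite Q.hom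
  haveI : DiscreteTopology Q.left := inferInstance
  have hsub : Set.range (c ≫ q).left ⊆ Set.range η[Q].left := by
    rintro _ ⟨z, rfl⟩
    have h := ComponentQuot.range_subset_component (c ≫ q)
      (by rw [← Category.assoc, hc1, MonObj.one_comp]) z
    rw [connectedComponent_eq_singleton] at h
    exact ⟨_, (Set.mem_singleton_iff.1 h).symm⟩
  have hl := IsOpenImmersion.lift_fac η[Q].left (c ≫ q).left hsub
  obtain ⟨c', hc'⟩ := hone c (by
    refine Over.OverMorphism.ext ?_
    rw [← hl, Hom.one_def]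
    show _ = (G ⊗ K).hom ≫ η[Q].left
    congr 1
    calc IsOpenImmersion.lift η[Q].left (c ≫ q).left hsub
        = IsOpenImmersion.lift η[Q].left (c ≫ q).left hsub ≫ η[Q].left ≫ Q.hom := by rw [hη]; exact (Category.comp_id _).symm
      _ = (G ⊗ K).hom := by rw [← Category.assoc, hl, Over.w (c ≫ q)])
  refine ⟨lift g x ≫ c', ?_⟩
  have h := congrArg (lift g x ≫ ·) hc
  simp only [MonObj.comp_mul, GrpObj.comp_inv, lift_fst, Category.assoc, lift_snd_assoc] at h
  rw [h, ← hc']
  simp only [Category.assoc]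

omit [GrpObj N] in
/-- An abelian subvariety has a normal almost complement. -/
theorem exists_complement [LocallyOfFiniteType G.hom] [QuasiCompact G.hom] [Smooth G.hom] [ConnectedSpace ↥G.left]
    [IsProper A.hom] [Smooth A.hom] [ConnectedSpace ↥A.left] (i : A ⟶ G) [IsMonHom i] [IsClosedImmersion i.left] :
    ∃ (N : Over (Spec (CommRingCat.of k))) (_ : GrpObj N) (j : N ⟶ G), IsMonHom j ∧ IsClosedImmersion j.left ∧
      AlgGrp.IsNormalHom j ∧
      (∀ (T : Over (Spec (CommRingCat.of k))) (a : T ⟶ A) (n : T ⟶ N), (a ≫ i) * (n ≫ j) = (n ≫ j) * (a ≫ i)) ∧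
      Flat ((i ⊗ₘ j) ≫ μ[G]).left ∧ Surjective ((i ⊗ₘ j) ≫ μ[G]).left ∧
      IsFinite (pullback.fst i.left j.left ≫ A.hom) ∧ QuasiCompact N.hom ∧
      (PerfectField k → Smooth N.hom) := by
  haveI : Mono i := Over.mono_of_mono_left i
  haveI := AbelianSubvariety.geometricallyConnected_of_connected G
  haveI := AbVarLib.geometricallyIntegral_of_smooth G.hom
  obtain ⟨ψ, n, hn, hψ, hiψ⟩ := AbelianSubvariety.exists_hom i
  haveI := hψ
  let K := pullback ψ η[A]
  let j : K ⟶ G := pullback.fst ψ η[A]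
  have hker : AlgGrp.IsKernel j ψ := by
    have h := IsPullback.of_hasPullback ψ η[A]
    rwa [toUnit_unique (pullback.snd ψ η[A]) (toUnit _)] at h
  obtain ⟨gK, hj⟩ := exists_grpObj_kernel ψ j hker
  letI := gK
  haveI := hj
  haveI : IsClosedImmersion η[A].left := isClosedImmersion_of_comp_eq_id A.hom η[A].left (Over.w η[A])
  haveI : IsClosedImmersion j.left := MorphismProperty.of_isPullback (hker.map (Over.forget _)).flip ‹IsClosedImmersion η[A].left›
  have hnorm : AlgGrp.IsNormalHom j := fun T g x => by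
    obtain ⟨x', hx'⟩ := exists_lift_kernel hker (g := g * (x ≫ j) * g⁻¹) (by
      rw [MonObj.mul_comp _ _ ψ, MonObj.mul_comp _ _ ψ, Category.assoc, kernel_comp hker, MonObj.comp_one,
        _root_.mul_one, GrpObj.inv_comp _ ψ, mul_inv_cancel])
    exact ⟨x', hx'.symm⟩
  have hcen : ∀ (T : Over (Spec (CommRingCat.of k))) (a : T ⟶ A) (g : T ⟶ G), (a ≫ i) * g = g * (a ≫ i) :=
    fun T a g => AbelianSubvariety.central i a g
  obtain ⟨hfl, hsu⟩ := flat_surjective_mul i j ψ hker hn hiψ hcen
  haveI : QuasiCompact K.hom := by rw [← Over.w j]; infer_instance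
  by_cases hk : PerfectField k
  · haveI := hk
    haveI : LocallyOfFiniteType K.hom := by rw [← Over.w j]; infer_instance
    obtain ⟨R, gR, r, hr, hrc, hRs, hrsur, hfac⟩ := exists_smooth_reduction K
    letI := gR
    haveI := hr
    haveI := hrc
    haveI := hRs
    haveI := hrsur
    haveI : IsClosedImmersion (r ≫ j).left := by rw [Over.comp_left]; infer_instance
    have hkill : (r ≫ j) ≫ ψ = 1 := by rw [Category.assoc, kernel_comp hker, MonObj.comp_one]
    haveI : QuasiCompact R.hom := by rw [← Over.w r]; infer_instance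
    haveI hs' : Surjective ((i ⊗ₘ (r ≫ j)) ≫ μ[G]).left := by
      rw [show (i ⊗ₘ (r ≫ j)) = (A ◁ r) ≫ (i ⊗ₘ j) by rw [whiskerLeft_comp_tensorHom], Category.assoc, Over.comp_left]
      haveI : Surjective (A ◁ r).left := by
        have hw : IsPullback (A ◁ r).left (snd A R).left (snd A K).left r.left := by
          refine IsPullback.of_right (h₁₂ := (fst A K).left) (h₂₂ := K.hom) (v₁₃ := A.hom) ?_ ?_
            (IsPullback.of_hasPullback A.hom K.hom)
          · rw [← Over.comp_left, whiskerLeft_fst, Over.w r]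
            exact IsPullback.of_hasPullback A.hom R.hom
          · rw [← Over.comp_left, ← Over.comp_left, whiskerLeft_snd]
        exact MorphismProperty.of_isPullback (P := @Surjective) hw.flip hrsur
      haveI := hsu
      infer_instance
    haveI hmh : IsMonHom ((i ⊗ₘ (r ≫ j)) ≫ μ[G]) := isMonHom_mul i (r ≫ j) fun T a x => hcen T a _
    haveI : LocallyOfFiniteType (A ⊗ R).hom :=
      inferInstanceAs (LocallyOfFiniteType (pullback.fst A.hom R.hom ≫ A.hom))
    haveI : GeometricallyReduced G.hom := AbSchLib.geometricallyReduced_of_smooth G.hom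
    exact ⟨R, gR, r ≫ j, inferInstance, inferInstance, isNormalHom_reduction j hnorm r hfac,
      fun T a x => hcen T a _, flat_hom_of_surjective _, hs',
      isFinite_inter i (r ≫ j) ψ hkill hn hiψ, inferInstance, fun _ => inferInstance⟩
  · exact ⟨K, gK, j, hj, inferInstance, hnorm, fun T a x => hcen T a _, hfl, hsu,
      isFinite_inter i j ψ (kernel_comp hker) hn hiψ, inferInstance, fun h => absurd h hk⟩

omit [GrpObj N] in
/-- Over a perfect field an abelian subvariety has a connected smooth normal quasi-complement. -/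
theorem exists_connected_complement [PerfectField k] [LocallyOfFiniteType G.hom] [QuasiCompact G.hom] [Smooth G.hom]
    [ConnectedSpace ↥G.left] [IsProper A.hom] [Smooth A.hom] [ConnectedSpace ↥A.left] (i : A ⟶ G) [IsMonHom i]
    [IsClosedImmersion i.left] :
    ∃ (H : Over (Spec (CommRingCat.of k))) (_ : GrpObj H) (h : H ⟶ G), IsMonHom h ∧ IsClosedImmersion h.left ∧
      Smooth H.hom ∧ ConnectedSpace ↥H.left ∧ AlgGrp.IsNormalHom h ∧ Surjective ((i ⊗ₘ h) ≫ μ[G]).left ∧
      IsFinite (pullback.fst i.left h.left ≫ A.hom) := by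
  obtain ⟨N, gN, j, hj, hjc, hnorm, hcen, hfl, hsu, hfin, hqc, hsm⟩ := exists_complement i
  letI := gN
  haveI := hj
  haveI := hjc
  haveI := hqc
  haveI := hsm inferInstance
  haveI : Mono j := Over.mono_of_mono_left j
  obtain ⟨K, gK, u, hu, huc, huo, hK, hKc, hKn⟩ := exists_component j hnorm
  letI := gK
  haveI := hu
  haveI := huc
  haveI := huo
  haveI := hK
  haveI := hKc
  haveI : IsClosedImmersion (u ≫ j).left := by rw [Over.comp_left]; infer_instance
  refine ⟨K, gK, u ≫ j, inferInstance, inferInstance, inferInstance, inferInstance, hKn, ?_, ?_⟩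
  · haveI hmh : IsMonHom ((i ⊗ₘ (u ≫ j)) ≫ μ[G]) := isMonHom_mul i (u ≫ j) fun T a x => by
      have := hcen T a (x ≫ u)
      rwa [Category.assoc] at this
    haveI : Flat ((i ⊗ₘ (u ≫ j)) ≫ μ[G]).left := by
      rw [show (i ⊗ₘ (u ≫ j)) = (A ◁ u) ≫ (i ⊗ₘ j) by rw [whiskerLeft_comp_tensorHom], Category.assoc, Over.comp_left]
      haveI : Flat (A ◁ u).left := by
        have hw : IsPullback (A ◁ u).left (snd A K).left (snd A N).left u.left := by
          refine IsPullback.of_right (h₁₂ := (fst A N).left) (h₂₂ := N.hom) (v₁₃ := A.hom) ?_ ?_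
            (IsPullback.of_hasPullback A.hom N.hom)
          · rw [← Over.comp_left, whiskerLeft_fst, Over.w u]
            exact IsPullback.of_hasPullback A.hom K.hom
          · rw [← Over.comp_left, ← Over.comp_left, whiskerLeft_snd]
        exact MorphismProperty.of_isPullback (P := @Flat) hw.flip (inferInstanceAs (Flat u.left))
      haveI := hfl
      infer_instance
    haveI : LocallyOfFiniteType (A ⊗ K).hom :=
      inferInstanceAs (LocallyOfFiniteType (pullback.fst A.hom K.hom ≫ A.hom))
    haveI := AbelianSubvariety.geometricallyConnected_of_connected G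
    haveI := AbVarLib.geometricallyIntegral_of_smooth G.hom
    exact surjective_of_flat _
  · let m : pullback i.left (u ≫ j).left ⟶ pullback i.left j.left :=
      pullback.lift (pullback.fst _ _) (pullback.snd _ _ ≫ u.left) (by
        rw [Category.assoc, ← Over.comp_left]; exact pullback.condition)
    have hm : m ≫ pullback.fst i.left j.left = pullback.fst i.left (u ≫ j).left := pullback.lift_fst _ _ _
    haveI : IsClosedImmersion (pullback.fst i.left j.left) :=
      MorphismProperty.pullback_fst (P := @IsClosedImmersion) _ _ hjc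
    haveI : IsClosedImmersion (m ≫ pullback.fst i.left j.left) := by
      rw [hm]
      exact MorphismProperty.pullback_fst (P := @IsClosedImmersion) _ _ inferInstance
    haveI : IsClosedImmersion m := IsClosedImmersion.of_comp m (pullback.fst i.left j.left)
    rw [← hm, Category.assoc]
    haveI := hfin
    infer_instance

end Groth.Agent.AlgGrpLib.AbelianComplement
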