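import Groth.Agent.S7800
import Groth.Agent.AlgGrpLib.TorusUnipotent
import Groth.Agent.AlgGrpLib.AbelianComplement
import Groth.Agent.AlgGrpLib.ImageSubgroup
import Groth.Agent.AlgGrpLib.OpenOrbit
import Groth.Agent.SGA3DerLib.GroupLaws
import Groth.Agent.AbVarLib.HomDim
import Groth.Agent.GrpQ26.Preimage

/-!
# Properties of subgroups preserved by isogenies
-/

set_option autoImplicit false
set_option backward.isDefEq.respectTransparency.types false
set_option linter.style.haveILetI false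

universe u

open CategoryTheory CategoryTheory.Limits MonoidalCategory CartesianMonoidalCategory MonObj AlgebraicGeometry
open scoped commutatorElement

noncomputable section

namespace Groth.Agent.AlgGrpLib.IsogenyProps

variable {k : Type u} [Field k] [IsAlgClosed k]

/-- Smooth connected quasi-compact schemes with a rational point are geometrically integral. -/
theorem geometricallyIntegral_of_pt (Z : Over (Spec (CommRingCat.of k))) [Smooth Z.hom] [QuasiCompact Z.hom]
    [ConnectedSpace Z.left] (z : 𝟙_ (Over (Spec (CommRingCat.of k))) ⟶ Z) : GeometricallyIntegral Z.hom := by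
  haveI : GeometricallyConnected Z.hom := by
    have := Groth.Agent.SGA3cLib.geometricallyConnected_of_rational_point k Z.hom (𝟙 Z.left) z.left (Over.w z)
      (fun x _ => ⟨x, rfl⟩)
    rwa [Category.id_comp] at this
  exact AbVarLib.geometricallyIntegral_of_smooth Z.hom

theorem irreducibleSpace_of_pt (Z : Over (Spec (CommRingCat.of k))) [Smooth Z.hom] [QuasiCompact Z.hom]
    [ConnectedSpace Z.left] (z : 𝟙_ (Over (Spec (CommRingCat.of k))) ⟶ Z) : IrreducibleSpace Z.left := by
  haveI := geometricallyIntegral_of_pt Z z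
  haveI : Subsingleton ↥(Spec (CommRingCat.of k)) := inferInstanceAs (Subsingleton (PrimeSpectrum k))
  haveI : Nonempty ↥(Spec (CommRingCat.of k)) := inferInstanceAs (Nonempty (PrimeSpectrum k))
  exact GeometricallyIrreducible.irreducibleSpace_of_subsingleton Z.hom

/-- Good sources of words. -/
def Nice (Z : Over (Spec (CommRingCat.of k))) : Prop :=
  Smooth Z.hom ∧ QuasiCompact Z.hom ∧ ConnectedSpace Z.left ∧ Nonempty (𝟙_ (Over (Spec (CommRingCat.of k))) ⟶ Z)

theorem Nice.tensor {Y Z : Over (Spec (CommRingCat.of k))} (hY : Nice Y) (hZ : Nice Z) : Nice (Y ⊗ Z) := by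
  obtain ⟨_, _, _, ⟨y⟩⟩ := hY
  obtain ⟨_, _, _, ⟨z⟩⟩ := hZ
  haveI := irreducibleSpace_of_pt Y y
  haveI := geometricallyIntegral_of_pt Z z
  haveI : IrreducibleSpace (Y ⊗ Z).left := OpenOrbit.irreducibleSpace_tensor Y Z
  exact ⟨inferInstanceAs (Smooth (pullback.fst Y.hom Z.hom ≫ Y.hom)),
    inferInstanceAs (QuasiCompact (pullback.fst Y.hom Z.hom ≫ Y.hom)), inferInstance, ⟨lift y z⟩⟩

theorem nice_self (U : Over (Spec (CommRingCat.of k))) [GrpObj U] [Smooth U.hom] [QuasiCompact U.hom]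
    [ConnectedSpace U.left] : Nice U :=
  ⟨inferInstance, inferInstance, inferInstance, ⟨η[U]⟩⟩

variable {U V : Over (Spec (CommRingCat.of k))} [GrpObj U] [GrpObj V] [LocallyOfFiniteType U.hom]
  [LocallyOfFiniteType V.hom] (p : U ⟶ V) [IsMonHom p] [IsFinite p.left]

/-- A connected reduced family in a finite kernel with a trivial value is trivial. -/
theorem eq_one_of_nice {Z : Over (Spec (CommRingCat.of k))} (hZ : Nice Z) (c : Z ⟶ U) (hc : c ≫ p = 1)
    (z : 𝟙_ (Over (Spec (CommRingCat.of k))) ⟶ Z) (hz : z ≫ c = 1) : c = 1 := by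
  obtain ⟨_, _, _, -⟩ := hZ
  haveI : IsReduced Z.left := AbSchLib.isReduced_of_smooth Z.hom
  haveI : IsClosedImmersion η[U].left := SGA3xLib.isClosedImmersion_of_section U.hom _ (Over.w η[U])
  haveI : IsClosedImmersion η[V].left := SGA3xLib.isClosedImmersion_of_section V.hom _ (Over.w η[V])
  haveI : Subsingleton ↥(𝟙_ (Over (Spec (CommRingCat.of k)))).left := inferInstanceAs (Subsingleton (PrimeSpectrum k))
  let pt₀ : ↥(𝟙_ (Over (Spec (CommRingCat.of k)))).left := IsLocalRing.closedPoint k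
  let v₀ : ↥V.left := η[V].left pt₀
  have hcl : IsClosed ({v₀} : Set V.left) := by
    have h := η[V].left.isClosedEmbedding.isClosed_range
    convert h using 1
    ext v
    exact ⟨fun hv => ⟨pt₀, hv.symm⟩, fun ⟨q, hq⟩ => hq.symm.trans (congrArg _ (Subsingleton.elim q pt₀))⟩
  let F : Set U.left := p.left ⁻¹' {v₀}
  have hFfin : F.Finite := p.left.finite_preimage_singleton v₀
  have hFcl : IsClosed F := hcl.preimage p.left.continuous
  have hFd : DiscreteTopology F := (p.left.isDiscrete_preimage_singleton v₀).to_subtype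
  have hmem : ∀ x, c.left x ∈ F := fun x => by
    show (c ≫ p).left x = v₀
    rw [hc, Hom.one_def]
    exact congrArg η[V].left (Subsingleton.elim _ _)
  let cF : Z.left → F := fun x => ⟨c.left x, hmem x⟩
  have hcont : Continuous cF := Continuous.subtype_mk c.left.continuous hmem
  have hrange : Set.range c.left ⊆ Set.range η[U].left := by
    rintro _ ⟨x, rfl⟩
    refine ⟨pt₀, ?_⟩
    have h1 : c.left x = c.left (z.left pt₀) :=
      congrArg Subtype.val (PreconnectedSpace.constant inferInstance hcont (x := x) (y := z.left pt₀))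
    rw [h1]
    have h2 : (z ≫ c).left pt₀ = η[U].left pt₀ := by
      rw [hz, Hom.one_def]
      exact congrArg η[U].left (Subsingleton.elim _ _)
    exact h2.symm
  obtain ⟨l, hl⟩ := RedSepLib.exists_lift_of_range_subset c.left η[U].left hrange
  have hl' : l = (toUnit Z).left := by
    have h3 := congrArg (fun q => q ≫ U.hom) hl
    simp only [Category.assoc, Over.w] at h3
    rw [← Category.comp_id l]
    exact (h3.trans (Over.w (toUnit Z)).symm).trans (Category.comp_id _)
  refine Over.OverMorphism.ext ?_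
  rw [← hl, hl', Hom.one_def, Over.comp_left]

variable [Smooth U.hom] [QuasiCompact U.hom] [ConnectedSpace U.left]

include p in
/-- Commutativity lifts along finite homomorphisms. -/
theorem comm_of_finite [IsCommMonObj V] : IsCommMonObj U := by
  let c : U ⊗ U ⟶ U := ⁅fst U U, snd U U⁆
  have hc : c = 1 := eq_one_of_nice p ((nice_self U).tensor (nice_self U)) c (by
      simp only [c, commutatorElement_def, MonObj.mul_comp, GrpObj.inv_comp]
      rw [_root_.mul_comm (fst U U ≫ p)]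
      group) (lift η[U] η[U]) (by
      simp only [c, commutatorElement_def, MonObj.comp_mul, GrpObj.comp_inv, lift_fst, lift_snd, MonObj.one_eq_one]
      group)
  refine (isCommMonObj_iff_isMulCommutative _).2 fun T => ⟨⟨fun x y => ?_⟩⟩
  have h := congrArg (lift x y ≫ ·) hc
  simp only [c, commutatorElement_def, MonObj.comp_mul, GrpObj.comp_inv, lift_fst, lift_snd, MonObj.comp_one] at h
  exact commutatorElement_eq_one_iff_mul_comm.1 h

/-- Sources of derived words. -/
def P (U : Over (Spec (CommRingCat.of k))) : ℕ → Over (Spec (CommRingCat.of k))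
  | 0 => U
  | n + 1 => P U n ⊗ P U n

/-- Derived words. -/
def w (U : Over (Spec (CommRingCat.of k))) [GrpObj U] : ∀ n, P U n ⟶ U
  | 0 => 𝟙 U
  | n + 1 => (⁅fst (P U n) (P U n) ≫ w U n, snd (P U n) (P U n) ≫ w U n⁆ : P U n ⊗ P U n ⟶ U)

/-- Sources of central words. -/
def Q (U : Over (Spec (CommRingCat.of k))) : ℕ → Over (Spec (CommRingCat.of k))
  | 0 => U
  | n + 1 => Q U n ⊗ U

/-- Central words. -/
def v (U : Over (Spec (CommRingCat.of k))) [GrpObj U] : ∀ n, Q U n ⟶ U
  | 0 => 𝟙 U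
  | n + 1 => (⁅fst (Q U n) U ≫ v U n, snd (Q U n) U⁆ : Q U n ⊗ U ⟶ U)

theorem nice_P : ∀ n, Nice (P U n) ∧ ∃ z : 𝟙_ (Over (Spec (CommRingCat.of k))) ⟶ P U n, z ≫ w U n = 1
  | 0 => ⟨nice_self U, η[U], by
      show η[U] ≫ 𝟙 U = 1
      rw [Category.comp_id, MonObj.one_eq_one]⟩
  | n + 1 => by
    obtain ⟨h, z, hz⟩ := nice_P n
    refine ⟨h.tensor h, lift z z, ?_⟩
    show lift z z ≫ (⁅fst (P U n) (P U n) ≫ w U n, snd (P U n) (P U n) ≫ w U n⁆ : P U n ⊗ P U n ⟶ U) = 1
    simp only [commutatorElement_def, MonObj.comp_mul, GrpObj.comp_inv, lift_fst_assoc, lift_snd_assoc, hz]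
    group

theorem nice_Q : ∀ n, Nice (Q U n) ∧ ∃ z : 𝟙_ (Over (Spec (CommRingCat.of k))) ⟶ Q U n, z ≫ v U n = 1
  | 0 => ⟨nice_self U, η[U], by
      show η[U] ≫ 𝟙 U = 1
      rw [Category.comp_id, MonObj.one_eq_one]⟩
  | n + 1 => by
    obtain ⟨h, z, hz⟩ := nice_Q n
    refine ⟨h.tensor (nice_self U), lift z η[U], ?_⟩
    show lift z η[U] ≫ (⁅fst (Q U n) U ≫ v U n, snd (Q U n) U⁆ : Q U n ⊗ U ⟶ U) = 1
    simp only [commutatorElement_def, MonObj.comp_mul, GrpObj.comp_inv, lift_fst_assoc, lift_snd, hz,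
      MonObj.one_eq_one]
    group

omit [LocallyOfFiniteType U.hom] [Smooth U.hom] [QuasiCompact U.hom] [ConnectedSpace U.left] in
theorem derived_closure (T : Over (Spec (CommRingCat.of k))) (n : ℕ) :
    derivedSeries (T ⟶ U) n = Subgroup.closure (Set.range fun h : T ⟶ P U n => h ≫ w U n) := by
  refine (SGA3DerLib.derivedSeries_eq_closure (fun n => Set.range fun h : T ⟶ P U n => h ≫ w U n) ?_ ?_ n).1
  · exact Set.eq_univ_of_forall fun g => ⟨g, Category.comp_id g⟩
  · intro m
    ext g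
    constructor
    · rintro ⟨h₀, rfl⟩
      obtain ⟨h, rfl⟩ : ∃ h : T ⟶ P U m ⊗ P U m, h = h₀ := ⟨h₀, rfl⟩
      refine ⟨(h ≫ fst (P U m) (P U m)) ≫ w U m, ⟨_, rfl⟩, (h ≫ snd (P U m) (P U m)) ≫ w U m, ⟨_, rfl⟩, ?_⟩
      show _ = h ≫ (⁅fst (P U m) (P U m) ≫ w U m, snd (P U m) (P U m) ≫ w U m⁆ : P U m ⊗ P U m ⟶ U)
      simp only [commutatorElement_def, Category.assoc]
      symm
      rw [MonObj.comp_mul, MonObj.comp_mul, MonObj.comp_mul, GrpObj.comp_inv, GrpObj.comp_inv]
    · rintro ⟨_, ⟨a, rfl⟩, _, ⟨b, rfl⟩, rfl⟩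
      refine ⟨lift a b, ?_⟩
      show lift a b ≫ (⁅fst (P U m) (P U m) ≫ w U m, snd (P U m) (P U m) ≫ w U m⁆ : P U m ⊗ P U m ⟶ U) = _
      simp only [commutatorElement_def, MonObj.comp_mul, GrpObj.comp_inv, lift_fst_assoc, lift_snd_assoc]

omit [LocallyOfFiniteType U.hom] [Smooth U.hom] [QuasiCompact U.hom] [ConnectedSpace U.left] in
theorem lower_closure (T : Over (Spec (CommRingCat.of k))) (n : ℕ) :
    Subgroup.lowerCentralSeries (⊤ : Subgroup (T ⟶ U)) n =
      Subgroup.closure (Set.range fun h : T ⟶ Q U n => h ≫ v U n) := by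
  refine (SGA3DerLib.lowerCentralSeries_eq_closure (fun n => Set.range fun h : T ⟶ Q U n => h ≫ v U n) ?_ ?_ n).1
  · exact Set.eq_univ_of_forall fun g => ⟨g, Category.comp_id g⟩
  · intro m
    ext g
    constructor
    · rintro ⟨h₀, rfl⟩
      obtain ⟨h, rfl⟩ : ∃ h : T ⟶ Q U m ⊗ U, h = h₀ := ⟨h₀, rfl⟩
      refine ⟨(h ≫ fst (Q U m) U) ≫ v U m, ⟨_, rfl⟩, h ≫ snd (Q U m) U, trivial, ?_⟩
      show _ = h ≫ (⁅fst (Q U m) U ≫ v U m, snd (Q U m) U⁆ : Q U m ⊗ U ⟶ U)
      simp only [commutatorElement_def, Category.assoc]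
      symm
      rw [MonObj.comp_mul, MonObj.comp_mul, MonObj.comp_mul, GrpObj.comp_inv, GrpObj.comp_inv]
    · rintro ⟨_, ⟨a, rfl⟩, b, -, rfl⟩
      refine ⟨lift a b, ?_⟩
      show lift a b ≫ (⁅fst (Q U m) U ≫ v U m, snd (Q U m) U⁆ : Q U m ⊗ U ⟶ U) = _
      simp only [commutatorElement_def, MonObj.comp_mul, GrpObj.comp_inv, lift_fst_assoc, lift_snd]

include p in
/-- Solvability lifts along finite homomorphisms. -/
theorem solvable_of_finite (hV : Red.IsSolvableGrp V) : Red.IsSolvableGrp U := by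
  obtain ⟨n, hn⟩ := hV
  obtain ⟨hnice, z, hz⟩ := nice_P (U := U) n
  have hw : w U n = 1 := eq_one_of_nice p hnice (w U n) (by
    have h1 : w U n ∈ derivedSeries (P U n ⟶ U) n := by
      rw [derived_closure]
      exact Subgroup.subset_closure ⟨𝟙 _, Category.id_comp _⟩
    have h2 := map_derivedSeries_le_derivedSeries
      (MonoidHom.mk' (fun g : P U n ⟶ U => g ≫ p) fun a b => MonObj.mul_comp a b p) n ⟨_, h1, rfl⟩
    rw [hn] at h2
    exact h2) z hz
  refine ⟨n, fun T => ?_⟩
  rw [derived_closure, Subgroup.closure_eq_bot_iff]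
  rintro _ ⟨h, rfl⟩
  exact (congrArg (h ≫ ·) hw).trans (MonObj.comp_one h)

theorem upper_iff (Γ : Type*) [Group Γ] (n : ℕ) :
    Subgroup.upperCentralSeries Γ n = ⊤ ↔ Subgroup.lowerCentralSeries (⊤ : Subgroup Γ) n = ⊥ := by
  constructor
  · intro h
    haveI : Group.IsNilpotent Γ := ⟨⟨n, h⟩⟩
    exact Subgroup.lowerCentralSeries_eq_bot_iff_nilpotencyClass_le.2
      (Subgroup.upperCentralSeries_eq_top_iff_nilpotencyClass_le.1 h)
  · intro h
    haveI : Group.IsNilpotent Γ := Subgroup.nilpotent_iff_lowerCentralSeries.2 ⟨n, h⟩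
    exact Subgroup.upperCentralSeries_eq_top_iff_nilpotencyClass_le.2
      (Subgroup.lowerCentralSeries_eq_bot_iff_nilpotencyClass_le.1 h)

include p in
/-- Nilpotency lifts along finite homomorphisms. -/
theorem nilpotent_of_finite (hV : AGF.IsNilpotentGrp V) : AGF.IsNilpotentGrp U := by
  obtain ⟨n, hn⟩ := hV
  obtain ⟨hnice, z, hz⟩ := nice_Q (U := U) n
  have hw : v U n = 1 := eq_one_of_nice p hnice (v U n) (by
    have h1 : v U n ∈ Subgroup.lowerCentralSeries (⊤ : Subgroup (Q U n ⟶ U)) n := by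
      rw [lower_closure]
      exact Subgroup.subset_closure ⟨𝟙 _, Category.id_comp _⟩
    have h2 := Subgroup.map_lowerCentralSeries (⊤ : Subgroup (Q U n ⟶ U))
      (MonoidHom.mk' (fun g : Q U n ⟶ U => g ≫ p) fun a b => MonObj.mul_comp a b p) n
    have h3 : v U n ≫ p ∈ Subgroup.lowerCentralSeries (⊤ : Subgroup (Q U n ⟶ V)) n := by
      refine Subgroup.lowerCentralSeries_mono n (le_top : Subgroup.map (MonoidHom.mk' (fun g : Q U n ⟶ U => g ≫ p)
        fun a b => MonObj.mul_comp a b p) ⊤ ≤ ⊤) ?_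
      show v U n ≫ p ∈ Subgroup.lowerCentralSeries _ n
      rw [← h2]
      exact ⟨v U n, h1, rfl⟩
    rw [(upper_iff _ _).1 (hn _)] at h3
    exact h3) z hz
  refine ⟨n, fun T => ?_⟩
  rw [upper_iff, lower_closure, Subgroup.closure_eq_bot_iff]
  rintro _ ⟨h, rfl⟩
  exact (congrArg (h ≫ ·) hw).trans (MonObj.comp_one h)

end Groth.Agent.AlgGrpLib.IsogenyProps
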