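import Groth.Agent.AlgGrpLib.CentralTorus
import Groth.Agent.DynLib.Connected
import Groth.Agent.S3309

/-!
# The centre lies in a connected solvable subgroup

Descend through centralisers of non-central cocharacters; they are connected by the big cell.
-/

set_option autoImplicit false
set_option backward.isDefEq.respectTransparency.types false
set_option maxHeartbeats 800000
set_option linter.style.haveILetI false

universe u

open LaurentPolynomial TensorProduct WithConv AlgebraicGeometry HopfRep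
open Groth.Agent.DynLib (Pt push conj pre tee cst)

noncomputable section

namespace Groth.Agent.AlgGrpLib.CentreSolvable

variable {k : Type u} [Field k] {A : Type u} [CommRing A] [HopfAlgebra k A]

/-- A point commuting with all points over every extension of its ring. -/
def IsCentralPt {R : Type u} [CommRing R] [Algebra k R] (g : Pt k A R) : Prop :=
  ∀ (R' : Type u) [CommRing R'] [Algebra k R'] (φ : R →ₐ[k] R') (h : Pt k A R'), push φ g * h = h * push φ g

/-- The centraliser of a cocharacter of an integral group is integral. -/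
theorem isDomain_centralizer [Algebra.FiniteType k A] [IsDomain A] (lam : A →ₐc[k] k[T;T⁻¹]) :
    IsDomain (A ⧸ (DynLib.limIdeal lam ⊔ DynLib.limIdeal ((DynLib.invertHom k).comp lam))) := by
  let lamNeg := (DynLib.invertHom k).comp lam
  let Jp := DynLib.limIdeal lam
  let Jp' := DynLib.limIdeal lamNeg
  let Jm := DynLib.oneIdeal lamNeg
  let Z := Jp ⊔ Jp'
  have hneg := DynLib.invertHom_comp_eq lam
  haveI : Jp.IsHopfIdeal k := DynLib.isHopfIdeal_limIdeal lam
  haveI : Jp'.IsHopfIdeal k := DynLib.isHopfIdeal_limIdeal lamNeg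
  have hp : Dyn.Represents k A Jp (fun R _ _ g => Dyn.LimExists k A lam R g) :=
    fun R _ _ g => (DynLib.kills_limIdeal_iff lam g).trans (DynLib.limExists_iff lam g).symm
  have hp' : Dyn.Represents k A Jp' (fun R _ _ g => Dyn.LimExists k A lamNeg R g) :=
    fun R _ _ g => (DynLib.kills_limIdeal_iff lamNeg g).trans (DynLib.limExists_iff lamNeg g).symm
  have hZ := S3309.result k A lam lamNeg hneg Jp Jp' hp hp'
  -- the cell is integral
  have hopen := DynLib.isOpenImmersion_cell_field (k := k) (A := A) (lam := lam) (lamNeg := lamNeg) hneg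
    (Jm := Jm) (Jp := Jp) hp fun R _ _ g => (DynLib.kills_oneIdeal_iff lamNeg g).trans (DynLib.limIsOne_iff lamNeg g).symm
  have hε : ∀ (J : Ideal A), (∀ a ∈ J, Bialgebra.counitAlgHom k A a = 0) → ∃ e : (A ⧸ J) →ₐ[k] k, True :=
    fun J hJ => ⟨Ideal.Quotient.liftₐ J (Bialgebra.counitAlgHom k A) hJ, trivial⟩
  obtain ⟨em, -⟩ := hε Jm ((DynLib.kills_oneIdeal_iff lamNeg (Bialgebra.counitAlgHom k A)).2
      (show (1 : Pt k A k) ∈ DynLib.oneSub k lamNeg from one_mem _))
  obtain ⟨ep, -⟩ := hε Jp ((DynLib.kills_limIdeal_iff lam (Bialgebra.counitAlgHom k A)).2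
      (show (1 : Pt k A k) ∈ DynLib.limSub k lam from one_mem _))
  haveI : Nonempty ↥(Spec (CommRingCat.of ((A ⧸ Jm) ⊗[k] (A ⧸ Jp)))) := by
    let e : (A ⧸ Jm) ⊗[k] (A ⧸ Jp) →ₐ[k] k := Algebra.TensorProduct.lift em ep fun _ _ => .all _ _
    exact ⟨⟨RingHom.ker e, RingHom.ker_isPrime e⟩⟩
  haveI := hopen
  haveI : IsIntegral (Spec (CommRingCat.of A)) := inferInstance
  haveI : IsIntegral (Spec (CommRingCat.of ((A ⧸ Jm) ⊗[k] (A ⧸ Jp)))) :=
    isIntegral_of_isOpenImmersion (Spec.map (CommRingCat.ofHom (DynLib.cellHom k Jm Jp).toRingHom))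
  haveI : IsDomain ((A ⧸ Jm) ⊗[k] (A ⧸ Jp)) := (affine_isIntegral_iff (R := CommRingCat.of _)).1 ‹_›
  have hinj : Function.Injective
      (Algebra.TensorProduct.includeRight : A ⧸ Jp →ₐ[k] (A ⧸ Jm) ⊗[k] (A ⧸ Jp)) := fun x y h => by
    have := congrArg (Algebra.TensorProduct.lift ((Algebra.ofId k (A ⧸ Jp)).comp em) (AlgHom.id k (A ⧸ Jp))
      fun _ _ => .all _ _) h
    simpa using this
  haveI : IsDomain (A ⧸ Jp) := Function.Injective.isDomain
    (Algebra.TensorProduct.includeRight : A ⧸ Jp →ₐ[k] (A ⧸ Jm) ⊗[k] (A ⧸ Jp)).toRingHom hinj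
  -- the retraction
  let πp : Pt k A (A ⧸ Jp) := toConv (Ideal.Quotient.mkₐ k Jp)
  obtain ⟨h, hh⟩ := (DynLib.kills_limIdeal_iff lam πp.ofConv).1 fun a ha => Ideal.Quotient.eq_zero_iff_mem.2 ha
  let z : Pt k A (A ⧸ Jp) := push (DynLib.ev0 k _) h
  have hz : ∀ a ∈ Z, z.ofConv a = 0 := by
    refine (hZ _ z.ofConv).2 ?_
    beta_reduce
    rw [DynLib.conjOrbit_eq, toConv_ofConv, DynLib.conj_limit lam πp h hh]
    rfl
  let r : A ⧸ Z →ₐ[k] A ⧸ Jp := Ideal.Quotient.liftₐ Z z.ofConv hz
  let s : A ⧸ Jp →ₐ[k] A ⧸ Z := Ideal.Quotient.factorₐ k le_sup_left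
  let πz : Pt k A (A ⧸ Z) := toConv (Ideal.Quotient.mkₐ k Z)
  have hzz : push s z = πz := by
    have hcz : conj (A ⧸ Z) lam πz = push (cst k _) πz := by
      have := (hZ _ πz.ofConv).1 fun a ha => Ideal.Quotient.eq_zero_iff_mem.2 ha
      beta_reduce at this
      rw [DynLib.conjOrbit_eq, toConv_ofConv] at this
      exact WithConv.ext this
    have hsπ : push s πp = πz := WithConv.ext (AlgHom.ext fun a => rfl)
    have h1 : push (DynLib.jay k _) (push (DynLib.Pmap s) h) = push (cst k _) πz := by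
      rw [DynLib.push_push, ← DynLib.Lmap_jay, ← DynLib.push_push, hh, DynLib.push_conj, hsπ, hcz]
    have h2 : push (DynLib.Pmap s) h = push ((Polynomial.CAlgHom (R := A ⧸ Z)).restrictScalars k) πz := by
      refine DynLib.push_injective (DynLib.jay k _) DynLib.jay_injective ?_
      rw [h1, DynLib.push_push]
      refine congrArg (fun φ => push φ πz) (AlgHom.ext fun x => ?_)
      rw [DynLib.cst_apply]
      exact (Polynomial.toLaurent_C x).symm
    have h3 := congrArg (push (DynLib.ev0 k _)) h2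
    rw [DynLib.push_push, DynLib.push_push] at h3
    refine Eq.trans ?_ (h3.trans ?_)
    · show push s (push (DynLib.ev0 k _) h) = _
      rw [DynLib.push_push]
      refine congrArg (fun φ => push φ h) (AlgHom.ext fun p => ?_)
      simp [DynLib.ev0_apply, DynLib.Pmap_coeff]
    · refine WithConv.ext (AlgHom.ext fun a => ?_)
      simp [DynLib.ev0_apply]
  have hrinj : Function.Injective r := by
    refine Function.LeftInverse.injective (g := s) fun x => ?_
    obtain ⟨a, rfl⟩ := Ideal.Quotient.mk_surjective x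
    exact congrArg (fun p : Pt k A (A ⧸ Z) => p.ofConv a) hzz
  exact Function.Injective.isDomain r.toRingHom hrinj

variable [IsAlgClosed k]

/-- A connected group has a connected solvable subgroup containing its centre. -/
theorem exists_solvable_containing_centre [Algebra.FiniteType k A] [IsDomain A] :
    ∃ (E : Type u) (_ : CommRing E) (_ : HopfAlgebra k E) (ρ : A →ₐc[k] E), Function.Surjective ρ ∧ IsDomain E ∧
      Group.IsSolvable (WithConv (E →ₐ[k] k)) ∧
      ∀ (R : Type u) [CommRing R] [Algebra k R] (g : Pt k A R), IsCentralPt g →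
        ∀ a, ρ a = 0 → g.ofConv a = 0 := by
  haveI : IsNoetherianRing A := Algebra.FiniteType.isNoetherianRing k A
  suffices key : ∀ P : Ideal A, ∀ (D : Type u) (_ : CommRing D) (_ : HopfAlgebra k D) (π : A →ₐc[k] D),
      RingHom.ker (π : A →+* D) = P → IsDomain D → Function.Surjective π →
      ∃ (E : Type u) (_ : CommRing E) (_ : HopfAlgebra k E) (ρ : D →ₐc[k] E), Function.Surjective ρ ∧ IsDomain E ∧
        Group.IsSolvable (WithConv (E →ₐ[k] k)) ∧
        ∀ (R : Type u) [CommRing R] [Algebra k R] (g : Pt k D R), IsCentralPt g →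
          ∀ a, ρ a = 0 → g.ofConv a = 0 from
    key _ A _ _ (BialgHom.id k A) rfl inferInstance Function.surjective_id
  intro P
  induction P using WellFoundedGT.induction with
  | ind P ih =>
  intro D _ _ π hP hD hπ
  haveI := hD
  haveI : Algebra.FiniteType k D := Algebra.FiniteType.of_surjective (π : A →ₐ[k] D) hπ
  by_cases hc : ∀ lam : D →ₐc[k] k[T;T⁻¹], CentralTorus.IsCentralCochar lam
  · refine ⟨D, inferInstance, inferInstance, BialgHom.id k D, Function.surjective_id, inferInstance,
      CentralTorus.isSolvable_of_central hc, fun R _ _ g _ a ha => ?_⟩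
    rw [show a = 0 from ha, map_zero]
  push Not at hc
  obtain ⟨lam, hlam⟩ := hc
  let lamNeg := (DynLib.invertHom k).comp lam
  let Jp := DynLib.limIdeal lam
  let Jp' := DynLib.limIdeal lamNeg
  let Z := Jp ⊔ Jp'
  haveI : Jp.IsHopfIdeal k := DynLib.isHopfIdeal_limIdeal lam
  haveI : Jp'.IsHopfIdeal k := DynLib.isHopfIdeal_limIdeal lamNeg
  have hneg := DynLib.invertHom_comp_eq lam
  have hZ := S3309.result k D lam lamNeg hneg Jp Jp'
    (fun R _ _ g => (DynLib.kills_limIdeal_iff lam g).trans (DynLib.limExists_iff lam g).symm)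
    (fun R _ _ g => (DynLib.kills_limIdeal_iff lamNeg g).trans (DynLib.limExists_iff lamNeg g).symm)
  haveI : Z.IsHopfIdeal k := DynLib.isHopfIdeal_of_subgroup Z
    (fun R _ _ => MonoidHom.eqLocus (conj R lam) (push (cst k R))) fun R _ _ g => by
      refine (hZ R g).trans ?_
      beta_reduce
      rw [DynLib.conjOrbit_eq]
      exact ⟨fun h => WithConv.ext h, fun h => congrArg WithConv.ofConv h⟩
  haveI : IsDomain (D ⧸ Z) := isDomain_centralizer lam
  let π' : D →ₐc[k] D ⧸ Z := Bialgebra.Quotient.mkBialgHom (R := k) Z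
  have hlt : P < RingHom.ker ((π'.comp π : A →ₐc[k] D ⧸ Z) : A →+* D ⧸ Z) := by
    refine lt_of_le_of_ne (fun z hz => ?_) fun heq => hlam ?_
    · rw [← hP] at hz
      show π' (π z) = 0
      rw [show π z = 0 from hz, map_zero]
    · have hbot : ∀ d ∈ Z, d = 0 := fun d hd => by
        obtain ⟨a, rfl⟩ := hπ d
        have ha : a ∈ RingHom.ker ((π'.comp π : A →ₐc[k] D ⧸ Z) : A →+* D ⧸ Z) :=
          Ideal.Quotient.eq_zero_iff_mem.2 hd
        rw [← heq, ← hP] at ha
        exact ha
      have h1 := (hZ D (AlgHom.id k D)).1 hbot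
      beta_reduce at h1
      rw [DynLib.conjOrbit_eq] at h1
      have h2 : conj D lam (toConv (AlgHom.id k D)) = push (cst k D) (toConv (AlgHom.id k D)) := WithConv.ext h1
      rw [DynLib.conj_apply, mul_inv_eq_iff_eq_mul] at h2
      exact h2
  obtain ⟨E, _, _, ρ, hρ, hE, hsol, hcen⟩ := ih _ hlt (D ⧸ Z) _ _ (π'.comp π) rfl inferInstance
    (Ideal.Quotient.mk_surjective.comp hπ)
  refine ⟨E, inferInstance, inferInstance, ρ.comp π', hρ.comp Ideal.Quotient.mk_surjective, hE, hsol,
    fun R _ _ g hg a ha => ?_⟩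
  have hgZ : ∀ d ∈ Z, g.ofConv d = 0 := by
    refine (hZ R g.ofConv).2 ?_
    beta_reduce
    rw [DynLib.conjOrbit_eq, toConv_ofConv]
    refine congrArg WithConv.ofConv (?_ : conj R lam g = push (cst k R) g)
    rw [DynLib.conj_apply, ← hg R[T;T⁻¹] (cst k R) (pre lam (tee k R)), mul_assoc, mul_inv_cancel, mul_one]
  let g' : Pt k (D ⧸ Z) R := toConv (Ideal.Quotient.liftₐ Z g.ofConv hgZ)
  have hg' : IsCentralPt g' := fun R' _ _ φ h => by
    refine DynLib.pull_injective π' Ideal.Quotient.mk_surjective ?_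
    rw [map_mul, map_mul]
    exact hg R' φ (DynLib.pull π' h)
  exact hcen R g' hg' (π' a) ha

end Groth.Agent.AlgGrpLib.CentreSolvable
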