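import Groth.Agent.AlgGrpLib.SubGrpMono
import Groth.Agent.FBaseLib.Geom
import Groth.Agent.S8026
import Groth.Agent.S7795
import Groth.Agent.RedSepLib.Immersion
import Groth.Agent.SGA3xLib.SepFibre
import Groth.Agent.Props12.KerReduced

/-!
# Closures of abstract subgroups of rational points
-/

set_option autoImplicit false
set_option backward.isDefEq.respectTransparency.types false

universe u

open CategoryTheory CategoryTheory.Limits MonoidalCategory CartesianMonoidalCategory MonObj GrpObj AlgebraicGeometry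
open scoped TensorProduct

noncomputable section

namespace Groth.Agent.AlgGrpLib

variable {k : Type u} [Field k]

local notation "𝕊" => Spec (CommRingCat.of k)

/-- The point underlying a rational point. -/
abbrev ptOf {X : Over 𝕊} (s : 𝟙_ (Over 𝕊) ⟶ X) : X.left := s.left.base (IsLocalRing.closedPoint k)

/-- A reduced scheme with dense rational points is geometrically reduced. -/
theorem geometricallyReduced_of_dense_points (X : Over 𝕊) [LocallyOfFiniteType X.hom] [IsReduced X.left]
    (P : Set (𝟙_ (Over 𝕊) ⟶ X)) (hP : Dense (ptOf '' P)) : GeometricallyReduced X.hom := by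
  let Ω := AlgebraicClosure k
  suffices IsReduced (pullback X.hom (Spec.map (CommRingCat.ofHom (algebraMap k Ω)))) from
    Groth.Agent.FBaseLib.geometricallyReduced_of_perfect (Ω := Ω) X.hom
  refine @IsReduced.of_openCover _ (Scheme.Pullback.openCoverOfLeft X.left.affineCover X.hom _) fun i => ?_
  show IsReduced (pullback (X.left.affineCover.f i ≫ X.hom) _)
  set j₀ : Spec Γ(X.left.affineCover.X i, ⊤) ⟶ X.left := (X.left.affineCover.X i).isoSpec.inv ≫ X.left.affineCover.f i
  set ψ := Spec.preimage (j₀ ≫ X.hom)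
  let : Algebra k Γ(X.left.affineCover.X i, ⊤) := ψ.hom.toAlgebra
  let A : Type u := Γ(X.left.affineCover.X i, ⊤)
  have hj : j₀ ≫ X.hom = Spec.map (CommRingCat.ofHom (algebraMap k A)) := (Spec.map_preimage _).symm
  haveI hft : Algebra.FiniteType k A := by
    have : LocallyOfFiniteType (Spec.map ψ) := by rw [Spec.map_preimage]; infer_instance
    rw [HasRingHomProperty.Spec_iff (P := @LocallyOfFiniteType)] at this
    exact this
  haveI : IsReduced (Spec (CommRingCat.of A)) := isReduced_of_isOpenImmersion j₀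
  haveI : _root_.IsReduced A := isReduced_of_injective (Scheme.ΓSpecIso (CommRingCat.of A)).inv.hom
    (ConcreteCategory.bijective_of_isIso _).1
  have hsep : ∀ a : A, (∀ φ ∈ (Set.univ : Set (A →ₐ[k] k)), φ a = 0) → a = 0 := by
    intro a ha
    refine IsNilpotent.eq_zero (PrimeSpectrum.basicOpen_eq_bot_iff a |>.1 (eq_bot_iff.2 fun y hy => ?_))
    exfalso
    obtain ⟨_, ⟨y', hy', hys⟩, s, -, rfl⟩ := hP.inter_open_nonempty _
      (j₀.isOpenEmbedding.isOpenMap _ (PrimeSpectrum.basicOpen a).2) ⟨_, Set.mem_image_of_mem _ hy⟩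
    have hr : Set.range s.left.base ⊆ Set.range j₀.base := by
      rintro _ ⟨z, rfl⟩
      haveI : Subsingleton ↥(𝟙_ (Over 𝕊)).left := inferInstanceAs (Subsingleton (PrimeSpectrum k))
      rw [Subsingleton.elim z (IsLocalRing.closedPoint k)]
      exact ⟨y', hys⟩
    set l := IsOpenImmersion.lift j₀ s.left hr
    have hl : l ≫ j₀ = s.left := IsOpenImmersion.lift_fac _ _ hr
    set χ := Spec.preimage l
    have hχ : CommRingCat.ofHom (algebraMap k A) ≫ χ = 𝟙 (CommRingCat.of k) := Spec.map_injective (by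
      rw [Spec.map_comp, Spec.map_preimage, ← hj, ← Category.assoc, hl, Over.w, Spec.map_id]
      rfl)
    let φ : A →ₐ[k] k := { χ.hom with commutes' := fun c => ConcreteCategory.congr_hom hχ c }
    have hy'' : l.base (IsLocalRing.closedPoint k) = y' := j₀.isOpenEmbedding.injective (by
      change (l ≫ j₀).base _ = _
      rw [hl]
      exact hys.symm)
    rw [← hy'', ← Spec.map_preimage l] at hy'
    change a ∉ (PrimeSpectrum.comap χ.hom (IsLocalRing.closedPoint k)).asIdeal at hy'
    have h0 : χ.hom a = 0 := ha φ trivial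
    exact hy' (show χ.hom a ∈ (IsLocalRing.closedPoint k).asIdeal by rw [h0]; exact zero_mem _)
  haveI hgr : Algebra.IsGeometricallyReduced k A := Groth.Agent.S8026.result k A Set.univ hsep
  haveI : _root_.IsReduced (Ω ⊗[k] A) := (Algebra.isGeometricallyReduced_field_iff k A).1 hgr
  haveI : _root_.IsReduced (A ⊗[k] Ω) :=
    isReduced_of_injective (Algebra.TensorProduct.comm k A Ω) (Algebra.TensorProduct.comm k A Ω).injective
  haveI : IsReduced (Spec (CommRingCat.of (A ⊗[k] Ω))) := inferInstance
  haveI := isReduced_of_isOpenImmersion (pullbackSpecIso k A Ω).hom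
  let m : pullback (X.left.affineCover.f i ≫ X.hom) (Spec.map (CommRingCat.ofHom (algebraMap k Ω))) ⟶
      pullback (Spec.map (CommRingCat.ofHom (algebraMap k A))) (Spec.map (CommRingCat.ofHom (algebraMap k Ω))) :=
    pullback.map _ _ _ _ (X.left.affineCover.X i).isoSpec.hom (𝟙 _) (𝟙 _)
      (by rw [Category.comp_id, ← hj]; simp [j₀]) (by simp)
  exact isReduced_of_isOpenImmersion m

/-- The closure of a subgroup of rational points, with its reduced structure, is a geometrically reduced subgroup. -/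
theorem exists_closure_subgroup (G : Over 𝕊) [GrpObj G] [LocallyOfFiniteType G.hom]
    (S : Subgroup (𝟙_ (Over 𝕊) ⟶ G)) :
    ∃ (H : Over 𝕊) (_ : GrpObj H) (i : H ⟶ G), IsMonHom i ∧ IsClosedImmersion i.left ∧
      GeometricallyReduced H.hom ∧ Set.range i.left.base = closure (ptOf '' (S : Set _)) ∧
      ∀ s ∈ S, ∃ s' : 𝟙_ (Over 𝕊) ⟶ H, s' ≫ i = s := by
  let C : TopologicalSpace.Closeds G.left := ⟨closure (ptOf '' (S : Set _)), isClosed_closure⟩
  let I := Scheme.IdealSheafData.vanishingIdeal C
  let H : Over 𝕊 := Over.mk (I.subschemeι ≫ G.hom)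
  let i : H ⟶ G := Over.homMk I.subschemeι rfl
  haveI hci : IsClosedImmersion i.left := inferInstanceAs (IsClosedImmersion I.subschemeι)
  have hrange : Set.range i.left.base = closure (ptOf '' (S : Set _)) := by
    change Set.range I.subschemeι = _
    rw [Scheme.IdealSheafData.range_subschemeι]
    rfl
  haveI : IsReduced H.left := (Props12.isReduced_subscheme_vanishingIdeal C : IsReduced I.subscheme)
  haveI : LocallyOfFiniteType H.hom := inferInstanceAs (LocallyOfFiniteType (I.subschemeι ≫ G.hom))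
  haveI : Mono i.left := inferInstance
  haveI : Mono i := Over.mono_of_mono_left i
  have hfac : ∀ {T : Over 𝕊} [IsReduced T.left] (f : T ⟶ G), Set.range f.left.base ⊆ closure (ptOf '' (S : Set _)) →
      ∃ f' : T ⟶ H, f' ≫ i = f := by
    intro T _ f hf
    obtain ⟨g, hg⟩ := Groth.Agent.RedSepLib.exists_lift_of_range_subset f.left i.left (hrange ▸ hf)
    exact ⟨Over.homMk g (by rw [← Over.w i, ← Category.assoc, hg, Over.w f]), Over.OverMorphism.ext hg⟩
  haveI : IsReduced (𝟙_ (Over 𝕊)).left := inferInstanceAs (IsReduced (Spec (CommRingCat.of k)))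
  haveI hsub : Subsingleton (𝟙_ (Over 𝕊)).left := inferInstanceAs (Subsingleton (PrimeSpectrum k))
  have hS : ∀ s ∈ S, ∃ s' : 𝟙_ (Over 𝕊) ⟶ H, s' ≫ i = s := fun s hs => hfac s (by
    rintro _ ⟨z, rfl⟩
    rw [Subsingleton.elim z (IsLocalRing.closedPoint k)]
    exact subset_closure ⟨s, hs, rfl⟩)
  let P : Set (𝟙_ (Over 𝕊) ⟶ H) := {t | t ≫ i ∈ S}
  have hdense : Dense (ptOf '' P) := by
    intro x
    rw [i.left.isClosedEmbedding.isInducing.closure_eq_preimage_closure_image, Set.mem_preimage, ← Set.image_comp]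
    refine closure_mono ?_ (hrange.le ⟨x, rfl⟩)
    rintro _ ⟨s, hs, rfl⟩
    obtain ⟨s', hs'⟩ := hS s hs
    exact ⟨s', show s' ≫ i ∈ S by rw [hs']; exact hs, by rw [← hs']; rfl⟩
  haveI hgr := geometricallyReduced_of_dense_points H P hdense
  have hinv : ∃ v : H ⟶ H, v ≫ i = i⁻¹ := hfac _ (by
    rintro _ ⟨x, rfl⟩
    have h1 : Set.MapsTo (i⁻¹).left.base (ptOf '' P) (closure (ptOf '' (S : Set _))) := by
      rintro _ ⟨t, ht, rfl⟩
      refine subset_closure ⟨(t ≫ i)⁻¹, inv_mem ht, ?_⟩
      rw [← GrpObj.comp_inv]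
      rfl
    have h2 := h1.closure (i⁻¹).left.continuous
    rw [isClosed_closure.closure_eq] at h2
    exact h2 (hdense x))
  haveI : IsReduced (H ⊗ H).left := Groth.Agent.FBaseLib.isReduced_pullback H.hom H.hom
  have hmul : ∃ m : H ⊗ H ⟶ H, m ≫ i = (fst H H ≫ i) * (snd H H ≫ i) := hfac _ (by
    rintro _ ⟨z, rfl⟩
    let p : H ⊗ H ⟶ G := (fst H H ≫ i) * (snd H H ≫ i)
    let O : Set (H ⊗ H).left := p.left.base ⁻¹' (closure (ptOf '' (S : Set _)))ᶜ
    have hO : IsOpen O := isClosed_closure.isOpen_compl.preimage p.left.continuous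
    by_contra hz
    have hopen : IsOpenMap (fst H H).left.base := (pullback.fst H.hom H.hom).isOpenMap
    obtain ⟨_, ⟨w, hwO, hw⟩, t, ht, rfl⟩ := hdense.inter_open_nonempty _ (hopen O hO) ⟨_, Set.mem_image_of_mem _ (show z ∈ O from hz)⟩
    -- the fibre over a rational point is a slice
    have hslice : w ∈ Set.range (lift (toUnit H ≫ t) (𝟙 H)).left.base := by
      let T : Over 𝕊 := Over.mk ((H ⊗ H).left.fromSpecResidueField w ≫ (H ⊗ H).hom)
      let f : T ⟶ H ⊗ H := Over.homMk ((H ⊗ H).left.fromSpecResidueField w) rfl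
      haveI : IsReduced T.left := inferInstanceAs (IsReduced (Spec ((H ⊗ H).left.residueField w)))
      have hmono : IsClosedImmersion t.left := Groth.Agent.SGA3xLib.isClosedImmersion_of_section H.hom t.left (Over.w t)
      obtain ⟨g, hg⟩ := Groth.Agent.RedSepLib.exists_lift_of_range_subset (f ≫ fst H H).left t.left (by
        rintro _ ⟨y, rfl⟩
        refine ⟨IsLocalRing.closedPoint k, ?_⟩
        have hy : f.left.base y = w := ((H ⊗ H).left.range_fromSpecResidueField w).le ⟨y, rfl⟩
        show ptOf t = (fst H H).left.base (f.left.base y)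
        rw [hy]
        exact hw.symm)
      have e : f ≫ fst H H = toUnit T ≫ t := by
        refine Over.OverMorphism.ext (hg.symm.trans ?_)
        have h2 : g = T.hom := by
          have h3 := congrArg (· ≫ H.hom) hg
          simp only [Category.assoc, Over.w] at h3
          exact (Category.comp_id g).symm.trans h3
        rw [h2]; rfl
      have e2 : f = (f ≫ snd H H) ≫ lift (toUnit H ≫ t) (𝟙 H) := by
        refine CartesianMonoidalCategory.hom_ext _ _ ?_ ?_
        · rw [Category.assoc, lift_fst, e, ← Category.assoc, comp_toUnit]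
        · rw [Category.assoc, lift_snd, Category.comp_id]
      obtain ⟨y, hy⟩ := ((H ⊗ H).left.range_fromSpecResidueField w).ge rfl
      exact ⟨(f ≫ snd H H).left.base y, (congrArg (fun φ : T ⟶ H ⊗ H => φ.left.base y) e2).symm.trans hy⟩
    obtain ⟨h, rfl⟩ := hslice
    apply hwO
    change (lift (toUnit H ≫ t) (𝟙 H) ≫ p).left.base h ∈ closure _
    have h1 : Set.MapsTo (lift (toUnit H ≫ t) (𝟙 H) ≫ p).left.base (ptOf '' P) (closure (ptOf '' (S : Set _))) := by
      rintro _ ⟨t', ht', rfl⟩
      refine subset_closure ⟨(t ≫ i) * (t' ≫ i), mul_mem ht ht', ?_⟩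
      show ptOf _ = ptOf (t' ≫ lift (toUnit H ≫ t) (𝟙 H) ≫ p)
      rw [show t' ≫ lift (toUnit H ≫ t) (𝟙 H) ≫ p = (t ≫ i) * (t' ≫ i) by
        simp only [p, MonObj.comp_mul, lift_fst_assoc, lift_snd_assoc, Category.id_comp]
        rw [Category.assoc, ← Category.assoc t', comp_toUnit, toUnit_unique (toUnit _) (𝟙 _), Category.id_comp]]
    have h2 := h1.closure (lift (toUnit H ≫ t) (𝟙 H) ≫ p).left.continuous
    rw [isClosed_closure.closure_eq] at h2
    exact h2 (hdense h))
  obtain ⟨inst, hi⟩ := exists_grpObj_of_mono i (hS 1 S.one_mem) hmul hinv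
  exact ⟨H, inst, i, hi, hci, hgr, hrange, hS⟩

end Groth.Agent.AlgGrpLib
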