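import Groth.Agent.GrpQLib.AffineGroupQuot
import Groth.Agent.AlgSpLib.SchemeDescent
import Groth.Agent.FlatMorDVR.FiniteSetAffine
import Groth.Agent.Dim14.AffineCover
import Mathlib.AlgebraicGeometry.Morphisms.QuasiFinite

/-!
The quotient of an affine algebraic group by a subgroup has a monomorphism to projective space, so finite sets of its
points lie in affine opens.
-/

universe u

set_option autoImplicit false
set_option backward.isDefEq.respectTransparency.types false
set_option maxHeartbeats 800000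
set_option linter.style.haveILetI false

open CategoryTheory CategoryTheory.Limits MonoidalCategory CartesianMonoidalCategory MonObj GrpObj AlgebraicGeometry
open WithConv
open Groth.Agent.HopfQuot Groth.Agent.GrassLib Groth.Agent.GrpQLib

namespace Groth.Agent.AlgGrpLib.HomogQuotProj

variable {k : Type u} [Field k] {A B : Type u} [CommRing A] [HopfAlgebra k A] [CommRing B] [HopfAlgebra k B]

/-- Finite sets of a scheme with a monomorphism of finite type into projective space lie in affine opens. -/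
theorem exists_affine_of_mono {R : Type u} [CommRing R] {n : ℕ} {X : Scheme.{u}}
    (m : X ⟶ CohB1.ProjSpaceOver n (Spec (CommRingCat.of R))) [Mono m] [LocallyOfFiniteType m] (F : Finset X) :
    ∃ U : X.Opens, IsAffineOpen U ∧ (↑F : Set X) ⊆ (U : Set X) := by
  classical
  obtain ⟨V, hV, hFV⟩ := Dim14.exists_affineOpen n (𝟙 (CohB1.ProjSpaceOver n (Spec (CommRingCat.of R))))
    (m '' F) (F.finite_toSet.image _)
  haveI : IsAffine V.toScheme := hV
  haveI : Mono (m ∣_ V) :=
    MorphismProperty.of_isPullback (P := MorphismProperty.monomorphisms Scheme.{u})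
      (isPullback_morphismRestrict m V).flip ‹Mono m›
  haveI : LocallyQuasiFinite (m ∣_ V) := AlgSpLib.lqf_of_mono_lft (m ∣_ V)
  let g : {x // x ∈ F} → (m ⁻¹ᵁ V).toScheme := fun x => ⟨x.1, hFV ⟨x.1, x.2, rfl⟩⟩
  obtain ⟨U, hU, hFU⟩ := FlatMorDVR.exists_affine_of_finite_lqf (m ∣_ V) (F.attach.image g)
  refine ⟨(m ⁻¹ᵁ V).ι ''ᵁ U, hU.image_of_isOpenImmersion _, fun x hx => ?_⟩
  exact ⟨g ⟨x, hx⟩, hFU _ (Finset.mem_image.2 ⟨⟨x, hx⟩, Finset.mem_attach _ _, rfl⟩), rfl⟩

theorem exists_quotient_projMono (G H : Over (Spec (CommRingCat.of k))) [GrpObj G] [GrpObj H] [IsAffine G.left]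
    [LocallyOfFiniteType G.hom] [LocallyOfFiniteType H.hom] [QuasiCompact H.hom] (i : H ⟶ G) [IsMonHom i]
    [Mono i] :
    ∃ (X : Over (Spec (CommRingCat.of k))) (a : AlgGrp.Action G X) (o : 𝟙_ (Over (Spec (CommRingCat.of k))) ⟶ X),
      (∃ (n : ℕ) (m : X.left ⟶ CohB1.ProjSpaceOver n (Spec (CommRingCat.of k))), Mono m ∧
        m ≫ CohB1.ProjSpaceOver.toBase n (Spec (CommRingCat.of k)) = X.hom) ∧
      LocallyOfFiniteType X.hom ∧ QuasiCompact X.hom ∧
      Flat (a.orbitMap o).left ∧ Surjective (a.orbitMap o).left ∧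
      IsPullback (fst G H) ((G ◁ i) ≫ μ[G]) (a.orbitMap o) (a.orbitMap o) := by
  have : QuasiCompact (i.left ≫ G.hom) := by rw [Over.w]; infer_instance
  have : QuasiCompact i.left := QuasiCompact.of_comp i.left G.hom
  have : IsClosedImmersion i.left := SGA3cLib.isClosedImmersion_of_mono i
  have : IsAffine H.left := isAffine_of_isAffineHom i.left
  obtain ⟨A, _, _, e, _, _⟩ := exists_spec (k := k) G
  obtain ⟨B, _, _, e', _, _⟩ := exists_spec (k := k) H
  haveI : IsIso e.left := inferInstanceAs (IsIso ((Over.forget _).map e))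
  haveI : IsIso e'.left := inferInstanceAs (IsIso ((Over.forget _).map e'))
  haveI : IsIso (CategoryTheory.inv e).left := inferInstanceAs (IsIso ((Over.forget _).map (CategoryTheory.inv e)))
  haveI : IsMonHom (CategoryTheory.inv e) := inferInstanceAs (IsMonHom (asIso e).inv)
  obtain ⟨π, hπj⟩ := exists_specHom (k := k) (A := A) (B := B) (e' ≫ i ≫ CategoryTheory.inv e)
  have hπi : specHom π ≫ e = e' ≫ i := by rw [hπj]; simp
  haveI hci : IsClosedImmersion (Spec.map (CommRingCat.ofHom (π : A →+* B))) := by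
    rw [← specHom_left, hπj, Over.comp_left, Over.comp_left]
    haveI h2 : IsClosedImmersion (i.left ≫ (CategoryTheory.inv e).left) := inferInstance
    haveI h3 : IsClosedImmersion e'.left := inferInstance
    exact MorphismProperty.comp_mem @IsClosedImmersion _ _ h3 h2
  have hπ : Function.Surjective π := by
    have h := Scheme.Hom.app_surjective (Spec.map (CommRingCat.ofHom (π : A →+* B))) ⊤ (isAffineOpen_top _)
    have e0 := Scheme.ΓSpecIso_inv_naturality (CommRingCat.ofHom (π : A →+* B))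
    intro y
    obtain ⟨z, hz⟩ := h ((Scheme.ΓSpecIso (CommRingCat.of B)).inv y)
    obtain ⟨x, rfl⟩ := (ConcreteCategory.bijective_of_isIso (Scheme.ΓSpecIso (CommRingCat.of A)).inv).2 z
    refine ⟨x, (ConcreteCategory.bijective_of_isIso (Scheme.ΓSpecIso (CommRingCat.of B)).inv).1 ?_⟩
    exact (congrArg (fun f => f.hom x) e0).trans hz
  haveI : LocallyOfFiniteType (spec (k := k) A).hom := by rw [← Over.w e]; infer_instance
  haveI hft : Algebra.FiniteType k A :=
    RingHom.finiteType_algebraMap.1 ((HasRingHomProperty.Spec_iff (P := @LocallyOfFiniteType)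
      (φ := CommRingCat.ofHom (algebraMap k A))).1 ‹LocallyOfFiniteType (spec (k := k) A).hom›)
  obtain ⟨d, n, a, hε, hΔ, hπa, hcut⟩ := HopfLib.exists_matrix_cutting_out π hπ
  let D : ChevData k A π d n := ⟨a, hε, hΔ, hπa, hcut⟩
  obtain ⟨φ, hφ⟩ := exists_grassHom D
  let φG : G ⟶ GrOver (d + n) n k := CategoryTheory.inv e ≫ φ
  have hcoset : ∀ {T : CommAlgCat.{u} k} (p q : GrassLib.pt T ⟶ G),
      p ≫ φG = q ≫ φG ↔ ∃ h : GrassLib.pt T ⟶ H, h ≫ i = p⁻¹ * q := by
    intro T p q
    have key := grassHom_eq_iff D hπ φ hφ (p ≫ CategoryTheory.inv e) (q ≫ CategoryTheory.inv e)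
    rw [Category.assoc, Category.assoc] at key
    refine key.trans ⟨?_, ?_⟩
    · rintro ⟨b, hb⟩
      refine ⟨b ≫ e', ?_⟩
      rw [Category.assoc, ← hπi, ← Category.assoc, hb, ← GrpObj.inv_comp, ← MonObj.mul_comp, Category.assoc,
        IsIso.inv_hom_id, Category.comp_id]
    · rintro ⟨h, hh⟩
      refine ⟨h ≫ CategoryTheory.inv e', ?_⟩
      rw [← cancel_mono e, Category.assoc, hπi, Category.assoc, IsIso.inv_hom_id_assoc, hh, ← GrpObj.inv_comp,
        ← MonObj.mul_comp, Category.assoc, IsIso.inv_hom_id, Category.comp_id]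
  have hμ : (G ◁ i) ≫ μ[G] = fst G H * (snd G H ≫ i) := by
    rw [Hom.mul_def]; congr 1
  have hw : fst G H ≫ φG = ((G ◁ i) ≫ μ[G]) ≫ φG := GrassLib.hom_ext_points fun T p => by
    refine (Category.assoc _ _ _).symm.trans (((hcoset _ _).2 ⟨p ≫ snd G H, ?_⟩).trans (Category.assoc _ _ _))
    rw [hμ, MonObj.comp_mul, inv_mul_cancel_left, Category.assoc]
  have hex : ∀ {T : Over (Spec (CommRingCat.of k))} (x y : T ⟶ G), x ≫ φG = y ≫ φG →
      ∃ h : T ⟶ H, h ≫ i = x⁻¹ * y := by
    intro T x y hxy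
    have hp : ∀ (A' : CommAlgCat.{u} k) (p : GrassLib.pt A' ⟶ T), ∃ h : GrassLib.pt A' ⟶ H, h ≫ i = p ≫ (x⁻¹ * y) :=
      fun A' p => by
        obtain ⟨h, hh⟩ := (hcoset (p ≫ x) (p ≫ y)).1 (by rw [Category.assoc, hxy, Category.assoc])
        exact ⟨h, by rw [hh, MonObj.comp_mul, GrpObj.comp_inv]⟩
    choose F hF using hp
    obtain ⟨h, hh⟩ := GrassLib.exists_hom F fun A' B' f g g' hg => by
      have : Mono i.left := inferInstanceAs (Mono ((Over.forget _).map i))
      rw [← cancel_mono i.left, Category.assoc]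
      have h1 : (F B' g').left ≫ i.left = g'.left ≫ (x⁻¹ * y).left := congrArg CommaMorphism.left (hF B' g')
      have h2 : (F A' g).left ≫ i.left = g.left ≫ (x⁻¹ * y).left := congrArg CommaMorphism.left (hF A' g)
      rw [h1, h2, hg, Category.assoc]
    exact ⟨h, GrassLib.hom_ext_points fun A' p => by rw [← Category.assoc, hh, hF]⟩
  choose hlift hhlift using @hex
  have sq : IsPullback (fst G H) ((G ◁ i) ≫ μ[G]) φG φG := by
    refine IsPullback.of_isLimit' ⟨hw⟩ (PullbackCone.IsLimit.mk _
      (fun s => lift s.fst (hlift s.fst s.snd s.condition))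
      (fun s => lift_fst _ _) (fun s => ?_) (fun s m h1 h2 => ?_))
    · rw [hμ, MonObj.comp_mul, lift_fst, lift_snd_assoc, hhlift, mul_inv_cancel_left]
    · refine CartesianMonoidalCategory.hom_ext _ _ (h1.trans (lift_fst _ _).symm) ?_
      rw [lift_snd, ← cancel_mono i, hhlift]
      rw [hμ, MonObj.comp_mul, h1] at h2
      rw [← h2, inv_mul_cancel_left, Category.assoc]
  have := RelVALib.isProper_toBase ((d + n).choose n - 1) (Spec (CommRingCat.of k))
  obtain ⟨c, hcc, hc⟩ := exists_closedImmersion_GrOver (R := k) (Nat.le_add_left n d)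
  have : LocallyOfFiniteType (GrOver (d + n) n k).hom := by rw [← hc]; infer_instance
  have : LocallyOfFinitePresentation G.hom := LocallyOfFinitePresentation.iff_locallyOfFiniteType.2 ‹_›
  have : LocallyOfFinitePresentation (φG.left ≫ (GrOver (d + n) n k).hom) := by rw [Over.w]; infer_instance
  have : LocallyOfFinitePresentation φG.left := H8Lim.lfp_cancel_right φG.left (GrOver (d + n) n k).hom
  have hHf : Flat H.hom := GrpdLib.flat_to_field H.hom k (Iso.refl _)
  have : Flat (pullback.fst φG.left φG.left) := by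
    have sq' := sq.map (Over.forget (Spec (CommRingCat.of k)))
    refine (MorphismProperty.cancel_left_of_respectsIso @Flat sq'.isoPullback.hom _).1 ?_
    exact (congrArg (fun z => Flat z) sq'.isoPullback_hom_fst).mpr
      (MorphismProperty.pullback_fst (P := @Flat) _ _ hHf)
  obtain ⟨X', f', f'', h1, h2, h3, h4, ef⟩ := exists_factor φG.left
  let Q : Over (Spec (CommRingCat.of k)) := Over.mk (f'' ≫ (GrOver (d + n) n k).hom)
  let p : G ⟶ Q := Over.homMk f' (by
    show f' ≫ f'' ≫ (GrOver (d + n) n k).hom = G.hom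
    rw [reassoc_of% ef, Over.w])
  let j'' : Q ⟶ GrOver (d + n) n k := Over.homMk f''
  have hpι : p ≫ j'' = φG := Over.OverMorphism.ext ef
  have : Mono j'' := Over.mono_of_mono_left (Over.homMk f'' : Q ⟶ GrOver (d + n) n k)
  have : Surjective p.left := h1
  have : Flat p.left := h2
  have : LocallyOfFinitePresentation p.left := h3
  have sqp : IsPullback (fst G H) ((G ◁ i) ≫ μ[G]) p p := by
    refine IsPullback.of_isLimit' ⟨?_⟩ (PullbackCone.IsLimit.mk _
      (fun s => sq.lift s.fst s.snd (by rw [← hpι, reassoc_of% s.condition]))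
      (fun s => sq.lift_fst _ _ _) (fun s => sq.lift_snd _ _ _)
      (fun s m k1 k2 => sq.hom_ext (k1.trans (sq.lift_fst _ _ _).symm) (k2.trans (sq.lift_snd _ _ _).symm)))
    rw [← cancel_mono j'', Category.assoc, Category.assoc, hpι, sq.w, Category.assoc]
  obtain ⟨act, hact⟩ := exists_action_quotient i p sqp
  have : Mono f'' := h4
  refine ⟨Q, act, η[G] ≫ p, ⟨_, f'' ≫ c, mono_comp _ _, by rw [Category.assoc, hc]; rfl⟩, ?_, ?_, ?_, ?_, ?_⟩
  · have : LocallyOfFinitePresentation Q.hom :=
      AlgSpLib.lfp_of_comp_fppf f' (f'' ≫ (GrOver (d + n) n k).hom) (by rw [reassoc_of% ef, Over.w]; infer_instance)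
    infer_instance
  · have : QuasiCompact (p.left ≫ Q.hom) := by rw [Over.w]; infer_instance
    exact FlatMorThick.quasiCompact_of_comp_surjective p.left Q.hom
  · rw [hact]; exact h2
  · rw [hact]; exact h1
  · rw [hact]; exact sqp

end Groth.Agent.AlgGrpLib.HomogQuotProj
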