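import Groth.Agent.AlgGrpLib.CentreRep
import Groth.Agent.SGA3cLib.Transporter
import Groth.Agent.Misc15.ClosedLocal

/-!
# Fixed loci of families of maps `Y ⊗ X ⟶ X`
-/

set_option autoImplicit false
set_option backward.isDefEq.respectTransparency.types false

universe u

open CategoryTheory CategoryTheory.Limits MonoidalCategory CartesianMonoidalCategory AlgebraicGeometry

namespace Groth.Agent.AlgGrpLib

/-- Schemes over a field are essentially free over it. -/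
theorem isEssentiallyFree_hom {k : Type u} [Field k] (Y : Over (Spec (CommRingCat.of k))) :
    SGA3x.IsEssentiallyFree Y.hom :=
  isEssentiallyFree_of_field (b := 𝟙 _) (IsPullback.of_horiz_isIso ⟨by simp⟩ :
    IsPullback (𝟙 Y.left) Y.hom Y.hom (𝟙 _))

variable {S : Scheme.{u}} {X Y : Over S} (a : Y ⊗ X ⟶ X)

/-- Being fixed by the family, tested on all points. -/
theorem fixed_iff {T : Over S} (x : T ⟶ X) :
    (Y ◁ x) ≫ a = snd Y T ≫ x ↔
      ∀ (T' : Over S) (t : T' ⟶ T) (g : T' ⟶ Y), lift g (t ≫ x) ≫ a = t ≫ x := by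
  refine ⟨fun h T' t g => ?_, fun h => ?_⟩
  · rw [← lift_whiskerLeft, Category.assoc, h, lift_snd_assoc]
  · rw [← h _ (snd Y T) (fst Y T)]
    congr 1

theorem fixed_comp {T T' : Over S} {x : T ⟶ X} (t : T' ⟶ T) {x' : T' ⟶ X} (e : t ≫ x = x')
    (h : (Y ◁ x) ≫ a = snd Y T ≫ x) : (Y ◁ x') ≫ a = snd Y T' ≫ x' := by
  subst e
  rw [whiskerLeft_comp, Category.assoc, h, whiskerLeft_snd_assoc]

theorem fixed_at {T T' V : Over S} {x : T ⟶ X} (c : T' ⟶ T) {x' : T' ⟶ X} (e : c ≫ x = x')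
    (h : (Y ◁ x') ≫ a = snd Y T' ≫ x') (σ : V ⟶ Y ⊗ T) (t : V ⟶ T') (ht : t ≫ c = σ ≫ snd Y T) :
    σ ≫ (Y ◁ x) ≫ a = σ ≫ snd Y T ≫ x := by
  subst e
  have hσ : σ = lift (σ ≫ fst Y T) t ≫ (Y ◁ c) := by
    rw [lift_whiskerLeft, ht]
    apply CartesianMonoidalCategory.hom_ext <;> simp
  rw [hσ, Category.assoc, Category.assoc, ← whiskerLeft_comp_assoc, whiskerLeft_snd_assoc, h]

/-- The fixed locus is closed when the target is separated and the family essentially free. -/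
theorem exists_fixedLocus (hY : SGA3x.IsEssentiallyFree Y.hom) [IsSeparated X.hom] :
    ∃ (Z : Over S) (j : Z ⟶ X), IsClosedImmersion j.left ∧
      ∀ (T : Over S) (x : T ⟶ X), (∃ z : T ⟶ Z, z ≫ j = x) ↔ (Y ◁ x) ≫ a = snd Y T ≫ x := by
  obtain ⟨Z, j, hj, hZ⟩ := SGA3cLib.exists_transporter_eq hY a (snd Y X)
  refine ⟨Z, j, hj, fun T x => ?_⟩
  rw [hZ, fixed_iff]
  simp only [lift_snd]

/-- Fixed locus, in the form of the statements. -/
theorem exists_fixedLocus_stmt (hY : SGA3x.IsEssentiallyFree Y.hom) [IsSeparated X.hom] :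
    ∃ (Z : Over S) (j : Z ⟶ X), IsClosedImmersion j.left ∧ (Y ◁ j) ≫ a = snd Y Z ≫ j ∧
      ∀ (T : Over S) (x : T ⟶ X), (Y ◁ x) ≫ a = snd Y T ≫ x → ∃ z : T ⟶ Z, z ≫ j = x := by
  obtain ⟨Z, j, hj, hZ⟩ := exists_fixedLocus a hY
  exact ⟨Z, j, hj, (hZ Z j).1 ⟨𝟙 Z, Category.id_comp j⟩, fun T x h => (hZ T x).2 h⟩

/-- Restriction of a family to a stable open. -/
theorem exists_restrict (U : X.left.Opens) (hU : (snd Y X).left ⁻¹ᵁ U ≤ a.left ⁻¹ᵁ U) :
    ∃ b : Y ⊗ Over.mk (U.ι ≫ X.hom) ⟶ Over.mk (U.ι ≫ X.hom),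
      b ≫ Over.homMk U.ι = (Y ◁ (Over.homMk U.ι : Over.mk (U.ι ≫ X.hom) ⟶ X)) ≫ a := by
  let j : Over.mk (U.ι ≫ X.hom) ⟶ X := Over.homMk U.ι
  let m : Y ⊗ Over.mk (U.ι ≫ X.hom) ⟶ X := (Y ◁ j) ≫ a
  have hr : Set.range m.left ⊆ Set.range U.ι := by
    rintro _ ⟨p, rfl⟩
    rw [Scheme.Opens.range_ι]
    show a.left ((Y ◁ j).left p) ∈ U
    refine hU ?_
    show (snd Y X).left ((Y ◁ j).left p) ∈ U
    rw [← Scheme.Hom.comp_apply, show (Y ◁ j).left ≫ (snd Y X).left = (snd Y _).left ≫ U.ι from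
      congrArg (fun m => m.left) (whiskerLeft_snd Y j), Scheme.Hom.comp_apply]
    exact ((snd Y (Over.mk (U.ι ≫ X.hom))).left p).2
  refine ⟨Over.homMk (IsOpenImmersion.lift U.ι m.left hr) ?_, Over.OverMorphism.ext (IsOpenImmersion.lift_fac _ _ _)⟩
  show IsOpenImmersion.lift U.ι m.left hr ≫ U.ι ≫ X.hom = _
  rw [IsOpenImmersion.lift_fac_assoc, Over.w m]

/-- The fixed locus is closed as soon as there is a cover by stable separated opens. -/
theorem exists_fixedLocus_of_stable (hY : SGA3x.IsEssentiallyFree Y.hom)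
    {ι : Type u} (U : ι → X.left.Opens) (hcov : TopologicalSpace.IsOpenCover U)
    (hsep : ∀ i, IsSeparated ((U i).ι ≫ X.hom)) (hstab : ∀ i, (snd Y X).left ⁻¹ᵁ U i ≤ a.left ⁻¹ᵁ U i) :
    ∃ (Z : Over S) (j : Z ⟶ X), IsClosedImmersion j.left ∧ (Y ◁ j) ≫ a = snd Y Z ≫ j ∧
      ∀ (T : Over S) (x : T ⟶ X), (Y ◁ x) ≫ a = snd Y T ≫ x → ∃ z : T ⟶ Z, z ≫ j = x := by
  let P : ∀ T : Scheme.{u}, (T ⟶ X.left) → Prop := fun T x =>
    (Y ◁ (Over.homMk x : Over.mk (x ≫ X.hom) ⟶ X)) ≫ a =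
      snd Y (Over.mk (x ≫ X.hom)) ≫ (Over.homMk x : Over.mk (x ≫ X.hom) ⟶ X)
  have hP : ∀ (T : Over S) (x : T ⟶ X), P T.left x.left ↔ (Y ◁ x) ≫ a = snd Y T ≫ x := by
    intro T x
    have hw : x.left ≫ X.hom = T.hom := Over.w x
    let e : T ⟶ Over.mk (x.left ≫ X.hom) := Over.homMk (𝟙 T.left) (by simp [hw])
    let e' : Over.mk (x.left ≫ X.hom) ⟶ T := Over.homMk (𝟙 T.left) (by simp [hw])
    have he : e ≫ (Over.homMk x.left : Over.mk (x.left ≫ X.hom) ⟶ X) = x := Over.OverMorphism.ext (Category.id_comp _)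
    have he' : e' ≫ x = (Over.homMk x.left : Over.mk (x.left ≫ X.hom) ⟶ X) := Over.OverMorphism.ext (Category.id_comp _)
    constructor
    · intro h
      rw [← he, whiskerLeft_comp, Category.assoc, h, whiskerLeft_snd_assoc]
    · intro h
      show _ = _
      rw [← he', whiskerLeft_comp, Category.assoc, h, whiskerLeft_snd_assoc]
  obtain ⟨Z, j, hj, hZ⟩ := Misc15.ClosedLocal.exists_closedImmersion X.left P
    (fun T T' t x h => by
      let t' : Over.mk ((t ≫ x) ≫ X.hom) ⟶ Over.mk (x ≫ X.hom) := Over.homMk t (by simp)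
      have e : t' ≫ (Over.homMk x : Over.mk (x ≫ X.hom) ⟶ X) =
          (Over.homMk (t ≫ x) : Over.mk ((t ≫ x) ≫ X.hom) ⟶ X) := Over.OverMorphism.ext rfl
      exact fixed_comp a t' e h)
    (fun T x 𝒱 h => by
      let x' : Over.mk (x ≫ X.hom) ⟶ X := Over.homMk x
      apply Over.OverMorphism.ext
      let T₀ : Over S := Over.mk (x ≫ X.hom)
      let p : (Y ⊗ T₀).left ⟶ T := (snd Y T₀).left
      let W : 𝒱.I₀ → (Y ⊗ T₀).left.Opens := fun i => p ⁻¹ᵁ (𝒱.f i).opensRange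
      have hW : TopologicalSpace.IsOpenCover W := TopologicalSpace.IsOpenCover.comap 𝒱.isOpenCover_opensRange p.base.hom
      refine Scheme.Cover.hom_ext ((Y ⊗ T₀).left.openCoverOfIsOpenCover W hW) _ _ fun i => ?_
      let V : Over S := Over.mk ((W i).ι ≫ (Y ⊗ T₀).hom)
      let σ : V ⟶ Y ⊗ T₀ := Over.homMk (W i).ι
      let c : Over.mk ((𝒱.f i ≫ x) ≫ X.hom) ⟶ T₀ := Over.homMk (𝒱.f i) (by simp [T₀])
      have hr : Set.range ((W i).ι ≫ p) ⊆ Set.range (𝒱.f i) := by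
        rintro _ ⟨y, rfl⟩
        exact y.2
      let t : V ⟶ Over.mk ((𝒱.f i ≫ x) ≫ X.hom) := Over.homMk (IsOpenImmersion.lift (𝒱.f i) _ hr) (by
        show IsOpenImmersion.lift (𝒱.f i) _ hr ≫ (𝒱.f i ≫ x) ≫ X.hom = (W i).ι ≫ (Y ⊗ T₀).hom
        rw [Category.assoc, IsOpenImmersion.lift_fac_assoc, Category.assoc, ← Over.w (snd Y T₀)]
        rfl)
      have ht : t ≫ c = σ ≫ snd Y T₀ := Over.OverMorphism.ext (IsOpenImmersion.lift_fac _ _ _)
      exact congrArg (fun m => m.left) (fixed_at a (T := T₀) (x := (Over.homMk x rfl : T₀ ⟶ X)) c (x' := (Over.homMk (𝒱.f i ≫ x) : Over.mk ((𝒱.f i ≫ x) ≫ X.hom) ⟶ X))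
        (Over.OverMorphism.ext rfl) (h i) σ t ht))
    U hcov fun i => by
      haveI := hsep i
      haveI : IsSeparated (Over.mk ((U i).ι ≫ X.hom) : Over S).hom := hsep i
      obtain ⟨b, hb⟩ := exists_restrict a (U i) (hstab i)
      obtain ⟨Zi, ji, hji, hZi⟩ := exists_fixedLocus b hY
      refine ⟨Zi.left, ji.left, hji, fun T x => ?_⟩
      let T₀ : Over S := Over.mk ((x ≫ (U i).ι) ≫ X.hom)
      let x₀ : T₀ ⟶ Over.mk ((U i).ι ≫ X.hom) := Over.homMk x (Category.assoc x (U i).ι X.hom).symm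
      have e : x₀ ≫ Over.homMk (U i).ι = (Over.homMk (x ≫ (U i).ι) rfl : T₀ ⟶ X) := Over.OverMorphism.ext rfl
      haveI : Mono (Over.homMk (U i).ι : Over.mk ((U i).ι ≫ X.hom) ⟶ X) :=
        (Over.forget S).mono_of_mono_map (inferInstanceAs (Mono (U i).ι))
      have h1 : P T (x ≫ (U i).ι) ↔ ∃ z : T₀ ⟶ Zi, z ≫ ji = x₀ := by
        rw [hZi, ← cancel_mono (Over.homMk (U i).ι rfl : Over.mk ((U i).ι ≫ X.hom) ⟶ X), Category.assoc, Category.assoc,
          hb, e, ← whiskerLeft_comp_assoc, e]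
      rw [h1]
      constructor
      · rintro ⟨z, hz⟩
        exact ⟨z.left, congrArg (fun m => m.left) hz⟩
      · rintro ⟨z, hz⟩
        refine ⟨Over.homMk z ?_, Over.OverMorphism.ext hz⟩
        show z ≫ Zi.hom = _
        rw [← Over.w ji, ← Category.assoc, hz]
        simp [T₀]
  let j' : Over.mk (j ≫ X.hom) ⟶ X := Over.homMk j
  refine ⟨Over.mk (j ≫ X.hom), j', hj, (hP _ j').1 ((hZ _ j).2 ⟨𝟙 _, Category.id_comp _⟩), fun T x h => ?_⟩
  obtain ⟨z, hz⟩ := (hZ _ _).1 ((hP T x).2 h)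
  exact ⟨Over.homMk z (by show z ≫ j ≫ X.hom = _; rw [← Category.assoc, hz, Over.w x]), Over.OverMorphism.ext hz⟩

end Groth.Agent.AlgGrpLib
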