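import Groth.Agent.SGA3cLib.DSChar
import Groth.Agent.AlgGrpLib.FixedLocus
import Groth.Prelude.Def_AlgGrp
import Mathlib.RingTheory.TensorProduct.Maps
import Mathlib.RingTheory.Localization.FractionRing
import Mathlib.LinearAlgebra.Basis.VectorSpace
import Mathlib.GroupTheory.Finiteness

/-!
# Split tori acting faithfully have generically trivial stabilisers

The stabiliser of the generic point of an affine chart is cut out in a split torus by characters,
so it is defined over the ground field; it then fixes the whole variety, hence is trivial.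
-/

set_option autoImplicit false
set_option backward.isDefEq.respectTransparency.types false

universe u

open CategoryTheory CategoryTheory.Limits MonoidalCategory CartesianMonoidalCategory MonObj AlgebraicGeometry
open scoped TensorProduct

namespace Groth.Agent.AlgGrpLib.TorusFreeOrbit

open Groth.Agent.SGA3cLib

section Algebra

variable {K : Type u} [Field K]

theorem linearIndependent_groupLike {G : Type} [CommGroup G] {Q : Type u} [CommRing Q] [Algebra K Q]
    [Nontrivial Q] (g : G →* Q) (hg : Function.Injective g) (Δ : Q →ₐ[K] Q ⊗[K] Q)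
    (hΔ : ∀ a, Δ (g a) = g a ⊗ₜ g a) : LinearIndependent K (g : G → Q) := by
  classical
  refine linearIndependent_iff_finset_linearIndependent.2 fun s => ?_
  induction s using Finset.induction with
  | empty => exact linearIndependent_empty_type
  | @insert a s has ih =>
    change LinearIndepOn K (g : G → Q) ((insert a s : Finset G) : Set G)
    rw [Finset.coe_insert, linearIndepOn_insert (by simpa using has)]
    refine ⟨ih, fun hmem => ?_⟩
    rw [Set.image_eq_range, Submodule.mem_span_range_iff_exists_fun] at hmem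
    obtain ⟨c, hc⟩ := hmem
    have e : ∀ h : (s : Set G), ∃ φ : Q →ₗ[K] K, ∀ h' : (s : Set G), φ (g h') = if h' = h then 1 else 0 := by
      intro h
      have hli : LinearIndependent K (fun h' : (s : Set G) => g h') := ih
      obtain ⟨φ, hφ⟩ := LinearMap.exists_extend ((Finsupp.lapply h).comp hli.repr)
      refine ⟨φ, fun h' => ?_⟩
      have h1 := LinearMap.congr_fun hφ ⟨g h', Submodule.subset_span ⟨h', rfl⟩⟩
      simp only [LinearMap.comp_apply, Submodule.subtype_apply] at h1
      rw [h1, hli.repr_eq_single h' _ rfl, Finsupp.lapply_apply, Finsupp.single_apply]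
    choose φ hφ using e
    have hca : ∀ h, φ h (g a) = c h := fun h => by
      rw [← hc, map_sum, Finset.sum_eq_single h (fun x _ hx => by simp [hφ, hx])
        (fun hx => absurd (Finset.mem_univ _) hx)]
      simp [hφ]
    have key : ∀ h h', c h * c h' = if h = h' then c h else 0 := by
      intro h h'
      let F : Q ⊗[K] Q →ₗ[K] K := (TensorProduct.lid K K).toLinearMap ∘ₗ TensorProduct.map (φ h) (φ h')
      have h1 : F (Δ (g a)) = c h * c h' := by simp [F, hΔ, hca]
      rw [← h1, ← hc, map_sum, map_sum, Finset.sum_eq_single h]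
      · simp [F, hΔ, hφ]
      · intro x _ hx
        simp [F, hΔ, hφ, hx]
      · exact fun hx => absurd (Finset.mem_univ _) hx
    by_cases h0 : ∀ h, c h = 0
    · simp only [h0, zero_smul, Finset.sum_const_zero] at hc
      exact ((Group.isUnit a).map g).ne_zero hc.symm
    · obtain ⟨h, hh⟩ := not_forall.1 h0
      have h1 : c h = 1 := by
        have := key h h
        rw [if_pos rfl] at this
        exact mul_left_cancel₀ hh (this.trans (_root_.mul_one _).symm)
      have h2 : ∀ x, x ≠ h → c x = 0 := fun x hx => by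
        have := key h x
        rwa [if_neg (Ne.symm hx), h1, _root_.one_mul] at this
      rw [Finset.sum_eq_single h (fun x _ hx => by rw [h2 x hx, zero_smul])
        (fun hx => absurd (Finset.mem_univ _) hx), h1, one_smul] at hc
      exact has (by rw [← hg hc]; exact h.2)

/-- A closed subgroup of a split torus over a field is cut out by characters. -/
theorem exists_subgroup {G : Type} [CommGroup G] (J : Ideal (MonoidAlgebra K G))
    (h1 : ∀ z ∈ J, MonoidAlgebra.lift K K G 1 z = 0)
    (h2 : ∀ (Q : Type u) [CommRing Q] [Algebra K Q] (γ : G →* Q),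
      (∀ z ∈ J, MonoidAlgebra.lift K Q G γ z = 0) →
      ∀ z ∈ J, MonoidAlgebra.lift K (Q ⊗[K] Q) G
        ((Algebra.TensorProduct.includeLeft : Q →ₐ[K] Q ⊗[K] Q).toMonoidHom.comp γ *
          (Algebra.TensorProduct.includeRight : Q →ₐ[K] Q ⊗[K] Q).toMonoidHom.comp γ) z = 0) :
    ∃ N : Subgroup G, (∀ m ∈ N, MonoidAlgebra.single m (1 : K) - 1 ∈ J) ∧
      ∀ z ∈ J, MonoidAlgebra.mapDomainRingHom K (QuotientGroup.mk' N) z = 0 := by
  have : Nontrivial (MonoidAlgebra K G ⧸ J) := Ideal.Quotient.nontrivial_iff.2 fun hJ =>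
    one_ne_zero ((map_one (MonoidAlgebra.lift K K G 1)).symm.trans (h1 1 (hJ ▸ trivial)))
  let π := Ideal.Quotient.mkₐ K J
  let γ : G →* MonoidAlgebra K G ⧸ J := π.toMonoidHom.comp (MonoidAlgebra.of K G)
  have hγ : ∀ z, MonoidAlgebra.lift K _ G γ z = π z := fun z => by
    induction z using MonoidAlgebra.induction_linear with
    | zero => simp
    | add x y hx hy => rw [map_add, map_add, hx, hy]
    | single m r =>
      rw [MonoidAlgebra.lift_single, show γ m = π (MonoidAlgebra.single m 1) from rfl, ← map_smul]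
      simp
  let Δ : (MonoidAlgebra K G ⧸ J) →ₐ[K] (MonoidAlgebra K G ⧸ J) ⊗[K] (MonoidAlgebra K G ⧸ J) :=
    Ideal.Quotient.liftₐ J (MonoidAlgebra.lift K _ G _)
      (h2 _ γ fun z hz => (hγ z).trans (Ideal.Quotient.eq_zero_iff_mem.2 hz))
  have hΔ : ∀ m, Δ (γ m) = γ m ⊗ₜ γ m := fun m => by
    show MonoidAlgebra.lift K _ G _ (MonoidAlgebra.single m (1 : K)) = _
    rw [MonoidAlgebra.lift_single, one_smul]
    simp
  refine ⟨γ.ker, fun m hm => (Ideal.Quotient.eq (I := J)).1 ((MonoidHom.mem_ker.1 hm).trans (map_one π).symm :),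
    fun z hz => ?_⟩
  let γ' : G ⧸ γ.ker →* MonoidAlgebra K G ⧸ J := QuotientGroup.lift γ.ker γ le_rfl
  have hγ' : Function.Injective γ' := by
    intro x y hxy
    obtain ⟨a, rfl⟩ := QuotientGroup.mk_surjective x
    obtain ⟨b, rfl⟩ := QuotientGroup.mk_surjective y
    refine QuotientGroup.eq.2 (MonoidHom.mem_ker.2 ?_)
    have hab : γ a = γ b := hxy
    rw [map_mul, ← hab, ← map_mul, inv_mul_cancel, map_one]
  have hli := linearIndependent_groupLike γ' hγ' Δ fun x => by
    obtain ⟨a, rfl⟩ := QuotientGroup.mk_surjective x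
    exact hΔ a
  have hinj : ∀ w, MonoidAlgebra.lift K _ _ γ' w = 0 → w = 0 := by
    intro w hw
    rw [MonoidAlgebra.lift_apply] at hw
    have : w.coeff = 0 := linearIndependent_iff.1 hli w.coeff (by rw [Finsupp.linearCombination_apply]; exact hw)
    exact (MonoidAlgebra.coeffLinearEquiv K).injective (by simpa using this)
  refine hinj _ ?_
  have hcomp : ∀ w, MonoidAlgebra.lift K _ _ γ'
      (MonoidAlgebra.mapDomainRingHom K (QuotientGroup.mk' γ.ker) w) = π w := fun w => by
    induction w using MonoidAlgebra.induction_linear with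
    | zero => simp
    | add x y hx hy => rw [map_add, map_add, map_add, hx, hy]
    | single m r =>
      rw [MonoidAlgebra.mapDomainRingHom_apply, MonoidAlgebra.mapDomain_single, MonoidAlgebra.lift_single,
        ← hγ, MonoidAlgebra.lift_single]
      rfl
  rw [hcomp]
  exact Ideal.Quotient.eq_zero_iff_mem.2 hz

theorem exists_denom {R : Type u} [CommRing R] [IsDomain R] [Algebra R K] [IsFractionRing R K]
    {G : Type} [CommGroup G] (I : Ideal (MonoidAlgebra R G)) {z : MonoidAlgebra K G}
    (hz : z ∈ I.map (MonoidAlgebra.mapRingHom G (algebraMap R K))) :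
    ∃ f : R, f ≠ 0 ∧ ∃ i ∈ I, MonoidAlgebra.mapRingHom G (algebraMap R K) i =
      MonoidAlgebra.single 1 (algebraMap R K f) * z := by
  let emb := MonoidAlgebra.mapRingHom G (algebraMap R K)
  have hs : ∀ f g : R, MonoidAlgebra.single (1 : G) (algebraMap R K (f * g)) =
      MonoidAlgebra.single (1 : G) (algebraMap R K f) * MonoidAlgebra.single 1 (algebraMap R K g) :=
    fun f g => by simp [MonoidAlgebra.single_mul_single]
  have hemb : ∀ f : R, emb (MonoidAlgebra.single 1 f) = MonoidAlgebra.single 1 (algebraMap R K f) :=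
    fun f => by simp [emb]
  have hc : ∀ c : MonoidAlgebra K G, ∃ f : R, f ≠ 0 ∧ ∃ i, emb i = MonoidAlgebra.single 1 (algebraMap R K f) * c := by
    intro c
    induction c using MonoidAlgebra.induction_linear with
    | zero => exact ⟨1, one_ne_zero, 0, by simp⟩
    | add x y hx hy =>
      obtain ⟨f, hf, i, hi⟩ := hx
      obtain ⟨g, hg, j, hj⟩ := hy
      refine ⟨f * g, mul_ne_zero hf hg, MonoidAlgebra.single 1 g * i + MonoidAlgebra.single 1 f * j, ?_⟩
      rw [map_add, map_mul, map_mul, hemb, hemb, hi, hj, hs]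
      ring
    | single m r =>
      obtain ⟨⟨p, q⟩, hpq⟩ := IsLocalization.surj (nonZeroDivisors R) r
      exact ⟨q, nonZeroDivisors.coe_ne_zero q, MonoidAlgebra.single m p, by
        simp [emb, MonoidAlgebra.single_mul_single, ← hpq, mul_comm]⟩
  induction hz using Submodule.span_induction with
  | mem x hx =>
    obtain ⟨i, hi, rfl⟩ := hx
    exact ⟨1, one_ne_zero, i, hi, by simp [← MonoidAlgebra.one_def]⟩
  | zero => exact ⟨1, one_ne_zero, 0, zero_mem _, by simp⟩
  | add x y _ _ hx hy =>
    obtain ⟨f, hf, i, hi, ei⟩ := hx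
    obtain ⟨g, hg, j, hj, ej⟩ := hy
    refine ⟨f * g, mul_ne_zero hf hg, MonoidAlgebra.single 1 g * i + MonoidAlgebra.single 1 f * j,
      add_mem (I.mul_mem_left _ hi) (I.mul_mem_left _ hj), ?_⟩
    rw [map_add, map_mul, map_mul, hemb, hemb, ei, ej, hs]
    ring
  | smul c x _ hx =>
    obtain ⟨f, hf, i, hi, ei⟩ := hx
    obtain ⟨g, hg, j, ej⟩ := hc c
    refine ⟨f * g, mul_ne_zero hf hg, j * i, I.mul_mem_left _ hi, ?_⟩
    rw [map_mul, ej, ei, hs, smul_eq_mul]
    ring

end Algebra

section Equalizer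

/-- The equaliser of two maps from an affine scheme to a separated one. -/
theorem exists_equalizer_ideal {S : Scheme.{u}} {X : Over S} [IsSeparated X.hom] {A : CommRingCat.{u}}
    {h : Spec A ⟶ S} (a b : Over.mk h ⟶ X) :
    ∃ I : Ideal A, ∀ (W : Over S) (f : W ⟶ Over.mk h), f ≫ a = f ≫ b ↔ ∀ z ∈ I, theta f.left z = 0 := by
  let d : X.left ⟶ pullback X.hom X.hom := pullback.diagonal X.hom
  let l : Spec A ⟶ pullback X.hom X.hom :=
    pullback.lift a.left b.left ((Over.w a).trans (Over.w b).symm)
  let j : pullback d l ⟶ Spec A := pullback.snd d l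
  have : IsClosedImmersion j := MorphismProperty.pullback_snd _ _ inferInstance
  have : IsAffine (pullback d l) := isAffine_of_isAffineHom j
  have hs : Function.Surjective j.appTop :=
    IsClosedImmersion.isAffine_surjective_of_isAffine j |>.2
  have hs' : Function.Surjective (theta j) :=
    hs.comp (ConcreteCategory.bijective_of_isIso (Scheme.ΓSpecIso A).inv).2
  refine ⟨RingHom.ker (theta j), fun W f => ⟨fun e => ?_, fun hk => ?_⟩⟩
  · intro z hz
    let zz : W.left ⟶ pullback d l := pullback.lift (f.left ≫ a.left) f.left (by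
      apply pullback.hom_ext
      · rw [Category.assoc, Category.assoc, pullback.diagonal_fst, Category.comp_id]
        exact (congrArg (f.left ≫ ·) (pullback.lift_fst _ _ _)).symm
      · rw [Category.assoc, Category.assoc, pullback.diagonal_snd, Category.comp_id]
        refine Eq.trans ?_ (congrArg (f.left ≫ ·) (pullback.lift_snd _ _ _)).symm
        exact congrArg Over.Hom.left e)
    have hf : zz ≫ j = f.left := pullback.lift_snd _ _ _
    have h2 : theta f.left z = zz.appTop (theta j z) := by
      show theta f.left z = _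
      rw [← hf]
      rfl
    rw [h2, RingHom.mem_ker.1 hz, map_zero]
  · let L : Γ(pullback d l, ⊤) →+* Γ(W.left, ⊤) :=
      RingHom.liftOfSurjective (theta j) hs' ⟨theta f.left, fun z hz => hk z hz⟩
    have hL : ∀ z, L (theta j z) = theta f.left z := fun z =>
      RingHom.liftOfRightInverse_comp_apply (theta j) _ _ ⟨theta f.left, fun z hz => hk z hz⟩ z
    have hcomp : CommRingCat.ofHom (theta j) ≫ CommRingCat.ofHom L = CommRingCat.ofHom (theta f.left) :=
      CommRingCat.hom_ext (RingHom.ext hL)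
    let zz : W.left ⟶ pullback d l :=
      W.left.toSpecΓ ≫ Spec.map (CommRingCat.ofHom L) ≫ (pullback d l).isoSpec.inv
    have hj : (pullback d l).isoSpec.inv ≫ j = Spec.map (CommRingCat.ofHom (theta j)) := by
      rw [Iso.inv_comp_eq]
      exact (toSpecΓ_SpecMap_theta j).symm
    have hz : zz ≫ j = f.left := by
      simp only [zz, Category.assoc]
      rw [hj, ← Spec.map_comp, hcomp, toSpecΓ_SpecMap_theta]
    have h1 : pullback.fst d l = j ≫ a.left := by
      have h0 := congrArg (· ≫ pullback.fst X.hom X.hom) (pullback.condition (f := d) (g := l))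
      simp only [Category.assoc] at h0
      rw [pullback.diagonal_fst, Category.comp_id] at h0
      exact h0.trans (congrArg (j ≫ ·) (pullback.lift_fst _ _ _))
    have h2 : pullback.fst d l = j ≫ b.left := by
      have h0 := congrArg (· ≫ pullback.snd X.hom X.hom) (pullback.condition (f := d) (g := l))
      simp only [Category.assoc] at h0
      rw [pullback.diagonal_snd, Category.comp_id] at h0
      exact h0.trans (congrArg (j ≫ ·) (pullback.lift_snd _ _ _))
    ext1
    show f.left ≫ a.left = f.left ≫ b.left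
    rw [← hz]
    exact ((Category.assoc _ _ _).trans (congrArg (zz ≫ ·) (h1.symm.trans h2))).trans (Category.assoc _ _ _).symm

end Equalizer

section Torus

variable {S : Scheme.{u}} {T X : Over S} [GrpObj T] (act : AlgGrp.Action T X)

theorem act_mul {W : Over S} (g h : W ⟶ T) (x : W ⟶ X) :
    lift (g * h) x ≫ act.act = lift g (lift h x ≫ act.act) ≫ act.act := by
  rw [Hom.mul_def, ← lift_whiskerRight, Category.assoc, act.mul_act, ← lift_whiskerLeft, Category.assoc]
  simp

theorem act_one {W : Over S} (x : W ⟶ X) : lift (1 : W ⟶ T) x ≫ act.act = x := by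
  rw [Hom.one_def, ← lift_whiskerRight, Category.assoc, act.one_act]
  simp

end Torus

variable {k : Type u} [Field k]

/-- A split torus acting faithfully on a variety has trivial stabilisers on a dense open subset. -/
theorem exists_dense_open_trivial_stab {M : Type} [AddCommGroup M] [hfg : AddGroup.FG M]
    (T X : Over (Spec (CommRingCat.of k))) [GrpObj T]
    (e : T ≅ Red.DS (Spec (CommRingCat.of k)) M) [IsMonHom e.hom]
    [IsSeparated X.hom] [IsIntegral X.left]
    (a : AlgGrp.Action T X)
    (hfaith : ∀ (S : Over (Spec (CommRingCat.of k))) (g : S ⟶ T),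
      (∀ (S' : Over (Spec (CommRingCat.of k))) (s : S' ⟶ S) (x : S' ⟶ X), lift (s ≫ g) x ≫ a.act = x) → g = 1) :
    ∃ U : X.left.Opens, Dense (U : Set ↥X.left) ∧
      ∀ x : 𝟙_ (Over (Spec (CommRingCat.of k))) ⟶ X, x.left (IsLocalRing.closedPoint k) ∈ U →
        ∀ (S : Over (Spec (CommRingCat.of k))) (g : S ⟶ T),
          lift g (toUnit S ≫ x) ≫ a.act = toUnit S ≫ x → g = 1 := by
  classical
  haveI : IsMonHom e.inv := inferInstance
  obtain ⟨_, ⟨U₀, hU₀, rfl⟩, hne, -⟩ :=
    X.left.isBasis_affineOpens.exists_subset_of_mem_open (Set.mem_univ (genericPoint X.left)) isOpen_univ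
  have : Nonempty U₀ := ⟨⟨_, hne⟩⟩
  let R : CommRingCat.{u} := Γ(X.left, U₀)
  let G := Multiplicative M
  let O : Over (Spec (CommRingCat.of k)) := Over.mk (hU₀.fromSpec ≫ X.hom)
  let jO : O ⟶ X := Over.homMk hU₀.fromSpec
  let A₀ : CommRingCat.{u} := CommRingCat.of (MonoidAlgebra R G)
  let C₀ : R ⟶ A₀ := CommRingCat.ofHom MonoidAlgebra.singleOneRingHom
  let W₀ : Over (Spec (CommRingCat.of k)) := Over.mk (Spec.map C₀ ≫ O.hom)
  let x₀ : W₀ ⟶ O := Over.homMk (Spec.map C₀)
  obtain ⟨p₀, hp₀⟩ := exists_dsPt (W := W₀)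
    ((Scheme.ΓSpecIso A₀).inv.hom.toMonoidHom.comp (MonoidAlgebra.of R G))
  obtain ⟨I, hI⟩ := exists_equalizer_ideal (A := A₀) (h := Spec.map C₀ ≫ O.hom)
    (lift (p₀ ≫ e.inv) (x₀ ≫ jO) ≫ a.act) (x₀ ≫ jO)
  -- which points are fixed
  let L : ∀ {B : Type u} [CommRing B], (R →+* B) → (G →* B) → (MonoidAlgebra R G →+* B) :=
    fun c χ => MonoidAlgebra.liftNCRingHom c χ fun _ _ => Commute.all _ _
  have hLs : ∀ {B : Type u} [CommRing B] (c : R →+* B) (χ : G →* B) (m : G) (r : R),
      L c χ (MonoidAlgebra.single m r) = c r * χ m := fun c χ m r =>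
    MonoidAlgebra.liftNCRingHom_single c χ _ m r
  have key : ∀ (W : Over (Spec (CommRingCat.of k))) (w : W ⟶ O) (p : W ⟶ Red.DS _ M),
      lift (p ≫ e.inv) (w ≫ jO) ≫ a.act = w ≫ jO ↔ ∀ z ∈ I, L (theta w.left) (dsFn p) z = 0 := by
    intro W w p
    have hC : C₀ ≫ CommRingCat.ofHom (L (theta w.left) (dsFn p)) = CommRingCat.ofHom (theta w.left) := by
      ext r
      exact (hLs _ _ _ _).trans (by rw [map_one, _root_.mul_one]; rfl)
    let f : W ⟶ W₀ := Over.homMk (W.left.toSpecΓ ≫ Spec.map (CommRingCat.ofHom (L (theta w.left) (dsFn p)))) (by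
      show (W.left.toSpecΓ ≫ _) ≫ Spec.map C₀ ≫ O.hom = W.hom
      rw [Category.assoc, ← Spec.map_comp_assoc, hC, ← Category.assoc, toSpecΓ_SpecMap_theta]
      exact Over.w w)
    have hfx : f ≫ x₀ = w := by
      ext1
      show (W.left.toSpecΓ ≫ _) ≫ Spec.map C₀ = w.left
      rw [Category.assoc, ← Spec.map_comp, hC, toSpecΓ_SpecMap_theta]
    have hfp : f ≫ p₀ = p := by
      refine dsFn_injective (MonoidHom.ext fun m => ?_)
      rw [dsFn_comp, hp₀]
      refine (appTop_toSpecΓ_SpecMap (CommRingCat.ofHom (L (theta w.left) (dsFn p))) _).trans ?_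
      exact (hLs _ _ _ _).trans (by rw [map_one, _root_.one_mul])
    have hθ : ∀ z, theta f.left z = L (theta w.left) (dsFn p) z := fun z =>
      appTop_toSpecΓ_SpecMap (CommRingCat.ofHom (L (theta w.left) (dsFn p))) z
    rw [← hfx, ← hfp, Category.assoc, Category.assoc, ← comp_lift, Category.assoc]
    refine (hI W f).trans ?_
    rw [hfx, hfp]
    exact forall₂_congr fun z _ => by rw [hθ]
  let Fix : ∀ (B : Type u) [CommRing B], (R →+* B) → (G →* B) → Prop := fun B _ c χ => ∀ z ∈ I, L c χ z = 0
  -- translation to rings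
  have keyB : ∀ (B : Type u) [CommRing B] (c : R →+* B) (χ : G →* B),
      ∃ (W : Over (Spec (CommRingCat.of k))) (w : W ⟶ O) (p : W ⟶ Red.DS _ M)
        (i : B →+* Γ(W.left, ⊤)), Function.Injective i ∧ theta w.left = i.comp c ∧
          dsFn p = i.toMonoidHom.comp χ ∧
          ∀ ψ : G →* B, ∃ q : W ⟶ Red.DS _ M, dsFn q = i.toMonoidHom.comp ψ := by
    intro B _ c χ
    let W : Over (Spec (CommRingCat.of k)) := Over.mk (Spec.map (CommRingCat.ofHom c) ≫ O.hom)
    obtain ⟨p, hp⟩ := exists_dsPt (W := W) ((Scheme.ΓSpecIso (CommRingCat.of B)).inv.hom.toMonoidHom.comp χ)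
    exact ⟨W, Over.homMk (Spec.map (CommRingCat.ofHom c)), p, (Scheme.ΓSpecIso (CommRingCat.of B)).inv.hom,
      (ConcreteCategory.bijective_of_isIso (Scheme.ΓSpecIso (CommRingCat.of B)).inv).1,
      RingHom.ext fun r => theta_SpecMap (CommRingCat.ofHom c) r, hp, fun ψ => exists_dsPt _⟩
  have hLi : ∀ {B B' : Type u} [CommRing B] [CommRing B'] (i : B →+* B') (c : R →+* B) (χ : G →* B) (z),
      L (i.comp c) (i.toMonoidHom.comp χ) z = i (L c χ z) := by
    intro B B' _ _ i c χ z
    induction z using MonoidAlgebra.induction_linear with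
    | zero => simp
    | add x y hx hy => simp only [map_add, hx, hy]
    | single m r => simp [hLs]
  have hone : ∀ (B : Type u) [CommRing B] (c : R →+* B), Fix B c 1 := by
    intro B _ c z hz
    obtain ⟨W, w, p, i, hi, hw, hp, -⟩ := keyB B c 1
    have hp1 : p = 1 := dsFn_injective (MonoidHom.ext fun m => by rw [hp, dsFn_one]; simp)
    have h := (key W w p).1 (by rw [hp1, MonObj.one_comp, act_one]) z hz
    rw [hw, hp, hLi] at h
    exact hi (h.trans (map_zero i).symm)
  have hmul : ∀ (B : Type u) [CommRing B] (c : R →+* B) (χ χ' : G →* B),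
      Fix B c χ → Fix B c χ' → Fix B c (χ * χ') := by
    intro B _ c χ χ' hχ hχ' z hz
    obtain ⟨W, w, p, i, hi, hw, hp, hall⟩ := keyB B c (χ * χ')
    obtain ⟨q, hq⟩ := hall χ
    obtain ⟨q', hq'⟩ := hall χ'
    have hfix : ∀ (ψ : G →* B) (o : W ⟶ Red.DS _ M), Fix B c ψ → dsFn o = i.toMonoidHom.comp ψ →
        lift (o ≫ e.inv) (w ≫ jO) ≫ a.act = w ≫ jO := fun ψ o hψ ho =>
      (key W w o).2 fun y hy => by rw [hw, ho, hLi, hψ y hy, map_zero]
    have hpq : p = q * q' := dsFn_injective (MonoidHom.ext fun m => by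
      rw [hp, dsFn_mul, hq, hq']; simp)
    have h := (key W w p).1 (by
      rw [hpq, MonObj.mul_comp, act_mul, hfix χ' q' hχ' hq', hfix χ q hχ hq]) z hz
    rw [hw, hp, hLi] at h
    exact hi (h.trans (map_zero i).symm)
  -- the generic stabiliser
  let K := FractionRing R
  let emb : MonoidAlgebra R G →+* MonoidAlgebra K G := MonoidAlgebra.mapRingHom G (algebraMap R K)
  have hLK : ∀ {Q : Type u} [CommRing Q] [Algebra K Q] (γ : G →* Q) (z),
      MonoidAlgebra.lift K Q G γ (emb z) = L ((algebraMap K Q).comp (algebraMap R K)) γ z := by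
    intro Q _ _ γ z
    induction z using MonoidAlgebra.induction_linear with
    | zero => simp
    | add x y hx hy => simp only [map_add, hx, hy]
    | single m r => simp [emb, hLs, Algebra.smul_def]
  have hJ : ∀ {Q : Type u} [CommRing Q] [Algebra K Q] (γ : G →* Q),
      (∀ z ∈ I.map emb, MonoidAlgebra.lift K Q G γ z = 0) ↔ Fix Q ((algebraMap K Q).comp (algebraMap R K)) γ := by
    intro Q _ _ γ
    refine ⟨fun h z hz => (hLK γ z).symm.trans (h _ (Ideal.mem_map_of_mem emb hz)), fun h z hz => ?_⟩
    have : I.map emb ≤ RingHom.ker (MonoidAlgebra.lift K Q G γ) := Ideal.map_le_iff_le_comap.2 fun y hy =>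
      RingHom.mem_ker.2 ((hLK γ y).trans (h y hy))
    exact this hz
  obtain ⟨N, hN1, hN2⟩ := exists_subgroup (I.map emb) ((hJ 1).2 (hone _ _)) (fun Q _ _ γ hγ =>
    (hJ _).2 (hmul _ _ _ _ (fun z hz => by
        have e1 : (algebraMap K (Q ⊗[K] Q)).comp (algebraMap R K) =
            ((Algebra.TensorProduct.includeLeft : Q →ₐ[K] Q ⊗[K] Q) : Q →+* Q ⊗[K] Q).comp
              ((algebraMap K Q).comp (algebraMap R K)) := RingHom.ext fun r => by simp
        rw [e1]
        exact (hLi _ _ _ z).trans (by rw [(hJ γ).1 hγ z hz, map_zero]))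
      (fun z hz => by
        have e1 : (algebraMap K (Q ⊗[K] Q)).comp (algebraMap R K) =
            ((Algebra.TensorProduct.includeRight : Q →ₐ[K] Q ⊗[K] Q) : Q →+* Q ⊗[K] Q).comp
              ((algebraMap K Q).comp (algebraMap R K)) := RingHom.ext fun r => by
          simp [Algebra.TensorProduct.tmul_one_eq_one_tmul]
        rw [e1]
        exact (hLi _ _ _ z).trans (by rw [(hJ γ).1 hγ z hz, map_zero]))))
  have hNtop : N = ⊤ := by
    let B₁ : CommRingCat.{u} := CommRingCat.of (MonoidAlgebra k (G ⧸ N))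
    let W₁ : Over (Spec (CommRingCat.of k)) :=
      Over.mk (Spec.map (CommRingCat.ofHom (algebraMap k (MonoidAlgebra k (G ⧸ N)))))
    let χ₁ : G ⧸ N →* Γ(W₁.left, ⊤) :=
      (Scheme.ΓSpecIso B₁).inv.hom.toMonoidHom.comp (MonoidAlgebra.of k (G ⧸ N))
    obtain ⟨p₁, hp₁⟩ := exists_dsPt (W := W₁) (χ₁.comp (QuotientGroup.mk' N))
    let a' : W₁ ⊗ X ⟶ X := ((p₁ ≫ e.inv) ▷ X) ≫ a.act
    have ha' : ∀ {V : Over (Spec (CommRingCat.of k))} (g : V ⟶ W₁) (x : V ⟶ X),
        lift g x ≫ a' = lift ((g ≫ p₁) ≫ e.inv) x ≫ a.act := fun g x => by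
      show lift g x ≫ _ ≫ a.act = _
      rw [lift_whiskerRight_assoc, Category.assoc]
    obtain ⟨F, j, hj, hF⟩ := exists_fixedLocus a' (isEssentiallyFree_hom W₁)
    obtain ⟨zO, hzO⟩ : ∃ z : O ⟶ F, z ≫ j = jO := (hF O jO).2 ((fixed_iff a' jO).2 fun V w g => by
      rw [ha']
      refine (key V w (g ≫ p₁)).2 fun z hz => ?_
      let χV : G ⧸ N →* Γ(V.left, ⊤) := g.left.appTop.hom.toMonoidHom.comp χ₁
      have e2 : ∀ z, L (theta w.left) (dsFn (g ≫ p₁)) z =
          MonoidAlgebra.liftNCRingHom (theta w.left) χV (fun _ _ => Commute.all _ _)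
            (MonoidAlgebra.mapDomainRingHom R (QuotientGroup.mk' N) z) := by
        intro z
        induction z using MonoidAlgebra.induction_linear with
        | zero => simp
        | add x y hx hy => rw [map_add, map_add, map_add, hx, hy]
        | single m r =>
          rw [hLs, MonoidAlgebra.mapDomainRingHom_apply, MonoidAlgebra.mapDomain_single,
            MonoidAlgebra.liftNCRingHom_single, dsFn_comp, hp₁]
          rfl
      have e3 : ∀ y, MonoidAlgebra.mapRingHom (G ⧸ N) (algebraMap R K)
          (MonoidAlgebra.mapDomainRingHom R (QuotientGroup.mk' N) y) =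
          MonoidAlgebra.mapDomainRingHom K (QuotientGroup.mk' N) (emb y) := fun y => by
        induction y using MonoidAlgebra.induction_linear with
        | zero => simp
        | add x y hx hy => simp only [map_add, hx, hy]
        | single m r => simp [emb]
      have e4 : MonoidAlgebra.mapDomainRingHom R (QuotientGroup.mk' N) z = 0 := by
        refine MonoidAlgebra.coeff_injective (Finsupp.ext fun m => IsFractionRing.injective R K ?_)
        have e5 := (e3 z).trans (hN2 _ (Ideal.mem_map_of_mem emb hz))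
        rw [← MonoidAlgebra.coeff_mapRingHom, e5]
        simp
      rw [e2, e4, map_zero])
    have hsurj : Surjective j.left := by
      refine ⟨Set.range_eq_univ.1 ?_⟩
      refine Set.univ_subset_iff.1 ?_
      have hd : Dense (U₀ : Set X.left) := U₀.2.dense ⟨_, hne⟩
      rw [← hd.closure_eq]
      refine closure_minimal ?_ j.left.isClosedEmbedding.isClosed_range
      rw [← hU₀.range_fromSpec]
      rintro _ ⟨y, rfl⟩
      exact ⟨zO.left y, by
        show (zO ≫ j).left y = _
        rw [hzO]; rfl⟩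
    have : IsIso j.left := isIso_of_isClosedImmersion_of_surjective j.left
    have : IsIso ((Over.forget _).map j) := inferInstanceAs (IsIso j.left)
    have : IsIso j := isIso_of_reflects_iso j (Over.forget _)
    have hall := (fixed_iff a' (𝟙 X)).1 ((hF X (𝟙 X)).1 ⟨inv j, IsIso.inv_hom_id j⟩)
    have h1 : p₁ ≫ e.inv = 1 := hfaith W₁ (p₁ ≫ e.inv) fun V s x => by
      have := hall V x s
      rw [Category.comp_id, ha', Category.assoc] at this
      exact this
    have h2 : p₁ = 1 := by
      have := congrArg (· ≫ e.hom) h1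
      simpa only [Category.assoc, Iso.inv_hom_id, Category.comp_id, MonObj.one_comp] using this
    refine eq_top_iff.2 fun m _ => (QuotientGroup.eq_one_iff m).1 ?_
    have h3 := DFunLike.congr_fun hp₁ m
    rw [h2, dsFn_one] at h3
    have h4 : MonoidAlgebra.of k (G ⧸ N) (QuotientGroup.mk' N m) = 1 :=
      (ConcreteCategory.bijective_of_isIso (Scheme.ΓSpecIso B₁).inv).1
        (h3.symm.trans (map_one (Scheme.ΓSpecIso B₁).inv.hom).symm)
    exact MonoidAlgebra.of_injective (h4.trans (map_one _).symm)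
  -- clearing denominators
  obtain ⟨s, hs⟩ : ∃ s : Finset G, Subgroup.closure (s : Set G) = ⊤ :=
    (Group.fg_def.1 inferInstance).imp fun s hs => hs
  have hden : ∀ m : G, ∃ f : R, f ≠ 0 ∧ MonoidAlgebra.single m f - MonoidAlgebra.single 1 f ∈ I := by
    intro m
    obtain ⟨f, hf, i, hi, ei⟩ := exists_denom (K := K) I (hN1 m (hNtop ▸ Subgroup.mem_top m))
    refine ⟨f, hf, ?_⟩
    have : i = MonoidAlgebra.single m f - MonoidAlgebra.single 1 f := by
      refine MonoidAlgebra.coeff_injective (Finsupp.ext fun x => IsFractionRing.injective R K ?_)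
      rw [← MonoidAlgebra.coeff_mapRingHom, ei, ← MonoidAlgebra.coeff_mapRingHom]
      simp [mul_sub, MonoidAlgebra.single_mul_single]
    exact this ▸ hi
  choose f hf hfI using hden
  let F : R := ∏ m ∈ s, f m
  have hF0 : F ≠ 0 := Finset.prod_ne_zero_iff.2 fun m _ => hf m
  refine ⟨X.left.basicOpen F, (X.left.basicOpen F).2.dense ?_, fun x hx S g hg => ?_⟩
  · by_contra hemp
    have hbot : X.left.basicOpen F = ⊥ := SetLike.coe_injective (Set.not_nonempty_iff_eq_empty.1 hemp)
    exact hF0 ((basicOpen_eq_bot_iff F).1 hbot)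
  have hxU : Set.range x.left ⊆ Set.range hU₀.fromSpec := by
    rintro _ ⟨y, rfl⟩
    have : Subsingleton (Spec (CommRingCat.of k)) := inferInstanceAs (Subsingleton (PrimeSpectrum k))
    rw [hU₀.range_fromSpec, Subsingleton.elim (α := Spec (CommRingCat.of k)) y (IsLocalRing.closedPoint k)]
    exact X.left.basicOpen_le F hx
  let w₁ : Spec (CommRingCat.of k) ⟶ Spec R := IsOpenImmersion.lift hU₀.fromSpec x.left hxU
  have hw₁ : w₁ ≫ hU₀.fromSpec = x.left := IsOpenImmersion.lift_fac _ _ _
  let w : 𝟙_ (Over (Spec (CommRingCat.of k))) ⟶ O := Over.homMk w₁ (by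
    show w₁ ≫ hU₀.fromSpec ≫ X.hom = _
    rw [reassoc_of% hw₁]; exact Over.w x)
  have hwx : w ≫ jO = x := Over.OverMorphism.ext hw₁
  have hunit : IsUnit (Spec.preimage w₁ F) := by
    refine isUnit_iff_ne_zero.2 fun h0 => ?_
    have hmem : w₁ (IsLocalRing.closedPoint k) ∈ PrimeSpectrum.basicOpen F := by
      rw [← hU₀.fromSpec_preimage_basicOpen F]
      show hU₀.fromSpec (w₁ (IsLocalRing.closedPoint k)) ∈ X.left.basicOpen F
      rw [← Scheme.Hom.comp_apply, hw₁]
      exact hx
    rw [← Spec.map_preimage w₁] at hmem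
    exact hmem (show Spec.preimage w₁ F ∈ (IsLocalRing.closedPoint k).asIdeal from h0 ▸ zero_mem _)
  let t : S ⟶ O := toUnit S ≫ w
  have hunit' : IsUnit (theta t.left F) := by
    have e : theta t.left F = (toUnit S).left.appTop (theta w₁ F) := rfl
    rw [e]
    refine IsUnit.map (toUnit S).left.appTop.hom ?_
    rw [← Spec.map_preimage w₁, theta_SpecMap]
    exact hunit.map (Scheme.ΓSpecIso (CommRingCat.of k)).inv.hom
  let p : S ⟶ Red.DS _ M := g ≫ e.hom
  have hpg : p ≫ e.inv = g := by simp [p]
  have hfix := (key S t p).1 (by rw [hpg, Category.assoc, hwx]; exact hg)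
  have hchar : ∀ m ∈ s, dsFn p m = 1 := by
    intro m hm
    have h := hfix _ (hfI m)
    rw [map_sub, hLs, hLs, map_one, _root_.mul_one, sub_eq_zero] at h
    have hu : IsUnit (theta t.left (f m)) := isUnit_of_dvd_unit (map_dvd _ (Finset.dvd_prod_of_mem f hm)) hunit'
    exact hu.mul_eq_left.1 h
  have hp1 : p = 1 := dsFn_injective (MonoidHom.ext fun m => by
    rw [dsFn_one]
    have hm : m ∈ Subgroup.closure (s : Set G) := hs ▸ Subgroup.mem_top m
    induction hm using Subgroup.closure_induction with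
    | mem y hy => exact hchar y hy
    | one => exact map_one _
    | mul y z _ _ hy hz => rw [map_mul, hy, hz, _root_.one_mul]
    | inv y _ hy =>
      have := map_mul (dsFn p) y y⁻¹
      rw [mul_inv_cancel, map_one, hy, _root_.one_mul] at this
      exact this.symm)
  rw [← hpg, hp1, MonObj.one_comp]

end Groth.Agent.AlgGrpLib.TorusFreeOrbit
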