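import Groth.Agent.AlgGrpLib.OrbitSmooth
import Groth.Agent.AlgGrpLib.OrbitDim
import Groth.Agent.AlgGrpLib.OrbitDimFormula
import Groth.Agent.AlgGrpLib.TorsorQuot
import Groth.Agent.AlgGrpLib.TorusFreeOrbit
import Groth.Agent.AbSchLib.GlobalSections
import Groth.Agent.TorusGal29.Bridge
import Groth.Agent.HopfLib.ComodFlag
import Groth.Agent.S3266

/-!
# Borel's fixed point theorem

A proper subgroup of a trigonalizable group leaves a non-constant function invariant, and such a
function descends to the orbit, which is impossible for a proper connected orbit.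
-/

set_option autoImplicit false
set_option backward.isDefEq.respectTransparency.types false
set_option maxHeartbeats 400000

universe u

open CategoryTheory CategoryTheory.Limits MonoidalCategory CartesianMonoidalCategory MonObj AlgebraicGeometry
open scoped TensorProduct

namespace Groth.Agent.AlgGrpLib.BorelFixed

section Hopf

open HopfRep HopfLib
open Coalgebra (comul counit)

variable {k : Type u} [Field k] {A : Type u} [CommRing A] [HopfAlgebra k A]

/-- A proper subgroup of a trigonalizable group leaves a non-constant function invariant. -/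
theorem exists_invariant_nonscalar (hT : IsTrigonalizable k A) (I : Ideal A)
    (h0 : ∀ z ∈ I, counit (R := k) z = 0)
    (hI : ∀ z ∈ I, Algebra.TensorProduct.map (Ideal.Quotient.mkₐ k I) (Ideal.Quotient.mkₐ k I)
      (comul (R := k) z) = 0)
    (hne : I ≠ ⊥) :
    ∃ F : A, Algebra.TensorProduct.map (AlgHom.id k A) (Ideal.Quotient.mkₐ k I) (comul (R := k) F) = F ⊗ₜ 1 ∧
      ∀ c : k, F ≠ algebraMap k A c := by
  classical
  let π : A →ₐ[k] A ⧸ I := Ideal.Quotient.mkₐ k I
  let P : ℕ → Prop := fun n => ∃ S : Submodule k A, Module.Finite k S ∧ IsSubcomod (k := k) (A := A) S ∧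
    Module.finrank k S = n ∧ ∃ w ∈ S, w ∈ I ∧ w ≠ 0
  have hP : ∃ n, P n := by
    obtain ⟨w, hw, hw0⟩ := Submodule.exists_mem_ne_zero_of_ne_bot hne
    exact ⟨_, orbit k A w, finite_orbit w, isSubcomod_orbit w, rfl, w, mem_orbit_self w, hw, hw0⟩
  obtain ⟨S, hSfin, hS, hn, w, hwS, hwI, hw0⟩ := Nat.find_spec hP
  have hpos : 0 < Module.finrank k S := by
    haveI : Nontrivial S := nontrivial_of_ne ⟨w, hwS⟩ 0 fun h => hw0 (congrArg Subtype.val h :)
    exact Module.finrank_pos
  let cS := ComodSub.Comod.restr (Comod.regular (k := k) (A := A)) S hS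
  obtain ⟨T, hT1, hT2, hTS⟩ : ∃ T : Submodule k A, IsSubcomod (k := k) (A := A) T ∧
      Module.finrank k T + 1 = Module.finrank k S ∧ T ≤ S := by
    obtain ⟨Fl, -, -, hs, hr⟩ := exists_flag_trigonalizable hT (V := S)
    refine ⟨(Fl (Module.finrank k S - 1)).map S.subtype, ?_, ?_, Submodule.map_subtype_le _ _⟩
    · exact isSubcomod_map (ComodSub.isComodHom_subtype (Comod.regular (k := k) (A := A)) S hS) (hs _)
    · rw [Submodule.finrank_map_subtype_eq, hr _ (by omega)]
      omega
  haveI : Module.Finite k T := Module.Finite.iff_fg.2 (Submodule.FG.of_le (Module.Finite.iff_fg.1 hSfin) hTS)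
  have hTI : ∀ z ∈ T, z ∈ I → z = 0 := fun z hz hzI => by
    by_contra hz0
    have := Nat.find_min' hP ⟨T, inferInstance, hT1, rfl, z, hz, hzI, hz0⟩
    omega
  have hwT : w ∉ T := fun h => hw0 (hTI w h hwI)
  have hspan : T ⊔ Submodule.span k {w} = S := by
    refine Submodule.eq_of_le_of_finrank_le (sup_le hTS (Submodule.span_le.2 (by simpa using hwS))) ?_
    have hlt : T < T ⊔ Submodule.span k {w} := lt_of_le_of_ne le_sup_left fun h =>
      hwT (h ▸ le_sup_right (a := T) (Submodule.mem_span_singleton_self w))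
    haveI : Module.Finite k ↥(T ⊔ Submodule.span k {w}) := inferInstance
    have := Submodule.finrank_lt_finrank_of_lt hlt
    omega
  obtain ⟨φ, hφw, hφT⟩ : ∃ φ : A →ₗ[k] k, φ w = 1 ∧ ∀ t ∈ T, φ t = 0 := by
    obtain ⟨φ, hφ, hφT⟩ := Submodule.exists_dual_map_eq_bot_of_notMem hwT inferInstance
    refine ⟨(φ w)⁻¹ • φ, by simp [hφ], fun t ht => ?_⟩
    have : φ t = 0 := by
      have : φ t ∈ T.map φ := Submodule.mem_map_of_mem ht
      rwa [hφT] at this
    simp [this]
  let χ : A := cf (A := A) φ w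
  have hslice : ∀ g : A →ₗ[k] k, hit g w - g χ • w ∈ T := by
    intro g
    have h : hit g w ∈ T ⊔ Submodule.span k {w} := by rw [hspan]; exact IsSubcomod.hit_mem hS g hwS
    obtain ⟨t, ht, y, hy, e⟩ := Submodule.mem_sup.1 h
    obtain ⟨c, rfl⟩ := Submodule.mem_span_singleton.1 hy
    have hc : g χ = c := by
      have h1 : φ (hit g w) = g χ := by
        simp only [χ, hit_apply, cf_apply]
        generalize Comod.coact (k := k) (A := A) w = s
        induction s using TensorProduct.induction_on with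
        | zero => simp
        | add p q hp hq => simp only [map_add, hp, hq]
        | tmul p q => simp [mul_comm]
      rw [← h1, ← e, map_add, map_smul, hφT t ht, hφw]
      simp
    rw [hc, ← e, add_sub_cancel_right]
    exact ht
  have hcfT : ∀ t ∈ T, cf (A := A) φ t = 0 := by
    intro t ht
    obtain ⟨s, hs⟩ := hT1 t ht
    rw [cf_apply, ← hs]
    clear hs
    induction s using TensorProduct.induction_on with
    | zero => simp
    | add p q hp hq => simp only [map_add, hp, hq, add_zero]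
    | tmul p q => simp [hφT _ p.2]
  have hχ : comul (R := k) χ = χ ⊗ₜ χ := by
    refine eq_of_forall_sliceR_eq fun g => ?_
    rw [sliceR_comul_cf, sliceR_tmul]
    have := hcfT _ (hslice g)
    rw [map_sub, map_smul, sub_eq_zero] at this
    exact this
  have hχ1 : counit (R := k) χ = 1 := by rw [counit_cf, hφw]
  let σ : A := HopfAlgebra.antipode k χ
  have hσ : σ * χ = 1 := by
    have h := HopfAlgebra.mul_antipode_rTensor_comul_apply (R := k) χ
    rw [hχ, hχ1, map_one, LinearMap.rTensor_tmul, LinearMap.mul'_apply] at h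
    exact h
  have hσΔ : comul (R := k) σ = σ ⊗ₜ σ := by
    have h1 : comul (R := k) σ * (χ ⊗ₜ χ) = 1 := by
      rw [← hχ, ← Bialgebra.comul_mul, hσ, Bialgebra.comul_one]
    have h2 : (σ ⊗ₜ[k] σ) * (χ ⊗ₜ χ) = 1 := by
      rw [Algebra.TensorProduct.tmul_mul_tmul, hσ]
      rfl
    calc comul (R := k) σ = comul (R := k) σ * ((σ ⊗ₜ[k] σ) * (χ ⊗ₜ χ)) := by rw [h2, _root_.mul_one]
      _ = (σ ⊗ₜ[k] σ) * (comul (R := k) σ * (χ ⊗ₜ χ)) := by ring
      _ = σ ⊗ₜ σ := by rw [h1, _root_.mul_one]
  have hw' : Algebra.TensorProduct.map (AlgHom.id k A) π (comul (R := k) w) = w ⊗ₜ π χ := by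
    refine eq_of_forall_sliceR_eq fun g => ?_
    have e : ∀ s : A ⊗[k] A, sliceR g (Algebra.TensorProduct.map (AlgHom.id k A) π s) =
        sliceR (g ∘ₗ π.toLinearMap) s := by
      intro s
      induction s using TensorProduct.induction_on with
      | zero => simp
      | add p q hp hq => simp only [map_add, hp, hq]
      | tmul p q => simp
    rw [e, sliceR_tmul]
    show hit (g ∘ₗ π.toLinearMap) w = (g ∘ₗ π.toLinearMap) χ • w
    rw [← sub_eq_zero]
    refine hTI _ (hslice _) ?_
    refine sub_mem ?_ (Submodule.smul_of_tower_mem I _ hwI)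
    refine Ideal.Quotient.eq_zero_iff_mem.1 ?_
    have e2 : ∀ s : A ⊗[k] A, π (sliceR (g ∘ₗ π.toLinearMap) s) =
        sliceR g (Algebra.TensorProduct.map π π s) := by
      intro s
      induction s using TensorProduct.induction_on with
      | zero => simp
      | add p q hp hq => simp only [map_add, hp, hq]
      | tmul p q => simp
    show π (hit (g ∘ₗ π.toLinearMap) w) = 0
    rw [hit_apply, e2, show Comod.coact (k := k) (A := A) w = comul (R := k) w from rfl, hI w hwI, map_zero]
  refine ⟨w * σ, ?_, fun c hc => ?_⟩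
  · rw [Bialgebra.comul_mul, map_mul, hw', hσΔ, Algebra.TensorProduct.map_tmul,
      Algebra.TensorProduct.tmul_mul_tmul, AlgHom.id_apply, ← map_mul, mul_comm χ, hσ, map_one]
  · have h1 : counit (R := k) (w * σ) = 0 := by rw [Bialgebra.counit_mul, h0 w hwI, zero_mul]
    rw [hc, Bialgebra.counit_algebraMap] at h1
    subst h1
    rw [map_zero] at hc
    refine hw0 ?_
    calc w = w * σ * χ := by rw [_root_.mul_assoc, hσ, _root_.mul_one]
      _ = 0 := by rw [hc, zero_mul]

end Hopf

section Geometry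

open CoactBr Groth.Agent.SGA3cLib HopfLib.SpPoints
open OrbitLC (swapHom)

variable {k : Type u} [Field k]

theorem isUnit_or_isNilpotent_of_idem {A : Type u} [CommRing A] [ConnectedSpace (PrimeSpectrum A)] (e : A)
    (he : IsIdempotentElem e) : e = 0 ∨ e = 1 := by
  have hc := PrimeSpectrum.isClopen_basicOpen_of_mul_add e (1 - e)
    (by rw [mul_sub, _root_.mul_one, he.eq, sub_self]) (by ring)
  rcases isClopen_iff.1 hc with h | h
  · left
    exact he.eq_zero_of_isNilpotent (PrimeSpectrum.basicOpen_eq_bot_iff e |>.1 (SetLike.coe_injective h))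
  · right
    obtain ⟨b, hb⟩ : IsUnit e := by
      by_contra hu
      obtain ⟨M, hM, heM⟩ := exists_max_ideal_of_mem_nonunits hu
      have : (⟨M, hM.isPrime⟩ : PrimeSpectrum A) ∈ (PrimeSpectrum.basicOpen e : Set (PrimeSpectrum A)) := by
        rw [h]; trivial
      exact this heM
    have h2 : (↑b : A) * ↑b = ↑b := by rw [hb]; exact he.eq
    have hu : IsUnit (↑b : A) := b.isUnit
    rw [← hb]
    exact hu.mul_eq_left.1 h2

/-- A flat surjection onto the reduced orbit. -/
theorem exists_flat_cover [IsAlgClosed k] {G X : Over (Spec (CommRingCat.of k))} [GrpObj G]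
    [Smooth G.hom] [QuasiCompact G.hom] [LocallyOfFiniteType X.hom] [IsSeparated X.hom]
    (a : AlgGrp.Action G X) (x : 𝟙_ (Over (Spec (CommRingCat.of k))) ⟶ X)
    {O : Over (Spec (CommRingCat.of k))} (i : O ⟶ X) [IsImmersion i.left] [IsReduced O.left]
    (hO : Set.range i.left.base = Set.range (a.orbitMap x).left.base) :
    ∃ (W : Over (Spec (CommRingCat.of k))) (m : W ⟶ G) (Ψ : W ⟶ O) (σ : G ⟶ W),
      Flat Ψ.left ∧ Surjective Ψ.left ∧ QuasiCompact Ψ.left ∧ Ψ ≫ i = m ≫ a.orbitMap x ∧ σ ≫ m = 𝟙 G := by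
  haveI : IsReduced G.left := AbSchLib.isReduced_of_smooth G.hom
  haveI : CompactSpace G.left := QuasiCompact.compactSpace_of_compactSpace G.hom
  haveI : IsLocallyNoetherian G.left := LocallyOfFiniteType.isLocallyNoetherian G.hom
  haveI : IsNoetherian G.left := ⟨⟩
  obtain ⟨g0', hg0'⟩ := RedSepLib.exists_lift_of_range_subset (a.orbitMap x).left i.left hO.ge
  let g0 : G ⟶ O := Over.homMk g0' (by rw [← Over.w i, ← Category.assoc, hg0', Over.w])
  have hg0 : g0 ≫ i = a.orbitMap x := Over.OverMorphism.ext hg0'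
  haveI : Mono i := Over.mono_of_mono_left i
  haveI hOlft : LocallyOfFiniteType O.hom := by rw [← Over.w i]; infer_instance
  haveI : IsLocallyNoetherian O.left := LocallyOfFiniteType.isLocallyNoetherian O.hom
  haveI hg0s : Surjective g0.left := ⟨fun o => by
    obtain ⟨g, hg⟩ : i.left.base o ∈ Set.range (a.orbitMap x).left.base := hO ▸ ⟨o, rfl⟩
    refine ⟨g, i.left.isEmbedding.injective ?_⟩
    rw [← hg, ← hg0]
    rfl⟩
  haveI : LocallyOfFiniteType (g0.left ≫ O.hom) := by rw [Over.w]; infer_instance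
  haveI : LocallyOfFiniteType g0.left := locallyOfFiniteType_of_comp _ O.hom
  haveI : QuasiCompact (g0.left ≫ O.hom) := by rw [Over.w]; infer_instance
  haveI : QuasiCompact g0.left := QuasiCompact.of_comp _ O.hom
  obtain ⟨V, hVd, hVflat, -⟩ := FlatMorGeneric.exists_dense_flat_lfp g0.left
  let W : Over (Spec (CommRingCat.of k)) := Over.mk ((g0.left ⁻¹ᵁ V).ι ≫ G.hom)
  let jW : W ⟶ G := Over.homMk (g0.left ⁻¹ᵁ V).ι rfl
  haveI : Flat (jW ≫ g0).left := by
    change Flat ((g0.left ⁻¹ᵁ V).ι ≫ g0.left)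
    rw [← morphismRestrict_ι]
    infer_instance
  haveI : IsReduced (G ⊗ O).left := by
    haveI : Smooth (snd G O).left :=
      MorphismProperty.pullback_snd (P := @Smooth) G.hom O.hom inferInstance
    exact AbSchLib.isReduced_of_smooth (snd G O).left
  have hact : ∀ p : ↥(G ⊗ O).left, ((G ◁ i) ≫ a.act).left.base p ∈ Set.range i.left.base := by
    intro p
    rw [hO]
    refine OrbitLC.act_mem_range_orbitMap a x ?_
    rw [← hO]
    change ((G ◁ i) ≫ snd G X).left.base p ∈ _
    rw [whiskerLeft_snd]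
    exact ⟨_, rfl⟩
  obtain ⟨act', hact'⟩ := RedSepLib.exists_lift_of_range_subset ((G ◁ i) ≫ a.act).left i.left
    (by rintro _ ⟨p, rfl⟩; exact hact p)
  let b : G ⊗ O ⟶ O := Over.homMk act' (by rw [← Over.w i, ← Category.assoc, hact', Over.w])
  have hb : b ≫ i = (G ◁ i) ≫ a.act := Over.OverMorphism.ext hact'
  let τ : G ⊗ O ⟶ G ⊗ O := lift (fst G O)⁻¹ b
  have hτi : τ ≫ (G ◁ i) = (G ◁ i) ≫ swapHom a := by
    apply CartesianMonoidalCategory.hom_ext
    · simp only [Category.assoc, whiskerLeft_fst, τ, lift_fst, swapHom, GrpObj.comp_inv]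
    · simp only [Category.assoc, whiskerLeft_snd, τ, lift_snd_assoc, hb, OrbitLC.swapHom_snd]
  haveI : Mono (G ◁ i) := ⟨fun u v h => by
    apply CartesianMonoidalCategory.hom_ext
    · simpa using congrArg (fun φ => φ ≫ fst G X) h
    · rw [← cancel_mono i]
      simpa using congrArg (fun φ => φ ≫ snd G X) h⟩
  have hττ : τ ≫ τ = 𝟙 _ := by
    rw [← cancel_mono (G ◁ i), Category.assoc, hτi, ← Category.assoc, hτi, Category.assoc,
      OrbitLC.swapHom_swapHom, Category.comp_id, Category.id_comp]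
  haveI : IsIso τ := ⟨τ, hττ, hττ⟩
  haveI : Flat τ.left := haveI : IsIso τ.left := inferInstanceAs (IsIso ((Over.forget _).map τ)); inferInstance
  let Ψ : G ⊗ W ⟶ O := (G ◁ (jW ≫ g0)) ≫ τ ≫ snd G O
  haveI : Flat (G ◁ (jW ≫ g0)).left := by
    rw [Over.whiskerLeft_left]
    exact MorphismProperty.pullbackMap (P := @Flat) inferInstance inferInstance (by simp) (by simp)
  haveI : Flat (snd G O).left := MorphismProperty.pullback_snd (P := @Flat) G.hom O.hom inferInstance
  haveI : Flat Ψ.left := by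
    simp only [Ψ, Over.comp_left]
    infer_instance
  let m : G ⊗ W ⟶ G := fst G W * (snd G W ≫ jW)
  have hΨ : Ψ ≫ i = m ≫ a.orbitMap x := by
    have e1 : (G ◁ (jW ≫ g0)) ≫ (G ◁ i) = lift (fst G W) (snd G W ≫ jW ≫ a.orbitMap x) := by
      apply CartesianMonoidalCategory.hom_ext
      · simp
      · simp [hg0]
    have e2 : τ ≫ snd G O ≫ i = (G ◁ i) ≫ a.act := by
      rw [lift_snd_assoc, hb]
    simp only [Ψ, Category.assoc]
    rw [e2, reassoc_of% e1]
    change smulPt a (fst G W) (snd G W ≫ jW ≫ a.orbitMap x) = _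
    rw [OrbitLC.orbitMap_eq_smulPt, comp_smulPt, comp_smulPt, comp_smulPt, ← mul_smulPt]
    simp [m]
  haveI : Nonempty G.left := ⟨η[G].left (IsLocalRing.closedPoint k)⟩
  haveI : Nonempty W.left := by
    obtain ⟨v, hv⟩ := hVd.nonempty_iff.2 ⟨g0.left (Classical.arbitrary G.left)⟩
    obtain ⟨g, hg⟩ := g0.left.surjective v
    exact ⟨(⟨g, show g0.left g ∈ V from hg ▸ hv⟩ : ↥(g0.left ⁻¹ᵁ V))⟩
  haveI : LocallyOfFiniteType W.hom := inferInstanceAs (LocallyOfFiniteType ((g0.left ⁻¹ᵁ V).ι ≫ G.hom))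
  obtain ⟨w0, -⟩ := OrbitDim.exists_ratPoint_mem (X := W) (S := Set.univ) isClosed_univ.isLocallyClosed Set.univ_nonempty
  let σ : G ⟶ G ⊗ W := lift ((toUnit G ≫ w0 ≫ jW)⁻¹ |> fun v => 𝟙 G * v) (toUnit G ≫ w0)
  have hσ : σ ≫ m = 𝟙 G := by
    simp only [σ, m, MonObj.comp_mul, lift_fst, lift_snd_assoc, Category.assoc]
    exact inv_mul_cancel_right _ _
  refine ⟨G ⊗ W, m, Ψ, σ, inferInstance, ⟨fun o => ?_⟩, ?_, hΨ, hσ⟩
  · obtain ⟨g, rfl⟩ := g0.left.surjective o
    refine ⟨σ.left g, i.left.isEmbedding.injective ?_⟩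
    have e : σ ≫ Ψ ≫ i = g0 ≫ i := by rw [hΨ, reassoc_of% hσ, hg0]
    exact congrArg (fun φ => φ.left.base g) e
  · haveI : IsSeparated O.hom := by rw [← Over.w i]; infer_instance
    haveI : CompactSpace W.left := by
      have : TopologicalSpace.NoetherianSpace ↥G.left := inferInstance
      exact isCompact_iff_compactSpace.1 (TopologicalSpace.NoetherianSpace.isCompact _)
    haveI : QuasiCompact W.hom := (quasiCompact_iff_compactSpace W.hom).2 ‹_›
    haveI : QuasiCompact (G ⊗ W).hom := by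
      change QuasiCompact (pullback.fst G.hom W.hom ≫ G.hom)
      infer_instance
    haveI : QuasiCompact (Ψ.left ≫ O.hom) := by rw [Over.w]; infer_instance
    exact QuasiCompact.of_comp _ O.hom

/-- Borel's fixed point theorem. -/
theorem exists_isFixedPt [IsAlgClosed k] (G X : Over (Spec (CommRingCat.of k))) [GrpObj G] [IsAffine G.left]
    [Smooth G.hom] [ConnectedSpace G.left] [Group.IsSolvable (𝟙_ (Over (Spec (CommRingCat.of k))) ⟶ G)]
    [IsProper X.hom] [Nonempty X.left] (a : AlgGrp.Action G X) :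
    ∃ x : 𝟙_ (Over (Spec (CommRingCat.of k))) ⟶ X, a.IsFixedPt x := by
  classical
  haveI : QuasiCompact G.hom := (quasiCompact_iff_compactSpace G.hom).2 inferInstance
  obtain ⟨A, _, _, e, he⟩ := TorusGal29.exists_hopf G
  haveI := he
  haveI : IsMonHom e.inv := inferInstance
  -- the group is trigonalizable
  have heft : LocallyOfFiniteType (sp k A).hom := by
    rw [← Over.w e.hom]
    haveI : IsIso e.hom.left := inferInstanceAs (IsIso ((Over.forget _).map e.hom))
    infer_instance
  haveI : Algebra.FiniteType k A := by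
    have h := (HasRingHomProperty.Spec_iff (P := @LocallyOfFiniteType)).1
      (show LocallyOfFiniteType (Spec.map (CommRingCat.ofHom (algebraMap k A))) from heft)
    exact RingHom.finiteType_algebraMap.1 h
  haveI : IsIso e.hom.left := inferInstanceAs (IsIso ((Over.forget _).map e.hom))
  haveI : IsReduced (Spec (CommRingCat.of A)) := by
    haveI : IsReduced G.left := AbSchLib.isReduced_of_smooth G.hom
    haveI hoi : IsOpenImmersion e.hom.left := inferInstanceAs (IsOpenImmersion (asIso e.hom.left).hom)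
    exact @isReduced_of_isOpenImmersion _ _ e.hom.left hoi ‹_›
  haveI : _root_.IsReduced A := (affine_isReduced_iff (CommRingCat.of A)).1 inferInstance
  haveI : ConnectedSpace (PrimeSpectrum A) :=
    (asIso e.hom.left).inv.homeomorph.surjective.connectedSpace (asIso e.hom.left).inv.continuous
  haveI : Group.IsSolvable (WithConv (A →ₐ[k] k)) := by
    let f : (𝟙_ (Over (Spec (CommRingCat.of k))) ⟶ G) →* WithConv (A →ₐ[k] k) :=
      MonoidHom.mk' (fun g => WithConv.toConv (algOf (unitIso.hom ≫ g ≫ e.inv))) fun g h => by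
        rw [MonObj.mul_comp, MonObj.comp_mul, algOf_mul]
        refine WithConv.ofConv_injective (AlgHom.ext fun z => ?_)
        simp only [AlgHom.convMul_apply, AlgHom.comp_apply, Bialgebra.comulAlgHom_apply]
    refine solvable_of_surjective (f := f) fun φ => ?_
    refine ⟨unitIso.inv ≫ pt φ.ofConv ≫ e.hom, WithConv.ofConv_injective ?_⟩
    show algOf (unitIso.hom ≫ (unitIso.inv ≫ pt φ.ofConv ≫ e.hom) ≫ e.inv) = φ.ofConv
    simp [algOf_pt]
  have hT : HopfRep.IsTrigonalizable k A := S3266.result k A isUnit_or_isNilpotent_of_idem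
  -- a closed orbit
  obtain ⟨x, hx⟩ := OrbitDim.exists_isClosed_orbit a
  refine ⟨x, ?_⟩
  let o : sp k A ⟶ X := e.hom ≫ a.orbitMap x
  let o' : sp k A ⟶ X := toUnit _ ≫ x
  obtain ⟨I, hI⟩ := TorusFreeOrbit.exists_equalizer_ideal (A := CommRingCat.of A)
    (h := Spec.map (CommRingCat.ofHom (algebraMap k A))) o o'
  have hfix : ∀ {W : Over (Spec (CommRingCat.of k))} (f : W ⟶ sp k A),
      lift (f ≫ e.hom) (toUnit W ≫ x) ≫ a.act = toUnit W ≫ x ↔ ∀ z ∈ I, theta f.left z = 0 := by
    intro W f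
    have h1 : lift (f ≫ e.hom) (toUnit W ≫ x) ≫ a.act = f ≫ o := by
      simp only [o, AlgGrp.Action.orbitMap, ← Category.assoc, comp_lift]
      congr 2
      simp
    have h2 : toUnit W ≫ x = f ≫ o' := by simp [o']
    rw [h1, h2]
    exact hI W f
  by_cases hbot : I = ⊥
  · intro T g
    have := (hfix (g ≫ e.inv)).2 fun z hz => by
      rw [hbot] at hz
      rw [(Submodule.mem_bot A).1 hz, map_zero]
    simpa using this
  exfalso
  -- points with values in an algebra
  have halg : ∀ {B : Type u} [CommRing B] [Algebra k B] (φ : A →ₐ[k] B),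
      lift (pt φ ≫ e.hom) (toUnit _ ≫ x) ≫ a.act = toUnit _ ≫ x ↔ ∀ z ∈ I, φ z = 0 := by
    intro B _ _ φ
    rw [hfix (pt φ)]
    refine forall₂_congr fun z _ => ?_
    rw [show theta (pt φ).left z = (Scheme.ΓSpecIso (CommRingCat.of B)).inv (φ z) from
      theta_SpecMap (CommRingCat.ofHom φ.toRingHom) z]
    exact ⟨fun h => (ConcreteCategory.bijective_of_isIso (Scheme.ΓSpecIso (CommRingCat.of B)).inv).1
      (h.trans (map_zero (Scheme.ΓSpecIso (CommRingCat.of B)).inv.hom).symm), fun h => h ▸ map_zero (Scheme.ΓSpecIso (CommRingCat.of B)).inv.hom⟩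
  have h0 : ∀ z ∈ I, CoalgebraStruct.counit (R := k) z = 0 := by
    intro z hz
    refine (halg (Bialgebra.counitAlgHom k A)).1 ?_ z hz
    rw [show pt (Bialgebra.counitAlgHom k A) = 1 from (show _ = _ from by rw [one_eq_pt, show (Algebra.ofId k k) = AlgHom.id k k from Subsingleton.elim _ _, AlgHom.id_comp]), MonObj.one_comp, TorusFreeOrbit.act_one]
  have hI2 : ∀ z ∈ I, Algebra.TensorProduct.map (Ideal.Quotient.mkₐ k I) (Ideal.Quotient.mkₐ k I)
      (CoalgebraStruct.comul (R := k) z) = 0 := by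
    intro z hz
    let π := Ideal.Quotient.mkₐ k I
    let u : A →ₐ[k] (A ⧸ I) ⊗[k] (A ⧸ I) := Algebra.TensorProduct.includeLeft.comp π
    let v : A →ₐ[k] (A ⧸ I) ⊗[k] (A ⧸ I) := Algebra.TensorProduct.includeRight.comp π
    have hu := (halg u).2 fun y hy => by
      simp [u, π, Ideal.Quotient.eq_zero_iff_mem.2 hy]
    have hv := (halg v).2 fun y hy => by
      simp [v, π, Ideal.Quotient.eq_zero_iff_mem.2 hy]
    have huv : (Algebra.TensorProduct.lift u v fun _ _ => .all _ _).comp (Bialgebra.comulAlgHom k A) =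
        (Algebra.TensorProduct.map π π).comp (Bialgebra.comulAlgHom k A) := by
      refine congrArg (fun q => AlgHom.comp q (Bialgebra.comulAlgHom k A)) ?_
      exact Algebra.TensorProduct.ext' fun p q => by simp [u, v]
    have h := (halg ((Algebra.TensorProduct.map π π).comp (Bialgebra.comulAlgHom k A))).1 (by
      rw [← huv, ← pt_mul_pt, MonObj.mul_comp, TorusFreeOrbit.act_mul, hv, hu]) z hz
    exact h
  obtain ⟨F, hF, hFc⟩ := exists_invariant_nonscalar hT I h0 hI2 hbot
  -- the orbit
  haveI : CompactSpace X.left := QuasiCompact.compactSpace_of_compactSpace X.hom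
  obtain ⟨O, i, hi, hred, hrange⟩ :=
    OrbitDimFormula.exists_reduced_immersion (X := X) (C := Set.range (a.orbitMap x).left.base) hx.isLocallyClosed
  haveI := hi
  haveI := hred
  haveI : Mono i := Over.mono_of_mono_left i
  haveI : IsClosedImmersion i.left := IsClosedImmersion.of_isPreimmersion i.left (hrange ▸ hx)
  haveI : IsProper O.hom := by rw [← Over.w i]; infer_instance
  obtain ⟨W, m, Ψ, σ, hflat, hsurj, hqc, hΨ, hσ⟩ := exists_flat_cover a x i hrange
  haveI := hflat
  haveI := hsurj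
  haveI := hqc
  haveI : ConnectedSpace O.left :=
    Function.Surjective.connectedSpace (f := (σ ≫ Ψ).left.base) (fun o => by
      obtain ⟨g, hg⟩ : i.left.base o ∈ Set.range (a.orbitMap x).left.base := hrange ▸ ⟨o, rfl⟩
      refine ⟨g, i.left.isEmbedding.injective ?_⟩
      have e2 : σ ≫ Ψ ≫ i = a.orbitMap x := by rw [hΨ, reassoc_of% hσ]
      exact (congrArg (fun φ => φ.left.base g) e2).trans hg) (σ ≫ Ψ).left.continuous
  let f : W ⟶ sp k A := m ≫ e.inv
  let s : Γ(W.left, ⊤) := theta f.left F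
  have hs : (pullback.fst Ψ.left Ψ.left).appTop s = (pullback.snd Ψ.left Ψ.left).appTop s := by
    let R : Over (Spec (CommRingCat.of k)) := Over.mk (pullback.fst Ψ.left Ψ.left ≫ W.hom)
    let p : R ⟶ W := Over.homMk (pullback.fst Ψ.left Ψ.left)
    let q : R ⟶ W := Over.homMk (pullback.snd Ψ.left Ψ.left) (by
      show pullback.snd Ψ.left Ψ.left ≫ W.hom = pullback.fst Ψ.left Ψ.left ≫ W.hom
      rw [← Over.w Ψ, pullback.condition_assoc])
    have hpq : p ≫ Ψ = q ≫ Ψ := Over.OverMorphism.ext pullback.condition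
    let g : R ⟶ G := p ≫ m
    let g' : R ⟶ G := q ≫ m
    have hgx : g ≫ a.orbitMap x = g' ≫ a.orbitMap x := by
      simp only [g, g', Category.assoc, ← hΨ, reassoc_of% hpq]
    let h : R ⟶ G := g⁻¹ * g'
    have hh : lift h (toUnit R ≫ x) ≫ a.act = toUnit R ≫ x := by
      have hor : ∀ y : R ⟶ G, lift y (toUnit R ≫ x) ≫ a.act = y ≫ a.orbitMap x := fun y => by
        simp only [AlgGrp.Action.orbitMap, ← Category.assoc, comp_lift]
        congr 2 <;> simp
      rw [TorusFreeOrbit.act_mul, hor g', ← hgx, ← hor g, ← TorusFreeOrbit.act_mul, inv_mul_cancel,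
        TorusFreeOrbit.act_one]
    -- factor through the global sections
    letI : Algebra k Γ(R.left, ⊤) := (theta R.hom).toAlgebra
    let c : R ⟶ sp k Γ(R.left, ⊤) := Over.homMk R.left.toSpecΓ (toSpecΓ_SpecMap_theta R.hom)
    let φ : (R ⟶ sp k A) → (A →ₐ[k] Γ(R.left, ⊤)) := fun y =>
      { theta y.left with
        commutes' := fun r => by
          show theta y.left (algebraMap k A r) = theta R.hom r
          have hw : y.left ≫ Spec.map (CommRingCat.ofHom (algebraMap k A)) = R.hom := Over.w y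
          rw [← hw]
          show _ = y.left.appTop (theta (Spec.map (CommRingCat.ofHom (algebraMap k A))) r)
          rw [theta_SpecMap]
          rfl }
    have hfac : ∀ y : R ⟶ sp k A, c ≫ pt (φ y) = y := fun y =>
      Over.OverMorphism.ext (toSpecΓ_SpecMap_theta y.left)
    have hθ : ∀ (ψ : A →ₐ[k] Γ(R.left, ⊤)) (z : A), theta (c ≫ pt ψ).left z = ψ z := fun ψ z =>
      appTop_toSpecΓ_SpecMap (CommRingCat.ofHom ψ.toRingHom) z
    have key : g' ≫ e.inv = c ≫ (pt (φ (g ≫ e.inv)) * pt (φ (h ≫ e.inv))) := by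
      rw [MonObj.comp_mul, hfac, hfac, ← MonObj.mul_comp, mul_inv_cancel_left]
    have hkill : ∀ z ∈ I, φ (h ≫ e.inv) z = 0 :=
      (hfix (h ≫ e.inv)).1 (by simpa using hh)
    let hbar : A ⧸ I →ₐ[k] Γ(R.left, ⊤) := Ideal.Quotient.liftₐ I (φ (h ≫ e.inv)) hkill
    have hFq : theta (g' ≫ e.inv).left F = theta (g ≫ e.inv).left F := by
      rw [key, pt_mul_pt, hθ]
      have hl : ∀ t : A ⊗[k] A,
          Algebra.TensorProduct.lift (φ (g ≫ e.inv)) (φ (h ≫ e.inv)) (fun _ _ => .all _ _) t =
            Algebra.TensorProduct.lift (φ (g ≫ e.inv)) hbar (fun _ _ => .all _ _)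
              (Algebra.TensorProduct.map (AlgHom.id k A) (Ideal.Quotient.mkₐ k I) t) := by
        intro t
        induction t using TensorProduct.induction_on with
        | zero => simp
        | add p q hp hq => simp only [map_add, hp, hq]
        | tmul p q =>
          simp only [Algebra.TensorProduct.lift_tmul, Algebra.TensorProduct.map_tmul, AlgHom.id_apply]
          rfl
      rw [AlgHom.comp_apply, hl, Bialgebra.comulAlgHom_apply, hF, Algebra.TensorProduct.lift_tmul, map_one,
        _root_.mul_one]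
      rfl
    have e1 : theta (g ≫ e.inv).left F = (pullback.fst Ψ.left Ψ.left).appTop s := by
      simp only [g, Category.assoc]
      rfl
    have e2 : theta (g' ≫ e.inv).left F = (pullback.snd Ψ.left Ψ.left).appTop s := by
      simp only [g', Category.assoc]
      rfl
    rw [← e1, ← e2, hFq]
  obtain ⟨t, ht⟩ : s ∈ Set.range Ψ.left.appTop :=
    (TorsorQuot.appTop_injective_range Ψ.left _ _ (IsPullback.of_hasPullback Ψ.left Ψ.left)).2.ge hs
  obtain ⟨c, rfl⟩ := AbSchLib.surjective_appTop_of_isAlgClosed k O.hom t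
  obtain ⟨c, rfl⟩ := (ConcreteCategory.bijective_of_isIso (Scheme.ΓSpecIso (CommRingCat.of k)).inv).2 c
  refine hFc c ?_
  let τ : sp k A ⟶ W := e.hom ≫ σ
  have hτ : τ ≫ f = 𝟙 _ := by simp [τ, f, reassoc_of% hσ]
  apply (ConcreteCategory.bijective_of_isIso (Scheme.ΓSpecIso (CommRingCat.of A)).inv).1
  have h1 : τ.left.appTop s = (Scheme.ΓSpecIso (CommRingCat.of A)).inv F := by
    have : τ.left.appTop s = theta (τ ≫ f).left F := rfl
    rw [this, hτ]
    rfl
  rw [← h1, ← ht]
  have hw : τ.left ≫ Ψ.left ≫ O.hom = Spec.map (CommRingCat.ofHom (algebraMap k A)) := by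
    rw [Over.w Ψ, Over.w τ]; rfl
  have h2 : τ.left.appTop (Ψ.left.appTop (theta O.hom c)) =
      theta (τ.left ≫ Ψ.left ≫ O.hom) c := rfl
  refine h2.trans ?_
  rw [hw]
  exact theta_SpecMap (CommRingCat.ofHom (algebraMap k A)) c

end Geometry

end Groth.Agent.AlgGrpLib.BorelFixed
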