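import Groth.Agent.Et18.RosenlichtGeom
import Groth.Agent.AbVarLib.PerfectReduced
import Groth.Agent.WeilLib.Geom
import Mathlib.CategoryTheory.Monoidal.Cartesian.Over

/-!
# Units on products of varieties over an algebraically closed field
-/

set_option autoImplicit false

universe u

open CategoryTheory MonoidalCategory CartesianMonoidalCategory AlgebraicGeometry Limits

namespace Groth.Agent.AlgGrpLib

variable {k : Type u} [Field k] [IsAlgClosed k]

theorem appTop_comp {X Y Z : Over (Spec (CommRingCat.of k))} (f : X ⟶ Y) (g : Y ⟶ Z) (s : Γ(Z.left, ⊤)) :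
    (f ≫ g).left.appTop s = f.left.appTop (g.left.appTop s) := by
  rw [Over.comp_left, Scheme.Hom.comp_appTop, CommRingCat.comp_apply]

theorem isReduced_tensor (X Y : Over (Spec (CommRingCat.of k))) [IsReduced X.left] [IsReduced Y.left]
    [LocallyOfFiniteType Y.hom] : IsReduced (X ⊗ Y).left := by
  have : GeometricallyReduced X.hom := AbVarLib.geometricallyReduced_of_perfectField X.hom
  have : IsLocallyNoetherian Y.left := LocallyOfFiniteType.isLocallyNoetherian Y.hom
  exact inferInstanceAs (IsReduced (pullback X.hom Y.hom))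

variable {X Y : Over (Spec (CommRingCat.of k))} [IsReduced X.left] [IsReduced Y.left]
  [LocallyOfFiniteType X.hom] [QuasiCompact X.hom] [ConnectedSpace ↥X.left]
  [LocallyOfFiniteType Y.hom] [QuasiCompact Y.hom] [ConnectedSpace ↥Y.left]

/-- A unit on a product is determined by its restrictions to the two axes through a rational point. -/
theorem unit_eq_of_axes (e : 𝟙_ _ ⟶ X) (e' : 𝟙_ _ ⟶ Y) {f g : Γ((X ⊗ Y).left, ⊤)}
    (hf : IsUnit f) (hg : IsUnit g)
    (h1 : (lift (𝟙 X) (toUnit X ≫ e')).left.appTop f = (lift (𝟙 X) (toUnit X ≫ e')).left.appTop g)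
    (h2 : (lift (toUnit Y ≫ e) (𝟙 Y)).left.appTop f = (lift (toUnit Y ≫ e) (𝟙 Y)).left.appTop g) :
    f = g := by
  have := isReduced_tensor X Y
  obtain ⟨w, hw⟩ := hg.exists_left_inv
  have hwu : IsUnit w := IsUnit.of_mul_eq_one _ hw
  have key : f * w = 1 := by
    have hP : IsPullback (fst X Y).left (snd X Y).left X.hom Y.hom :=
      IsPullback.of_hasPullback X.hom Y.hom
    have ep : e.left ≫ X.hom = 𝟙 (Spec (CommRingCat.of k)) := Over.w e
    have ep' : e'.left ≫ Y.hom = 𝟙 (Spec (CommRingCat.of k)) := Over.w e'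
    refine Et18.Rosenlicht.eq_one_of_axes hP ⟨e.left, ep⟩ ⟨e'.left, ep'⟩ (hf.mul hwu) ?_ ?_
    · have hl : hP.lift (𝟙 X.left) (X.hom ≫ e'.left) (by rw [Category.assoc, ep', Category.id_comp, Category.comp_id]) =
          (lift (𝟙 X) (toUnit X ≫ e')).left := by
        apply hP.hom_ext
        · rw [hP.lift_fst, ← Over.comp_left, lift_fst]; rfl
        · rw [hP.lift_snd, ← Over.comp_left, lift_snd]; rfl
      rw [hl, map_mul, h1, ← map_mul, mul_comm g, hw, map_one]
    · have hl : hP.lift (Y.hom ≫ e.left) (𝟙 Y.left) (by rw [Category.assoc, ep, Category.id_comp, Category.comp_id]) =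
          (lift (toUnit Y ≫ e) (𝟙 Y)).left := by
        apply hP.hom_ext
        · rw [hP.lift_fst, ← Over.comp_left, lift_fst]; rfl
        · rw [hP.lift_snd, ← Over.comp_left, lift_snd]; rfl
      rw [hl, map_mul, h2, ← map_mul, mul_comm g, hw, map_one]
  calc f = f * (w * g) := by rw [hw, mul_one]
    _ = g := by rw [← mul_assoc, key, one_mul]

omit [IsReduced X.left] [QuasiCompact X.hom] in
theorem exists_point : Nonempty (𝟙_ (Over (Spec (CommRingCat.of k))) ⟶ X) := by
  have : JacobsonSpace X.left := LocallyOfFiniteType.jacobsonSpace X.hom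
  obtain ⟨x, -, hx⟩ := nonempty_inter_closedPoints (Z := (Set.univ : Set X.left)) Set.univ_nonempty isOpen_univ.isLocallyClosed
  exact ⟨Over.homMk (pointOfClosedPoint X.hom x hx) (pointOfClosedPoint_comp X.hom x hx)⟩

/-- Rosenlicht: a unit on a product is a product of units of the factors. -/
theorem unit_eq_mul (e : 𝟙_ _ ⟶ X) (e' : 𝟙_ _ ⟶ Y) {f : Γ((X ⊗ Y).left, ⊤)} (hf : IsUnit f) :
    ∃ (c : Γ((𝟙_ (Over (Spec (CommRingCat.of k)))).left, ⊤)), IsUnit c ∧ c * (lift e e').left.appTop f = 1 ∧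
      f = (fst X Y).left.appTop ((lift (𝟙 X) (toUnit X ≫ e')).left.appTop f) *
        (snd X Y).left.appTop ((lift (toUnit Y ≫ e) (𝟙 Y)).left.appTop f * (toUnit Y).left.appTop c) := by
  obtain ⟨c, hc⟩ := (hf.map (lift e e').left.appTop.hom).exists_left_inv
  have hcu : IsUnit c := IsUnit.of_mul_eq_one _ hc
  refine ⟨c, hcu, hc, unit_eq_of_axes e e' hf
    (((hf.map _).map _).mul (((hf.map _).mul (hcu.map _)).map _)) ?_ ?_⟩
  · simp only [map_mul, ← appTop_comp]
    have a1 : lift (𝟙 X) (toUnit X ≫ e') ≫ fst X Y ≫ lift (𝟙 X) (toUnit X ≫ e') = lift (𝟙 X) (toUnit X ≫ e') := by simp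
    have a2 : lift (𝟙 X) (toUnit X ≫ e') ≫ snd X Y ≫ lift (toUnit Y ≫ e) (𝟙 Y) = toUnit X ≫ lift e e' := by
      ext : 1 <;> simp
    have a3 : lift (𝟙 X) (toUnit X ≫ e') ≫ snd X Y ≫ toUnit Y = toUnit X := toUnit_unique _ _
    rw [a1, a2, a3, appTop_comp, ← map_mul (toUnit X).left.appTop.hom, mul_comm _ c, hc, map_one, mul_one]
  · simp only [map_mul, ← appTop_comp]
    have a1 : lift (toUnit Y ≫ e) (𝟙 Y) ≫ fst X Y ≫ lift (𝟙 X) (toUnit X ≫ e') = toUnit Y ≫ lift e e' := by
      ext : 1 <;> simp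
    have a2 : lift (toUnit Y ≫ e) (𝟙 Y) ≫ snd X Y ≫ lift (toUnit Y ≫ e) (𝟙 Y) = lift (toUnit Y ≫ e) (𝟙 Y) := by simp
    have a3 : lift (toUnit Y ≫ e) (𝟙 Y) ≫ snd X Y ≫ toUnit Y = toUnit Y := toUnit_unique _ _
    rw [a1, a2, a3, appTop_comp, mul_left_comm, ← map_mul (toUnit Y).left.appTop.hom, mul_comm _ c, hc, map_one, mul_one]

end Groth.Agent.AlgGrpLib

namespace Groth.Agent.AlgGrpLib

open MonObj

variable {k : Type u} [Field k] [IsAlgClosed k]
  (G : Over (Spec (CommRingCat.of k))) [GrpObj G] [Smooth G.hom] [QuasiCompact G.hom] [ConnectedSpace ↥G.left]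

/-- Units on a connected group with value `1` at the origin are characters. -/
theorem comul_unit_eq_mul (f : Γ(G.left, ⊤)) (hf : IsUnit f) (he : η[G].left.appTop f = 1) :
    μ[G].left.appTop f = (fst G G).left.appTop f * (snd G G).left.appTop f := by
  have : IsReduced G.left := WeilLib.isReduced_of_smooth G.hom
  refine unit_eq_of_axes η[G] η[G] (hf.map _) ((hf.map _).mul (hf.map _)) ?_ ?_
  · rw [map_mul, ← appTop_comp, ← appTop_comp, ← appTop_comp, lift_fst, lift_snd,
      appTop_comp (toUnit G), he, map_one, _root_.mul_one, show lift (𝟙 G) (toUnit G ≫ η[G]) ≫ μ[G] = 𝟙 G by simp]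
  · rw [map_mul, ← appTop_comp, ← appTop_comp, ← appTop_comp, lift_fst, lift_snd,
      appTop_comp (toUnit G), he, map_one, _root_.one_mul, show lift (toUnit G ≫ η[G]) (𝟙 G) ≫ μ[G] = 𝟙 G by simp]

end Groth.Agent.AlgGrpLib
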