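import Groth.Agent.AlgGrpLib.ClosureSubgroup

/-!
# The subgroup generated by a geometrically reduced scheme
-/

set_option autoImplicit false
set_option backward.isDefEq.respectTransparency.types false

universe u

open CategoryTheory CategoryTheory.Limits MonoidalCategory CartesianMonoidalCategory MonObj GrpObj AlgebraicGeometry
open scoped TensorProduct

noncomputable section

namespace Groth.Agent.AlgGrpLib.Generated

variable {k : Type u} [Field k]



/-- A reduced scheme dominated by a family of geometrically reduced schemes is geometrically reduced. -/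
theorem geometricallyReduced_of_dense_maps {H : Over (Spec (CommRingCat.of k))} [IsReduced H.left] {J : Type*} (Y : J → Over (Spec (CommRingCat.of k)))
    (m : ∀ j, Y j ⟶ H) [∀ j, GeometricallyReduced (Y j).hom]
    (hd : Dense (⋃ j, Set.range (m j).left)) : GeometricallyReduced H.hom := by
  classical
  let Ω := AlgebraicClosure k
  suffices IsReduced (pullback H.hom (Spec.map (CommRingCat.ofHom (algebraMap k Ω)))) from
    Groth.Agent.FBaseLib.geometricallyReduced_of_perfect (Ω := Ω) H.hom
  refine @IsReduced.of_openCover _ (Scheme.Pullback.openCoverOfLeft H.left.affineCover H.hom _) fun i => ?_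
  show IsReduced (pullback (H.left.affineCover.f i ≫ H.hom) _)
  set j₀ : Spec Γ(H.left.affineCover.X i, ⊤) ⟶ H.left :=
    (H.left.affineCover.X i).isoSpec.inv ≫ H.left.affineCover.f i
  set ψ := Spec.preimage (j₀ ≫ H.hom)
  let : Algebra k Γ(H.left.affineCover.X i, ⊤) := ψ.hom.toAlgebra
  let A : Type u := Γ(H.left.affineCover.X i, ⊤)
  have hj : j₀ ≫ H.hom = Spec.map (CommRingCat.ofHom (algebraMap k A)) := (Spec.map_preimage _).symm
  haveI : IsReduced (Spec (CommRingCat.of A)) := isReduced_of_isOpenImmersion j₀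
  haveI : _root_.IsReduced A := isReduced_of_injective (Scheme.ΓSpecIso (CommRingCat.of A)).inv.hom
    (ConcreteCategory.bijective_of_isIso _).1
  let b := Module.Basis.ofVectorSpace k Ω
  haveI : _root_.IsReduced (A ⊗[k] Ω) := by
    refine ⟨fun z hz => ?_⟩
    let bA := Algebra.TensorProduct.basis A b
    refine bA.repr.injective (Finsupp.ext fun l => ?_)
    rw [map_zero, Finsupp.zero_apply]
    refine IsNilpotent.eq_zero (PrimeSpectrum.basicOpen_eq_bot_iff _ |>.1 (eq_bot_iff.2 fun y hy => ?_))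
    exfalso
    obtain ⟨_, ⟨y', hy', hyj⟩, hmem⟩ := hd.inter_open_nonempty _
      (j₀.isOpenEmbedding.isOpenMap _ (PrimeSpectrum.basicOpen (bA.repr z l)).2) ⟨_, Set.mem_image_of_mem _ hy⟩
    obtain ⟨j, x, hx⟩ := Set.mem_iUnion.1 hmem
    obtain ⟨W, hW, hxW, hWj⟩ := exists_isAffineOpen_mem_and_subset
      (x := x) (U := (m j).left ⁻¹ᵁ j₀.opensRange) ⟨y', hyj.trans hx.symm⟩
    let w : Spec Γ((Y j).left, W) ⟶ (Y j).left := hW.fromSpec
    have hr : Set.range (w ≫ (m j).left) ⊆ Set.range j₀ := by
      rintro _ ⟨v, rfl⟩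
      exact hWj (hW.range_fromSpec.le ⟨v, rfl⟩)
    set χ := Spec.preimage (IsOpenImmersion.lift j₀ (w ≫ (m j).left) hr)
    have hχ : Spec.map χ ≫ j₀ = w ≫ (m j).left := by rw [Spec.map_preimage, IsOpenImmersion.lift_fac]
    set θ := Spec.preimage (w ≫ (Y j).hom)
    let : Algebra k Γ((Y j).left, W) := θ.hom.toAlgebra
    let B : Type u := Γ((Y j).left, W)
    have hw : w ≫ (Y j).hom = Spec.map (CommRingCat.ofHom (algebraMap k B)) := (Spec.map_preimage _).symm
    have hc : CommRingCat.ofHom (algebraMap k A) ≫ χ = CommRingCat.ofHom (algebraMap k B) := Spec.map_injective (by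
      rw [Spec.map_comp, ← hj, reassoc_of% hχ, Over.w, hw])
    let φ : A →ₐ[k] B := { χ.hom with commutes' := fun c => ConcreteCategory.congr_hom hc c }
    haveI hB : _root_.IsReduced (B ⊗[k] Ω) := by
      haveI : IsReduced (pullback (Y j).hom (Spec.map (CommRingCat.ofHom (algebraMap k Ω)))) :=
        GeometricallyReduced.geometrically_isReduced _ _ _ (IsPullback.of_hasPullback _ _)
      let q : pullback (Spec.map (CommRingCat.ofHom (algebraMap k B))) (Spec.map (CommRingCat.ofHom (algebraMap k Ω))) ⟶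
          pullback (Y j).hom (Spec.map (CommRingCat.ofHom (algebraMap k Ω))) :=
        pullback.map _ _ _ _ w (𝟙 _) (𝟙 _) (by rw [Category.comp_id, hw]) (by simp)
      haveI := isReduced_of_isOpenImmersion q
      haveI := isReduced_of_isOpenImmersion (pullbackSpecIso k B Ω).inv
      exact isReduced_of_injective (Scheme.ΓSpecIso (CommRingCat.of (B ⊗[k] Ω))).inv.hom
        (ConcreteCategory.bijective_of_isIso _).1
    have hnat : ∀ t : A ⊗[k] Ω, (Algebra.TensorProduct.basis B b).repr
        (Algebra.TensorProduct.map φ (AlgHom.id k Ω) t) l = φ (bA.repr t l) := fun t => by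
      induction t using TensorProduct.induction_on with
      | zero => simp
      | add v v' hv hv' => rw [map_add, map_add, Finsupp.add_apply, hv, hv', map_add, Finsupp.add_apply, map_add]
      | tmul r a =>
        rw [Algebra.TensorProduct.map_tmul, Algebra.TensorProduct.basis_repr_tmul,
          Algebra.TensorProduct.basis_repr_tmul]
        simp [Algebra.smul_def]
    have h0 : χ.hom (bA.repr z l) = 0 := by
      show φ (bA.repr z l) = 0
      rw [← hnat, (hz.map _).eq_zero, map_zero, Finsupp.zero_apply]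
    obtain ⟨v, hv⟩ := hW.range_fromSpec.ge hxW
    have hv' : (Spec.map χ).base v = y' := j₀.isOpenEmbedding.injective (by
      rw [← Scheme.Hom.comp_apply, hχ, Scheme.Hom.comp_apply]
      exact (congrArg _ hv).trans (hx.trans hyj.symm))
    rw [← hv'] at hy'
    exact hy' (show χ.hom (bA.repr z l) ∈ v.asIdeal by rw [h0]; exact zero_mem _)
  haveI : IsReduced (Spec (CommRingCat.of (A ⊗[k] Ω))) := inferInstance
  haveI := isReduced_of_isOpenImmersion (pullbackSpecIso k A Ω).hom
  let q : pullback (H.left.affineCover.f i ≫ H.hom) (Spec.map (CommRingCat.ofHom (algebraMap k Ω))) ⟶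
      pullback (Spec.map (CommRingCat.ofHom (algebraMap k A))) (Spec.map (CommRingCat.ofHom (algebraMap k Ω))) :=
    pullback.map _ _ _ _ (H.left.affineCover.X i).isoSpec.hom (𝟙 _) (𝟙 _)
      (by rw [Category.comp_id, ← hj]; simp [j₀]) (by simp)
  exact isReduced_of_isOpenImmersion q

section Pow

variable {G X : Over (Spec (CommRingCat.of k))} [GrpObj G] (φ : X ⟶ G)

/-- The powers of `X`. -/
def Pow (X : Over (Spec (CommRingCat.of k))) : ℕ → Over (Spec (CommRingCat.of k))
  | 0 => 𝟙_ (Over (Spec (CommRingCat.of k)))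
  | n + 1 => X ⊗ Pow X n

/-- The product map on the powers of `X`. -/
def powProd : ∀ n, Pow X n ⟶ G
  | 0 => 1
  | n + 1 => (fst X (Pow X n) ≫ φ) * (snd X (Pow X n) ≫ powProd n)

theorem geometricallyReduced_pow [GeometricallyReduced X.hom] : ∀ n, GeometricallyReduced (Pow X n).hom
  | 0 => by
    change GeometricallyReduced (𝟙 _)
    refine ⟨fun K _ y Z f g hZ => ?_⟩
    haveI : IsIso g := hZ.isIso_snd_of_isIso
    exact isReduced_of_isOpenImmersion g
  | n + 1 => by
    haveI := geometricallyReduced_pow n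
    exact FBaseLib.geometricallyReduced_pullback X.hom (Pow X n).hom

theorem exists_powProd {T : Over (Spec (CommRingCat.of k))} : ∀ l : List (T ⟶ X),
    ∃ (n : ℕ) (v : T ⟶ Pow X n), v ≫ powProd φ n = (l.map (fun x => x ≫ φ)).prod
  | [] => ⟨0, toUnit T, MonObj.comp_one (toUnit T)⟩
  | x :: l => by
    obtain ⟨n, v, hv⟩ := exists_powProd l
    refine ⟨n + 1, lift x v, ?_⟩
    show lift x v ≫ ((fst X (Pow X n) ≫ φ) * (snd X (Pow X n) ≫ powProd φ n)) = _
    rw [MonObj.comp_mul, lift_fst_assoc, lift_snd_assoc, hv, List.map_cons, List.prod_cons]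

theorem comp_prod {T T' : Over (Spec (CommRingCat.of k))} (w : T' ⟶ T) : ∀ l : List (T ⟶ X),
    ((l.map (fun x => w ≫ x)).map (fun x => x ≫ φ)).prod = w ≫ (l.map (fun x => x ≫ φ)).prod
  | [] => (MonObj.comp_one w).symm
  | x :: l => by
    rw [List.map_cons, List.map_cons, List.map_cons, List.prod_cons, List.prod_cons, MonObj.comp_mul,
      comp_prod w l, Category.assoc]

theorem exists_list : ∀ n, ∃ l : List (Pow X n ⟶ X), (l.map (fun x => x ≫ φ)).prod = powProd φ n
  | 0 => ⟨[], rfl⟩
  | n + 1 => by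
    obtain ⟨l, hl⟩ := exists_list n
    refine ⟨fst X (Pow X n) :: l.map (fun x => snd X (Pow X n) ≫ x), ?_⟩
    rw [List.map_cons, List.prod_cons, comp_prod φ, hl]
    rfl

/-- The inverse of a product is a product after a surjective base change. -/
theorem exists_inv (hinv : Set.range (φ ≫ ι[G]).left.base ⊆ Set.range φ.left.base) {T : Over (Spec (CommRingCat.of k))} :
    ∀ l : List (T ⟶ X), ∃ (T' : Over (Spec (CommRingCat.of k))) (e : T' ⟶ T) (l' : List (T' ⟶ X)), Surjective e.left ∧
      (l'.map (fun x => x ≫ φ)).prod = e ≫ ((l.map (fun x => x ≫ φ)).prod)⁻¹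
  | [] => ⟨T, 𝟙 T, [], inferInstanceAs (Surjective (𝟙 T.left)), by simp⟩
  | x :: l => by
    obtain ⟨T₁, e₁, l₁, he₁, hl₁⟩ := exists_inv hinv l
    let g : T₁ ⟶ G := (e₁ ≫ x) ≫ φ ≫ ι[G]
    let T₂ : Over (Spec (CommRingCat.of k)) := Over.mk (pullback.fst g.left φ.left ≫ T₁.hom)
    let p₁ : T₂ ⟶ T₁ := Over.homMk (pullback.fst g.left φ.left) rfl
    let p₂ : T₂ ⟶ X := Over.homMk (pullback.snd g.left φ.left) (by
      rw [← Over.w φ, ← pullback.condition_assoc, Over.w g]
      rfl)
    have hp : p₂ ≫ φ = p₁ ≫ g := Over.OverMorphism.ext pullback.condition.symm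
    refine ⟨T₂, p₁ ≫ e₁, l₁.map (fun y => p₁ ≫ y) ++ [p₂], ?_, ?_⟩
    · haveI : Surjective p₁.left := ⟨fun t => by
        have ht : g.left t ∈ Set.range φ.left := hinv ⟨(e₁ ≫ x).left t, rfl⟩
        exact (Scheme.Pullback.range_fst g.left φ.left).ge ht⟩
      rw [Over.comp_left]
      infer_instance
    · rw [List.map_append, List.prod_append, comp_prod φ, hl₁, List.map_cons, List.map_nil, List.prod_singleton,
        hp, List.map_cons, List.prod_cons, _root_.mul_inv_rev, MonObj.comp_mul, Category.assoc, Category.assoc]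
      congr 2

/-- The points hit by products. -/
def productPoints : Set G.left :=
  {p | ∃ (T : Over (Spec (CommRingCat.of k))) (l : List (T ⟶ X)) (t : ↥T.left), ((l.map (fun x => x ≫ φ)).prod).left.base t = p}

theorem productPoints_eq : productPoints φ = ⋃ n, Set.range (powProd φ n).left := by
  ext p
  refine ⟨?_, ?_⟩
  · rintro ⟨T, l, t, rfl⟩
    obtain ⟨n, v, hv⟩ := exists_powProd φ l
    exact Set.mem_iUnion.2 ⟨n, v.left t, by rw [← hv]; rfl⟩
  · intro hp
    obtain ⟨n, t, rfl⟩ := Set.mem_iUnion.1 hp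
    obtain ⟨l, hl⟩ := exists_list φ n
    exact ⟨_, l, t, by rw [hl]⟩

theorem range_mul_subset (n m : ℕ) :
    Set.range ((fst (Pow X n) (Pow X m) ≫ powProd φ n) * (snd (Pow X n) (Pow X m) ≫ powProd φ m)).left ⊆
      productPoints φ := by
  rintro _ ⟨t, rfl⟩
  obtain ⟨l, hl⟩ := exists_list φ n
  obtain ⟨l', hl'⟩ := exists_list φ m
  refine ⟨_, l.map (fun x => fst _ _ ≫ x) ++ l'.map (fun x => snd _ _ ≫ x), t, ?_⟩
  rw [List.map_append, List.prod_append, comp_prod φ, comp_prod φ, hl, hl']

end Pow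

theorem mem_range_whiskerRight {A B : Over (Spec (CommRingCat.of k))} (f : A ⟶ B) (Z : Over (Spec (CommRingCat.of k))) (z : (B ⊗ Z).left) (a : A.left)
    (h : (fst B Z).left z = f.left a) : z ∈ Set.range (f ▷ Z).left := by
  obtain ⟨w, hw, -⟩ := Scheme.Pullback.exists_preimage_pullback z a h
  let W : Over (Spec (CommRingCat.of k)) := Over.mk (pullback.fst (fst B Z).left f.left ≫ (B ⊗ Z).hom)
  let p₁ : W ⟶ B ⊗ Z := Over.homMk (pullback.fst (fst B Z).left f.left) rfl
  let p₂ : W ⟶ A := Over.homMk (pullback.snd (fst B Z).left f.left) (by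
    rw [← Over.w f, ← pullback.condition_assoc, Over.w]
    rfl)
  have hp : p₁ ≫ fst B Z = p₂ ≫ f := Over.OverMorphism.ext pullback.condition
  have e : lift p₂ (p₁ ≫ snd B Z) ≫ f ▷ Z = p₁ := by
    apply CartesianMonoidalCategory.hom_ext <;> simp [hp]
  exact ⟨(lift p₂ (p₁ ≫ snd B Z)).left w, (congrArg (fun q : W ⟶ B ⊗ Z => q.left w) e).trans hw⟩

theorem mem_range_whiskerLeft {A B : Over (Spec (CommRingCat.of k))} (f : A ⟶ B) (Z : Over (Spec (CommRingCat.of k))) (z : (Z ⊗ B).left) (a : A.left)
    (h : (snd Z B).left z = f.left a) : z ∈ Set.range (Z ◁ f).left := by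
  obtain ⟨w, hw, -⟩ := Scheme.Pullback.exists_preimage_pullback z a h
  let W : Over (Spec (CommRingCat.of k)) := Over.mk (pullback.fst (snd Z B).left f.left ≫ (Z ⊗ B).hom)
  let p₁ : W ⟶ Z ⊗ B := Over.homMk (pullback.fst (snd Z B).left f.left) rfl
  let p₂ : W ⟶ A := Over.homMk (pullback.snd (snd Z B).left f.left) (by
    rw [← Over.w f, ← pullback.condition_assoc, Over.w]
    rfl)
  have hp : p₁ ≫ snd Z B = p₂ ≫ f := Over.OverMorphism.ext pullback.condition
  have e : lift (p₁ ≫ fst Z B) p₂ ≫ Z ◁ f = p₁ := by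
    apply CartesianMonoidalCategory.hom_ext <;> simp [hp]
  exact ⟨(lift (p₁ ≫ fst Z B) p₂).left w, (congrArg (fun q : W ⟶ Z ⊗ B => q.left w) e).trans hw⟩

theorem range_subset_of_dense {A B : Scheme.{u}} (q : A ⟶ B) {D : Set A} (hD : Dense D) {C : Set B}
    (hC : IsClosed C) (h : Set.MapsTo q D C) : Set.range q ⊆ C := by
  rintro _ ⟨a, rfl⟩
  have h2 := h.closure q.continuous
  rw [hC.closure_eq] at h2
  exact h2 (hD a)

/-- The closure of the set of products is a geometrically reduced subgroup. -/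
theorem exists_generated {G X : Over (Spec (CommRingCat.of k))} [GrpObj G] [LocallyOfFiniteType G.hom] [LocallyOfFiniteType X.hom]
    [GeometricallyReduced X.hom] (φ : X ⟶ G)
    (hinv : Set.range (φ ≫ ι[G]).left.base ⊆ Set.range φ.left.base) :
    ∃ (H : Over (Spec (CommRingCat.of k))) (_ : GrpObj H) (i : H ⟶ G), IsMonHom i ∧ IsClosedImmersion i.left ∧
      GeometricallyReduced H.hom ∧ IsReduced H.left ∧ Set.range i.left.base = closure (productPoints φ) ∧
      ∃ φ' : X ⟶ H, φ' ≫ i = φ := by
  let C : TopologicalSpace.Closeds G.left := ⟨closure (productPoints φ), isClosed_closure⟩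
  let I := Scheme.IdealSheafData.vanishingIdeal C
  let H : Over (Spec (CommRingCat.of k)) := Over.mk (I.subschemeι ≫ G.hom)
  let i : H ⟶ G := Over.homMk I.subschemeι rfl
  haveI hci : IsClosedImmersion i.left := inferInstanceAs (IsClosedImmersion I.subschemeι)
  have hrange : Set.range i.left.base = closure (productPoints φ) := by
    change Set.range I.subschemeι = _
    rw [Scheme.IdealSheafData.range_subschemeι]
    rfl
  haveI hred : IsReduced H.left := (Props12.isReduced_subscheme_vanishingIdeal C : IsReduced I.subscheme)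
  haveI : LocallyOfFiniteType H.hom := inferInstanceAs (LocallyOfFiniteType (I.subschemeι ≫ G.hom))
  haveI : Mono i.left := inferInstance
  haveI : Mono i := Over.mono_of_mono_left i
  have hfac : ∀ {T : Over (Spec (CommRingCat.of k))} [IsReduced T.left] (f : T ⟶ G), Set.range f.left.base ⊆ closure (productPoints φ) →
      ∃ f' : T ⟶ H, f' ≫ i = f := by
    intro T _ f hf
    obtain ⟨g, hg⟩ := Groth.Agent.RedSepLib.exists_lift_of_range_subset f.left i.left (hrange ▸ hf)
    exact ⟨Over.homMk g (by rw [← Over.w i, ← Category.assoc, hg, Over.w f]), Over.OverMorphism.ext hg⟩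
  haveI hgrp := geometricallyReduced_pow (X := X)
  have hredof : ∀ (T : Over (Spec (CommRingCat.of k))) [GeometricallyReduced T.hom], IsReduced T.left := fun T _ =>
    GeometricallyReduced.isReduced_of_flat_of_isLocallyNoetherian T.hom
  have hn : ∀ n, ∃ p : Pow X n ⟶ H, p ≫ i = powProd φ n := fun n => by
    haveI := hredof (Pow X n)
    refine hfac _ ?_
    rw [productPoints_eq]
    exact (Set.subset_iUnion (fun n => Set.range (powProd φ n).left) n).trans subset_closure
  choose p hp using hn
  have hdense : Dense (⋃ n, Set.range (p n).left) := by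
    intro x
    rw [i.left.isClosedEmbedding.isInducing.closure_eq_preimage_closure_image, Set.mem_preimage]
    refine closure_mono ?_ (hrange.le ⟨x, rfl⟩)
    rw [productPoints_eq]
    refine Set.iUnion_subset fun n => ?_
    rintro _ ⟨t, rfl⟩
    exact ⟨(p n).left t, Set.mem_iUnion.2 ⟨n, t, rfl⟩, by rw [← hp n]; rfl⟩
  haveI hgr : GeometricallyReduced H.hom := geometricallyReduced_of_dense_maps (fun n => Pow X n) p hdense
  haveI : IsReduced (H ⊗ H).left := Groth.Agent.FBaseLib.isReduced_pullback H.hom H.hom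
  haveI : IsReduced (𝟙_ (Over (Spec (CommRingCat.of k)))).left := inferInstanceAs (IsReduced (Spec (CommRingCat.of k)))
  have hone : ∃ e : 𝟙_ (Over (Spec (CommRingCat.of k))) ⟶ H, e ≫ i = 1 := hfac _ (by
    rintro _ ⟨t, rfl⟩
    exact subset_closure ⟨_, [], t, rfl⟩)
  have hinv' : ∃ v : H ⟶ H, v ≫ i = i⁻¹ := hfac _ (by
    refine range_subset_of_dense _ hdense isClosed_closure ?_
    intro y hy
    obtain ⟨n, t, rfl⟩ := Set.mem_iUnion.1 hy
    obtain ⟨l, hl⟩ := exists_list φ n
    obtain ⟨T', e, l', he, hl'⟩ := exists_inv φ hinv l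
    obtain ⟨t', rfl⟩ := e.left.surjective t
    refine subset_closure ⟨T', l', t', ?_⟩
    rw [hl', hl, ← hp n, ← GrpObj.comp_inv]
    rfl)
  have hmul : ∃ m : H ⊗ H ⟶ H, m ≫ i = (fst H H ≫ i) * (snd H H ≫ i) := hfac _ (by
    have hopen1 : IsOpenMap (fst H H).left := (pullback.fst H.hom H.hom).isOpenMap
    refine range_subset_of_dense _ (hdense.preimage hopen1) isClosed_closure ?_
    intro z hz
    obtain ⟨n, a, ha⟩ := Set.mem_iUnion.1 (show (fst H H).left z ∈ ⋃ n, Set.range (p n).left from hz)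
    obtain ⟨r, rfl⟩ := mem_range_whiskerRight (p n) H z a ha.symm
    have hopen2 : IsOpenMap (snd (Pow X n) H).left := (pullback.snd (Pow X n).hom H.hom).isOpenMap
    have := range_subset_of_dense ((p n ▷ H) ≫ ((fst H H ≫ i) * (snd H H ≫ i))).left
      (hdense.preimage hopen2) (isClosed_closure (s := productPoints φ)) (fun z hz => by
        obtain ⟨m, b, hb⟩ := Set.mem_iUnion.1 (show (snd (Pow X n) H).left z ∈ ⋃ m, Set.range (p m).left from hz)
        obtain ⟨s, rfl⟩ := mem_range_whiskerLeft (p m) (Pow X n) z b hb.symm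
        refine subset_closure (range_mul_subset φ n m ⟨s, ?_⟩)
        have e : Pow X n ◁ p m ≫ p n ▷ H ≫ ((fst H H ≫ i) * (snd H H ≫ i)) =
            (fst (Pow X n) (Pow X m) ≫ powProd φ n) * (snd (Pow X n) (Pow X m) ≫ powProd φ m) := by
          simp only [MonObj.comp_mul, whiskerLeft_fst_assoc, whiskerLeft_snd_assoc, whiskerRight_fst_assoc,
            whiskerRight_snd_assoc, hp]
        rw [← e]
        rfl)
    exact this ⟨r, rfl⟩)
  obtain ⟨inst, hi⟩ := exists_grpObj_of_mono i hone hmul hinv'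
  haveI := hredof X
  refine ⟨H, inst, i, hi, hci, hgr, hred, hrange, hfac φ ?_⟩
  rintro _ ⟨x, rfl⟩
  exact subset_closure ⟨X, [𝟙 X], x, by simp⟩

end Groth.Agent.AlgGrpLib.Generated

end
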