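import Groth.Agent.HopfLib.SpPoints

/-!
# The coaction of an action of an affine group on an affine scheme
-/

set_option autoImplicit false
set_option maxHeartbeats 800000
universe u

open CategoryTheory MonoidalCategory CartesianMonoidalCategory MonObj GrpObj AlgebraicGeometry
open scoped TensorProduct
open CoactBr Groth.Agent.HopfLib.SpPoints

noncomputable section

namespace Groth.Agent.AlgGrpLib.ActionCoact26

variable {k : Type u} [CommRing k] {A R : Type u} [CommRing A] [HopfAlgebra k A] [CommRing R] [Algebra k R]
  (a : AlgGrp.Action (sp k A) (sp k R))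

/-- the right action `(x, g) ↦ g⁻¹ · x` -/
def ract' : sp k R ⊗ sp k A ⟶ sp k R := lift ((snd _ _ : sp k R ⊗ sp k A ⟶ sp k A)⁻¹) (fst _ _) ≫ a.act

theorem lift_ract' {T : Over (Spec (CommRingCat.of k))} (x : T ⟶ sp k R) (g : T ⟶ sp k A) :
    lift x g ≫ ract' a = lift g⁻¹ x ≫ a.act := by
  rw [ract', comp_lift_assoc, GrpObj.comp_inv, lift_snd, lift_fst]

theorem lift_one_act {T : Over (Spec (CommRingCat.of k))} (x : T ⟶ sp k R) :
    lift (1 : T ⟶ sp k A) x ≫ a.act = x := by
  rw [Hom.one_def, ← lift_whiskerRight, Category.assoc, a.one_act, lift_leftUnitor_hom]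

theorem lift_lift_act {T : Over (Spec (CommRingCat.of k))} (g h : T ⟶ sp k A) (x : T ⟶ sp k R) :
    lift g (lift h x ≫ a.act) ≫ a.act = lift (g * h) x ≫ a.act := by
  rw [Hom.mul_def, ← lift_whiskerRight, Category.assoc, a.mul_act, lift_lift_associator_hom_assoc,
    lift_whiskerLeft_assoc]

/-- the coaction -/
def coactMap : R →ₐ[k] R ⊗[k] A :=
  algOf (lift (pt (Algebra.TensorProduct.includeLeft : R →ₐ[k] R ⊗[k] A))
    (pt Algebra.TensorProduct.includeRight) ≫ ract' a)

theorem pt_coact {K : Type u} [CommRing K] [Algebra k K] (x : R →ₐ[k] K) (g : A →ₐ[k] K) :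
    lift (pt x) (pt g) ≫ ract' a =
      pt ((Algebra.TensorProduct.lift x g fun _ _ => .all _ _).comp (coactMap a)) := by
  have e1 : (Algebra.TensorProduct.lift x g fun _ _ => .all _ _).comp Algebra.TensorProduct.includeLeft = x :=
    AlgHom.ext fun r => by simp
  have e2 : (Algebra.TensorProduct.lift x g fun _ _ => .all _ _).comp Algebra.TensorProduct.includeRight = g :=
    AlgHom.ext fun r => by simp
  rw [CoactBr.pt_comp, coactMap, pt_algOf, ← Category.assoc, comp_lift, ← CoactBr.pt_comp, ← CoactBr.pt_comp,
    e1, e2]

theorem coact_counit :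
    (Algebra.TensorProduct.map (AlgHom.id k R) (Bialgebra.counitAlgHom k A)).comp (coactMap a) =
      (Algebra.TensorProduct.rid k k R).symm.toAlgHom := by
  have h1 : pt ((Algebra.TensorProduct.lift (AlgHom.id k R) ((Algebra.ofId k R).comp (Bialgebra.counitAlgHom k A))
      fun _ _ => .all _ _).comp (coactMap a)) = pt (AlgHom.id k R) := by
    rw [← pt_coact, ← one_eq_pt, lift_ract', inv_one, lift_one_act]
  have h2 := pt_injective h1
  have e : (Algebra.TensorProduct.rid k k R).toAlgHom.comp
      (Algebra.TensorProduct.map (AlgHom.id k R) (Bialgebra.counitAlgHom k A)) =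
      Algebra.TensorProduct.lift (AlgHom.id k R) ((Algebra.ofId k R).comp (Bialgebra.counitAlgHom k A))
        fun _ _ => .all _ _ := by
    apply Algebra.TensorProduct.ext'
    intro r c
    simp [Algebra.smul_def, mul_comm]
  rw [← e] at h2
  ext r
  apply (Algebra.TensorProduct.rid k k R).injective
  simpa using AlgHom.congr_fun h2 r

theorem coact_coassoc :
    (Algebra.TensorProduct.assoc k k k R A A).toAlgHom.comp
        ((Algebra.TensorProduct.map (coactMap a) (AlgHom.id k A)).comp (coactMap a)) =
      (Algebra.TensorProduct.map (AlgHom.id k R) (Bialgebra.comulAlgHom k A)).comp (coactMap a) := by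
  let x : R →ₐ[k] R ⊗[k] (A ⊗[k] A) := Algebra.TensorProduct.includeLeft
  let g : A →ₐ[k] R ⊗[k] (A ⊗[k] A) :=
    Algebra.TensorProduct.includeRight.comp Algebra.TensorProduct.includeLeft
  let h : A →ₐ[k] R ⊗[k] (A ⊗[k] A) :=
    Algebra.TensorProduct.includeRight.comp Algebra.TensorProduct.includeRight
  have key : lift (lift (pt x) (pt g) ≫ ract' a) (pt h) ≫ ract' a = lift (pt x) (pt g * pt h) ≫ ract' a := by
    simp only [lift_ract', lift_lift_act, _root_.mul_inv_rev]
  rw [pt_coact, pt_coact, pt_mul_pt, pt_coact] at key
  have h2 := pt_injective key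
  have e1 : (Algebra.TensorProduct.assoc k k k R A A).toAlgHom.comp
      (Algebra.TensorProduct.map (coactMap a) (AlgHom.id k A)) =
      Algebra.TensorProduct.lift ((Algebra.TensorProduct.lift x g fun _ _ => .all _ _).comp (coactMap a)) h
        fun _ _ => .all _ _ := by
    apply Algebra.TensorProduct.ext'
    intro r c
    simp only [AlgHom.comp_apply, AlgEquiv.coe_toAlgHom, Algebra.TensorProduct.map_tmul, AlgHom.coe_id, id_eq,
      Algebra.TensorProduct.lift_tmul]
    generalize coactMap a r = t
    induction t using TensorProduct.induction_on with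
    | zero => simp
    | add p q hp hq => rw [TensorProduct.add_tmul, map_add, hp, hq, map_add, add_mul]
    | tmul p q => simp [x, g, h]
  have e2 : Algebra.TensorProduct.map (AlgHom.id k R) (Bialgebra.comulAlgHom k A) =
      Algebra.TensorProduct.lift x ((Algebra.TensorProduct.lift g h fun _ _ => .all _ _).comp
        (Bialgebra.comulAlgHom k A)) fun _ _ => .all _ _ := by
    apply Algebra.TensorProduct.ext'
    intro r c
    simp only [AlgHom.comp_apply, Algebra.TensorProduct.map_tmul, AlgHom.coe_id, id_eq,
      Algebra.TensorProduct.lift_tmul]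
    generalize (Bialgebra.comulAlgHom k A) c = t
    induction t using TensorProduct.induction_on with
    | zero => simp
    | add p q hp hq => rw [TensorProduct.tmul_add, hp, hq, map_add, mul_add]
    | tmul p q => simp [x, g, h]
  rw [← AlgHom.comp_assoc, e1, e2]
  exact h2

/-- The comodule structure of an action on an affine scheme. -/
def comod : HopfRep.Comod k A R where
  coact := (coactMap a).toLinearMap
  coassoc := by
    refine LinearMap.ext fun r => ?_
    have h := AlgHom.congr_fun (coact_coassoc a) r
    simp only [AlgHom.comp_apply, AlgEquiv.coe_toAlgHom] at h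
    simp only [LinearMap.coe_comp, Function.comp_apply, AlgHom.toLinearMap_apply]
    have eR : ∀ t : R ⊗[k] A, (LinearMap.lTensor R (CoalgebraStruct.comul (R := k) (A := A))) t =
        Algebra.TensorProduct.map (AlgHom.id k R) (Bialgebra.comulAlgHom k A) t := fun t => by
      induction t using TensorProduct.induction_on with
      | zero => simp
      | add p q hp hq => simp only [map_add, hp, hq]
      | tmul p q => rfl
    rw [eR, ← h]
    clear h
    generalize coactMap a r = t
    induction t using TensorProduct.induction_on with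
    | zero => simp
    | add p q hp hq => simp only [map_add, hp, hq]
    | tmul p q =>
      simp only [LinearMap.rTensor_tmul, Algebra.TensorProduct.map_tmul, AlgHom.coe_id, id_eq,
        AlgHom.toLinearMap_apply, LinearEquiv.coe_coe]
      generalize coactMap a p = s
      induction s using TensorProduct.induction_on with
      | zero => simp
      | add u v hu hv => simp only [TensorProduct.add_tmul, map_add, hu, hv]
      | tmul u v => rfl
  counit_comp := by
    refine LinearMap.ext fun r => ?_
    have h := AlgHom.congr_fun (coact_counit a) r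
    simp only [AlgHom.comp_apply, AlgEquiv.coe_toAlgHom] at h
    simp only [LinearMap.coe_comp, Function.comp_apply, AlgHom.toLinearMap_apply]
    have eR : ∀ t : R ⊗[k] A, (LinearMap.lTensor R (CoalgebraStruct.counit (R := k) (A := A))) t =
        Algebra.TensorProduct.map (AlgHom.id k R) (Bialgebra.counitAlgHom k A) t := fun t => by
      induction t using TensorProduct.induction_on with
      | zero => simp
      | add p q hp hq => simp only [map_add, hp, hq]
      | tmul p q => rfl
    rw [eR, h]
    rfl

theorem isCoactAlg : letI := comod a; GLin.IsCoactAlg k A R :=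
  letI := comod a
  { coact_one := map_one (coactMap a), coact_mul := map_mul (coactMap a) }

/-- The orbit morphism of a rational point is `Spec` of the comodule orbit map, up to inversion. -/
theorem inv_orbitMap (x : R →ₐ[k] k) :
    ι[sp k A] ≫ a.orbitMap ((unitIso (R := k)).inv ≫ pt x) =
      letI := comod a; letI := isCoactAlg a; pt (GLin.orbitHom k A x) := by
  letI := comod a
  haveI : GLin.IsCoactAlg k A R := isCoactAlg a
  show _ = pt (GLin.orbitHom k A x)
  have h := pt_coact a ((Algebra.ofId k A).comp x) (AlgHom.id k A)
  have e : (Algebra.TensorProduct.lift ((Algebra.ofId k A).comp x) (AlgHom.id k A) fun _ _ => .all _ _).comp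
      (coactMap a) = GLin.orbitHom k A x := by
    rw [GLin.orbitHom, ← AlgHom.comp_assoc]
    congr 1
    apply Algebra.TensorProduct.ext'
    intro r c
    simp [Algebra.smul_def]
  rw [← e, ← h, lift_ract', AlgGrp.Action.orbitMap, ← Category.assoc, comp_lift, pt_id, Hom.inv_def,
    Category.id_comp, Category.comp_id, CoactBr.pt_comp, toUnit_eq]
  have hι : ι[sp k A] ≫ pt (Algebra.ofId k A) = pt (Algebra.ofId k A) := by
    rw [← cancel_mono (unitIso (R := k)).hom]
    exact toUnit_unique _ _
  simp [reassoc_of% hι]

end Groth.Agent.AlgGrpLib.ActionCoact26
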