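import Groth.Agent.AlgGrpLib.ActionShear
import Mathlib.AlgebraicGeometry.Morphisms.Flat
import Mathlib.AlgebraicGeometry.Sites.Fpqc
import Groth.Prelude.Def_AlgGrp

/-! The kernel of the action on a homogeneous space is the largest normal subgroup in the stabiliser. -/

universe u

set_option autoImplicit false
set_option backward.isDefEq.respectTransparency.types false

open CategoryTheory CategoryTheory.Limits MonoidalCategory CartesianMonoidalCategory MonObj GrpObj AlgebraicGeometry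

namespace Groth.Agent.AlgGrpLib

variable {S : Scheme.{u}} {G H Q N : Over S} [GrpObj G] [GrpObj H] [GrpObj N]

theorem actionKernel_core (a : AlgGrp.Action G Q) (o : 𝟙_ (Over S) ⟶ Q) (i : H ⟶ G) [IsMonHom i]
    (hsq : IsPullback (fst G H) ((G ◁ i) ≫ μ[G]) (a.orbitMap o) (a.orbitMap o))
    (hcov : ∀ (T : Over S) (x : T ⟶ Q), ∃ (T' : Over S) (c : T' ⟶ T) (g : T' ⟶ G), Epi c ∧ g ≫ a.orbitMap o = c ≫ x)
    (n : N ⟶ G)
    (hN : ∀ (T : Over S) (g : T ⟶ G), (∃ m : T ⟶ N, m ≫ n = g) ↔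
      ∀ (T' : Over S) (s : T' ⟶ T) (x : T' ⟶ Q), lift (s ≫ g) x ≫ a.act = x) :
    AlgGrp.IsNormalHom n ∧ (∃ f : N ⟶ H, f ≫ i = n) ∧
      ∀ (N' : Over S) [GrpObj N'] (n' : N' ⟶ G), AlgGrp.IsNormalHom n' → (∃ f : N' ⟶ H, f ≫ i = n') →
        ∃ f' : N' ⟶ N, f' ≫ n = n' := by
  have horb : ∀ {T : Over S} (g : T ⟶ G), g ≫ a.orbitMap o = lift g (toUnit T ≫ o) ≫ a.act := fun g => by
    rw [AlgGrp.Action.orbitMap, ← Category.assoc, comp_lift, Category.comp_id, ← Category.assoc, comp_toUnit]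
  have hn : ∀ {T : Over S} (m : T ⟶ N) (x : T ⟶ Q), lift (m ≫ n) x ≫ a.act = x := fun m x => by
    simpa using (hN _ (m ≫ n)).1 ⟨m, rfl⟩ _ (𝟙 _) x
  have hfix : ∀ {T : Over S} (h : T ⟶ H), lift (h ≫ i) (toUnit T ≫ o) ≫ a.act = toUnit T ≫ o := fun {T} h => by
    have e := congrArg (lift (1 : T ⟶ G) h ≫ ·) hsq.w
    simp only [← Category.assoc, lift_fst, lift_whiskerLeft] at e
    rw [horb, ← Hom.mul_def, _root_.one_mul, horb, one_act'] at e
    exact e.symm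
  refine ⟨fun T g m => ?_, ?_, fun N' _ n' hn' ⟨f, hf⟩ => ?_⟩
  · obtain ⟨m', hm'⟩ := (hN T (g * (m ≫ n) * g⁻¹)).2 fun T' s x => by
      rw [MonObj.comp_mul, MonObj.comp_mul, GrpObj.comp_inv, ← act_act, ← act_act, ← Category.assoc s m, hn, act_act,
        mul_inv_cancel, one_act']
    exact ⟨m', hm'.symm⟩
  · have h : (1 : N ⟶ G) ≫ a.orbitMap o = n ≫ a.orbitMap o := by
      have hn1 := hn (𝟙 N) (toUnit N ≫ o)
      rw [Category.id_comp] at hn1
      rw [horb, horb, one_act', hn1]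
    refine ⟨hsq.lift _ _ h ≫ snd G H, ?_⟩
    have e := hsq.lift_snd _ _ h
    have e1 := hsq.lift_fst _ _ h
    have e2 : hsq.lift _ _ h = lift (hsq.lift _ _ h ≫ fst G H) (hsq.lift _ _ h ≫ snd G H) := by
      rw [← comp_lift, lift_fst_snd, Category.comp_id]
    rw [e1] at e2
    rw [e2, ← Category.assoc, lift_whiskerLeft, ← Hom.mul_def, _root_.one_mul] at e
    exact e
  · refine (hN N' n').2 fun T' s x => ?_
    obtain ⟨T'', c, g, hc, hg⟩ := hcov T' x
    obtain ⟨m, hm⟩ := hn' T'' g⁻¹ (c ≫ s)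
    rw [_root_.inv_inv] at hm
    rw [← cancel_epi c, ← Category.assoc, comp_lift, ← Category.assoc, ← hg, horb, act_act]
    have e : ((c ≫ s) ≫ n') * g = g * ((m ≫ f) ≫ i) := by
      rw [Category.assoc m, hf, ← hm, _root_.mul_assoc g⁻¹, ← _root_.mul_assoc g, mul_inv_cancel, _root_.one_mul]
    rw [e, ← act_act, hfix]

/-- fppf-locally on a scheme, points lift along a locally trivial morphism. -/
theorem exists_cover_of_fppf {G Q : Over S} (p : G ⟶ Q) (R : Presieve Q.left)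
    (hR : R ∈ Scheme.fppfPrecoverage Q.left)
    (hs : ∀ ⦃S' : Scheme.{u}⦄ (f : S' ⟶ Q.left), R f → ∃ s : S' ⟶ G.left, s ≫ p.left = f) (T : Over S) (x : T ⟶ Q) :
    ∃ (T' : Over S) (c : T' ⟶ T) (g : T' ⟶ G), Epi c ∧ g ≫ p = c ≫ x := by
  have hjs : ∀ q : Q.left, ∃ (Y : Scheme.{u}) (f : Y ⟶ Q.left), R f ∧ q ∈ Set.range f := by
    intro q
    obtain ⟨_, g, ⟨hf⟩, hq⟩ := hR.1 q
    exact ⟨_, _, hf, hq⟩
  choose Y f hf hq using fun t : T.left => hjs (x.left t)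
  choose s hs using fun t => hs (f t) (hf t)
  haveI : ∀ t, Flat (f t) := fun t => (hR.2 (hf t)).1
  let C : T.left → Scheme.{u} := fun t => pullback x.left (f t)
  let c₀ : (∐ C) ⟶ T.left := Sigma.desc fun t => pullback.fst x.left (f t)
  haveI : Flat c₀ := IsZariskiLocalAtSource.sigmaDesc fun t => inferInstance
  haveI : Surjective c₀ := ⟨fun t => by
    obtain ⟨y, hy⟩ := hq t
    obtain ⟨z, hz, -⟩ := Scheme.Pullback.exists_preimage_pullback (f := x.left) (g := f t) t y hy.symm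
    exact ⟨(Sigma.ι C t) z, by rw [← Scheme.Hom.comp_apply, Sigma.ι_desc]; exact hz⟩⟩
  let T' : Over S := Over.mk (c₀ ≫ T.hom)
  let c : T' ⟶ T := Over.homMk c₀ rfl
  let g₀ : (∐ C) ⟶ G.left := Sigma.desc fun t => pullback.snd x.left (f t) ≫ s t
  have hg₀ : g₀ ≫ p.left = c₀ ≫ x.left := Sigma.hom_ext _ _ fun t => by
    simp only [g₀, c₀, Sigma.ι_desc_assoc, Category.assoc, hs, pullback.condition]
  let g : T' ⟶ G := Over.homMk g₀ (by
    show g₀ ≫ G.hom = c₀ ≫ T.hom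
    rw [← Over.w p, reassoc_of% hg₀, Over.w x])
  haveI : Epi c₀ := Flat.epi_of_flat_of_surjective c₀
  haveI : Epi c.left := ‹Epi c₀›
  exact ⟨T', c, g, Over.epi_of_epi_left _, Over.OverMorphism.ext hg₀⟩

end Groth.Agent.AlgGrpLib
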