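import Groth.Agent.AmpleLib.GenLocus
import Groth.Agent.AmpleLib.Ample
import Mathlib.AlgebraicGeometry.Morphisms.Affine

/-!
# Combinations of sections with affine non-vanishing loci
-/

set_option autoImplicit false
set_option backward.isDefEq.respectTransparency.types false

universe u

open CategoryTheory CategoryTheory.Limits AlgebraicGeometry TopologicalSpace
open Groth.Agent.Coherent Groth.Agent.PicLib Groth.Agent.AmpleLib

namespace Groth.Agent.AlgGrpLib.AffineCombination

variable {X : Scheme.{u}} {M : X.Modules}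

theorem mem_glocus_sum {ι : Type*} (S : Finset ι) (hM : PicF.IsInvertible M) (c : ι → Γ(X, ⊤)) (s : ι → Γ(M, ⊤))
    (x : X) (hx : x ∈ glocus M (∑ i ∈ S, c i • s i)) : ∃ i ∈ S, x ∈ glocus M (s i) := by
  classical
  set f := ∑ i ∈ S, c i • s i with hf
  have hg := isGen_glocus (L := M) f
  let h : ι → Γ(X, glocus M f) := fun i => hg.coef le_rfl (resM M le_top (s i))
  have hsum : (1 : Γ(X, glocus M f)) = ∑ i ∈ S, X.presheaf.map (homOfLE (le_top : glocus M f ≤ ⊤)).op (c i) * h i := by
    refine (hg (glocus M f) le_rfl).1 ?_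
    show (1 : Γ(X, glocus M f)) • resM M le_rfl _ = (∑ i ∈ S, _) • resM M le_rfl _
    rw [one_smul, Finset.sum_smul, resM_self]
    refine Eq.trans (map_sum (resM M (le_top : glocus M f ≤ ⊤)) (fun i => c i • s i) S) ?_
    refine Finset.sum_congr rfl fun i _ => ?_
    rw [resM_smul, mul_smul]
    have := hg.coef_spec le_rfl (resM M le_top (s i))
    rw [resM_self] at this
    exact congrArg (_ • ·) this.symm
  by_contra hcon
  push Not at hcon
  have hall : ∀ i ∈ S, x ∉ X.basicOpen (h i) := fun i hi h' => by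
    rw [← glocus_inf (s i) hg] at h'
    exact hcon i hi h'.1
  have h1 : (1 : X.presheaf.stalk x) ∈ IsLocalRing.maximalIdeal (X.presheaf.stalk x) := by
    rw [← map_one (X.presheaf.germ (glocus M f) x hx).hom, hsum, map_sum]
    refine Ideal.sum_mem _ fun i hi => ?_
    rw [map_mul]
    refine Ideal.mul_mem_left _ _ ?_
    rw [IsLocalRing.mem_maximalIdeal, mem_nonunits_iff, ← Scheme.mem_basicOpen]
    exact hall i hi
  exact (IsLocalRing.mem_maximalIdeal _).1 h1 isUnit_one

/-- A combination of sections with affine non-vanishing loci has an affine non-vanishing locus. -/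
theorem isAffineOpen_glocus_sum [X.IsSeparated] {ι : Type*} (S : Finset ι) (hM : PicF.IsInvertible M) (c : ι → Γ(X, ⊤))
    (s : ι → Γ(M, ⊤)) (hs : ∀ i ∈ S, IsAffineOpen (glocus M (s i))) :
    IsAffineOpen (glocus M (∑ i ∈ S, c i • s i)) := by
  classical
  set f := ∑ i ∈ S, c i • s i with hf
  have hg := isGen_glocus (L := M) f
  let h : ι → Γ(X, glocus M f) := fun i => hg.coef le_rfl (resM M le_top (s i))
  have hsum : (1 : Γ(X, glocus M f)) = ∑ i ∈ S, X.presheaf.map (homOfLE (le_top : glocus M f ≤ ⊤)).op (c i) * h i := by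
    refine (hg (glocus M f) le_rfl).1 ?_
    show (1 : Γ(X, glocus M f)) • resM M le_rfl _ = (∑ i ∈ S, _) • resM M le_rfl _
    rw [one_smul, Finset.sum_smul, resM_self]
    refine Eq.trans (map_sum (resM M (le_top : glocus M f ≤ ⊤)) (fun i => c i • s i) S) ?_
    refine Finset.sum_congr rfl fun i _ => ?_
    rw [resM_smul, mul_smul]
    have := hg.coef_spec le_rfl (resM M le_top (s i))
    rw [resM_self] at this
    exact congrArg (_ • ·) this.symm
  have hspan : Ideal.span (h '' (S : Set ι)) = ⊤ := by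
    rw [Ideal.eq_top_iff_one, hsum]
    exact Ideal.sum_mem _ fun i hi => Ideal.mul_mem_left _ _ (Ideal.subset_span ⟨i, hi, rfl⟩)
  refine isAffineOpen_of_isAffineOpen_basicOpen _ _ hspan ?_
  rintro _ ⟨i, hi, rfl⟩
  have he : X.basicOpen (h i) = glocus M f ⊓ glocus M (s i) := by
    rw [← glocus_inf (s i) hg, inf_comm]
  rw [he]
  obtain ⟨a, ha⟩ : ∃ a : Γ(X, glocus M (s i)), X.basicOpen a = glocus M f ⊓ glocus M (s i) :=
    ⟨_, (glocus_inf f (isGen_glocus (L := M) (s i))).symm⟩
  rw [← ha]
  exact (hs i hi).basicOpen a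

end Groth.Agent.AlgGrpLib.AffineCombination
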