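import Groth.Agent.AlgGrpLib.AffineHullMain

/-! A group without anti-affine subgroups is affine. -/

universe u

set_option autoImplicit false
set_option backward.isDefEq.respectTransparency.types false
set_option maxHeartbeats 800000

open CategoryTheory CategoryTheory.Limits MonoidalCategory CartesianMonoidalCategory MonObj GrpObj AlgebraicGeometry

namespace Groth.Agent.AlgGrpLib.AffineHull

variable {k : Type u} [Field k] (G : Over (Spec (CommRingCat.of k))) [GrpObj G] [LocallyOfFiniteType G.hom]
  [QuasiCompact G.hom]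

/-- The anti-affine kernel of the affinization. -/
theorem exists_antiAffine_kernel :
    ∃ (g : GrpObj (affOf G)) (_ : IsMonHom (toAffOf G)) (N : Over (Spec (CommRingCat.of k))) (_ : GrpObj N)
      (i : N ⟶ G), IsMonHom i ∧ IsClosedImmersion i.left ∧ LocallyOfFiniteType N.hom ∧ QuasiCompact N.hom ∧
        Function.Bijective N.hom.appTop ∧ LocallyOfFiniteType (affOf G).hom ∧ Flat (toAffOf G).left ∧
        Surjective (toAffOf G).left ∧ AlgGrp.IsKernel i (toAffOf G) := by
  obtain ⟨g, hρ, hs, hf, hl⟩ := affinization G
  haveI := hs; haveI := hf; haveI := hl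
  let i := pullback.fst (toAffOf G) η[affOf G]
  have hker : AlgGrp.IsKernel i (toAffOf G) := by
    have h := IsPullback.of_hasPullback (toAffOf G) η[affOf G]
    rw [toUnit_unique (pullback.snd (toAffOf G) η[affOf G]) (toUnit _)] at h
    exact h
  obtain ⟨gN, hi⟩ := exists_grpObj_kernel (toAffOf G) i hker
  haveI : IsClosedImmersion η[affOf G].left := inferInstance
  haveI hci : IsClosedImmersion i.left :=
    MorphismProperty.of_isPullback (P := @IsClosedImmersion) (hker.map (Over.forget _)).flip ‹_›
  refine ⟨g, hρ, _, gN, i, hi, hci, ?_, ?_, bijective_appTop_kernel G i hker, hl, hf, hs, hker⟩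
  · rw [← Over.w i]; infer_instance
  · rw [← Over.w i]; infer_instance

/-- If anti-affine groups map trivially to `G` then `G` is affine. -/
theorem isAffine_of_antiAffine_trivial
    (h : ∀ (N : Over (Spec (CommRingCat.of k))) [GrpObj N] [LocallyOfFiniteType N.hom] [QuasiCompact N.hom]
      (i : N ⟶ G) [IsMonHom i] [IsClosedImmersion i.left], Function.Bijective N.hom.appTop → i = 1) :
    IsAffine G.left := by
  obtain ⟨g, hρ, N, gN, i, hi, hci, hl, hq, hb, hA, hf, hs, hker⟩ := exists_antiAffine_kernel G
  have hi1 : i = 1 := h N i hb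
  haveI : Mono (toAffOf G) := ⟨fun {T} x y e => by
    obtain ⟨n, hn⟩ := exists_lift_kernel hker (g := x⁻¹ * y) (by
      rw [MonObj.mul_comp, GrpObj.inv_comp, e, inv_mul_cancel])
    rw [hi1, MonObj.comp_one] at hn
    exact inv_mul_eq_one.1 hn.symm⟩
  haveI : QuasiCompact ((toAffOf G).left ≫ (affOf G).hom) := by rw [Over.w]; infer_instance
  haveI : QuasiCompact (toAffOf G).left := QuasiCompact.of_comp (toAffOf G).left (affOf G).hom
  haveI : IsClosedImmersion (toAffOf G).left := SGA3cLib.isClosedImmersion_of_mono (toAffOf G)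
  exact isAffine_of_isAffineHom (toAffOf G).left

theorem eq_one_of_isAffine {N Z : Over (Spec (CommRingCat.of k))} [GrpObj N] [GrpObj Z] [LocallyOfFiniteType N.hom]
    [QuasiCompact N.hom] [IsAffine Z.left] (hN : Function.Bijective N.hom.appTop) (f : N ⟶ Z) [IsMonHom f] : f = 1 := by
  haveI : CompactSpace N.left := QuasiCompact.compactSpace_of_compactSpace N.hom
  haveI : IsLocallyNoetherian N.left := LocallyOfFiniteType.isLocallyNoetherian N.hom
  rw [eq_const_of_affine hN η[N] f, IsMonHom.one_hom, Hom.one_def]

end Groth.Agent.AlgGrpLib.AffineHull
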