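import Groth.Agent.AlgGrpLib.AntiAffineSections
import Groth.Agent.GrassLib.OverPoints
import Groth.Agent.SGA3xLib.SepFibre
import Groth.Agent.GrpdLib.SmoothOverField
import Mathlib.AlgebraicGeometry.QuasiAffine
import Mathlib.AlgebraicGeometry.Morphisms.SchemeTheoreticallyDominant

/-! The affine hull of an algebraic group is a group. -/

universe u

set_option autoImplicit false
set_option backward.isDefEq.respectTransparency.types false
set_option maxHeartbeats 800000

open CategoryTheory CategoryTheory.Limits MonoidalCategory CartesianMonoidalCategory MonObj GrpObj AlgebraicGeometry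

namespace Groth.Agent.AlgGrpLib.AffineHull

variable {k : Type u} [Field k]

/-- A morphism is affine-epimorphic when maps to affine schemes factor uniquely through it. -/
def IsAffEpi {P Q : Over (Spec (CommRingCat.of k))} (f : P ⟶ Q) : Prop :=
  ∀ (W : Over (Spec (CommRingCat.of k))), IsAffine W.left →
    Function.Bijective fun g : Q ⟶ W => f ≫ g

theorem isAffEpi_of_bijective {P Q : Over (Spec (CommRingCat.of k))} (f : P ⟶ Q) [IsAffine Q.left]
    (h : Function.Bijective f.left.appTop) : IsAffEpi f := by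
  intro W hW
  have hinj : ∀ {Z : Scheme.{u}} [IsAffine Z] (a b : Q.left ⟶ Z), f.left ≫ a = f.left ≫ b → a = b := by
    intro Z _ a b e
    refine ext_of_isAffine (CommRingCat.hom_ext (RingHom.ext fun r => h.1 ?_))
    have e2 := congr($(congrArg Scheme.Hom.appTop e) r)
    simpa only [Scheme.Hom.comp_appTop, CommRingCat.comp_apply] using e2
  refine ⟨fun a b e => Over.OverMorphism.ext (hinj _ _ (congrArg CommaMorphism.left e)), fun g => ?_⟩
  haveI : IsIso f.left.appTop := (ConcreteCategory.isIso_iff_bijective _).2 h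
  let l : Q.left ⟶ W.left := Q.left.toSpecΓ ≫ Spec.map (g.left.appTop ≫ inv f.left.appTop) ≫ inv W.left.toSpecΓ
  have hl : f.left ≫ l = g.left := by
    rw [← cancel_mono W.left.toSpecΓ]
    simp only [l, Category.assoc, IsIso.inv_hom_id, Category.comp_id]
    rw [Scheme.toSpecΓ_naturality_assoc, ← Spec.map_comp, Category.assoc, IsIso.inv_hom_id, Category.comp_id,
      ← Scheme.toSpecΓ_naturality]
  refine ⟨Over.homMk l (hinj _ _ ?_), Over.OverMorphism.ext hl⟩
  rw [reassoc_of% hl, Over.w g, Over.w f]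

variable (G : Over (Spec (CommRingCat.of k)))

theorem bijective_appTop_toAffOf : Function.Bijective (toAffOf G).left.appTop := by
  show Function.Bijective G.left.toSpecΓ.appTop
  rw [Scheme.toSpecΓ_appTop]
  exact ConcreteCategory.bijective_of_isIso _

variable [CompactSpace G.left] [QuasiSeparatedSpace G.left]

theorem isAffEpi_whisker_affine (Y : Over (Spec (CommRingCat.of k))) [IsAffine Y.left] :
    IsAffEpi (toAffOf G ▷ Y) := by
  haveI : IsAffine (affOf G ⊗ Y).left := inferInstanceAs (IsAffine (pullback (affOf G).hom Y.hom))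
  haveI : Flat Y.hom := GrpdLib.flat_to_field Y.hom k (Iso.refl _)
  refine isAffEpi_of_bijective _ ?_
  let e := (affOf G ⊗ Y).left.isoSpec
  have sq := (IsPullback.of_hasPullback (toAffOf G) (fst (affOf G) Y))
  have hpb : IsPullback (fst G Y).left (toAffOf G ▷ Y).left (toAffOf G).left (fst (affOf G) Y).left := by
    refine IsPullback.of_bot ?_ (congrArg CommaMorphism.left (whiskerRight_fst (toAffOf G) Y)).symm
      (IsPullback.of_hasPullback (affOf G).hom Y.hom)
    have e1 : (toAffOf G ▷ Y).left ≫ pullback.snd (affOf G).hom Y.hom = pullback.snd G.hom Y.hom :=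
      congrArg CommaMorphism.left (whiskerRight_snd (toAffOf G) Y)
    rw [e1, Over.w]
    exact IsPullback.of_hasPullback G.hom Y.hom
  haveI : Flat (fst (affOf G) Y).left := inferInstanceAs (Flat (pullback.fst (affOf G).hom Y.hom))
  have hfl : Flat (e.inv ≫ (fst (affOf G) Y).left) := (MorphismProperty.cancel_left_of_respectsIso @Flat e.inv _).2 inferInstance
  have hpb' : IsPullback (fst G Y).left ((toAffOf G ▷ Y).left ≫ e.hom) (toAffOf G).left (e.inv ≫ (fst (affOf G) Y).left) :=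
    hpb.of_iso (Iso.refl _) (Iso.refl _) e (Iso.refl _) (by simp) (by simp) (by simp) (by simp)
  have h := @PicLib.bijective_appTop_of_isPullback _ _ (CommRingCat.of Γ(G.left, ⊤)) _ (fst G Y).left
    ((toAffOf G ▷ Y).left ≫ e.hom) (toAffOf G).left (e.inv ≫ (fst (affOf G) Y).left) hfl hpb' _ _
    (bijective_appTop_toAffOf G)
  rw [Scheme.Hom.comp_appTop] at h
  haveI : IsIso e.hom.appTop := inferInstanceAs (IsIso (Scheme.Γ.map e.hom.op))
  exact (Function.Bijective.of_comp_iff _ (ConcreteCategory.bijective_of_isIso e.hom.appTop)).1 h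

theorem isAffEpi_whisker (Y : Over (Spec (CommRingCat.of k))) : IsAffEpi (toAffOf G ▷ Y) := by
  intro W hW
  have hq : ∀ {A : CommAlgCat.{u} k} (p : GrassLib.pt A ⟶ Y), IsAffine (GrassLib.pt A).left := fun p =>
    inferInstanceAs (IsAffine (Spec _))
  refine ⟨fun a b e => ?_, fun g => ?_⟩
  · simp only at e
    refine GrassLib.hom_ext_points fun A p => ?_
    haveI := hq (p ≫ snd _ _)
    have h := (isAffEpi_whisker_affine G (GrassLib.pt A) W hW).1
      (a₁ := (affOf G ◁ (p ≫ snd _ _)) ≫ a) (a₂ := (affOf G ◁ (p ≫ snd _ _)) ≫ b) (by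
        show _ ≫ _ = _ ≫ _
        rw [← whisker_exchange_assoc, ← whisker_exchange_assoc, e])
    have h2 := congrArg (lift (p ≫ fst _ _) (𝟙 _) ≫ ·) h
    simp only [← Category.assoc, lift_whiskerLeft, Category.id_comp] at h2
    rwa [← comp_lift, lift_fst_snd, Category.comp_id] at h2
  · have hf : ∀ (A : CommAlgCat.{u} k) (y : GrassLib.pt A ⟶ Y), ∃! f : affOf G ⊗ GrassLib.pt A ⟶ W,
        (toAffOf G ▷ GrassLib.pt A) ≫ f = (G ◁ y) ≫ g := fun A y => by
      haveI := hq y
      exact (isAffEpi_whisker_affine G (GrassLib.pt A) W hW).existsUnique _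
    choose f hf1 hf2 using hf
    obtain ⟨F, hF⟩ := GrassLib.exists_hom (X := affOf G ⊗ Y) (Y := W)
      (fun A p => lift (p ≫ fst _ _) (𝟙 _) ≫ f A (p ≫ snd _ _)) (fun A B φ p p' hp => by
        haveI := hq (p' ≫ snd _ _)
        let c : GrassLib.pt B ⟶ GrassLib.pt A := Over.homMk (Spec.map (CommRingCat.ofHom φ.hom.toRingHom)) (by
          show Spec.map _ ≫ Spec.map _ = Spec.map _
          rw [← Spec.map_comp, ← CommRingCat.ofHom_comp]
          exact congrArg (fun r => Spec.map (CommRingCat.ofHom r)) φ.hom.comp_algebraMap)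
        have hc : p' = c ≫ p := Over.OverMorphism.ext hp
        have h1 : f B (p' ≫ snd _ _) = (affOf G ◁ c) ≫ f A (p ≫ snd _ _) := (hf2 B _ _ (by
          show _ = _
          rw [← whisker_exchange_assoc, hf1, ← MonoidalCategory.whiskerLeft_comp_assoc, hc, Category.assoc])).symm
        have h2 : lift (p' ≫ fst _ _) (𝟙 _) ≫ f B (p' ≫ snd _ _) = c ≫ lift (p ≫ fst _ _) (𝟙 _) ≫ f A (p ≫ snd _ _) := by
          rw [h1, ← Category.assoc, lift_whiskerLeft, ← Category.assoc, comp_lift, hc]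
          simp
        exact congrArg CommaMorphism.left h2)
    refine ⟨F, GrassLib.hom_ext_points fun A p => ?_⟩
    show p ≫ (toAffOf G ▷ Y) ≫ F = p ≫ g
    have e : (p ≫ (toAffOf G ▷ Y)) ≫ snd _ _ = p ≫ snd _ _ := by simp
    rw [← Category.assoc, hF, e]
    have h3 := congrArg (lift (p ≫ fst _ _) (𝟙 _) ≫ ·) (hf1 A (p ≫ snd _ _))
    simp only [← Category.assoc, lift_whiskerLeft, lift_whiskerRight, Category.id_comp] at h3
    rw [← comp_lift (f := p), lift_fst_snd, Category.comp_id] at h3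
    rw [← h3, Category.assoc p, whiskerRight_fst, ← Category.assoc]

theorem isAffEpi_comp {P Q R : Over (Spec (CommRingCat.of k))} {f : P ⟶ Q} {g : Q ⟶ R} (hf : IsAffEpi f)
    (hg : IsAffEpi g) : IsAffEpi (f ≫ g) := fun W hW => by
  simpa [Function.comp_def, Category.assoc] using (hf W hW).comp (hg W hW)

theorem isAffEpi_iso_comp {P Q R : Over (Spec (CommRingCat.of k))} (f : P ⟶ Q) [IsIso f] {g : Q ⟶ R}
    (hg : IsAffEpi g) : IsAffEpi (f ≫ g) :=
  isAffEpi_comp (fun W _ => ⟨fun a b e => (cancel_epi f).1 e, fun a => ⟨inv f ≫ a, by simp⟩⟩) hg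

theorem isAffEpi_toAffOf : IsAffEpi (toAffOf G) := isAffEpi_of_bijective _ (bijective_appTop_toAffOf G)

theorem isAffEpi_whiskerLeft (Y : Over (Spec (CommRingCat.of k))) : IsAffEpi (Y ◁ toAffOf G) := by
  have e : Y ◁ toAffOf G = (lift (snd Y G) (fst Y G) ≫ toAffOf G ▷ Y) ≫ lift (snd _ _) (fst _ _) := by
    ext <;> simp
  haveI : IsIso (lift (snd Y G) (fst Y G)) := ⟨lift (snd G Y) (fst G Y), by ext <;> simp, by ext <;> simp⟩
  haveI : IsIso (lift (snd (affOf G) Y) (fst (affOf G) Y)) :=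
    ⟨lift (snd Y (affOf G)) (fst Y (affOf G)), by ext <;> simp, by ext <;> simp⟩
  rw [e]
  exact isAffEpi_comp (isAffEpi_iso_comp _ (isAffEpi_whisker G Y))
    (fun W _ => ⟨fun a b h => (cancel_epi (lift (snd (affOf G) Y) (fst (affOf G) Y))).1 h,
      fun a => ⟨inv (lift (snd (affOf G) Y) (fst (affOf G) Y)) ≫ a, by simp⟩⟩)

theorem isAffEpi_tensor : IsAffEpi (toAffOf G ⊗ₘ toAffOf G) := by
  rw [tensorHom_def]
  exact isAffEpi_comp (isAffEpi_whisker G G) (isAffEpi_whiskerLeft G (affOf G))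

/-- The affine hull of an algebraic group is a group and the canonical map a homomorphism. -/
theorem exists_grpObj [GrpObj G] : ∃ _ : GrpObj (affOf G), IsMonHom (toAffOf G) := by
  let ρ := toAffOf G
  have hA : IsAffine (affOf G).left := inferInstance
  obtain ⟨m, hm⟩ := ((isAffEpi_tensor G) (affOf G) hA).2 (μ[G] ≫ ρ)
  obtain ⟨v, hv⟩ := ((isAffEpi_toAffOf G) (affOf G) hA).2 (ι[G] ≫ ρ)
  simp only at hm hv
  have e1 := isAffEpi_whiskerLeft G (𝟙_ (Over (Spec (CommRingCat.of k))))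
  have e2 := isAffEpi_whisker G (𝟙_ (Over (Spec (CommRingCat.of k))))
  have e3 : IsAffEpi ((ρ ⊗ₘ ρ) ⊗ₘ ρ) := by
    rw [tensorHom_def]
    refine isAffEpi_comp ?_ (isAffEpi_whiskerLeft G _)
    rw [tensorHom_def, comp_whiskerRight]
    refine isAffEpi_comp ?_ ?_
    · have e : (toAffOf G ▷ G) ▷ G = ((α_ G G G).hom ≫ toAffOf G ▷ (G ⊗ G)) ≫ (α_ (affOf G) G G).inv := by
        simp [MonoidalCategory.whiskerRight_tensor]
      rw [e]
      exact isAffEpi_comp (isAffEpi_iso_comp _ (isAffEpi_whisker G _))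
        (fun W _ => ⟨fun a b h => (cancel_epi (α_ (affOf G) G G).inv).1 h, fun a => ⟨(α_ (affOf G) G G).hom ≫ a, by simp⟩⟩)
    · have e : (affOf G ◁ toAffOf G) ▷ G = ((α_ (affOf G) G G).hom ≫ affOf G ◁ (toAffOf G ▷ G)) ≫ (α_ (affOf G) (affOf G) G).inv := by
        simp [whisker_assoc]
      rw [e]
      refine isAffEpi_comp (isAffEpi_iso_comp _ ?_)
        (fun W _ => ⟨fun a b h => (cancel_epi (α_ (affOf G) (affOf G) G).inv).1 h,
          fun a => ⟨(α_ (affOf G) (affOf G) G).hom ≫ a, by simp⟩⟩)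
      have e' : affOf G ◁ (toAffOf G ▷ G) =
          (lift (fst _ _) (lift (snd _ _ ≫ snd G G) (snd _ _ ≫ fst G G)) ≫ (α_ (affOf G) G G).inv ≫
            ((affOf G ⊗ G) ◁ toAffOf G)) ≫
            lift (fst _ _ ≫ fst _ _) (lift (snd _ _) (fst _ _ ≫ snd _ _)) := by
        ext <;> simp
      rw [e']
      haveI : IsIso (lift (fst (affOf G) (G ⊗ G)) (lift (snd _ _ ≫ snd G G) (snd _ _ ≫ fst G G))) :=
        ⟨lift (fst (affOf G) (G ⊗ G)) (lift (snd _ _ ≫ snd G G) (snd _ _ ≫ fst G G)), by ext <;> simp, by ext <;> simp⟩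
      refine isAffEpi_comp (isAffEpi_iso_comp _ (isAffEpi_iso_comp _ (isAffEpi_whiskerLeft G _))) ?_
      let z : (affOf G ⊗ G) ⊗ affOf G ≅ affOf G ⊗ (affOf G ⊗ G) :=
        { hom := lift (fst _ _ ≫ fst _ _) (lift (snd _ _) (fst _ _ ≫ snd _ _))
          inv := lift (lift (fst _ _) (snd _ _ ≫ snd _ _)) (snd _ _ ≫ fst _ _)
          hom_inv_id := by ext <;> simp
          inv_hom_id := by ext <;> simp }
      haveI : IsIso z.hom := Iso.isIso_hom z
      exact fun W _ => ⟨fun a b h => (cancel_epi z.hom).1 h, fun a => ⟨z.inv ≫ a, z.hom_inv_id_assoc a⟩⟩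
  have h1 : (η[G] ≫ ρ) ▷ affOf G ≫ m = (λ_ (affOf G)).hom := by
    refine (e1 (affOf G) hA).1 ?_
    show (𝟙_ _ ◁ ρ) ≫ (η[G] ≫ ρ) ▷ affOf G ≫ m = (𝟙_ _ ◁ ρ) ≫ (λ_ (affOf G)).hom
    rw [comp_whiskerRight_assoc, whisker_exchange_assoc, whisker_exchange_assoc, ← tensorHom_def_assoc, hm,
      MonObj.one_mul_assoc, leftUnitor_naturality]
  have h2 : affOf G ◁ (η[G] ≫ ρ) ≫ m = (ρ_ (affOf G)).hom := by
    refine (e2 (affOf G) hA).1 ?_
    show (ρ ▷ 𝟙_ _) ≫ affOf G ◁ (η[G] ≫ ρ) ≫ m = (ρ ▷ 𝟙_ _) ≫ (ρ_ (affOf G)).hom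
    rw [MonoidalCategory.whiskerLeft_comp_assoc, ← whisker_exchange_assoc, ← tensorHom_def_assoc, hm,
      MonObj.mul_one_assoc, rightUnitor_naturality]
  have h3 : m ▷ affOf G ≫ m = (α_ _ _ _).hom ≫ affOf G ◁ m ≫ m := by
    refine (e3 (affOf G) hA).1 ?_
    show ((ρ ⊗ₘ ρ) ⊗ₘ ρ) ≫ m ▷ affOf G ≫ m = ((ρ ⊗ₘ ρ) ⊗ₘ ρ) ≫ (α_ _ _ _).hom ≫ affOf G ◁ m ≫ m
    rw [associator_naturality_assoc, ← tensorHom_id, ← id_tensorHom, tensorHom_comp_tensorHom_assoc,
      tensorHom_comp_tensorHom_assoc, hm, Category.comp_id]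
    rw [show (μ[G] ≫ ρ) ⊗ₘ ρ = (μ[G] ▷ G) ≫ (ρ ⊗ₘ ρ) by rw [← tensorHom_id, tensorHom_comp_tensorHom, Category.id_comp],
      show ρ ⊗ₘ (μ[G] ≫ ρ) = (G ◁ μ[G]) ≫ (ρ ⊗ₘ ρ) by rw [← id_tensorHom, tensorHom_comp_tensorHom, Category.id_comp],
      Category.assoc, Category.assoc, hm, MonObj.mul_assoc_assoc]
  have h4 : lift v (𝟙 _) ≫ m = toUnit _ ≫ η[G] ≫ ρ := by
    refine ((isAffEpi_toAffOf G) (affOf G) hA).1 ?_
    show ρ ≫ lift v (𝟙 _) ≫ m = ρ ≫ toUnit _ ≫ η[G] ≫ ρ
    rw [comp_lift_assoc, hv, Category.comp_id, show lift (ι[G] ≫ ρ) ρ = lift ι[G] (𝟙 G) ≫ (ρ ⊗ₘ ρ) by simp,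
      Category.assoc, hm, GrpObj.left_inv_assoc, comp_toUnit_assoc]
  have h5 : lift (𝟙 _) v ≫ m = toUnit _ ≫ η[G] ≫ ρ := by
    refine ((isAffEpi_toAffOf G) (affOf G) hA).1 ?_
    show ρ ≫ lift (𝟙 _) v ≫ m = ρ ≫ toUnit _ ≫ η[G] ≫ ρ
    rw [comp_lift_assoc, hv, Category.comp_id, show lift ρ (ι[G] ≫ ρ) = lift (𝟙 G) ι[G] ≫ (ρ ⊗ₘ ρ) by simp,
      Category.assoc, hm, GrpObj.right_inv_assoc, comp_toUnit_assoc]
  letI g : GrpObj (affOf G) :=
    { one := η[G] ≫ ρ, mul := m, inv := v, one_mul := h1, mul_one := h2, mul_assoc := h3,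
      left_inv := h4, right_inv := h5 }
  exact ⟨g, ⟨rfl, hm.symm⟩⟩

theorem surjective_toAffOf [GrpObj G] [GrpObj (affOf G)] [IsMonHom (toAffOf G)]
    [IsOpenImmersion (toAffOf G).left] [IsSchemeTheoreticallyDominant (toAffOf G).left] :
    Surjective (toAffOf G).left := ⟨fun y => by
    let T : Over (Spec (CommRingCat.of k)) := Over.mk ((affOf G).left.fromSpecResidueField y ≫ (affOf G).hom)
    let h : T ⟶ affOf G := Over.homMk ((affOf G).left.fromSpecResidueField y)
    haveI : Flat T.hom := GrpdLib.flat_to_field T.hom k (Iso.refl _)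
    haveI : Flat (snd T (affOf G)).left := inferInstanceAs (Flat (pullback.snd T.hom (affOf G).hom))
    let ψ : T ⊗ affOf G ≅ T ⊗ affOf G :=
      { hom := lift (fst _ _) ((fst _ _ ≫ h)⁻¹ * snd _ _)
        inv := lift (fst _ _) ((fst _ _ ≫ h) * snd _ _)
        hom_inv_id := by
          refine CartesianMonoidalCategory.hom_ext _ _ (by simp) ?_
          rw [Category.assoc, lift_snd, MonObj.comp_mul, ← Category.assoc, lift_fst, lift_snd,
            mul_inv_cancel_left, Category.id_comp]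
        inv_hom_id := by
          refine CartesianMonoidalCategory.hom_ext _ _ (by simp) ?_
          rw [Category.assoc, lift_snd, MonObj.comp_mul, GrpObj.comp_inv, ← Category.assoc, lift_fst, lift_snd,
            inv_mul_cancel_left, Category.id_comp] }
    let R := (snd T (affOf G)).left
    let V₁ : (T ⊗ affOf G).left.Opens := R ⁻¹ᵁ (toAffOf G).left.opensRange
    let V₂ : (T ⊗ affOf G).left.Opens := ψ.hom.left ⁻¹ᵁ V₁
    have hd : Dense (V₁ : Set (T ⊗ affOf G).left) := by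
      have hsq : IsPullback (snd T G).left (T ◁ toAffOf G).left (toAffOf G).left R := by
        refine IsPullback.of_bot ?_ (congrArg CommaMorphism.left (whiskerLeft_snd T (toAffOf G))).symm
          (IsPullback.of_hasPullback T.hom (affOf G).hom).flip
        have e1 : (T ◁ toAffOf G).left ≫ pullback.fst T.hom (affOf G).hom = pullback.fst T.hom G.hom :=
          congrArg CommaMorphism.left (whiskerLeft_fst T (toAffOf G))
        rw [e1, Over.w]
        exact (IsPullback.of_hasPullback T.hom G.hom).flip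
      haveI : IsSchemeTheoreticallyDominant (T ◁ toAffOf G).left := IsSchemeTheoreticallyDominant.of_isPullback hsq
      haveI : QuasiCompact (toAffOf G).left := inferInstanceAs (QuasiCompact G.left.toSpecΓ)
      haveI : QuasiCompact (T ◁ toAffOf G).left := MorphismProperty.of_isPullback (P := @QuasiCompact) hsq ‹_›
      haveI : IsDominant (T ◁ toAffOf G).left := inferInstance
      refine ((T ◁ toAffOf G).left.denseRange).mono ?_
      rintro _ ⟨z, rfl⟩
      exact ⟨(snd T G).left z, congr($(hsq.w) z)⟩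
    haveI : IsIso ψ.hom.left := ⟨ψ.inv.left, congrArg CommaMorphism.left ψ.hom_inv_id, congrArg CommaMorphism.left ψ.inv_hom_id⟩
    obtain ⟨z₀, hz₀⟩ : (V₁ : Set (T ⊗ affOf G).left).Nonempty := by
      haveI : Nonempty T.left := inferInstanceAs (Nonempty (Spec _))
      exact hd.nonempty_iff.2 ⟨(lift (𝟙 T) (toUnit T ≫ η[affOf G])).left (Classical.arbitrary _)⟩
    have hV₂ : (V₂ : Set (T ⊗ affOf G).left).Nonempty := by
      refine ⟨(inv ψ.hom.left) z₀, ?_⟩
      show ψ.hom.left ((inv ψ.hom.left) z₀) ∈ V₁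
      rw [← Scheme.Hom.comp_apply, IsIso.inv_hom_id]
      exact hz₀
    obtain ⟨z, hz2, hz1⟩ := hd.inter_open_nonempty _ V₂.isOpen hV₂
    let P : Over (Spec (CommRingCat.of k)) := Over.mk ((T ⊗ affOf G).left.fromSpecResidueField z ≫ (T ⊗ affOf G).hom)
    let q : P ⟶ T ⊗ affOf G := Over.homMk ((T ⊗ affOf G).left.fromSpecResidueField z)
    have hl : ∀ (f : P ⟶ affOf G), (∀ s, f.left s ∈ (toAffOf G).left.opensRange) → ∃ g : P ⟶ G, g ≫ toAffOf G = f :=
      fun f hf => by
        refine ⟨Over.homMk (IsOpenImmersion.lift (toAffOf G).left f.left (by rintro _ ⟨s, rfl⟩; exact hf s)) ?_,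
          Over.OverMorphism.ext (IsOpenImmersion.lift_fac _ _ _)⟩
        rw [← Over.w (toAffOf G), IsOpenImmersion.lift_fac_assoc, Over.w f]
    have hq : ∀ s, q.left s = z := fun s => Scheme.fromSpecResidueField_apply _ _
    obtain ⟨a, ha⟩ := hl (q ≫ snd _ _) (fun s => by
      show (snd T (affOf G)).left (q.left s) ∈ _
      rw [hq]; exact hz1)
    obtain ⟨b, hb⟩ := hl (q ≫ ψ.hom ≫ snd _ _) (fun s => by
      show (snd T (affOf G)).left (ψ.hom.left (q.left s)) ∈ _
      rw [hq]; exact hz2)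
    have key : (q ≫ fst _ _) ≫ h = (a * b⁻¹) ≫ toAffOf G := by
      rw [MonObj.mul_comp, GrpObj.inv_comp, ha, hb]
      show _ = (q ≫ snd _ _) * (q ≫ lift (fst _ _) ((fst _ _ ≫ h)⁻¹ * snd _ _) ≫ snd _ _)⁻¹
      rw [lift_snd, MonObj.comp_mul, GrpObj.comp_inv, _root_.mul_inv_rev, _root_.inv_inv, mul_inv_cancel_left, Category.assoc]
    obtain ⟨s⟩ : Nonempty P.left := inferInstanceAs (Nonempty (Spec _))
    have hy : h.left ((q ≫ fst T (affOf G)).left s) = y :=
      Scheme.fromSpecResidueField_apply y ((q ≫ fst T (affOf G)).left s)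
    have h2 : ((q ≫ fst T (affOf G)) ≫ h).left s = ((a * b⁻¹) ≫ toAffOf G).left s :=
      congrArg (fun f : P ⟶ affOf G => f.left s) key
    rw [Over.comp_left (f := q ≫ fst T (affOf G)) (g := h), Over.comp_left (f := a * b⁻¹) (g := toAffOf G),
      Scheme.Hom.comp_apply, Scheme.Hom.comp_apply, hy] at h2
    exact ⟨(a * b⁻¹).left s, h2.symm⟩⟩

/-- A quasi-affine algebraic group is affine. -/
theorem isAffine_of_isQuasiAffine [GrpObj G] [G.left.IsQuasiAffine] : IsAffine G.left := by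
  obtain ⟨_, _⟩ := exists_grpObj G
  haveI : IsOpenImmersion (toAffOf G).left := inferInstanceAs (IsOpenImmersion G.left.toSpecΓ)
  haveI : IsSchemeTheoreticallyDominant (toAffOf G).left := ⟨G.left.ker_toSpecΓ⟩
  haveI : Mono (toAffOf G) := Over.mono_of_mono_left _
  haveI : Surjective (toAffOf G).left := surjective_toAffOf G
  haveI : IsIso (toAffOf G).left := (isIso_iff_isOpenImmersion_and_epi_base _).2 ⟨inferInstance,
    (TopCat.epi_iff_surjective _).2 (toAffOf G).left.surjective⟩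
  exact IsAffine.of_isIso (toAffOf G).left

end Groth.Agent.AlgGrpLib.AffineHull
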