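import Groth.Agent.AlgGrpLib.AffineHull
import Groth.Agent.HopfQuot.SchemeQuot
import Groth.Agent.HopfLib.SubHopf
import Groth.Agent.GrpQLib.GraphImage
import Groth.Agent.AlgGrpLib.SubgroupCalc
import Groth.Agent.GrpdLib.SmoothOverField
import Groth.Agent.SGA3cLib.MonoClosed
import Groth.Agent.FlatLocal.Descent
import Groth.Agent.S7995

/-! The affine hull of an algebraic group is of finite type and the canonical map is faithfully flat. -/

universe u

set_option autoImplicit false
set_option backward.isDefEq.respectTransparency.types false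
set_option maxHeartbeats 800000

open CategoryTheory CategoryTheory.Limits MonoidalCategory CartesianMonoidalCategory MonObj GrpObj AlgebraicGeometry
open WithConv
open Groth.Agent.HopfQuot

namespace Groth.Agent.AlgGrpLib.AffineHull

variable {k : Type u} [Field k] {A : Type u} [CommRing A] [HopfAlgebra k A]

theorem exists_val_bialgHom {B : Subalgebra k A} (hB : HopfLib.IsSubHopf k A B) :
    letI := HopfLib.subHopf hB
    ∃ incl : B →ₐc[k] A, ∀ b : B, incl b = (b : A) := by
  letI := HopfLib.subHopf hB
  exact ⟨BialgHom.ofAlgHom B.val (AlgHom.ext fun b => rfl) (AlgHom.ext fun b => HopfLib.map_subComul hB b),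
    fun b => rfl⟩

theorem exists_incl_bialgHom {B B' : Subalgebra k A} (hB : HopfLib.IsSubHopf k A B)
    (hB' : HopfLib.IsSubHopf k A B') (h : B ≤ B') :
    letI := HopfLib.subHopf hB
    letI := HopfLib.subHopf hB'
    ∃ incl : B →ₐc[k] B', ∀ b : B, ((incl b : B') : A) = (b : A) := by
  letI := HopfLib.subHopf hB
  letI := HopfLib.subHopf hB'
  refine ⟨BialgHom.ofAlgHom (Subalgebra.inclusion h) (AlgHom.ext fun b => rfl) (AlgHom.ext fun b => ?_), fun b => rfl⟩
  apply HopfLib.map_val_injective (B := B')
  show Algebra.TensorProduct.map B'.val B'.val (Algebra.TensorProduct.map _ _ (HopfLib.subComul hB b)) =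
    Algebra.TensorProduct.map B'.val B'.val (HopfLib.subComul hB' (Subalgebra.inclusion h b))
  rw [HopfLib.map_subComul, ← AlgHom.comp_apply, ← Algebra.TensorProduct.map_comp]
  exact HopfLib.map_subComul hB b

variable {G : Over (Spec (CommRingCat.of k))} [GrpObj G] (r : G ⟶ spec (k := k) A) [IsMonHom r]

theorem appTop_injective_comp (hr : Function.Injective r.left.appTop) {B : Type u} [CommRing B] [HopfAlgebra k B]
    (incl : B →ₐc[k] A) (hincl : Function.Injective incl) : Function.Injective (r ≫ specHom incl).left.appTop := by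
  intro x y e
  rw [Over.comp_left, Scheme.Hom.comp_appTop, CommRingCat.comp_apply, CommRingCat.comp_apply] at e
  have h1 := hr e
  have e2 := Scheme.ΓSpecIso_naturality (CommRingCat.ofHom (incl : B →+* A))
  apply (Scheme.ΓSpecIso (CommRingCat.of B)).commRingCatIsoToRingEquiv.injective
  apply hincl
  have hx := congrArg (fun m => m.hom x) e2
  have hy := congrArg (fun m => m.hom y) e2
  exact hx.symm.trans ((congrArg _ h1).trans hy)

instance isAffineHom_spec {B : Type u} [CommRing B] [HopfAlgebra k B] : IsAffineHom (spec (k := k) B).hom :=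
  inferInstanceAs (IsAffineHom (Spec.map (CommRingCat.ofHom (algebraMap k B))))

variable [LocallyOfFiniteType G.hom] [QuasiCompact G.hom]

theorem surjective_flat_comp (hr : Function.Injective r.left.appTop) {B : Type u} [CommRing B] [HopfAlgebra k B]
    [Algebra.FiniteType k B] (incl : B →ₐc[k] A) (hincl : Function.Injective incl) :
    Surjective (r ≫ specHom incl).left ∧ Flat (r ≫ specHom incl).left := by
  haveI : LocallyOfFinitePresentation G.hom := LocallyOfFinitePresentation.iff_locallyOfFiniteType.2 ‹_›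
  haveI hB : LocallyOfFiniteType (spec (k := k) B).hom :=
    (HasRingHomProperty.Spec_iff (P := @LocallyOfFiniteType) (φ := CommRingCat.ofHom (algebraMap k B))).2
      (RingHom.finiteType_algebraMap.2 inferInstance)
  let u := r ≫ specHom incl
  obtain ⟨Q, _, p, i, hp, hi, hpi, hps, hpf, hpl, hmono, hQ, -⟩ :=
    GrpQLib.exists_image u (GrpdLib.flat_to_field _ k (Iso.refl _))
  haveI : QuasiCompact (p.left ≫ Q.hom) := by rw [Over.w]; infer_instance
  haveI : QuasiCompact Q.hom := FlatMorThick.quasiCompact_of_comp_surjective p.left Q.hom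
  haveI : QuasiCompact (i.left ≫ (spec (k := k) B).hom) := by rw [Over.w]; infer_instance
  haveI : QuasiCompact i.left := QuasiCompact.of_comp i.left (spec (k := k) B).hom
  haveI : IsClosedImmersion i.left := SGA3cLib.isClosedImmersion_of_mono i
  haveI : IsAffine (spec (k := k) B).left := inferInstanceAs (IsAffine (Spec _))
  have hker : u.left.ker = ⊥ := by
    rw [Scheme.ker_of_isAffine, (RingHom.injective_iff_ker_eq_bot _).1 (appTop_injective_comp r hr incl hincl)]
    exact eq_bot_iff.mpr fun U => by rw [Scheme.IdealSheafData.ofIdealTop_ideal, Ideal.map_bot]; exact bot_le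
  haveI : IsIso i.left := IsClosedImmersion.isIso_iff_ker_eq_bot.2 (eq_bot_iff.2 (by
    rw [← hker, show u.left = p.left ≫ i.left by rw [← Over.comp_left, hpi]]
    exact Scheme.Hom.le_ker_comp _ _))
  haveI := hps; haveI := hpf
  show Surjective u.left ∧ Flat u.left
  rw [show u.left = p.left ≫ i.left by rw [← Over.comp_left, hpi]]
  exact ⟨inferInstance, MorphismProperty.comp_mem @Flat _ _ hpf inferInstance⟩

/-- Finitely many functions detect the kernel. -/
theorem exists_finset_detecting (F : Set Γ(G.left, ⊤)) :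
    ∃ s : Finset Γ(G.left, ⊤), (s : Set _) ⊆ F ∧ ∀ {T : Scheme.{u}} (g : T ⟶ G.left),
      (∀ x ∈ s, g.appTop x = 0) → ∀ x ∈ F, g.appTop x = 0 := by
  classical
  haveI : CompactSpace G.left := QuasiCompact.compactSpace_of_compactSpace G.hom
  haveI : IsLocallyNoetherian G.left := LocallyOfFiniteType.isLocallyNoetherian G.hom
  let 𝒰 := G.left.affineCover.finiteSubcover
  let V : 𝒰.I₀ → G.left.Opens := fun i => (𝒰.f i).opensRange
  have hV : ∀ i, IsAffineOpen (V i) := fun i => isAffineOpen_opensRange _
  have hs : ∀ i, ∃ t : Finset Γ(G.left, ⊤), (t : Set _) ⊆ F ∧ ∀ x ∈ F,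
      G.left.presheaf.map (homOfLE le_top : V i ⟶ ⊤).op x ∈
        Ideal.span ((G.left.presheaf.map (homOfLE le_top : V i ⟶ ⊤).op) '' (t : Set _)) := by
    intro i
    haveI : IsNoetherianRing Γ(G.left, V i) := IsLocallyNoetherian.component_noetherian ⟨V i, hV i⟩
    let φ := (G.left.presheaf.map (homOfLE le_top : V i ⟶ ⊤).op)
    obtain ⟨c, hc, hce⟩ := Submodule.fg_span_iff_fg_span_finset_subset (φ '' F) |>.1
      (IsNoetherian.noetherian (Ideal.span (φ '' F)))
    obtain ⟨t, htF, htc⟩ := Finset.subset_set_image_iff.1 hc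
    refine ⟨t, htF, fun x hx => ?_⟩
    have : φ x ∈ Ideal.span (φ '' F) := Ideal.subset_span ⟨x, hx, rfl⟩
    rw [Ideal.span, hce, ← htc, Finset.coe_image] at this
    exact this
  choose t htF ht using hs
  refine ⟨Finset.univ.biUnion t, by simpa using htF, fun {T} g hg x hx => ?_⟩
  refine TopCat.Sheaf.eq_of_locally_eq' T.sheaf (fun i => g ⁻¹ᵁ V i) ⊤ (fun i => homOfLE le_top) ?_ _ _ fun i => ?_
  · intro z _
    obtain ⟨i, y, hy⟩ := 𝒰.exists_eq (g z)
    exact TopologicalSpace.Opens.mem_iSup.2 ⟨i, y, hy⟩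
  · have key : ∀ y, T.presheaf.map (homOfLE le_top : g ⁻¹ᵁ V i ⟶ ⊤).op (g.appTop y) =
        g.app (V i) (G.left.presheaf.map (homOfLE le_top : V i ⟶ ⊤).op y) := fun y =>
      (congr($(g.naturality (homOfLE le_top : V i ⟶ ⊤).op) y)).symm
    show T.presheaf.map (homOfLE le_top : g ⁻¹ᵁ V i ⟶ ⊤).op (g.appTop x) = T.presheaf.map _ 0
    rw [map_zero, key]
    have hmap : (Ideal.span ((G.left.presheaf.map (homOfLE le_top : V i ⟶ ⊤).op) '' (t i : Set _))).map
        (g.app (V i)).hom ≤ ⊥ := by
      rw [Ideal.map_span, Ideal.span_le]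
      rintro _ ⟨_, ⟨y, hy, rfl⟩, rfl⟩
      show g.app (V i) _ = 0
      rw [← key, hg y (Finset.mem_biUnion.2 ⟨i, Finset.mem_univ i, hy⟩), map_zero]
    exact Ideal.mem_bot.1 (hmap (Ideal.mem_map_of_mem _ (ht i x hx)))

theorem exists_subHopf_detecting :
    ∃ (B : Subalgebra k A) (_ : B.FG) (hB : HopfLib.IsSubHopf k A B),
      ∀ {B' : Subalgebra k A} (hB' : HopfLib.IsSubHopf k A B'), B ≤ B' →
        letI := HopfLib.subHopf hB'
        ∀ (incl : B' →ₐc[k] A), (∀ b, incl b = (b : A)) → ∀ {T : Over (Spec (CommRingCat.of k))} (g : T ⟶ G),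
          g ≫ r ≫ specHom incl = 1 → g ≫ r = 1 := by
  classical
  let F : A → Γ(G.left, ⊤) := fun a =>
    r.left.appTop ((Scheme.ΓSpecIso (CommRingCat.of A)).inv (a - algebraMap k A (CoalgebraStruct.counit (R := k) a)))
  obtain ⟨s, hsF, hs⟩ := exists_finset_detecting (G := G) (Set.range F)
  obtain ⟨s', -, hs'⟩ := Finset.subset_set_image_iff.1 (show (s : Set _) ⊆ F '' Set.univ by rwa [Set.image_univ])
  obtain ⟨B, hsB, hfg, hB⟩ := HopfLib.exists_fg_isSubHopf (k := k) (s' : Set A) s'.finite_toSet
  refine ⟨B, hfg, hB, fun {B'} hB' hle => ?_⟩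
  letI := HopfLib.subHopf hB'
  intro incl hincl T g hg
  refine GrassLib.hom_ext_points fun R p => ?_
  rw [MonObj.comp_one]
  obtain ⟨z, hz⟩ := (ptSpec (k := k) (A := A) (T := R)).surjective (p ≫ g ≫ r)
  refine hz.symm.trans ?_
  refine Eq.trans ?_ (map_one (ptSpec (k := k) (A := A) (T := R)))
  refine congrArg _ (WithConv.ext (AlgHom.ext fun a => ?_))
  have hz' : ∀ c : A, z.ofConv c =
      (Scheme.ΓSpecIso (CommRingCat.of R)).hom ((p ≫ g).left.appTop (r.left.appTop ((Scheme.ΓSpecIso (CommRingCat.of A)).inv c))) := by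
    intro c
    have e1 : Spec.map (CommRingCat.ofHom z.ofConv.toRingHom) = (p ≫ g).left ≫ r.left := by
      rw [← Over.comp_left, Category.assoc]; exact congrArg CommaMorphism.left hz
    have e2 := congr($(congrArg Scheme.Hom.appTop e1) ((Scheme.ΓSpecIso (CommRingCat.of A)).inv c))
    refine Eq.trans ?_ (congrArg _ e2)
    have e3 := congr($(Scheme.ΓSpecIso_naturality (CommRingCat.ofHom z.ofConv.toRingHom)) ((Scheme.ΓSpecIso (CommRingCat.of A)).inv c))
    refine (Eq.trans e3 ?_).symm
    exact congrArg z.ofConv (congr($((Scheme.ΓSpecIso (CommRingCat.of A)).inv_hom_id) c))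
  have hB0 : ∀ b : B', z.ofConv (b : A) = algebraMap k R (CoalgebraStruct.counit (R := k) (b : A)) := by
    intro b
    have h1 : ptSpec z ≫ specHom incl = 1 := by
      rw [hz, Category.assoc, Category.assoc, hg, MonObj.comp_one]
    have h2 := (ptSpec_comp incl z).symm.trans h1
    rw [← map_one (ptSpec (k := k) (A := B') (T := R))] at h2
    have h3 := congr(($((ptSpec (k := k) (A := B') (T := R)).injective h2)).ofConv b)
    rw [← hincl b]
    refine h3.trans ?_
    rw [HopfQuot.one_apply]
    exact congrArg _ (CoalgHomClass.counit_comp_apply incl b).symm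
  have hF : ∀ c, (Scheme.ΓSpecIso (CommRingCat.of R)).hom ((p ≫ g).left.appTop (F c)) =
      z.ofConv c - algebraMap k R (CoalgebraStruct.counit (R := k) c) := fun c => by
    rw [← hz' (c - _), map_sub, AlgHom.commutes]
  have key := hs (p ≫ g).left (fun x hx => by
    rw [← hs'] at hx
    obtain ⟨c, hc, rfl⟩ := Finset.mem_image.1 hx
    apply (ConcreteCategory.bijective_of_isIso (Scheme.ΓSpecIso (CommRingCat.of R)).hom).1
    rw [map_zero, hF, hB0 ⟨c, hle (hsB hc)⟩, sub_self]) (F a) ⟨a, rfl⟩
  have h0 := congrArg (Scheme.ΓSpecIso (CommRingCat.of R)).hom key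
  rw [map_zero, hF, sub_eq_zero] at h0
  rw [h0, HopfQuot.one_apply]

theorem finiteType_and_ff (hr : Function.Injective r.left.appTop) :
    Algebra.FiniteType k A ∧ Surjective r.left ∧ Flat r.left := by
  classical
  obtain ⟨B, hfg, hB, hdet⟩ := exists_subHopf_detecting r
  have htop : B = ⊤ := by
    refine Algebra.eq_top_iff.2 fun a => ?_
    obtain ⟨s, hs⟩ := hfg
    obtain ⟨B', hsB', hfg', hB'⟩ := HopfLib.exists_fg_isSubHopf (k := k) ((insert a s : Finset A) : Set A)
      (Finset.finite_toSet _)
    have hle : B ≤ B' := by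
      rw [← hs, Algebra.adjoin_le_iff]
      exact (Finset.coe_subset.2 (Finset.subset_insert a s)).trans hsB'
    letI := HopfLib.subHopf hB
    letI := HopfLib.subHopf hB'
    haveI : Algebra.FiniteType k B := (Subalgebra.fg_iff_finiteType B).1 ⟨s, hs⟩
    haveI : Algebra.FiniteType k B' := (Subalgebra.fg_iff_finiteType B').1 hfg'
    obtain ⟨jB, hjB⟩ := exists_val_bialgHom hB
    obtain ⟨jB', hjB'⟩ := exists_val_bialgHom hB'
    obtain ⟨j, hj⟩ := exists_incl_bialgHom hB hB' hle
    have hcomp : specHom jB' ≫ specHom j = specHom jB := by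
      refine Over.OverMorphism.ext ?_
      rw [Over.comp_left, specHom_left, specHom_left, specHom_left]
      refine (Spec.map_comp _ _).symm.trans (congrArg Spec.map (CommRingCat.hom_ext (RingHom.ext fun b => ?_)))
      show jB' (j b) = jB b
      rw [hjB', hjB, hj]
    obtain ⟨hsu, hfu⟩ := surjective_flat_comp r hr jB' (fun x y e => Subtype.ext (by rw [← hjB', ← hjB', e]))
    obtain ⟨hs0, hf0⟩ := surjective_flat_comp r hr jB (fun x y e => Subtype.ext (by rw [← hjB, ← hjB, e]))
    let u := r ≫ specHom jB'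
    haveI : Surjective u.left := hsu
    haveI : Flat u.left := hfu
    haveI : LocallyOfFiniteType (spec (k := k) B').hom :=
      (HasRingHomProperty.Spec_iff (P := @LocallyOfFiniteType) (φ := CommRingCat.ofHom (algebraMap k B'))).2
        (RingHom.finiteType_algebraMap.2 inferInstance)
    haveI : LocallyOfFiniteType (spec (k := k) B).hom :=
      (HasRingHomProperty.Spec_iff (P := @LocallyOfFiniteType) (φ := CommRingCat.ofHom (algebraMap k B))).2
        (RingHom.finiteType_algebraMap.2 inferInstance)
    haveI : QuasiCompact (u.left ≫ (spec (k := k) B').hom) := by rw [Over.w]; infer_instance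
    haveI : QuasiCompact u.left := QuasiCompact.of_comp u.left (spec (k := k) B').hom
    haveI : Surjective (u.left ≫ (specHom j).left) := by
      rw [← Over.comp_left, show u ≫ specHom j = r ≫ specHom jB by rw [Category.assoc, hcomp]]; exact hs0
    haveI : Flat (u.left ≫ (specHom j).left) := by
      rw [← Over.comp_left, show u ≫ specHom j = r ≫ specHom jB by rw [Category.assoc, hcomp]]; exact hf0
    haveI : Surjective (specHom j).left := Surjective.of_comp u.left (specHom j).left
    haveI : Flat (specHom j).left := FlatLocal.flat_of_comp u.left (specHom j).left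
    haveI : Mono (specHom j) := ⟨fun {T} x y e => by
      have h1 : (x⁻¹ * y) ≫ specHom j = 1 := by
        rw [MonObj.mul_comp, GrpObj.inv_comp, e, inv_mul_cancel]
      obtain ⟨T', c, g, _, _, _, hg⟩ := exists_lift_cover u (x⁻¹ * y)
      haveI : Epi c := Over.epi_of_epi_left _
      have h2 : g ≫ r ≫ specHom jB = 1 := by
        rw [← hcomp, ← Category.assoc r, ← Category.assoc g, hg, Category.assoc, h1, MonObj.comp_one]
      have h3 : x⁻¹ * y = 1 := by
        rw [← cancel_epi c, ← hg, MonObj.comp_one]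
        show g ≫ r ≫ specHom jB' = 1
        rw [← Category.assoc, hdet hB le_rfl jB hjB g h2, MonObj.one_comp]
      exact inv_mul_eq_one.1 h3⟩
    haveI := S7995.result k (spec (k := k) B') (spec (k := k) B) (specHom j)
    haveI : IsIso (specHom j).left := inferInstanceAs (IsIso ((Over.forget _).map (specHom j)))
    rw [specHom_left] at *
    have hjbij : Function.Bijective j := by
      have h := (isIso_SpecMap_iff (f := CommRingCat.ofHom (j : B →+* B'))).1 ‹IsIso (Spec.map (CommRingCat.ofHom (j : B →+* B')))›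
      exact h
    obtain ⟨b, hb⟩ := hjbij.2 ⟨a, hsB' (by simp)⟩
    have := congrArg Subtype.val hb
    rw [hj] at this
    rw [show a = (b : A) from this.symm]
    exact b.2
  subst htop
  haveI hft : Algebra.FiniteType k A := ⟨hfg⟩
  obtain ⟨h1, h2⟩ := surjective_flat_comp r hr (BialgHom.id k A) fun _ _ e => e
  have e : specHom (BialgHom.id k A) = 𝟙 _ := Over.OverMorphism.ext (Spec.map_id _)
  rw [e, Category.comp_id] at h1 h2
  exact ⟨hft, h1, h2⟩

end Groth.Agent.AlgGrpLib.AffineHull
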