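import Groth.Agent.AlgGrpLib.AffineToProper

/-!
# The image of a homomorphism out of an affine group
-/

set_option autoImplicit false
set_option linter.style.haveILetI false
set_option backward.isDefEq.respectTransparency.types false

universe u

open CategoryTheory CategoryTheory.Limits MonoidalCategory CartesianMonoidalCategory MonObj GrpObj AlgebraicGeometry

namespace Groth.Agent.AlgGrpLib.AffineImage

variable {k : Type u} [Field k] {G A : Over (Spec (CommRingCat.of k))} [GrpObj G] [GrpObj A]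

/-- Factor a homomorphism out of an affine group through a quotient and a closed immersion. -/
theorem exists_image [IsAffine G.left] [LocallyOfFiniteType G.hom] [LocallyOfFiniteType A.hom] [IsSeparated A.hom]
    (f : G ⟶ A) [IsMonHom f] :
    ∃ (Q : Over (Spec (CommRingCat.of k))) (_ : GrpObj Q) (q : G ⟶ Q) (g : Q ⟶ A)
      (N : Over (Spec (CommRingCat.of k))) (_ : GrpObj N) (i : N ⟶ G),
      IsMonHom q ∧ IsMonHom g ∧ IsMonHom i ∧ IsClosedImmersion g.left ∧ IsAffine Q.left ∧ LocallyOfFiniteType Q.hom ∧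
        Flat q.left ∧ Surjective q.left ∧ q ≫ g = f ∧ AlgGrp.IsKernel i q ∧ AlgGrp.IsKernel i f := by
  obtain ⟨N, gN, i, hi, hic, hk, hn⟩ := AffineToProper.exists_kernel f
  letI := gN
  haveI := hi
  haveI := hic
  obtain ⟨Q', gQ', q, hq, haff, hlft, hqf, hqs, hk'⟩ := Groth.Agent.S3278.result k G N i hn
  letI := gQ'
  haveI := hq
  haveI := haff
  haveI := hlft
  haveI := hqf
  haveI := hqs
  haveI : QuasiCompact G.hom := inferInstance
  haveI : QuasiCompact q.left := quasiCompact_left q
  haveI : Epi q.left := Flat.epi_of_flat_of_surjective _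
  haveI : Epi q := Over.epi_of_epi_left _
  obtain ⟨g, hg⟩ := ExactSeqBasics.exists_desc q hk' f (kernel_comp hk)
  haveI : IsMonHom g := by
    refine SGA3cLib.BCPoints.isMonHom_of_mul g fun T x y => ?_
    obtain ⟨T₁, c₁, x', _, _, _, hx⟩ := exists_lift_cover q x
    obtain ⟨T₂, c₂, y', _, _, _, hy⟩ := exists_lift_cover q (c₁ ≫ y)
    haveI : Epi c₁.left := Flat.epi_of_flat_of_surjective _
    haveI : Epi c₂.left := Flat.epi_of_flat_of_surjective _
    haveI : Epi c₁ := Over.epi_of_epi_left _
    haveI : Epi c₂ := Over.epi_of_epi_left _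
    rw [← cancel_epi c₁, ← cancel_epi c₂]
    have h1 : c₂ ≫ c₁ ≫ x = (c₂ ≫ x') ≫ q := by rw [Category.assoc, hx]
    have h2 : c₂ ≫ c₁ ≫ y = y' ≫ q := hy.symm
    simp only [MonObj.comp_mul, ← Category.assoc, ← MonObj.mul_comp] at h1 h2 ⊢
    rw [h1, h2, ← MonObj.mul_comp, Category.assoc, hg, MonObj.mul_comp]
    simp only [Category.assoc, hg]
  haveI : Mono g := ⟨fun {T} x y hxy => by
    have h1 : (x * y⁻¹) ≫ g = 1 := by rw [MonObj.mul_comp, GrpObj.inv_comp, hxy, mul_inv_cancel]
    obtain ⟨T₁, c, z, _, _, _, hz⟩ := exists_lift_cover q (x * y⁻¹)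
    haveI : Epi c.left := Flat.epi_of_flat_of_surjective _
    haveI : Epi c := Over.epi_of_epi_left _
    have h2 : z ≫ f = 1 := by rw [← hg, ← Category.assoc, hz, Category.assoc, h1, MonObj.comp_one]
    obtain ⟨n, rfl⟩ := exists_lift_kernel hk h2
    rw [Category.assoc, kernel_comp hk', MonObj.comp_one] at hz
    have : x * y⁻¹ = 1 := by rw [← cancel_epi c, ← hz, MonObj.comp_one]
    exact mul_inv_eq_one.1 this⟩
  haveI : QuasiCompact Q'.hom := inferInstance
  haveI : QuasiCompact g.left := quasiCompact_left g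
  exact ⟨Q', gQ', q, g, N, gN, i, hq, inferInstance, hi, SGA3cLib.isClosedImmersion_of_mono g, haff, hlft, hqf, hqs, hg,
    hk', hk⟩

end Groth.Agent.AlgGrpLib.AffineImage
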