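import Groth.Agent.AlgGrpLib.AffineSpecInt
import Mathlib.AlgebraicGeometry.FunctionField
import Mathlib.AlgebraicGeometry.Morphisms.SchemeTheoreticallyDominant

/-!
# The function field of the generic fibre and the local rings of the total space
-/

set_option autoImplicit false
set_option linter.style.haveILetI false
set_option backward.isDefEq.respectTransparency.types false

universe u

open CategoryTheory CategoryTheory.Limits TopologicalSpace MonoidalCategory CartesianMonoidalCategory MonObj AlgebraicGeometry
open Opposite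

noncomputable section

namespace Groth.Agent.AlgGrpLib.AffineSpec

open Groth.Agent.AlgGrpLib.ValClosure (genPt)

variable {V : Type u} [CommRing V] [IsDomain V] [ValuationRing V] (K : Type u) [Field K] [Algebra V K]
  [IsFractionRing V K] (C : Over (Spec (CommRingCat.of V)))

theorem dominant_prj [Flat C.hom] : IsSchemeTheoreticallyDominant (prj K C) := by
  haveI := ValClosure.dominant_genPt (R := V) (K := K)
  exact IsSchemeTheoreticallyDominant.pullbackFst C.hom (genPt V K)

theorem denseRange_prj [Flat C.hom] : DenseRange (prj K C).base := by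
  haveI := dominant_prj K C
  exact (prj K C).denseRange

variable [Flat C.hom] [IsIntegral (gen K C).left]

/-- The function field of the generic fibre. -/
abbrev ff : Type u := ↑(gen K C).left.functionField

/-- The germ at the generic point. -/
def germG : Γ((gen K C).left, ⊤) →+* ff K C := ((gen K C).left.presheaf.germ ⊤ (genericPoint _) trivial).hom

instance ffAlgebra : Algebra K (ff K C) := ((germG K C).comp (cst K C)).toAlgebra

omit [Flat C.hom] in
theorem germG_injective : Function.Injective (germG K C) := germ_injective_of_isIntegral _ _ _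

theorem prj_generic_specializes (x : C.left) : (prj K C).base (genericPoint (gen K C).left) ⤳ x := by
  rw [specializes_iff_mem_closure]
  refine closure_minimal ?_ isClosed_closure ((denseRange_prj K C).closure_range ▸ Set.mem_univ x)
  rintro _ ⟨y, rfl⟩
  exact specializes_iff_mem_closure.1 ((genericPoint_specializes y).map (prj K C).continuous)

theorem generic_mem_preimage {U : C.left.Opens} {x : C.left} (hx : x ∈ U) :
    genericPoint (gen K C).left ∈ prj K C ⁻¹ᵁ U := (prj_generic_specializes K C x).mem_open U.2 hx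

/-- The local ring at a point of the total space inside the function field. -/
def stalkIn (x : C.left) : C.left.presheaf.stalk x →+* ff K C :=
  (C.left.presheaf.stalkSpecializes (prj_generic_specializes K C x) ≫
    (prj K C).stalkMap (genericPoint (gen K C).left)).hom

/-- Its image. -/
def locRing (x : C.left) : LocalSubring (ff K C) := LocalSubring.range (stalkIn K C x)

theorem stalkIn_germ {U : C.left.Opens} {x : C.left} (hx : x ∈ U) (b : Γ(C.left, U)) :
    stalkIn K C x (C.left.presheaf.germ U x hx b) =
      (gen K C).left.presheaf.germ (prj K C ⁻¹ᵁ U) (genericPoint _) (generic_mem_preimage K C hx)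
        (((prj K C).app U).hom b) := by
  show (C.left.presheaf.germ U x hx ≫ C.left.presheaf.stalkSpecializes _ ≫
    (prj K C).stalkMap (genericPoint (gen K C).left)) b = _
  rw [TopCat.Presheaf.germ_stalkSpecializes_assoc, Scheme.Hom.germ_stalkMap]
  rfl

omit [Flat C.hom] in
theorem germ_res {U : C.left.Opens} (hU : genericPoint (gen K C).left ∈ prj K C ⁻¹ᵁ U)
    (f : Γ((gen K C).left, ⊤)) :
    (gen K C).left.presheaf.germ (prj K C ⁻¹ᵁ U) (genericPoint _) hU (res K C U f) = germG K C f :=
  TopCat.Presheaf.germ_res_apply _ _ _ _ _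

theorem exists_common_germ (x : C.left) {n : ℕ} (s : Fin n → C.left.presheaf.stalk x) :
    ∃ (U : C.left.Opens) (hx : x ∈ U) (b : Fin n → Γ(C.left, U)),
      ∀ i, C.left.presheaf.germ U x hx (b i) = s i := by
  have h : ∀ i, ∃ (U : C.left.Opens) (hx : x ∈ U) (b : Γ(C.left, U)), C.left.presheaf.germ U x hx b = s i :=
    fun i => C.left.presheaf.exists_germ_eq (s i)
  choose U hx b hb using h
  obtain ⟨W, hW, hxW⟩ : ∃ W : C.left.Opens, (∀ i, W ≤ U i) ∧ x ∈ W :=
    ⟨⟨⋂ i, (U i : Set C.left), isOpen_iInter_of_finite fun i => (U i).2⟩,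
      fun i => Set.iInter_subset _ i, Set.mem_iInter.2 hx⟩
  refine ⟨W, hxW, fun i => (C.left.presheaf.map (homOfLE (hW i)).op).hom (b i), fun i => ?_⟩
  exact (TopCat.Presheaf.germ_res_apply _ _ _ _ _).trans (hb i)

/-- Integrality at a point is integrality over its local ring. -/
theorem intAt_iff (f : Γ((gen K C).left, ⊤)) (x : C.left) :
    IntAt K C f x ↔ IsIntegral (locRing K C x).toSubring (germG K C f) := by
  constructor
  · rintro ⟨U, hU, p, hp, hpx⟩
    have hmem : ∀ b : Γ(C.left, U), stalkIn K C x (C.left.presheaf.germ U x hU b) ∈ (locRing K C x).toSubring :=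
      fun b => ⟨_, rfl⟩
    let ψ : Γ(C.left, U) →+* (locRing K C x).toSubring :=
      ((stalkIn K C x).comp (C.left.presheaf.germ U x hU).hom).codRestrict _ hmem
    refine ⟨p.map ψ, hp.map _, ?_⟩
    rw [Polynomial.eval₂_map, show (algebraMap (locRing K C x).toSubring (ff K C)).comp ψ =
        ((gen K C).left.presheaf.germ (prj K C ⁻¹ᵁ U) (genericPoint _) (generic_mem_preimage K C hU)).hom.comp
          ((prj K C).app U).hom from RingHom.ext fun b => stalkIn_germ K C hU b,
      ← germ_res K C (generic_mem_preimage K C hU) f, ← Polynomial.hom_eval₂, hpx, map_zero]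
  · rintro ⟨p, hp, hpx⟩
    have hs : ∀ i : Fin p.natDegree, ∃ s, stalkIn K C x s = (p.coeff i : ff K C) := fun i => (p.coeff i).2
    choose s hs using hs
    obtain ⟨U, hU, b, hb⟩ := exists_common_germ C x s
    refine ⟨U, hU, Polynomial.X ^ p.natDegree + ∑ i : Fin p.natDegree, Polynomial.C (b i) * Polynomial.X ^ (i : ℕ),
      Polynomial.monic_X_pow_add (Polynomial.degree_sum_fin_lt b), ?_⟩
    refine germ_injective_of_isIntegral _ (genericPoint _) (generic_mem_preimage K C hU) ?_
    rw [map_zero, Polynomial.hom_eval₂, germ_res, Polynomial.eval₂_add, Polynomial.eval₂_finset_sum]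
    rw [hp.as_sum, Polynomial.eval₂_add, Polynomial.eval₂_finset_sum, Finset.sum_range] at hpx
    simp only [Polynomial.eval₂_mul, Polynomial.eval₂_pow, Polynomial.eval₂_X, Polynomial.eval₂_C] at hpx ⊢
    refine (congrArg₂ (· + ·) rfl (Finset.sum_congr rfl fun i _ => congrArg (· * _) ?_)).trans hpx
    rw [RingHom.comp_apply, ← stalkIn_germ K C hU (b i), hb, hs]
    rfl

theorem stalkIn_injective (x : C.left) : Function.Injective (stalkIn K C x) := by
  refine (injective_iff_map_eq_zero _).2 fun a ha => ?_
  obtain ⟨U, hU, b, rfl⟩ := C.left.presheaf.exists_germ_eq a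
  obtain ⟨W, hW, hxW, hWU⟩ := exists_isAffineOpen_mem_and_subset (x := x) (U := U) hU
  rw [← TopCat.Presheaf.germ_res_apply _ (homOfLE hWU) x hxW b, stalkIn_germ,
    ← map_zero ((gen K C).left.presheaf.germ (prj K C ⁻¹ᵁ W) (genericPoint _) (generic_mem_preimage K C hxW)).hom] at ha
  have hb := germ_injective_of_isIntegral _ _ _ ha
  haveI := dominant_prj K C
  have hk : RingHom.ker ((prj K C).app W).hom = ⊥ := by
    rw [← Scheme.Hom.ker_apply (prj K C) ⟨W, hW⟩, IsSchemeTheoreticallyDominant.ker_eq_bot]
    rfl
  rw [← TopCat.Presheaf.germ_res_apply _ (homOfLE hWU) x hxW b,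
    (RingHom.injective_iff_ker_eq_bot _).2 hk (hb.trans (map_zero _).symm), map_zero]

include K in
/-- The total space is integral when the generic fibre is. -/
theorem isIntegral_total : IsIntegral C.left := by
  refine (isIntegral_iff_irreducibleSpace_and_isReduced _).2 ⟨?_, ?_⟩
  · have h : IsIrreducible (Set.univ : Set C.left) := by
      have := (IrreducibleSpace.isIrreducible_univ (gen K C).left).image (prj K C).base
        (prj K C).continuous.continuousOn
      rw [Set.image_univ] at this
      have h2 := this.closure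
      rwa [(denseRange_prj K C).closure_range] at h2
    exact { toPreirreducibleSpace := ⟨h.2⟩, toNonempty := ⟨h.1.choose⟩ }
  · haveI : ∀ x : C.left, _root_.IsReduced (C.left.presheaf.stalk x) := fun x =>
      isReduced_of_injective _ (stalkIn_injective K C x)
    exact isReduced_of_isReduced_stalk C.left

theorem algebraMap_mem_locRing (v : V) (x : C.left) :
    algebraMap K (ff K C) (algebraMap V K v) ∈ (locRing K C x).toSubring := by
  refine ⟨C.left.presheaf.germ ⊤ x trivial (C.hom.appTop.hom ((Scheme.ΓSpecIso (CommRingCat.of V)).inv.hom v)), ?_⟩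
  rw [stalkIn_germ, RingHom.algebraMap_toAlgebra, RingHom.comp_apply, cst_algebraMap]
  rfl

/-- Over the closed point the local ring dominates `V`. -/
theorem not_isUnit_of_mem_maximalIdeal {x : C.left} (hx : C.hom.base x = IsLocalRing.closedPoint V) {v : V}
    (hv : v ∈ IsLocalRing.maximalIdeal V) :
    ¬ IsUnit (⟨_, algebraMap_mem_locRing K C v x⟩ : (locRing K C x).toSubring) := by
  intro h
  let b : Γ(C.left, ⊤) := C.hom.appTop.hom ((Scheme.ΓSpecIso (CommRingCat.of V)).inv.hom v)
  have hinj := stalkIn_injective K C x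
  have h1 : IsUnit (C.left.presheaf.germ ⊤ x trivial b) := by
    obtain ⟨⟨y, a, rfl⟩, hy⟩ := isUnit_iff_exists_inv.1 h
    refine isUnit_iff_exists_inv.2 ⟨a, hinj ?_⟩
    rw [map_mul, map_one]
    refine Eq.trans ?_ (congrArg Subtype.val hy)
    refine congrArg (· * stalkIn K C x a) ?_
    refine (stalkIn_germ K C _ b).trans ?_
    show _ = germG K C (cst K C (algebraMap V K v))
    rw [cst_algebraMap]
    rfl
  have h2 : x ∈ C.left.basicOpen b := (C.left.mem_basicOpen_top b x).2 h1
  have h3 : C.hom.base x ∈ (Spec (CommRingCat.of V)).basicOpen ((Scheme.ΓSpecIso (CommRingCat.of V)).inv.hom v) := by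
    rw [show b = C.hom.appTop.hom _ from rfl, ← Scheme.preimage_basicOpen_top] at h2
    exact h2
  rw [hx, AlgebraicGeometry.basicOpen_eq_of_affine'] at h3
  have h4 : (Scheme.ΓSpecIso (CommRingCat.of V)).hom ((Scheme.ΓSpecIso (CommRingCat.of V)).inv.hom v) = v :=
    congr(($((Scheme.ΓSpecIso (CommRingCat.of V)).inv_hom_id)).hom v)
  rw [h4] at h3
  exact h3 hv

/-- Sections through a prescribed open at which a scaled function takes a unit value. -/
theorem exists_section [IsAlgClosed K] [LocallyOfFiniteType C.hom] {O : C.left.Opens} {q : C.left} (hq : q ∈ O)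
    (hqc : C.hom.base q = IsLocalRing.closedPoint V) (g : Γ((gen K C).left, ⊤))
    (w : ValuationSubring (ff K C)) (hw : locRing K C q ≤ w.toLocalSubring)
    (hg : w.valuation (germG K C g) = 1) :
    ∃ (σ : Spec (CommRingCat.of V) ⟶ C.left) (hσ : σ ≫ C.hom = 𝟙 _) (v : V),
      σ (IsLocalRing.closedPoint V) ∈ O ∧ IsUnit v ∧ algebraMap V K v = ev K C (genSec K σ hσ) g := by
  obtain ⟨W, hW, hqW, hWO⟩ := exists_isAffineOpen_mem_and_subset (x := q) (U := O) hq
  let A := Γ((gen K C).left, prj K C ⁻¹ᵁ W)
  haveI : Nonempty (prj K C ⁻¹ᵁ W) := ⟨⟨_, generic_mem_preimage K C hqW⟩⟩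
  haveI : IsDomain A := inferInstanceAs (IsDomain Γ((gen K C).left, prj K C ⁻¹ᵁ W))
  let stV : V →+* Γ(C.left, W) :=
    ((Scheme.ΓSpecIso (CommRingCat.of V)).inv ≫ C.hom.appLE ⊤ W le_top).hom
  have hft : stV.FiniteType :=
    RingHom.FiniteType.comp (LocallyOfFiniteType.finiteType_appLE C.hom (isAffineOpen_top _) hW le_top)
      (RingHom.FiniteType.of_surjective _
        (Scheme.ΓSpecIso (CommRingCat.of V)).symm.commRingCatIsoToRingEquiv.surjective)
  letI : Algebra V Γ(C.left, W) := stV.toAlgebra
  letI : Algebra Γ(C.left, W) A := ((prj K C).app W).hom.toAlgebra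
  letI : Algebra V A := ((res K C W).comp ((cst K C).comp (algebraMap V K))).toAlgebra
  haveI : IsScalarTower V Γ(C.left, W) A := IsScalarTower.of_algebraMap_eq fun v => by
    show res K C W (cst K C (algebraMap V K v)) = _
    rw [cst_algebraMap]
    have h : C.hom.appTop ≫ (prj K C).appTop ≫ (gen K C).left.presheaf.map (homOfLE le_top).op =
        C.hom.appLE ⊤ W le_top ≫ (prj K C).app W := by
      rw [← Scheme.Hom.comp_appTop_assoc]
      simp only [Scheme.Hom.appTop, Scheme.Hom.app_eq_appLE, Scheme.Hom.appLE_comp_appLE]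
      exact Scheme.Hom.appLE_map _ _ _
    exact congr(($h).hom ((Scheme.ΓSpecIso (CommRingCat.of V)).inv.hom v))
  haveI : Algebra.FiniteType V Γ(C.left, W) := hft
  let gA : A := res K C W g
  let B' := Algebra.adjoin Γ(C.left, W) {gA}
  haveI : Algebra.FiniteType Γ(C.left, W) B' :=
    ⟨(Subalgebra.fg_top _).2 (Subalgebra.fg_adjoin_finset {gA} |> fun h => by simpa using h)⟩
  haveI : Algebra.FiniteType V B' := Algebra.FiniteType.trans (A := B') (inferInstance : Algebra.FiniteType V Γ(C.left, W)) inferInstance
  -- the centre of `w`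
  let e : A →+* ff K C :=
    ((gen K C).left.presheaf.germ (prj K C ⁻¹ᵁ W) (genericPoint _) (generic_mem_preimage K C hqW)).hom
  have hle : ∀ a : B', e a ∈ w := by
    rintro ⟨a, ha⟩
    induction ha using Algebra.adjoin_induction with
    | mem y hy =>
      obtain rfl := Set.mem_singleton_iff.1 hy
      show e (res K C W g) ∈ w
      rw [germ_res]
      exact (w.valuation_le_one_iff _).1 hg.le
    | algebraMap b => exact hw.1 ⟨_, stalkIn_germ K C hqW b⟩
    | add y z _ _ hy hz => show e (y + z) ∈ w; rw [map_add]; exact add_mem hy hz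
    | mul y z _ _ hy hz => show e (y * z) ∈ w; rw [map_mul]; exact mul_mem hy hz
  let e' : B' →+* w := (e.comp B'.val.toRingHom).codRestrict w hle
  let gB : B' := ⟨gA, Algebra.subset_adjoin rfl⟩
  have hgu : IsUnit (e' gB) := (w.valuation_eq_one_iff _).2 (by
    show w.valuation (e (res K C W g)) = 1
    rw [germ_res]; exact hg)
  have hinjA : Function.Injective (algebraMap V A) := by
    intro a b hab
    refine IsFractionRing.injective V K ((RingHom.injective ((res K C W).comp (cst K C))) ?_)
    exact hab
  have hgne : gB ≠ 0 := fun h => by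
    rw [h, map_zero] at hgu
    exact not_isUnit_zero (M₀ := ↥w) hgu
  let C' := Localization.Away gB
  haveI : Algebra.FiniteType B' C' := IsLocalization.finiteType_of_monoid_fg (Submonoid.powers gB) C'
  haveI : Algebra.FiniteType V C' := Algebra.FiniteType.trans (A := C') (inferInstance : Algebra.FiniteType V B') inferInstance
  haveI : IsDomain C' := IsLocalization.isDomain_localization
    (Submonoid.powers_le.2 (mem_nonZeroDivisors_of_ne_zero hgne))
  let e'' : C' →+* w := IsLocalization.Away.lift gB hgu
  have hinjC : Function.Injective (algebraMap V C') := by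
    intro a b hab
    rw [IsScalarTower.algebraMap_apply V B' C', IsScalarTower.algebraMap_apply V B' C'] at hab
    exact hinjA (congrArg Subtype.val (IsLocalization.injective C'
      (Submonoid.powers_le.2 (mem_nonZeroDivisors_of_ne_zero hgne)) hab))
  let q₀ : Ideal C' := (IsLocalRing.maximalIdeal w).comap e''
  have he'' : ∀ v : V, (e'' (algebraMap V C' v) : ff K C) = algebraMap K (ff K C) (algebraMap V K v) := by
    intro v
    rw [IsScalarTower.algebraMap_apply V B' C', IsLocalization.Away.lift_eq]
    show e (res K C W (cst K C (algebraMap V K v))) = _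
    rw [germ_res]
    rfl
  have hq₀ : q₀.comap (algebraMap V C') = IsLocalRing.maximalIdeal V := by
    ext v
    constructor
    · intro hv
      by_contra hv'
      exact hv ((IsLocalRing.notMem_maximalIdeal.1 hv').map (e''.comp (algebraMap V C')))
    · intro hv hu
      obtain ⟨hle', hloc⟩ := hw
      refine not_isUnit_of_mem_maximalIdeal K C hqc hv (hloc.map_nonunit _ ?_)
      have hu' : IsUnit (e'' (algebraMap V C' v)) := hu
      convert! hu' using 1
      exact Subtype.ext (he'' v).symm
  haveI : IsAlgClosed (FractionRing V) :=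
    IsAlgClosed.of_ringEquiv K (FractionRing V) (IsLocalization.algEquiv (nonZeroDivisors V) K (FractionRing V)).toRingEquiv
  obtain ⟨φ⟩ := FlatMor12.ValuationSections.exists_algHom hinjC q₀ hq₀
  let ψ : Γ(C.left, W) →ₐ[V] V :=
    φ.comp ((IsScalarTower.toAlgHom V B' C').comp (IsScalarTower.toAlgHom V Γ(C.left, W) B'))
  let σ : Spec (CommRingCat.of V) ⟶ C.left := Spec.map (CommRingCat.ofHom ψ.toRingHom) ≫ hW.fromSpec
  have hσ : σ ≫ C.hom = 𝟙 _ := by
    rw [Category.assoc, ← IsAffineOpen.SpecMap_appLE_fromSpec C.hom (isAffineOpen_top _) hW le_top,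
      IsAffineOpen.fromSpec_top, Scheme.isoSpec_Spec_inv, ← Spec.map_comp, ← Spec.map_comp, ← Spec.map_id]
    congr 1
    ext v
    exact ψ.commutes v
  have hσW : σ (IsLocalRing.closedPoint V) ∈ W := by
    have : σ (IsLocalRing.closedPoint V) ∈ Set.range hW.fromSpec := ⟨_, rfl⟩
    rwa [IsAffineOpen.range_fromSpec] at this
  have hψ : ∀ b, evInt σ W hσW b = ψ b := by
    intro b
    have h : σ.appLE W ⊤ (sec_preimage_eq_top σ hσW).ge ≫ (Scheme.ΓSpecIso (CommRingCat.of V)).hom =
        CommRingCat.ofHom ψ.toRingHom := by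
      rw [show σ.appLE W ⊤ (sec_preimage_eq_top σ hσW).ge = hW.fromSpec.appLE W ⊤ (by simp) ≫
          (Spec.map (CommRingCat.ofHom ψ.toRingHom)).appLE ⊤ ⊤ le_rfl from
        (Scheme.Hom.appLE_comp_appLE _ _ _ _ _ _ _).symm, Category.assoc]
      rw [show (Spec.map (CommRingCat.ofHom ψ.toRingHom)).appLE ⊤ ⊤ le_rfl =
          (Spec.map (CommRingCat.ofHom ψ.toRingHom)).appTop from Scheme.Hom.appLE_eq_app _,
        Scheme.ΓSpecIso_naturality,
        show hW.fromSpec.appLE W ⊤ (by simp) = (Scheme.ΓSpecIso Γ(C.left, W)).inv by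
          rw [Scheme.Hom.appLE, IsAffineOpen.fromSpec_app_self, Category.assoc, ← Functor.map_comp]
          convert! Category.comp_id _]
      exact Iso.inv_hom_id_assoc (Scheme.ΓSpecIso Γ(C.left, W)) _
    exact congr(($h).hom b)
  refine ⟨σ, hσ, φ (algebraMap B' C' gB), hWO hσW,
    (IsLocalization.Away.algebraMap_isUnit gB).map φ, ?_⟩
  -- clear denominators
  obtain ⟨a, b, ha, hab⟩ := exists_denom K C hW gA
  have h1 : algebraMap V A a * gA = algebraMap Γ(C.left, W) A b := hab
  have h2 : algebraMap V B' a * gB = algebraMap Γ(C.left, W) B' b := Subtype.ext h1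
  have h3 : a * φ (algebraMap B' C' gB) = ψ b := by
    have h := congrArg (fun z => φ (algebraMap B' C' z)) h2
    rw [map_mul, map_mul, ← IsScalarTower.algebraMap_apply, AlgHom.commutes] at h
    exact h
  have h4 := congrArg (evOn K σ hσ W hσW) hab
  rw [map_mul, evOn_res, evOn_res, evOn_app, hψ, ev_cst K C _ (genSec_hom K σ hσ), ← h3, map_mul] at h4
  exact (mul_left_cancel₀ (by simpa using ha) h4).symm

end Groth.Agent.AlgGrpLib.AffineSpec
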