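import Mathlib.RingTheory.Valuation.LocalSubring
import Mathlib.RingTheory.Valuation.ValuationRing
import Mathlib.RingTheory.Polynomial.Ideal
import Mathlib.FieldTheory.IntermediateField.Adjoin.Basic
import Mathlib.FieldTheory.IsAlgClosed.Basic
import Mathlib.RingTheory.Algebraic.Basic
import Mathlib.RingTheory.MvPolynomial.Basic
import Mathlib.RingTheory.AlgebraicIndependent.Defs

/-!
# Scaling elements of a field over a valuation ring with algebraically closed fraction field

`L` is a field over `K = Frac V`, `R` a local subring of `L` in which every nonzero polynomial in `t` is a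
constant of `K` times a unit, and `L` is algebraic over `K(t)`. Then finitely many elements of `L` can be
scaled to be integral over `R`, one of them being a unit at some valuation ring dominating `R`.
-/

set_option autoImplicit false
set_option backward.isDefEq.respectTransparency.types false

universe u

noncomputable section

namespace Groth.Agent.AlgGrpLib.GaussVal

open IsLocalRing Polynomial Algebra

variable {L : Type u} [Field L]

/-- An element lying in all valuation rings dominating a local subring is integral over it. -/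
theorem isIntegral_of_forall (R : LocalSubring L) (x : L)
    (h : ∀ w : ValuationSubring L, R ≤ w.toLocalSubring → x ∈ w) : IsIntegral R.toSubring x := by
  obtain rfl | hx0 := eq_or_ne x 0
  · exact isIntegral_zero
  let := invertibleOfNonzero hx0
  let B := Algebra.adjoin R.toSubring {x⁻¹}
  let xinv : B.toSubring := ⟨x⁻¹, Algebra.subset_adjoin rfl⟩
  by_contra hni
  have : (maximalIdeal R.toSubring).map (algebraMap _ B) + .span {xinv} ≠ ⊤ := fun eq ↦ hni <|
    have ⟨p, hp, hpx⟩ := exists_aeval_invOf_eq_zero_of_idealMap_adjoin_sup_span_eq_top _ _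
      (maximalIdeal.isMaximal R.toSubring).ne_top eq
    have H : IsUnit p.leadingCoeff := of_not_not fun h ↦ by simpa using sub_mem h hp
    ⟨.C H.unit⁻¹.1 * p, by simp [Polynomial.Monic], by simpa using .inr hpx⟩
  have ⟨V, hV⟩ := Ideal.image_subset_nonunits_valuationSubring (A := B.toSubring) _ this
  have hdom : R ≤ V.toLocalSubring := by
    refine ⟨fun r hr ↦ hV.1 (B.algebraMap_mem ⟨r, hr⟩), ((local_hom_TFAE _).out 3 0).mp fun r hr ↦ ?_⟩
    have hV2 := hV.2
    rw [← V.image_maximalIdeal] at hV2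
    obtain ⟨⟨r, _⟩, hr, rfl⟩ := hV2 ⟨_, le_self_add (α := Ideal B) (Ideal.mem_map_of_mem _ hr), rfl⟩
    exact hr
  exact ((V.inv_mem_nonunits_iff.mp <|
    hV.2 ⟨_, le_add_self (α := Ideal B) (Ideal.subset_span rfl), rfl⟩).resolve_left hx0) (h V hdom)

theorem valuation_eq_one_of_isUnit {R : LocalSubring L} {w : ValuationSubring L} (hw : R ≤ w.toLocalSubring)
    {e : R.toSubring} (he : IsUnit e) : w.valuation (e : L) = 1 := by
  obtain ⟨hle, -⟩ := hw
  exact (w.valuation_eq_one_iff ⟨e, hle e.2⟩).1 (he.map (Subring.inclusion hle))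

variable {K : Type u} [Field K] [Algebra K L] {V : Type u} [CommRing V] [IsDomain V] [ValuationRing V]
  [Algebra V K] [IsFractionRing V K]

/-- Comparison in `V` gives comparison in every valuation ring containing `V`. -/
theorem valuation_le_of_le (w : ValuationSubring L) (hw : ∀ v : V, algebraMap K L (algebraMap V K v) ∈ w)
    {c c' : K} (h : ValuationRing.valuation V K c ≤ ValuationRing.valuation V K c') :
    w.valuation (algebraMap K L c) ≤ w.valuation (algebraMap K L c') := by
  rcases eq_or_ne c' 0 with rfl | hc'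
  · have : c = 0 := by simpa using h
    simp [this]
  obtain ⟨v, hv⟩ : ∃ v : V, algebraMap V K v = c / c' := by
    refine (ValuationRing.mem_integer_iff V K _).1 ?_
    show ValuationRing.valuation V K (c / c') ≤ 1
    rw [map_div₀]
    exact div_le_one_of_le₀ h zero_le'
  have h1 := (w.valuation_le_one_iff _).2 (hw v)
  rw [hv, map_div₀, map_div₀] at h1
  exact (div_le_one₀ (zero_lt_iff.2 (by simpa using hc'))).1 h1

variable {d : ℕ} (R : LocalSubring L) (t : Fin d → L)

variable (V) in
/-- The Gauss condition. -/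
theorem gauss_of_primitive
    (h : ∀ P : MvPolynomial (Fin d) V, (∃ n, IsUnit (P.coeff n)) → ∃ e : R.toSubring, IsUnit e ∧
      (e : L) = MvPolynomial.eval₂ ((algebraMap K L).comp (algebraMap V K)) t P)
    (P : MvPolynomial (Fin d) K) (hP : P ≠ 0) :
    ∃ c : K, c ≠ 0 ∧ ∃ e : R.toSubring, IsUnit e ∧ MvPolynomial.aeval t P = algebraMap K L c * e := by
  classical
  obtain ⟨n₀, hn₀, hmax⟩ := P.support.exists_max_image (fun n => ValuationRing.valuation V K (P.coeff n))
    (MvPolynomial.support_nonempty.2 hP)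
  let c := P.coeff n₀
  have hc : c ≠ 0 := MvPolynomial.mem_support_iff.1 hn₀
  have hex : ∀ n, ∃ v : V, algebraMap V K v = P.coeff n / c := by
    intro n
    by_cases hn : n ∈ P.support
    · refine (ValuationRing.mem_integer_iff V K _).1 ?_
      show ValuationRing.valuation V K (P.coeff n / c) ≤ 1
      rw [map_div₀]
      exact div_le_one_of_le₀ (hmax n hn) zero_le'
    · exact ⟨0, by simp [MvPolynomial.notMem_support_iff.1 hn]⟩
  choose v hv using hex
  let P₀ : MvPolynomial (Fin d) V := ∑ n ∈ P.support, MvPolynomial.monomial n (v n)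
  have hmap : MvPolynomial.C c * P₀.map (algebraMap V K) = P := by
    simp only [P₀, map_sum, MvPolynomial.map_monomial, Finset.mul_sum, MvPolynomial.C_mul_monomial, hv]
    conv_rhs => rw [P.as_sum]
    refine Finset.sum_congr rfl fun n _ => ?_
    rw [mul_div_cancel₀ _ hc]
  obtain ⟨e, he, hee⟩ := h P₀ ⟨n₀, by
    have : P₀.coeff n₀ = v n₀ := by
      simp [P₀, MvPolynomial.coeff_sum, MvPolynomial.coeff_monomial, hn₀]
    rw [this]
    have h1 : v n₀ = 1 := IsFractionRing.injective V K (by rw [hv, map_one, div_self hc])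
    rw [h1]
    exact isUnit_one⟩
  refine ⟨c, hc, e, he, ?_⟩
  rw [← hmap, map_mul, MvPolynomial.aeval_C, hee, MvPolynomial.aeval_def, MvPolynomial.eval₂_map]

variable (hgauss : ∀ P : MvPolynomial (Fin d) K, P ≠ 0 →
    ∃ c : K, c ≠ 0 ∧ ∃ e : R.toSubring, IsUnit e ∧ MvPolynomial.aeval t P = algebraMap K L c * e)

include hgauss in
theorem algebraicIndependent_of_gauss : AlgebraicIndependent K t := by
  rw [algebraicIndependent_iff]
  intro P hP
  by_contra hne
  obtain ⟨c, hc, e, he, h⟩ := hgauss P hne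
  rw [hP, eq_comm, mul_eq_zero] at h
  rcases h with h | h
  · exact hc (by simpa using h)
  · exact he.ne_zero (Subtype.ext h)

include hgauss in
theorem exists_const (a : L) (ha : a ∈ IntermediateField.adjoin K (Set.range t)) (ha0 : a ≠ 0) :
    ∃ c : K, c ≠ 0 ∧ ∀ w : ValuationSubring L, R ≤ w.toLocalSubring →
      w.valuation a = w.valuation (algebraMap K L c) := by
  obtain ⟨r, s, rfl⟩ := (IntermediateField.mem_adjoin_range_iff K t a).1 ha
  have hr : r ≠ 0 := fun h => ha0 (by simp [h])
  have hs : s ≠ 0 := fun h => ha0 (by simp [h])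
  obtain ⟨c, hc, e, he, hre⟩ := hgauss r hr
  obtain ⟨c', hc', e', he', hse⟩ := hgauss s hs
  refine ⟨c / c', div_ne_zero hc hc', fun w hw => ?_⟩
  rw [hre, hse, map_div₀, map_mul, map_mul, map_div₀, map_div₀, valuation_eq_one_of_isUnit hw he,
    valuation_eq_one_of_isUnit hw he', mul_one, mul_one]

include hgauss in
/-- Finitely many possible values. -/
theorem exists_candidates [IsAlgClosed K] [Algebra.IsAlgebraic (IntermediateField.adjoin K (Set.range t)) L]
    (x : L) (hx : x ≠ 0) :
    ∃ S : Finset K, ∀ w : ValuationSubring L, R ≤ w.toLocalSubring →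
      ∃ c ∈ S, c ≠ 0 ∧ w.valuation x = w.valuation (algebraMap K L c) := by
  classical
  obtain ⟨p, hp, hpx⟩ := Algebra.IsAlgebraic.isAlgebraic (R := IntermediateField.adjoin K (Set.range t)) x
  have hex : ∀ i : ℕ, ∃ c : K, i ∈ p.support → c ≠ 0 ∧ ∀ w : ValuationSubring L, R ≤ w.toLocalSubring →
      w.valuation (p.coeff i : L) = w.valuation (algebraMap K L c) := by
    intro i
    by_cases hi : i ∈ p.support
    · obtain ⟨c, hc⟩ := exists_const R t hgauss (p.coeff i : L) (p.coeff i).2 fun h =>
        Polynomial.mem_support_iff.1 hi (Subtype.ext h)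
      exact ⟨c, fun _ => hc⟩
    · exact ⟨1, fun h => absurd h hi⟩
  choose c hc using hex
  have hroot : ∀ ij : ℕ × ℕ, ∃ r : K, ij.1 < ij.2 → r ^ (ij.2 - ij.1) = c ij.1 / c ij.2 := by
    intro ij
    by_cases h : ij.1 < ij.2
    · obtain ⟨r, hr⟩ := IsAlgClosed.exists_pow_nat_eq (c ij.1 / c ij.2) (n := ij.2 - ij.1) (by omega)
      exact ⟨r, fun _ => hr⟩
    · exact ⟨1, fun h' => absurd h' h⟩
  choose r hr using hroot
  refine ⟨(p.support ×ˢ p.support).image r, fun w hw => ?_⟩
  let f : ℕ → L := fun i => (p.coeff i : L) * x ^ i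
  have hsum : ∑ i ∈ p.support, f i = 0 := by
    rw [aeval_def, eval₂_eq_sum, Polynomial.sum_def] at hpx
    exact hpx
  obtain ⟨i₀, hi₀, hmax⟩ := p.support.exists_max_image (fun i => w.valuation (f i)) (support_nonempty.2 hp)
  have hf0 : w.valuation (f i₀) ≠ 0 := by
    simp only [f, map_mul, map_pow, ne_eq, mul_eq_zero, map_eq_zero, pow_eq_zero_iff', hx, false_and, or_false]
    exact fun h => Polynomial.mem_support_iff.1 hi₀ (Subtype.ext h)
  obtain ⟨j, hj, hji, heq⟩ : ∃ j ∈ p.support, j ≠ i₀ ∧ w.valuation (f i₀) = w.valuation (f j) := by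
    by_contra hno
    push Not at hno
    have := w.valuation.map_sum_eq_of_lt (f := f) hi₀ (fun i hi => by
      obtain ⟨hi1, hi2⟩ := Finset.mem_sdiff.1 hi
      exact lt_of_le_of_ne (hmax i hi1) fun h => hno i hi1 (fun h' => hi2 (by simp [h'])) h.symm)
    rw [hsum, map_zero] at this
    exact hf0 this.symm
  have key : ∀ a b, a ∈ p.support → b ∈ p.support → a < b → w.valuation (f a) = w.valuation (f b) →
      ∃ c ∈ (p.support ×ˢ p.support).image r, c ≠ 0 ∧ w.valuation x = w.valuation (algebraMap K L c) := by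
    intro a b ha hb hab h
    refine ⟨r (a, b), Finset.mem_image_of_mem _ (Finset.mem_product.2 ⟨ha, hb⟩), fun h0 => ?_, ?_⟩
    · have := hr (a, b) hab
      rw [h0, zero_pow (by simp only; omega), eq_comm, div_eq_zero_iff] at this
      exact this.elim (hc a ha).1 (hc b hb).1
    · have hne : b - a ≠ 0 := by omega
      refine (pow_left_inj₀ zero_le' zero_le' hne).1 ?_
      rw [← map_pow w.valuation (algebraMap K L _), ← map_pow (algebraMap K L), hr (a, b) hab, map_div₀, map_div₀,
        ← (hc a ha).2 w hw, ← (hc b hb).2 w hw, eq_div_iff (by simp; exact fun h => Polynomial.mem_support_iff.1 hb h)]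
      have h' : w.valuation (p.coeff a : L) * w.valuation x ^ a = w.valuation (p.coeff b : L) * w.valuation x ^ b := by
        simpa [f] using h
      refine mul_right_cancel₀ (pow_ne_zero a (show w.valuation x ≠ 0 by simpa using hx)) ?_
      rw [h', mul_right_comm, ← pow_add, Nat.sub_add_cancel hab.le, mul_comm]
  rcases lt_or_gt_of_ne hji with h | h
  · exact key j i₀ hj hi₀ h heq.symm
  · exact key i₀ j hi₀ hj h heq

variable (hV : ∀ v : V, algebraMap K L (algebraMap V K v) ∈ R.toSubring)

include hgauss hV in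
/-- Scaling a finite family. -/
theorem exists_scale [IsAlgClosed K] [Algebra.IsAlgebraic (IntermediateField.adjoin K (Set.range t)) L]
    {ι : Type*} [Finite ι] (b : ι → L) (hb : ∃ i, b i ≠ 0) :
    ∃ c : K, c ≠ 0 ∧ (∀ i, IsIntegral R.toSubring (b i / algebraMap K L c)) ∧
      ∃ w : ValuationSubring L, R ≤ w.toLocalSubring ∧ ∃ i, w.valuation (b i / algebraMap K L c) = 1 := by
  classical
  cases nonempty_fintype ι
  have hex : ∀ i, ∃ S : Finset K, b i ≠ 0 → ∀ w : ValuationSubring L, R ≤ w.toLocalSubring →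
      ∃ c ∈ S, c ≠ 0 ∧ w.valuation (b i) = w.valuation (algebraMap K L c) := by
    intro i
    by_cases h : b i = 0
    · exact ⟨∅, fun h' => absurd h h'⟩
    · obtain ⟨S, hS⟩ := exists_candidates R t hgauss (b i) h
      exact ⟨S, fun _ => hS⟩
  choose S hS using hex
  let T := (Finset.univ.biUnion S).filter fun c => c ≠ 0 ∧ ∃ w : ValuationSubring L, R ≤ w.toLocalSubring ∧
    ∃ i, w.valuation (b i) = w.valuation (algebraMap K L c)
  have hmemT : ∀ (w : ValuationSubring L), R ≤ w.toLocalSubring → ∀ i, b i ≠ 0 →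
      ∃ c ∈ T, w.valuation (b i) = w.valuation (algebraMap K L c) := by
    intro w hw i hi
    obtain ⟨c, hc, hc0, hv⟩ := hS i hi w hw
    exact ⟨c, Finset.mem_filter.2 ⟨Finset.mem_biUnion.2 ⟨i, Finset.mem_univ _, hc⟩, hc0, w, hw, i, hv⟩, hv⟩
  obtain ⟨w₀, hw₀⟩ := R.exists_le_valuationSubring
  obtain ⟨i₀, hi₀⟩ := hb
  obtain ⟨c₀, hc₀, -⟩ := hmemT w₀ hw₀ i₀ hi₀
  obtain ⟨c, hc, hmax⟩ := T.exists_max_image (fun c => ValuationRing.valuation V K c) ⟨c₀, hc₀⟩
  obtain ⟨-, hc0, w₁, hw₁, i₁, hi₁⟩ := Finset.mem_filter.1 hc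
  have hcL : algebraMap K L c ≠ 0 := by simpa using hc0
  refine ⟨c, hc0, fun i => isIntegral_of_forall R _ fun w hw => ?_, w₁, hw₁, i₁, ?_⟩
  · rw [← w.valuation_le_one_iff]
    by_cases hi : b i = 0
    · simp [hi]
    obtain ⟨c', hc', hv⟩ := hmemT w hw i hi
    rw [map_div₀, hv]
    exact div_le_one_of_le₀ (valuation_le_of_le w (fun v => hw.1 (hV v)) (hmax c' hc')) zero_le'
  · rw [map_div₀, hi₁, div_self (by simpa using hc0)]

end Groth.Agent.AlgGrpLib.GaussVal
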