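import Groth.Prelude.Def_Red
import Groth.Agent.Desc19b.FlatClosure
import Groth.Agent.AlgGrpLib.SubGrpMono
import Mathlib.RingTheory.Valuation.ValuationRing

/-!
# The schematic closure of a closed subgroup of the generic fibre over a valuation ring
-/

set_option autoImplicit false
set_option linter.style.haveILetI false
set_option backward.isDefEq.respectTransparency false
set_option backward.isDefEq.respectTransparency.types false

universe u

open CategoryTheory CategoryTheory.Limits MonoidalCategory CartesianMonoidalCategory AlgebraicGeometry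
open scoped CategoryTheory.MonObj CategoryTheory.GrpObj

namespace Groth.Agent.AlgGrpLib.ValClosure

section Flat

variable {X Y W : Scheme.{u}} [IsIntegral Y]

/-- The scheme-theoretic image of a scheme flat over the base is flat over it. -/
theorem flat_imageι (hY : ∀ y : Y, IsBezout (Y.presheaf.stalk y))
    (g : W ⟶ X) [QuasiCompact g] (f : X ⟶ Y) [Flat (g ≫ f)] : Flat (g.imageι ≫ f) := by
  set h := g.imageι ≫ f with hh
  haveI := AlgSpLib.isSchemeTheoreticallyDominant_toImage g
  haveI : Flat (g.toImage ≫ h) := by rw [hh, Scheme.Hom.toImage_imageι_assoc]; infer_instance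
  rw [Flat.iff_flat_stalkMap]
  intro z
  haveI := hY (h z)
  algebraize [(h.stalkMap z).hom]
  refine Module.Flat.flat_iff_torsion_eq_bot_of_isBezout.2 (eq_bot_iff.2 ?_)
  rintro s ⟨⟨a, ha⟩, has⟩
  have ha0 : a ≠ 0 := nonZeroDivisors.ne_zero ha
  obtain ⟨V₀, hV₀, a, rfl⟩ := Y.presheaf.exists_germ_eq a
  obtain ⟨_, ⟨V, hV, rfl⟩, hzV, hVV₀ : V ≤ V₀⟩ := Y.isBasis_affineOpens.exists_subset_of_mem_open hV₀ V₀.isOpen
  obtain ⟨O₀, hO₀, s, rfl⟩ := g.image.presheaf.exists_germ_eq s
  let a' := Y.presheaf.map (homOfLE hVV₀).op a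
  have e : (h.stalkMap z) (Y.presheaf.germ V₀ (h z) hV₀ a) *
      g.image.presheaf.germ O₀ z hO₀ s = 0 := has
  rw [← Y.presheaf.germ_res_apply (homOfLE hVV₀) (h z) hzV a, Scheme.Hom.germ_stalkMap_apply] at e
  let O₁ : g.image.Opens := O₀ ⊓ h ⁻¹ᵁ V
  have hO₁ : z ∈ O₁ := ⟨hO₀, hzV⟩
  rw [← g.image.presheaf.germ_res_apply (homOfLE (inf_le_right : O₁ ≤ h ⁻¹ᵁ V)) z hO₁,
    ← g.image.presheaf.germ_res_apply (homOfLE (inf_le_left : O₁ ≤ O₀)) z hO₁ s, ← map_mul,
    ← map_zero (g.image.presheaf.germ O₁ z hO₁).hom] at e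
  obtain ⟨O, hzO, i₁, i₂, e⟩ := g.image.presheaf.germ_eq z hO₁ hO₁ _ _ e
  rw [map_mul, map_zero] at e
  have hO : O ≤ h ⁻¹ᵁ V := i₁.le.trans inf_le_right
  have hcomm : ∀ t, g.image.presheaf.map i₁.op (g.image.presheaf.map (homOfLE (inf_le_right : O₁ ≤ h ⁻¹ᵁ V)).op
      (h.app V t)) = h.appLE V O hO t := fun t => by
    rw [← CommRingCat.comp_apply, ← CommRingCat.comp_apply, ← Functor.map_comp]
    rfl
  rw [hcomm] at e
  have e2 := congrArg (g.toImage.app O) e
  rw [map_mul, map_zero, ← CommRingCat.comp_apply] at e2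
  have hap : h.appLE V O hO ≫ g.toImage.app O = (g.toImage ≫ h).appLE V (g.toImage ⁻¹ᵁ O) (fun w hw => hO hw) := by
    rw [Scheme.Hom.app_eq_appLE, Scheme.Hom.appLE_comp_appLE]
  rw [hap] at e2
  have ha' : a' ≠ 0 := by
    intro h0
    apply ha0
    rw [← Y.presheaf.germ_res_apply (homOfLE hVV₀) (h z) hzV a, show Y.presheaf.map (homOfLE hVV₀).op a = 0 from h0,
      map_zero]
  have e3 := Desc19b.eq_zero_of_appLE_mul_eq_zero (g.toImage ≫ h) hV a' ha' _ _ e2
  have e4 := (Scheme.Hom.app_injective g.toImage O) (e3.trans (map_zero _).symm)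
  rw [Submodule.mem_bot, ← g.image.presheaf.germ_res_apply (homOfLE (inf_le_left : O₁ ≤ O₀)) z hO₁ s,
    ← g.image.presheaf.germ_res_apply i₁ z hzO]
  exact (congrArg _ e4).trans (map_zero _)

end Flat

variable {R : Type u} [CommRing R] [IsDomain R] [ValuationRing R] {K : Type u} [Field K] [Algebra R K] [IsFractionRing R K]

variable (R K) in
/-- The generic point. -/
noncomputable abbrev genPt : Spec (CommRingCat.of K) ⟶ Spec (CommRingCat.of R) :=
  Spec.map (CommRingCat.ofHom (algebraMap R K))

variable (R) in
theorem isBezout_stalk (s : Spec (CommRingCat.of R)) :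
    IsBezout ((Spec (CommRingCat.of R)).presheaf.stalk s) := by
  let : Algebra R ((Spec (CommRingCat.of R)).presheaf.stalk s) := StructureSheaf.stalkAlgebra R s
  have : IsLocalization.AtPrime ((Spec (CommRingCat.of R)).presheaf.stalk s) s.asIdeal :=
    StructureSheaf.IsLocalization.to_stalk R s
  let M := s.asIdeal.primeCompl
  let L := (Spec (CommRingCat.of R)).presheaf.stalk s
  refine IsBezout.iff_span_pair_isPrincipal.2 fun x y => ?_
  obtain ⟨⟨a, u⟩, hx⟩ := IsLocalization.surj M x
  obtain ⟨⟨b, v⟩, hy⟩ := IsLocalization.surj M y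
  obtain ⟨g, hg⟩ := IsBezout.iff_span_pair_isPrincipal.1 inferInstance a b
  refine ⟨algebraMap R L g, ?_⟩
  have e := congrArg (Ideal.map (algebraMap R L)) hg
  rw [Ideal.map_span, Set.image_pair] at e
  change _ = Ideal.map (algebraMap R L) (Ideal.span {g}) at e
  rw [Ideal.map_span, Set.image_singleton] at e
  refine Eq.trans ?_ e
  have hx' : Ideal.span ({x} : Set L) = Ideal.span {algebraMap R L a} :=
    Ideal.span_singleton_eq_span_singleton.2 ⟨(IsLocalization.map_units L u).unit, hx⟩
  have hy' : Ideal.span ({y} : Set L) = Ideal.span {algebraMap R L b} :=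
    Ideal.span_singleton_eq_span_singleton.2 ⟨(IsLocalization.map_units L v).unit, hy⟩
  rw [Ideal.span_insert, Ideal.span_insert, hx', hy']

theorem flat_genPt : Flat (genPt R K) := by
  rw [Flat.SpecMap_iff]
  exact RingHom.flat_algebraMap_iff.2 (IsLocalization.flat K (nonZeroDivisors R))

theorem dominant_genPt : IsSchemeTheoreticallyDominant (genPt R K) := by
  haveI : IsDominant (genPt R K) := ⟨(PrimeSpectrum.denseRange_comap_iff_ker_le_nilRadical (algebraMap R (K))).2
    ((RingHom.injective_iff_ker_eq_bot _).1 (IsFractionRing.injective R (K)) ▸ bot_le)⟩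
  exact .of_isDominant _

theorem mono_genPt : Mono (genPt R K) := by
  haveI : IsPreimmersion (genPt R K) := IsPreimmersion.of_isLocalization (nonZeroDivisors R)
  infer_instance

variable {G : Over (Spec (CommRingCat.of R))} {HK : Over (Spec (CommRingCat.of K))}
  (i : HK ⟶ Red.bc (genPt R K) G) [IsClosedImmersion i.left]

/-- The composite of a subscheme of the generic fibre with the projection to the whole scheme. -/
noncomputable def toTotal : HK.left ⟶ G.left := i.left ≫ pullback.fst G.hom (genPt R K)

instance quasiCompact_genPt_fst : QuasiCompact (pullback.fst G.hom (genPt R K)) := inferInstance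

instance quasiCompact_toTotal : QuasiCompact (toTotal i) :=
  inferInstanceAs (QuasiCompact (i.left ≫ pullback.fst G.hom (genPt R K)))

/-- The schematic closure in `G`. -/
noncomputable def closure : Over (Spec (CommRingCat.of R)) := Over.mk ((toTotal i).imageι ≫ G.hom)

/-- The inclusion of the schematic closure. -/
noncomputable def closureι : closure i ⟶ G := Over.homMk (toTotal i).imageι rfl

instance isClosedImmersion_closureι : IsClosedImmersion (closureι i).left :=
  inferInstanceAs (IsClosedImmersion (toTotal i).imageι)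

theorem toTotal_hom : toTotal i ≫ G.hom = HK.hom ≫ genPt R K := by
  rw [toTotal, Category.assoc, pullback.condition, ← Over.w i, Category.assoc]
  rfl

theorem flat_closure : Flat (closure i).hom := by
  haveI := flat_genPt (R := R) (K := K)
  haveI : Flat HK.hom := inferInstance
  haveI : Flat (toTotal i ≫ G.hom) := by rw [toTotal_hom]; infer_instance
  exact flat_imageι (fun y => isBezout_stalk R y) (toTotal i) G.hom

theorem isPullback_closure_fst :
    IsPullback (toTotal i).toImage i.left (toTotal i).imageι (pullback.fst G.hom (genPt R K)) := by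
  haveI := mono_genPt (R := R) (K := K)
  haveI : Flat (pullback.fst G.hom (genPt R K)) := MorphismProperty.pullback_fst _ _ (flat_genPt (R := R) (K := K))
  have hQ : QuasiCompact (pullback.fst G.hom (genPt R K)) := inferInstance
  set q := pullback.fst G.hom (genPt R K) with hq
  have hg : toTotal i = i.left ≫ q := rfl
  let m : HK.left ⟶ pullback (toTotal i).imageι q := pullback.lift (toTotal i).toImage i.left
    (by rw [Scheme.Hom.toImage_imageι, hg])
  have hm : m ≫ pullback.snd (toTotal i).imageι q = i.left := pullback.lift_snd _ _ _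
  haveI : Mono q := inferInstance
  have sq : IsPullback (𝟙 HK.left) i.left (toTotal i) q :=
    IsPullback.of_isLimit' ⟨by rw [Category.id_comp]; exact hg⟩ (PullbackCone.IsLimit.mk _ (fun s => s.fst)
      (fun s => Category.comp_id _) (fun s => by
        rw [← cancel_mono q, Category.assoc, ← hg]
        exact s.condition) fun s r h1 _ => by simpa using h1)
  haveI : IsIso m := IsClosedImmersion.isIso_of_ker_eq i.left (pullback.snd (toTotal i).imageι q) m hm (by
    rw [Desc19b.ker_pullback_snd_of_flat, Scheme.Hom.imageι, Scheme.IdealSheafData.ker_subschemeι,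
      ← Desc19b.ker_pullback_snd_of_flat (toTotal i) q, ← sq.isoPullback_hom_snd, Scheme.Hom.ker_comp_of_isIso])
  exact IsPullback.of_iso_pullback ⟨by rw [Scheme.Hom.toImage_imageι, hg]⟩ (asIso m)
    (pullback.lift_fst _ _ _) hm

theorem isPullback_closure :
    IsPullback (toTotal i).toImage HK.hom (closure i).hom (genPt R K) := by
  have := (isPullback_closure_fst i).paste_vert (IsPullback.of_hasPullback G.hom (genPt R K))
  rw [show i.left ≫ pullback.snd G.hom (genPt R K) = HK.hom from Over.w i] at this
  exact this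

/-- The generic fibre of the closure is the given subscheme. -/
theorem exists_iso_bc_closure :
    ∃ φ : HK ≅ Red.bc (genPt R K) (closure i), φ.hom ≫ (Over.pullback (genPt R K)).map (closureι i) = i := by
  refine ⟨Over.isoMk (isPullback_closure i).isoPullback (isPullback_closure i).isoPullback_hom_snd, ?_⟩
  ext1
  apply pullback.hom_ext
  · simp [closureι, toTotal]
  · simp
    exact (Over.w i).symm

/-- A morphism from a flat scheme lands in the closure as soon as it does so on the generic fibre. -/
theorem exists_lift_closure {T : Over (Spec (CommRingCat.of R))} [Flat T.hom] (g : T ⟶ G)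
    (h : ∃ w : Red.bc (genPt R K) T ⟶ HK, w ≫ i = (Over.pullback (genPt R K)).map g) :
    ∃ g' : T ⟶ closure i, g' ≫ closureι i = g := by
  obtain ⟨w, hw⟩ := h
  haveI := dominant_genPt (R := R) (K := K)
  haveI : IsSchemeTheoreticallyDominant (pullback.fst T.hom (genPt R K)) :=
    IsSchemeTheoreticallyDominant.pullbackFst T.hom (genPt R K)
  have hle : (toTotal i).imageι.ker ≤ g.left.ker := by
    rw [Scheme.Hom.imageι, Scheme.IdealSheafData.ker_subschemeι]
    have e : pullback.fst T.hom (genPt R K) ≫ g.left = w.left ≫ toTotal i := by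
      have := congrArg (fun a => Over.Hom.left a ≫ pullback.fst G.hom (genPt R K)) hw
      simp at this
      rw [toTotal, this]
    have : (toTotal i).ker ≤ (pullback.fst T.hom (genPt R K) ≫ g.left).ker := by
      rw [e]; exact Scheme.Hom.le_ker_comp _ _
    rwa [Scheme.Hom.ker_comp, (pullback.fst T.hom (genPt R K)).ker_eq_bot,
      Scheme.IdealSheafData.map_bot] at this
  refine ⟨Over.homMk (IsClosedImmersion.lift _ g.left hle) ?_, ?_⟩
  · show _ ≫ (toTotal i).imageι ≫ G.hom = T.hom
    rw [IsClosedImmersion.lift_fac_assoc, Over.w]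
  · ext1
    exact IsClosedImmersion.lift_fac _ _ _

theorem exists_grpObj_closure [GrpObj G] [GrpObj HK] [IsMonHom i] :
    ∃ _ : GrpObj (closure i), IsMonHom (closureι i) := by
  obtain ⟨φ, hφ⟩ := exists_iso_bc_closure i
  have hj : (Over.pullback (genPt R K)).map (closureι i) = φ.inv ≫ i := (Iso.eq_inv_comp φ).2 hφ
  haveI : Flat (closure i).hom := flat_closure i
  haveI : Flat (closure i ⊗ closure i).hom :=
    inferInstanceAs (Flat (pullback.fst (closure i).hom (closure i).hom ≫ (closure i).hom))
  haveI : Flat (𝟙_ (Over (Spec (CommRingCat.of R)))).hom := inferInstanceAs (Flat (𝟙 _))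
  haveI : Mono (closureι i) := Over.mono_of_mono_left _
  refine AlgGrpLib.exists_grpObj_of_mono (closureι i) ?_ ?_ ?_
  · refine exists_lift_closure i _ ⟨1, ?_⟩
    rw [Functor.map_one, MonObj.one_comp]
  · refine exists_lift_closure i _
      ⟨((Over.pullback (genPt R K)).map (fst _ _) ≫ φ.inv) * ((Over.pullback (genPt R K)).map (snd _ _) ≫ φ.inv), ?_⟩
    rw [Functor.map_mul, MonObj.mul_comp, Functor.map_comp, Functor.map_comp, hj, Category.assoc, Category.assoc]
  · refine exists_lift_closure i _ ⟨(φ.inv)⁻¹, ?_⟩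
    rw [Functor.map_inv', hj, GrpObj.inv_comp]

end Groth.Agent.AlgGrpLib.ValClosure
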