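import Groth.Prelude.Def_Red
import Groth.Agent.AlgGrpLib.ValClosure
import Groth.Agent.AlgGrpLib.GaussVal
import Groth.Agent.H8Lim.UniversallyOpen
import Groth.Agent.FlatMor12.ValuationSections

/-!
# Functions on the generic fibre integral at a point of the total space over a valuation ring
-/

set_option autoImplicit false
set_option linter.style.haveILetI false
set_option backward.isDefEq.respectTransparency.types false

universe u

open CategoryTheory CategoryTheory.Limits TopologicalSpace MonoidalCategory CartesianMonoidalCategory MonObj AlgebraicGeometry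
open Opposite

noncomputable section

namespace Groth.Agent.AlgGrpLib.AffineSpec

open Groth.Agent.AlgGrpLib.ValClosure (genPt)

variable {V : Type u} [CommRing V] [IsDomain V] [ValuationRing V] (K : Type u) [Field K] [Algebra V K]
  [IsFractionRing V K] (C : Over (Spec (CommRingCat.of V)))

/-- The generic fibre. -/
abbrev gen : Over (Spec (CommRingCat.of K)) := Red.bc (genPt V K) C

/-- The projection of the generic fibre. -/
abbrev prj : (gen K C).left ⟶ C.left := pullback.fst C.hom (genPt V K)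

/-- The constants. -/
def cst : K →+* Γ((gen K C).left, ⊤) :=
  ((Scheme.ΓSpecIso (CommRingCat.of K)).inv ≫ (gen K C).hom.appTop).hom

/-- The value at a rational point. -/
def ev (s : Spec (CommRingCat.of K) ⟶ (gen K C).left) : Γ((gen K C).left, ⊤) →+* K :=
  (s.appTop ≫ (Scheme.ΓSpecIso (CommRingCat.of K)).hom).hom

theorem ev_cst (s : Spec (CommRingCat.of K) ⟶ (gen K C).left) (hs : s ≫ (gen K C).hom = 𝟙 _) (c : K) :
    ev K C s (cst K C c) = c := by
  have h : ((Scheme.ΓSpecIso (CommRingCat.of K)).inv ≫ (gen K C).hom.appTop) ≫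
      (s.appTop ≫ (Scheme.ΓSpecIso (CommRingCat.of K)).hom) = 𝟙 _ := by
    rw [Category.assoc, ← Category.assoc (Scheme.Hom.appTop _), ← Scheme.Hom.comp_appTop, hs]
    simp
  exact congr(($h).hom c)

/-- The restriction to the part over an open. -/
abbrev res (U : C.left.Opens) : Γ((gen K C).left, ⊤) →+* Γ((gen K C).left, prj K C ⁻¹ᵁ U) :=
  ((gen K C).left.presheaf.map (homOfLE le_top).op).hom

/-- `f` is integral at `x`. -/
def IntAt (f : Γ((gen K C).left, ⊤)) (x : C.left) : Prop :=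
  ∃ U : C.left.Opens, x ∈ U ∧ ((prj K C).app U).hom.IsIntegralElem (res K C U f)

theorem isIntegralElem_res_of_le {f : Γ((gen K C).left, ⊤)} {U U' : C.left.Opens} (h : U' ≤ U)
    (hf : ((prj K C).app U).hom.IsIntegralElem (res K C U f)) :
    ((prj K C).app U').hom.IsIntegralElem (res K C U' f) := by
  obtain ⟨p, hp, hpx⟩ := hf
  refine ⟨p.map (C.left.presheaf.map (homOfLE h).op).hom, hp.map _, ?_⟩
  rw [Polynomial.eval₂_map]
  have hn : (C.left.presheaf.map (homOfLE h).op) ≫ (prj K C).app U' =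
      (prj K C).app U ≫ (gen K C).left.presheaf.map ((Opens.map (prj K C).base).map (homOfLE h)).op :=
    (prj K C).naturality (homOfLE h).op
  rw [← CommRingCat.hom_comp, hn, CommRingCat.hom_comp]
  have he : res K C U' f =
      ((gen K C).left.presheaf.map ((Opens.map (prj K C).base).map (homOfLE h)).op).hom (res K C U f) := by
    rw [← CommRingCat.comp_apply, ← Functor.map_comp]
    rfl
  rw [he, ← Polynomial.hom_eval₂, hpx, map_zero]

theorem IntAt.add {f g : Γ((gen K C).left, ⊤)} {x : C.left} (hf : IntAt K C f x) (hg : IntAt K C g x) :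
    IntAt K C (f + g) x := by
  obtain ⟨U, hU, hfU⟩ := hf
  obtain ⟨U', hU', hgU⟩ := hg
  refine ⟨U ⊓ U', ⟨hU, hU'⟩, ?_⟩
  rw [map_add]
  exact (isIntegralElem_res_of_le K C inf_le_left hfU).add _ (isIntegralElem_res_of_le K C inf_le_right hgU)

theorem IntAt.mul {f g : Γ((gen K C).left, ⊤)} {x : C.left} (hf : IntAt K C f x) (hg : IntAt K C g x) :
    IntAt K C (f * g) x := by
  obtain ⟨U, hU, hfU⟩ := hf
  obtain ⟨U', hU', hgU⟩ := hg
  refine ⟨U ⊓ U', ⟨hU, hU'⟩, ?_⟩
  rw [map_mul]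
  exact (isIntegralElem_res_of_le K C inf_le_left hfU).mul _ (isIntegralElem_res_of_le K C inf_le_right hgU)

theorem intAt_zero (x : C.left) : IntAt K C 0 x :=
  ⟨⊤, trivial, by rw [map_zero]; exact RingHom.isIntegralElem_zero _⟩

theorem cst_algebraMap (v : V) :
    cst K C (algebraMap V K v) =
      (prj K C).appTop.hom (C.hom.appTop.hom ((Scheme.ΓSpecIso (CommRingCat.of V)).inv.hom v)) := by
  have h : CommRingCat.ofHom (algebraMap V K) ≫ (Scheme.ΓSpecIso (CommRingCat.of K)).inv ≫ (gen K C).hom.appTop =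
      (Scheme.ΓSpecIso (CommRingCat.of V)).inv ≫ C.hom.appTop ≫ (prj K C).appTop := by
    rw [← Scheme.Hom.comp_appTop, pullback.condition, Scheme.Hom.comp_appTop, Scheme.ΓSpecIso_inv_naturality_assoc]
    rfl
  exact congr(($h).hom v)

theorem intAt_cst (v : V) (x : C.left) : IntAt K C (cst K C (algebraMap V K v)) x := by
  refine ⟨⊤, trivial, ?_⟩
  rw [cst_algebraMap]
  have e : ∀ z : Γ((gen K C).left, ⊤), res K C ⊤ z = z := fun z => by
    show ((gen K C).left.presheaf.map (𝟙 _)).hom z = z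
    rw [CategoryTheory.Functor.map_id]
    rfl
  rw [e]
  exact RingHom.isIntegralElem_map ((prj K C).app ⊤).hom

theorem IntAt.sum {I : Type*} (s : Finset I) (f : I → Γ((gen K C).left, ⊤)) {x : C.left}
    (h : ∀ i ∈ s, IntAt K C (f i) x) : IntAt K C (∑ i ∈ s, f i) x := by
  classical
  induction s using Finset.induction_on with
  | empty => rw [Finset.sum_empty]; exact intAt_zero K C x
  | insert a s ha ih =>
    rw [Finset.sum_insert ha]
    exact (h a (Finset.mem_insert_self _ _)).add K C (ih fun i hi => h i (Finset.mem_insert_of_mem hi))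

theorem intAt_isOpen (f : Γ((gen K C).left, ⊤)) : IsOpen {x | IntAt K C f x} := by
  rw [isOpen_iff_forall_mem_open]
  rintro x ⟨U, hU, hf⟩
  exact ⟨U, fun y hy => ⟨U, hy, hf⟩, U.2, hU⟩

/-- Integrality is carried along endomorphisms over `V`. -/
theorem IntAt.translate (τ : C ⟶ C) {f : Γ((gen K C).left, ⊤)} {x : C.left} (hf : IntAt K C f (τ.left x)) :
    IntAt K C (((Over.pullback (genPt V K)).map τ).left.appTop.hom f) x := by
  obtain ⟨U, hU, p, hp, hpx⟩ := hf
  let τK : (gen K C).left ⟶ (gen K C).left := ((Over.pullback (genPt V K)).map τ).left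
  have hc : τK ≫ prj K C = prj K C ≫ τ.left := pullback.lift_fst _ _ _
  refine ⟨τ.left ⁻¹ᵁ U, hU, p.map (τ.left.app U).hom, hp.map _, ?_⟩
  have hle : prj K C ⁻¹ᵁ (τ.left ⁻¹ᵁ U) ≤ τK ⁻¹ᵁ (prj K C ⁻¹ᵁ U) := by
    rw [← Scheme.Hom.comp_preimage, ← Scheme.Hom.comp_preimage, hc]
  have hn : τ.left.app U ≫ (prj K C).app (τ.left ⁻¹ᵁ U) =
      (prj K C).app U ≫ τK.appLE (prj K C ⁻¹ᵁ U) (prj K C ⁻¹ᵁ (τ.left ⁻¹ᵁ U)) hle := by
    simp only [Scheme.Hom.app_eq_appLE, Scheme.Hom.appLE_comp_appLE, hc]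
  rw [Polynomial.eval₂_map, ← CommRingCat.hom_comp, hn, CommRingCat.hom_comp]
  have he : res K C (τ.left ⁻¹ᵁ U) (τK.appTop.hom f) =
      (τK.appLE (prj K C ⁻¹ᵁ U) (prj K C ⁻¹ᵁ (τ.left ⁻¹ᵁ U)) hle).hom (res K C U f) := by
    have h : τK.appTop ≫ (gen K C).left.presheaf.map (homOfLE le_top).op =
        (gen K C).left.presheaf.map (homOfLE le_top).op ≫
          τK.appLE (prj K C ⁻¹ᵁ U) (prj K C ⁻¹ᵁ (τ.left ⁻¹ᵁ U)) hle := by
      rw [Scheme.Hom.map_appLE, Scheme.Hom.appTop, Scheme.Hom.app_eq_appLE]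
      exact Scheme.Hom.appLE_map _ _ _
    exact congr(($h).hom f)
  rw [he, ← Polynomial.hom_eval₂, hpx, map_zero]

variable {C} (σ : Spec (CommRingCat.of V) ⟶ C.left) (hσ : σ ≫ C.hom = 𝟙 _)

/-- The generic point of a section. -/
def genSec : Spec (CommRingCat.of K) ⟶ (gen K C).left :=
  pullback.lift (genPt V K ≫ σ) (𝟙 _) (by rw [Category.assoc, hσ, Category.comp_id, Category.id_comp])

theorem genSec_prj : genSec K σ hσ ≫ prj K C = genPt V K ≫ σ := pullback.lift_fst _ _ _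

theorem genSec_hom : genSec K σ hσ ≫ (gen K C).hom = 𝟙 _ := pullback.lift_snd _ _ _

theorem sec_preimage_eq_top {U : C.left.Opens} (hU : σ (IsLocalRing.closedPoint V) ∈ U) : σ ⁻¹ᵁ U = ⊤ :=
  IsLocalRing.closed_point_mem_iff.1 hU

theorem genSec_preimage_eq_top {U : C.left.Opens} (hU : σ (IsLocalRing.closedPoint V) ∈ U) :
    genSec K σ hσ ⁻¹ᵁ (prj K C ⁻¹ᵁ U) = ⊤ := by
  rw [← Scheme.Hom.comp_preimage, genSec_prj, Scheme.Hom.comp_preimage, sec_preimage_eq_top σ hU]
  rfl

/-- The evaluation map of sections over an open at a section of it. -/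
def evOn (U : C.left.Opens) (hU : σ (IsLocalRing.closedPoint V) ∈ U) :
    Γ((gen K C).left, prj K C ⁻¹ᵁ U) →+* K :=
  ((genSec K σ hσ).appLE (prj K C ⁻¹ᵁ U) ⊤ (genSec_preimage_eq_top K σ hσ hU).ge ≫
    (Scheme.ΓSpecIso (CommRingCat.of K)).hom).hom

/-- The integral evaluation map. -/
def evInt (U : C.left.Opens) (hU : σ (IsLocalRing.closedPoint V) ∈ U) : Γ(C.left, U) →+* V :=
  (σ.appLE U ⊤ (sec_preimage_eq_top σ hU).ge ≫ (Scheme.ΓSpecIso (CommRingCat.of V)).hom).hom

theorem evOn_res (U : C.left.Opens) (hU : σ (IsLocalRing.closedPoint V) ∈ U) (f : Γ((gen K C).left, ⊤)) :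
    evOn K σ hσ U hU (res K C U f) = ev K C (genSec K σ hσ) f := by
  rw [evOn, ev, ← CommRingCat.comp_apply, ← Category.assoc, Scheme.Hom.map_appLE, Scheme.Hom.appTop,
    Scheme.Hom.app_eq_appLE]
  rfl

theorem evOn_app (U : C.left.Opens) (hU : σ (IsLocalRing.closedPoint V) ∈ U) (b : Γ(C.left, U)) :
    evOn K σ hσ U hU (((prj K C).app U).hom b) = algebraMap V K (evInt σ U hU b) := by
  have h1 : (genSec K σ hσ ≫ prj K C).appLE U ⊤
      (by rw [Scheme.Hom.comp_preimage, genSec_preimage_eq_top K σ hσ hU]) =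
      σ.appLE U ⊤ (sec_preimage_eq_top σ hU).ge ≫ (genPt V K).appTop := by
    simp only [genSec_prj, Scheme.Hom.appTop, Scheme.Hom.app_eq_appLE]
    exact (Scheme.Hom.appLE_comp_appLE _ _ _ _ _ _ _).symm
  have h : (prj K C).app U ≫ (genSec K σ hσ).appLE (prj K C ⁻¹ᵁ U) ⊤ (genSec_preimage_eq_top K σ hσ hU).ge ≫
      (Scheme.ΓSpecIso (CommRingCat.of K)).hom =
      σ.appLE U ⊤ (sec_preimage_eq_top σ hU).ge ≫ (Scheme.ΓSpecIso (CommRingCat.of V)).hom ≫
        CommRingCat.ofHom (algebraMap V K) := by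
    rw [← Category.assoc, Scheme.Hom.app_eq_appLE, Scheme.Hom.appLE_comp_appLE, h1, Category.assoc,
      ← Scheme.ΓSpecIso_naturality]
  exact congr(($h).hom b)

/-- A function integral at the special point of a section has integral value there. -/
theorem exists_ev_eq [IsAlgClosed K] {f : Γ((gen K C).left, ⊤)}
    (hf : IntAt K C f (σ (IsLocalRing.closedPoint V))) :
    ∃ v : V, algebraMap V K v = ev K C (genSec K σ hσ) f := by
  obtain ⟨U, hU, p, hp, hpx⟩ := hf
  refine IsIntegrallyClosed.isIntegral_iff.1 ⟨p.map (evInt σ U hU), hp.map _, ?_⟩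
  rw [← evOn_res K σ hσ U hU, Polynomial.eval₂_map,
    show (algebraMap V K).comp (evInt σ U hU) = (evOn K σ hσ U hU).comp ((prj K C).app U).hom from
      RingHom.ext fun b => (evOn_app K σ hσ U hU b).symm, ← Polynomial.hom_eval₂, hpx, map_zero]

variable (C)

theorem exists_denom [Flat C.hom] {O : C.left.Opens} (hO : IsAffineOpen O)
    (z : Γ((gen K C).left, prj K C ⁻¹ᵁ O)) :
    ∃ (a : V) (b : Γ(C.left, O)), a ≠ 0 ∧ res K C O (cst K C (algebraMap V K a)) * z = ((prj K C).app O).hom b := by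
  classical
  have H : IsPullback (prj K C) (gen K C).hom C.hom (genPt V K) := IsPullback.of_hasPullback _ _
  have h1 : (⊤ : (Spec (CommRingCat.of K)).Opens) ≤ genPt V K ⁻¹ᵁ ⊤ := le_rfl
  have h2 : O ≤ C.hom ⁻¹ᵁ ⊤ := le_top
  have h3 : prj K C ⁻¹ᵁ O = prj K C ⁻¹ᵁ O ⊓ (gen K C).hom ⁻¹ᵁ ⊤ := by simp
  haveI := isIso_pushoutSection_of_isAffineOpen H (US := ⊤) (UT := ⊤) (UX := O) h1 h2 h3
    (isAffineOpen_top _) (isAffineOpen_top _) hO
  have hpo := (isIso_pushoutSection_iff H h1 h2 h3).1 inferInstance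
  obtain ⟨n, -, x, y, hz⟩ := H8Lim.exists_sum_mul_of_isPushout hpo z
  let yK : Fin n → K := fun i => (Scheme.ΓSpecIso (CommRingCat.of K)).hom.hom (y i)
  obtain ⟨⟨a, ha⟩, hint⟩ := IsLocalization.exist_integer_multiples_of_finite (nonZeroDivisors V) yK
  choose m hm using hint
  refine ⟨a, ∑ i, x i * (C.hom.appLE ⊤ O h2).hom ((Scheme.ΓSpecIso (CommRingCat.of V)).inv.hom (m i)),
    nonZeroDivisors.ne_zero ha, ?_⟩
  have hy : ∀ i, ((gen K C).hom.appLE ⊤ (prj K C ⁻¹ᵁ O) le_top).hom (y i) = res K C O (cst K C (yK i)) := by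
    intro i
    have h : (gen K C).hom.appLE ⊤ (prj K C ⁻¹ᵁ O) le_top = (Scheme.ΓSpecIso (CommRingCat.of K)).hom ≫
        ((Scheme.ΓSpecIso (CommRingCat.of K)).inv ≫ (gen K C).hom.appTop) ≫
          (gen K C).left.presheaf.map (homOfLE le_top).op := by
      rw [Category.assoc, Iso.hom_inv_id_assoc, Scheme.Hom.appTop, Scheme.Hom.app_eq_appLE]
      exact (Scheme.Hom.appLE_map _ _ _).symm
    exact congr(($h).hom (y i))
  have hv : ∀ v : V, res K C O (cst K C (algebraMap V K v)) =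
      ((prj K C).app O).hom ((C.hom.appLE ⊤ O h2).hom ((Scheme.ΓSpecIso (CommRingCat.of V)).inv.hom v)) := by
    intro v
    rw [cst_algebraMap]
    have h : C.hom.appTop ≫ (prj K C).appTop ≫ (gen K C).left.presheaf.map (homOfLE le_top).op =
        C.hom.appLE ⊤ O h2 ≫ (prj K C).app O := by
      rw [← Scheme.Hom.comp_appTop_assoc]
      simp only [Scheme.Hom.appTop, Scheme.Hom.app_eq_appLE, Scheme.Hom.appLE_comp_appLE]
      exact Scheme.Hom.appLE_map _ _ _
    exact congr(($h).hom ((Scheme.ΓSpecIso (CommRingCat.of V)).inv.hom v))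
  have hx : ∀ i, ((prj K C).appLE O (prj K C ⁻¹ᵁ O) le_rfl).hom (x i) = ((prj K C).app O).hom (x i) := fun i => by
    rw [Scheme.Hom.app_eq_appLE]
  rw [hz, Finset.mul_sum, map_sum]
  refine Finset.sum_congr rfl fun i _ => ?_
  rw [map_mul, ← hx, ← hv, hm, mul_left_comm, hy]
  congr 1
  rw [← map_mul, ← map_mul]
  congr 2
  exact (Algebra.smul_def _ _).symm

end Groth.Agent.AlgGrpLib.AffineSpec
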