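import Groth.Agent.AlgGrpLib.AffineSpecPoints
import Groth.Agent.AlgGrpLib.OrbitDimFormula
import Groth.Agent.AlgGrpLib.AffineCriterion
import Groth.Agent.VarietyLib.SmoothStalk
import Groth.Agent.CAlgH3.RegularLocal
import Groth.Agent.DimLib.Zero
import Mathlib.RingTheory.AlgebraicIndependent.TranscendenceBasis
import Mathlib.FieldTheory.Minpoly.IsIntegrallyClosed
import Mathlib.FieldTheory.AlgebraicClosure

/-!
# The special fibre of a flat group over a valuation ring with affine generic fibre

The largest smooth connected subgroup of the special fibre is affine.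
-/

set_option autoImplicit false
set_option maxHeartbeats 1000000
set_option synthInstance.maxHeartbeats 200000
set_option linter.style.haveILetI false
set_option backward.isDefEq.respectTransparency.types false

universe u

open CategoryTheory CategoryTheory.Limits TopologicalSpace MonoidalCategory CartesianMonoidalCategory MonObj GrpObj AlgebraicGeometry
open Opposite

noncomputable section

namespace Groth.Agent.AlgGrpLib.AffineSpec

open Groth.Agent.AlgGrpLib.ValClosure (genPt)

theorem baseRingHom_eq {k : Type u} [Field k] {X : Scheme.{u}} (f : X ⟶ Spec (CommRingCat.of k)) (x : X) :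
    CommRingCat.ofHom (DimLib.baseRingHom f x) =
      ((Scheme.ΓSpecIso (CommRingCat.of k)).inv ≫ f.appTop ≫ X.presheaf.germ ⊤ x trivial ≫ X.residue x :
        CommRingCat.of k ⟶ X.residueField x) := by
  apply Spec.map_injective
  rw [DimLib.specMap_baseRingHom, Spec.map_comp, Spec.map_comp, Spec.map_comp, Scheme.fromSpecResidueField,
    Category.assoc, Category.assoc, Category.assoc]
  congr 1
  rw [← Scheme.fromSpecStalk_toSpecΓ, Category.assoc, ← Scheme.toSpecΓ_naturality_assoc,
    toSpecΓ_SpecMap_ΓSpecIso_inv, Category.comp_id]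

/-- An element of the function field lying in every local ring at a closed point is a global function. -/
theorem exists_global {X : Scheme.{u}} [IsIntegral X] [JacobsonSpace X] (c : X.functionField)
    (h : ∀ x : X, IsClosed ({x} : Set X) →
      c ∈ (algebraMap (X.presheaf.stalk x) X.functionField).range) :
    ∃ s : Γ(X, ⊤), X.presheaf.germ ⊤ (genericPoint X) trivial s = c := by
  let η₀ := genericPoint X
  let I := {O : X.Opens // ∃ (hη : η₀ ∈ O) (a : Γ(X, O)), X.presheaf.germ O η₀ hη a = c}
  have hη : ∀ O : I, η₀ ∈ O.1 := fun O => O.2.choose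
  choose a ha using fun O : I => O.2.choose_spec
  have hcov : ∀ y : X, y ∈ (⨆ O : I, O.1 : X.Opens) := by
    by_contra hne
    push Not at hne
    obtain ⟨y, hy⟩ := hne
    obtain ⟨x, hx, hxc⟩ := nonempty_inter_closedPoints (Z := ((⨆ O : I, O.1 : X.Opens) : Set X)ᶜ) ⟨y, hy⟩
      (⨆ O : I, O.1 : X.Opens).2.isClosed_compl.isLocallyClosed
    obtain ⟨g, hg⟩ := h x hxc
    obtain ⟨U, hU, b, rfl⟩ := X.presheaf.exists_germ_eq g
    have hηU : η₀ ∈ U := ((genericPoint_spec X).specializes (Set.mem_univ x)).mem_open U.2 hU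
    refine hx (Opens.mem_iSup.2 ⟨⟨U, hηU, b, ?_⟩, hU⟩)
    rw [← hg]
    exact (TopCat.Presheaf.germ_stalkSpecializes_apply _ hU _ _).symm
  obtain ⟨s, hs, -⟩ := TopCat.Sheaf.existsUnique_gluing' X.sheaf (fun O : I => O.1) (⊤ : X.Opens)
    (fun O => homOfLE le_top) (fun z _ => hcov z) a fun O O' => by
      have h12 : η₀ ∈ O.1 ⊓ O'.1 := ⟨hη O, hη O'⟩
      refine germ_injective_of_isIntegral _ η₀ h12 ?_
      exact (X.presheaf.germ_res_apply _ η₀ h12 _).trans
        ((ha O).trans ((X.presheaf.germ_res_apply _ η₀ h12 _).trans (ha O')).symm)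
  obtain ⟨O, hO⟩ := Opens.mem_iSup.1 (hcov η₀)
  refine ⟨s, ?_⟩
  rw [← ha O, ← hs O]
  exact (TopCat.Presheaf.germ_res_apply _ _ _ _ _).symm

variable {V : Type u} [CommRing V] [IsDomain V] [ValuationRing V] (K : Type u) [Field K] [Algebra V K]
  [IsFractionRing V K] {k' : Type u} [Field k'] (π : Spec (CommRingCat.of k') ⟶ Spec (CommRingCat.of V))
  [IsClosedImmersion π]

theorem closedPt_eq : π.base (IsLocalRing.closedPoint k') = IsLocalRing.closedPoint V := by
  have hc : IsClosed ({π.base (IsLocalRing.closedPoint k')} : Set (Spec (CommRingCat.of V))) := by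
    have : Set.range π.base = {π.base (IsLocalRing.closedPoint k')} := by
      ext z
      refine ⟨fun ⟨w, hw⟩ => ?_, fun hz => ⟨_, hz.symm⟩⟩
      rw [← hw, Subsingleton.elim (α := PrimeSpectrum k') w (IsLocalRing.closedPoint k')]
      rfl
    rw [← this]
    exact π.isClosedEmbedding.isClosed_range
  exact IsLocalRing.eq_maximalIdeal ((PrimeSpectrum.isClosed_singleton_iff_isMaximal _).1 hc) |> PrimeSpectrum.ext

theorem genPt_closedPoint :
    (genPt V K).base (IsLocalRing.closedPoint K) = genericPoint (Spec (CommRingCat.of V)) := by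
  rw [genericPoint_eq_bot_of_affine]
  apply PrimeSpectrum.ext
  show Ideal.comap (algebraMap V K) (IsLocalRing.maximalIdeal K) = ⊥
  rw [IsLocalRing.maximalIdeal_eq_bot, ← RingHom.ker_eq_comap_bot,
    (RingHom.injective_iff_ker_eq_bot _).1 (IsFractionRing.injective V K)]

variable {C : Over (Spec (CommRingCat.of V))} [Flat C.hom] [LocallyOfFiniteType C.hom] [QuasiCompact C.hom]

include π in
theorem dim_special_le : topologicalKrullDim ↥(pullback C.hom π) ≤ topologicalKrullDim ↥(gen K C).left := by
  refine (SpecializeVal.dim_fibre_le C.hom π).trans ?_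
  haveI : IsPreimmersion (genPt V K) := IsPreimmersion.of_isLocalization (nonZeroDivisors V)
  rw [← SpecializeSubgroup.dim_bc_point (genPt V K) C _ (genPt_closedPoint K)]

variable {H : Over (Spec (CommRingCat.of k'))} [IrreducibleSpace H.left] [LocallyOfFiniteType H.hom]
  (r : H ⟶ Red.bc π C) [IsClosedImmersion r.left]

/-- The special component contains, near its generic point, an open subset of the special fibre. -/
theorem exists_open_sub (hdim : topologicalKrullDim ↥(gen K C).left ≤ topologicalKrullDim ↥H.left)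
    (W : H.left.Opens) (hW : (W : Set H.left).Nonempty) :
    ∃ O : C.left.Opens, (r.left ≫ pullback.fst C.hom π).base (genericPoint H.left) ∈ O ∧
      ∀ x ∈ O, C.hom.base x = IsLocalRing.closedPoint V →
        ∃ y ∈ W, (r.left ≫ pullback.fst C.hom π).base y = x := by
  let X := pullback C.hom π
  let p : X ⟶ Spec (CommRingCat.of k') := pullback.snd C.hom π
  haveI : LocallyOfFiniteType p := MorphismProperty.pullback_snd _ _ ‹LocallyOfFiniteType C.hom›
  haveI : QuasiCompact p := MorphismProperty.pullback_snd _ _ ‹QuasiCompact C.hom›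
  haveI : CompactSpace X := QuasiCompact.compactSpace_of_compactSpace p
  haveI := OrbitDim.isNoetherian_of_lft p
  haveI : IsClosedImmersion (pullback.fst C.hom π) := MorphismProperty.pullback_fst _ _ ‹IsClosedImmersion π›
  let ζ : X := r.left.base (genericPoint H.left)
  have hζ : ∀ y, y ⤳ ζ → ζ = y := by
    intro y hy
    refine (DimLib.eq_of_specializes_of_ptDim_le p hy ?_).symm
    have h1 : DimLib.ptDim H.hom (genericPoint H.left) = DimLib.ptDim p ζ := by
      rw [← Over.w r]
      exact DimLib.ptDim_comp_preimmersion p r.left _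
    have h2 : (DimLib.ptDim p y : WithBot ℕ∞) ≤ (DimLib.ptDim p ζ : WithBot ℕ∞) := by
      rw [← h1, ← DimLib.topologicalKrullDim_eq_ptDim_genericPoint]
      exact (DimLib.ptDim_le_topologicalKrullDim p y).trans ((dim_special_le K π).trans hdim)
    exact_mod_cast h2
  let others : Set X := ⋃₀ (irreducibleComponents X \ {closure {ζ}})
  have hfin : (irreducibleComponents X).Finite := TopologicalSpace.NoetherianSpace.finite_irreducibleComponents
  have hoc : IsClosed others := by
    rw [show others = ⋃ T ∈ irreducibleComponents X \ {closure {ζ}}, T from Set.sUnion_eq_biUnion]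
    exact hfin.sdiff.isClosed_biUnion fun T hT => isClosed_of_mem_irreducibleComponents T hT.1
  have hcl : closure {ζ} = Set.range r.left.base := by
    rw [← Set.image_singleton, r.left.isClosedEmbedding.closure_image_eq, (genericPoint_spec H.left).def, Set.image_univ]
  have hζo : ζ ∉ others := by
    rintro ⟨T, ⟨hT, hTx⟩, hxT⟩
    obtain ⟨y, hy, hymax⟩ := DimLib.exists_genericPoint_of_mem_components hT
    have : ζ = y := hζ y (hy.specializes hxT)
    exact hTx (by rw [Set.mem_singleton_iff, this, hy.def])
  let bad : Set X := others ∪ r.left.base '' (W : Set H.left)ᶜ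
  have hbad : IsClosed bad := hoc.union (r.left.isClosedEmbedding.isClosedMap _ W.2.isClosed_compl)
  have hζbad : ζ ∉ bad := by
    rintro (h | ⟨y, hy, hye⟩)
    · exact hζo h
    · refine hy ?_
      rw [r.left.isClosedEmbedding.injective hye]
      exact ((genericPoint_spec H.left).mem_open_set_iff W.2).2 (by simpa using hW)
  refine ⟨⟨((pullback.fst C.hom π).base '' bad)ᶜ,
    ((pullback.fst C.hom π).isClosedEmbedding.isClosedMap _ hbad).isOpen_compl⟩, ?_, fun x hx hxc => ?_⟩
  · rintro ⟨z, hz, hze⟩
    have e : z = ζ := (pullback.fst C.hom π).isClosedEmbedding.injective (hze.trans (Scheme.Hom.comp_apply _ _ _))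
    rw [e] at hz
    exact hζbad hz
  obtain ⟨z, hz, -⟩ := Scheme.Pullback.exists_preimage_pullback (f := C.hom) (g := π) x
    (IsLocalRing.closedPoint k') (hxc.trans (closedPt_eq π).symm)
  have hzbad : z ∉ bad := fun h => hx ⟨z, h, hz⟩
  obtain ⟨T, hT, hzT⟩ : ∃ T ∈ irreducibleComponents X, z ∈ T := by
    obtain ⟨η₀, hη₀, hmax⟩ := DimLib.exists_maximal_specializes z
    exact ⟨_, DimLib.closure_mem_components hmax, hη₀.mem_closure⟩
  have hTe : T = closure {ζ} := by
    by_contra h
    exact hzbad (Or.inl ⟨T, ⟨hT, h⟩, hzT⟩)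
  obtain ⟨y, hy⟩ : z ∈ Set.range r.left.base := hcl ▸ hTe ▸ hzT
  refine ⟨y, ?_, by rw [Scheme.Hom.comp_apply, hy, hz]⟩
  by_contra h
  exact hzbad (Or.inr ⟨y, h, hy⟩)

variable [GrpObj C] [IsAlgClosed K] [IsAlgClosed k'] [GrpObj H] [Smooth H.hom] [QuasiCompact H.hom] [IsMonHom r]
  [IsIntegral (gen K C).left] [IsAffine (gen K C).left] [LocallyOfFiniteType (gen K C).hom]

include K π r in
/-- The function field of the special component is algebraic over the field of its global functions. -/
theorem trdegHom_toAffOf (hdim : topologicalKrullDim ↥(gen K C).left ≤ topologicalKrullDim ↥H.left)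
    (hdim' : topologicalKrullDim ↥H.left ≤ topologicalKrullDim ↥(gen K C).left) :
    DimLib.trdegHom ((toAffOf H).left.residueFieldMap (genericPoint H.left)).hom = 0 := by
  classical
  haveI : IsReduced H.left := AbSchLib.isReduced_of_smooth H.hom
  haveI : IsIntegral H.left := (isIntegral_iff_irreducibleSpace_and_isReduced _).2 ⟨inferInstance, inferInstance⟩
  haveI : JacobsonSpace H.left := LocallyOfFiniteType.jacobsonSpace H.hom
  haveI : IsClosedImmersion (pullback.fst C.hom π) := MorphismProperty.pullback_fst _ _ ‹IsClosedImmersion π›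
  let ι₁ := r.left ≫ pullback.fst C.hom π
  let η' := genericPoint H.left
  let q : C.left := ι₁.base η'
  let F := H.left.residueField η'
  have hqc : C.hom.base q = IsLocalRing.closedPoint V := by
    rw [← Scheme.Hom.comp_apply, show ι₁ ≫ C.hom = H.hom ≫ π by
      simp only [ι₁, Category.assoc, pullback.condition]; rw [← Category.assoc, ← Over.w r]; rfl,
      Scheme.Hom.comp_apply, Subsingleton.elim (α := PrimeSpectrum k') (H.hom.base η') (IsLocalRing.closedPoint k')]
    exact closedPt_eq π
  haveI : IsIso (ι₁.residueFieldMap η') := DimLib.isIso_residueFieldMap_of_isPreimmersion ι₁ η'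
  let χ : C.left.presheaf.stalk q →+* F := (C.left.residue q ≫ ι₁.residueFieldMap η').hom
  have hχs : Function.Surjective χ := fun z => by
    obtain ⟨z', rfl⟩ := (ConcreteCategory.bijective_of_isIso (ι₁.residueFieldMap η')).2 z
    obtain ⟨a, rfl⟩ := C.left.residue_surjective q z'
    exact ⟨a, rfl⟩
  have hχu : ∀ a, χ a ≠ 0 → IsUnit a := by
    intro a ha
    by_contra h
    refine ha ?_
    have h0 : C.left.residue q a = 0 := (IsLocalRing.residue_eq_zero_iff a).2 h
    show ι₁.residueFieldMap η' (C.left.residue q a) = 0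
    rw [h0, map_zero]
  -- the coordinates
  letI : Algebra k' F := (DimLib.baseRingHom H.hom η').toAlgebra
  obtain ⟨ιT, uT, huT⟩ := exists_isTranscendenceBasis' k' F
  let d := DimLib.ptDim H.hom η'
  have hcard : Cardinal.mk ιT = (d : Cardinal.{u}) := by
    rw [huT.cardinalMk_eq_trdeg]
    exact (Cardinal.cast_toNat_of_lt_aleph0 (DimLib.trdeg_baseRingHom_lt H.hom η')).symm
  obtain ⟨eT⟩ : Nonempty (ιT ≃ Fin d) := by
    refine Cardinal.lift_mk_eq'.1 ?_
    rw [hcard, Cardinal.mk_fin, Cardinal.lift_natCast, Cardinal.lift_natCast]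
  let uF : Fin d → F := uT ∘ eT.symm
  have huF : IsTranscendenceBasis k' uF := huT.comp_equiv eT.symm
  choose a ha using fun i => hχs (uF i)
  let t : Fin d → ff K C := fun i => stalkIn K C q (a i)
  let π' : V →+* k' := (Spec.preimage π).hom
  let vSt : V →+* C.left.presheaf.stalk q :=
    ((Scheme.ΓSpecIso (CommRingCat.of V)).inv ≫ C.hom.appTop ≫ C.left.presheaf.germ ⊤ q trivial).hom
  have hvSt : ∀ v, stalkIn K C q (vSt v) = algebraMap K (ff K C) (algebraMap V K v) := by
    intro v
    rw [RingHom.algebraMap_toAlgebra, RingHom.comp_apply, cst_algebraMap]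
    exact stalkIn_germ K C (U := ⊤) trivial _
  have hχv : ∀ v, χ (vSt v) = algebraMap k' F (π' v) := by
    intro v
    have h : (Scheme.ΓSpecIso (CommRingCat.of V)).inv ≫ C.hom.appTop ≫ C.left.presheaf.germ ⊤ q trivial ≫
        C.left.residue q ≫ ι₁.residueFieldMap η' =
        CommRingCat.ofHom π' ≫ CommRingCat.ofHom (DimLib.baseRingHom H.hom η') := by
      rw [baseRingHom_eq, Scheme.residue_residueFieldMap, ← Category.assoc (C.left.presheaf.germ _ _ _),
        Scheme.Hom.germ_stalkMap, Category.assoc]
      have hπ : Spec.map (CommRingCat.ofHom π') = π := Spec.map_preimage π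
      have h2 : C.hom.appTop ≫ ι₁.appTop = π.appTop ≫ H.hom.appTop := by
        rw [← Scheme.Hom.comp_appTop, ← Scheme.Hom.comp_appTop]
        congr 1
        simp only [ι₁, Category.assoc, pullback.condition]
        rw [← Category.assoc, ← Over.w r]
        rfl
      rw [← Category.assoc C.hom.appTop]
      refine (congrArg (fun z => (Scheme.ΓSpecIso (CommRingCat.of V)).inv ≫
        (z ≫ H.left.presheaf.germ ⊤ η' trivial ≫ H.left.residue η')) h2).trans ?_
      rw [← hπ, Category.assoc, ← Scheme.ΓSpecIso_inv_naturality_assoc]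
    exact congr(($h).hom v)
  have hprim : ∀ P : MvPolynomial (Fin d) V, (∃ n, IsUnit (P.coeff n)) → ∃ e : (locRing K C q).toSubring,
      IsUnit e ∧ (e : ff K C) = MvPolynomial.eval₂ ((algebraMap K (ff K C)).comp (algebraMap V K)) t P := by
    rintro P ⟨n, hn⟩
    let e₀ := MvPolynomial.eval₂ vSt a P
    have hu : IsUnit e₀ := by
      refine hχu _ fun h0 => ?_
      have h1 : MvPolynomial.aeval uF (MvPolynomial.map π' P) = χ e₀ := by
        rw [MvPolynomial.aeval_def, MvPolynomial.eval₂_map, MvPolynomial.eval₂_comp_left χ vSt a P]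
        rw [show (χ : _ → F) ∘ a = uF from funext ha,
          show χ.comp vSt = (algebraMap k' F).comp π' from RingHom.ext hχv]
      have h2 := algebraicIndependent_iff.1 huF.1 _ (h1.trans h0)
      have h3 := congrArg (MvPolynomial.coeff n) h2
      rw [MvPolynomial.coeff_map, MvPolynomial.coeff_zero] at h3
      exact (hn.map π').ne_zero h3
    refine ⟨⟨stalkIn K C q e₀, ⟨e₀, rfl⟩⟩, ?_, ?_⟩
    · exact hu.map (stalkIn K C q).rangeRestrict
    · show stalkIn K C q e₀ = _
      rw [MvPolynomial.eval₂_comp_left (stalkIn K C q) vSt a P,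
        show (stalkIn K C q).comp vSt = (algebraMap K (ff K C)).comp (algebraMap V K) from RingHom.ext hvSt]
      rfl
  have hgauss := GaussVal.gauss_of_primitive V (locRing K C q) t hprim
  -- algebraicity over `K(t)`
  haveI hKalg : Algebra.IsAlgebraic (IntermediateField.adjoin K (Set.range t)) (ff K C) := by
    letI := (DimLib.baseRingHom (gen K C).hom (genericPoint (gen K C).left)).toAlgebra
    let rξ : ff K C →ₐ[K] (gen K C).left.residueField (genericPoint (gen K C).left) :=
      { ((gen K C).left.residue (genericPoint (gen K C).left)).hom with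
        commutes' := fun c => by
          have h := baseRingHom_eq (gen K C).hom (genericPoint (gen K C).left)
          exact congr(($h.symm).hom c) }
    have hr : Function.Bijective rξ :=
      ⟨((gen K C).left.residue (genericPoint (gen K C).left)).hom.injective, IsLocalRing.residue_surjective⟩
    have htr : Algebra.trdeg K (ff K C) = (d : Cardinal.{u}) := by
      rw [(AlgEquiv.ofBijective rξ hr).trdeg_eq,
        ← Cardinal.cast_toNat_of_lt_aleph0 (DimLib.trdeg_baseRingHom_lt (gen K C).hom _)]
      have h := le_antisymm hdim hdim'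
      rw [DimLib.topologicalKrullDim_eq_ptDim_genericPoint (gen K C).hom,
        DimLib.topologicalKrullDim_eq_ptDim_genericPoint H.hom] at h
      have h' : DimLib.ptDim (gen K C).hom (genericPoint (gen K C).left) = d := by exact_mod_cast h
      rw [← h']
      rfl
    have hti := GaussVal.algebraicIndependent_of_gauss (locRing K C q) t hgauss
    exact (AlgebraicIndependent.isTranscendenceBasis_of_lift_trdeg_le_of_finite hti (by
      rw [htr, Cardinal.mk_fin, Cardinal.lift_natCast, Cardinal.lift_natCast])).isAlgebraic_field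
  -- the scaled denominator
  haveI : Nonempty (⊤ : (gen K C).left.Opens) := ⟨⟨genericPoint _, trivial⟩⟩
  haveI hfrac : IsFractionRing Γ((gen K C).left, ⊤) (ff K C) :=
    functionField_isFractionRing_of_isAffineOpen (gen K C).left ⊤ (isAffineOpen_top _)
  obtain ⟨⟨D, hD⟩, hnum⟩ :=
    IsLocalization.exist_integer_multiples_of_finite (nonZeroDivisors Γ((gen K C).left, ⊤)) t
  have hnum' : ∀ i, ∃ N, germG K C N = germG K C D * t i := by
    intro i
    obtain ⟨N, hN⟩ := hnum i
    exact ⟨N, hN.trans (Algebra.smul_def _ _)⟩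
  choose N hN using hnum'
  have hD0 : germG K C D ≠ 0 := fun h => nonZeroDivisors.ne_zero hD (germG_injective K C (h.trans (map_zero _).symm))
  obtain ⟨c, hc, hint, w, hw, -, hw1⟩ := GaussVal.exists_scale (V := V) (locRing K C q) t hgauss
    (fun v => algebraMap_mem_locRing K C v q) (fun _ : Unit => germG K C D) ⟨(), hD0⟩
  let h₀ := D * cst K C c⁻¹
  have hh₀ : germG K C h₀ = germG K C D / algebraMap K (ff K C) c := by
    rw [map_mul, div_eq_mul_inv, ← map_inv₀]
    rfl
  have hh₀q : IsIntegral (locRing K C q).toSubring (germG K C h₀) := hh₀ ▸ hint ()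
  let hN' := fun i => N i * cst K C c⁻¹
  have hhN : ∀ i, germG K C (hN' i) = t i * germG K C h₀ := by
    intro i
    rw [map_mul, hN, map_mul]
    ring
  have hhNq : ∀ i, IsIntegral (locRing K C q).toSubring (germG K C (hN' i)) := fun i => by
    rw [hhN]
    exact (isIntegral_algebraMap (x := (⟨t i, ⟨a i, rfl⟩⟩ : (locRing K C q).toSubring))).mul hh₀q
  -- the residue field of `w`
  let ψ₀ : C.left.presheaf.stalk q →+* w := (stalkIn K C q).codRestrict w fun z => hw.1 ⟨z, rfl⟩
  haveI : IsLocalHom ψ₀ := ⟨fun z hz => by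
    obtain ⟨hle, hloc⟩ := hw
    obtain ⟨⟨y, z', rfl⟩, hy⟩ := isUnit_iff_exists_inv.1 (hloc.map_nonunit (⟨_, z, rfl⟩ : (locRing K C q).toSubring) hz)
    refine isUnit_iff_exists_inv.2 ⟨z', stalkIn_injective K C q ?_⟩
    rw [map_mul, map_one]
    exact congrArg Subtype.val hy⟩
  let κw := IsLocalRing.ResidueField w
  let ψ : F →+* κw := (IsLocalRing.ResidueField.map ψ₀).comp (inv (ι₁.residueFieldMap η')).hom
  have hψ : ∀ z, ψ (χ z) = IsLocalRing.residue w (ψ₀ z) := by
    intro z
    show IsLocalRing.ResidueField.map ψ₀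
      ((inv (ι₁.residueFieldMap η')).hom ((ι₁.residueFieldMap η').hom (C.left.residue q z))) = _
    rw [← CommRingCat.comp_apply, IsIso.hom_inv_id]
    exact IsLocalRing.ResidueField.map_residue _ _
  let ρ := toAffOf H
  let κρ := (affOf H).left.residueField (ρ.left.base η')
  letI : Algebra κρ F := (ρ.left.residueFieldMap η').hom.toAlgebra
  letI : Algebra F κw := ψ.toAlgebra
  letI : Algebra κρ κw := (ψ.comp (ρ.left.residueFieldMap η').hom).toAlgebra
  haveI : IsScalarTower κρ F κw := IsScalarTower.of_algebraMap_eq fun _ => rfl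
  have hglob : ∀ s : Γ(H.left, ⊤), ∃ z : κρ, algebraMap κρ F z =
      H.left.residue η' (H.left.presheaf.germ ⊤ η' trivial s) := by
    intro s
    haveI : CompactSpace H.left := QuasiCompact.compactSpace_of_compactSpace H.hom
    have hsurj : Function.Surjective ρ.left.appTop.hom := fun s => by
      refine ⟨(Scheme.ΓSpecIso Γ(H.left, ⊤)).inv.hom s, ?_⟩
      show (H.left.toSpecΓ.appTop).hom _ = _
      rw [Scheme.toSpecΓ_appTop, ← CommRingCat.comp_apply, Iso.inv_hom_id]
      rfl
    obtain ⟨s', rfl⟩ := hsurj s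
    refine ⟨(affOf H).left.residue _ ((affOf H).left.presheaf.germ ⊤ (ρ.left.base η') trivial s'), ?_⟩
    have h : (affOf H).left.presheaf.germ ⊤ (ρ.left.base η') trivial ≫ (affOf H).left.residue _ ≫
        ρ.left.residueFieldMap η' = ρ.left.appTop ≫ H.left.presheaf.germ ⊤ η' trivial ≫ H.left.residue η' := by
      rw [Scheme.residue_residueFieldMap, Scheme.Hom.germ_stalkMap_assoc]
      rfl
    exact congr(($h).hom s')
  have halg : ∀ g : Γ((gen K C).left, ⊤), IsIntegral (locRing K C q).toSubring (germG K C g) →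
      ∀ hm : germG K C g ∈ w, IsAlgebraic κρ (IsLocalRing.residue w ⟨_, hm⟩) := by
    intro g hg hm
    set gb := IsLocalRing.residue w ⟨_, hm⟩
    let ψ' : H.left.functionField →+* κw := ψ.comp (H.left.residue η').hom
    letI : Algebra H.left.functionField κw := ψ'.toAlgebra
    have hgq : IntAt K C g q := (intAt_iff K C g q).2 hg
    have hstalk : ∀ x : H.left, IsClosed ({x} : Set H.left) → ∀ i,
        (minpoly H.left.functionField gb).coeff i ∈
          (algebraMap (H.left.presheaf.stalk x) H.left.functionField).range := by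
      intro x hx i
      obtain ⟨U, hU, p, hp, hpx⟩ := intAt_closed K hqc t hgauss π r rfl
        (fun W hW => exists_open_sub K π r hdim W hW) g hgq hx
      letI : Algebra (H.left.presheaf.stalk x) κw :=
        ((algebraMap H.left.functionField κw).comp (algebraMap (H.left.presheaf.stalk x) H.left.functionField)).toAlgebra
      haveI : IsScalarTower (H.left.presheaf.stalk x) H.left.functionField κw :=
        IsScalarTower.of_algebraMap_eq fun _ => rfl
      haveI : IsRegularLocalRing (H.left.presheaf.stalk x) := VarietyLib.isRegularLocalRing_stalk_of_smooth k' H.left H.hom x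
      haveI := CAlgH3.isIntegrallyClosed_of_regular (H.left.presheaf.stalk x)
      have hηU : η' ∈ ι₁ ⁻¹ᵁ U := ((genericPoint_spec H.left).specializes (Set.mem_univ x)).mem_open (ι₁ ⁻¹ᵁ U).2 hU
      have hqU : q ∈ U := hηU
      let gU : Γ(C.left, U) →+* w := ψ₀.comp (C.left.presheaf.germ U q hqU).hom
      have hcomp : (algebraMap (H.left.presheaf.stalk x) κw).comp
          ((H.left.presheaf.germ (ι₁ ⁻¹ᵁ U) x hU).hom.comp (ι₁.app U).hom) = (IsLocalRing.residue w).comp gU := by
        refine RingHom.ext fun b => ?_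
        show ψ (H.left.residue η' (algebraMap (H.left.presheaf.stalk x) H.left.functionField
          (H.left.presheaf.germ (ι₁ ⁻¹ᵁ U) x hU ((ι₁.app U).hom b)))) = IsLocalRing.residue w (ψ₀ _)
        rw [← hψ]
        congr 1
        have h : (ι₁.app U ≫ H.left.presheaf.germ (ι₁ ⁻¹ᵁ U) η' hηU) ≫ H.left.residue η' =
            C.left.presheaf.germ U q hqU ≫ C.left.residue q ≫ ι₁.residueFieldMap η' := by
          rw [Scheme.residue_residueFieldMap, Scheme.Hom.germ_stalkMap_assoc, Category.assoc]
        refine Eq.trans ?_ (congr(($h).hom b))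
        refine congrArg (H.left.residue η') ?_
        haveI : Nonempty ↥((ι₁ ⁻¹ᵁ U).toScheme) := ⟨⟨η', hηU⟩⟩
        exact (Scheme.algebraMap_germ_eq_germToFunctionField H.left (U := ι₁ ⁻¹ᵁ U) hU _)
      have hint' : IsIntegral (H.left.presheaf.stalk x) gb := by
        refine ⟨p.map ((H.left.presheaf.germ (ι₁ ⁻¹ᵁ U) x hU).hom.comp (ι₁.app U).hom), hp.map _, ?_⟩
        rw [Polynomial.eval₂_map, hcomp, ← Polynomial.hom_eval₂]
        suffices h0 : p.eval₂ gU ⟨_, hm⟩ = 0 by rw [h0, map_zero]
        apply Subtype.ext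
        show (w.subtype) (p.eval₂ gU ⟨_, hm⟩) = 0
        rw [Polynomial.hom_eval₂]
        have hgU : w.subtype.comp gU =
            ((gen K C).left.presheaf.germ (prj K C ⁻¹ᵁ U) (genericPoint _) (generic_mem_preimage K C hqU)).hom.comp
              ((prj K C).app U).hom := RingHom.ext fun b => stalkIn_germ K C hqU b
        rw [hgU]
        show p.eval₂ _ (germG K C g) = 0
        rw [← germ_res K C (generic_mem_preimage K C hqU) g, ← Polynomial.hom_eval₂, hpx, map_zero]
      rw [minpoly.isIntegrallyClosed_eq_field_fractions' H.left.functionField hint', Polynomial.coeff_map]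
      exact ⟨_, rfl⟩
    have hintF : IsIntegral H.left.functionField gb := by
      by_contra hni
      obtain ⟨U, hU, p, hp, hpx⟩ := hgq
      have hηU : η' ∈ ι₁ ⁻¹ᵁ U := hU
      let gU : Γ(C.left, U) →+* w := ψ₀.comp (C.left.presheaf.germ U q hU).hom
      have hcomp : (algebraMap H.left.functionField κw).comp
          ((H.left.presheaf.germ (ι₁ ⁻¹ᵁ U) η' hηU).hom.comp (ι₁.app U).hom) = (IsLocalRing.residue w).comp gU := by
        refine RingHom.ext fun b => ?_
        show ψ (H.left.residue η' (H.left.presheaf.germ (ι₁ ⁻¹ᵁ U) η' hηU ((ι₁.app U).hom b))) =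
          IsLocalRing.residue w (ψ₀ _)
        rw [← hψ]
        congr 1
        have h : (ι₁.app U ≫ H.left.presheaf.germ (ι₁ ⁻¹ᵁ U) η' hηU) ≫ H.left.residue η' =
            C.left.presheaf.germ U q hU ≫ C.left.residue q ≫ ι₁.residueFieldMap η' := by
          rw [Scheme.residue_residueFieldMap, Scheme.Hom.germ_stalkMap_assoc, Category.assoc]
        exact congr(($h).hom b)
      refine hni ⟨p.map ((H.left.presheaf.germ (ι₁ ⁻¹ᵁ U) η' hηU).hom.comp (ι₁.app U).hom), hp.map _, ?_⟩
      rw [Polynomial.eval₂_map, hcomp, ← Polynomial.hom_eval₂]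
      suffices h0 : p.eval₂ gU ⟨_, hm⟩ = 0 by rw [h0, map_zero]
      apply Subtype.ext
      show (w.subtype) (p.eval₂ gU ⟨_, hm⟩) = 0
      rw [Polynomial.hom_eval₂]
      have hgU : w.subtype.comp gU =
          ((gen K C).left.presheaf.germ (prj K C ⁻¹ᵁ U) (genericPoint _) (generic_mem_preimage K C hU)).hom.comp
            ((prj K C).app U).hom := RingHom.ext fun b => stalkIn_germ K C hU b
      rw [hgU]
      show p.eval₂ _ (germG K C g) = 0
      rw [← germ_res K C (generic_mem_preimage K C hU) g, ← Polynomial.hom_eval₂, hpx, map_zero]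
    have hlift : (minpoly H.left.functionField gb).map (algebraMap H.left.functionField κw) ∈
        Polynomial.lifts (algebraMap κρ κw) := by
      rw [Polynomial.lifts_iff_coeff_lifts]
      intro i
      obtain ⟨s, hs⟩ := exists_global _ (fun x hx => hstalk x hx i)
      obtain ⟨z, hz⟩ := hglob s
      refine ⟨z, ?_⟩
      rw [Polynomial.coeff_map, ← hs]
      exact congrArg ψ hz
    obtain ⟨P, hP, hdeg, hPm⟩ := Polynomial.lifts_and_natDegree_eq_and_monic hlift ((minpoly.monic hintF).map _)
    refine ⟨P, hPm.ne_zero, ?_⟩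
    rw [Polynomial.aeval_def, ← Polynomial.eval_map, hP, Polynomial.eval_map, ← Polynomial.aeval_def, minpoly.aeval]
  -- conclusion
  have hmem : ∀ {z : ff K C}, IsIntegral (locRing K C q).toSubring z → z ∈ w := by
    rintro z ⟨p, hp, hpz⟩
    obtain ⟨y, hy⟩ := (IsIntegrallyClosed.isIntegral_iff (R := w) (K := ff K C)).1
      ⟨p.map (Subring.inclusion hw.1), hp.map _, by rw [Polynomial.eval₂_map]; exact hpz⟩
    exact hy ▸ y.2
  let gh : w := ⟨_, hmem hh₀q⟩
  have hgh : IsLocalRing.residue w gh ≠ 0 := by
    intro h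
    have hu : IsUnit gh := (w.valuation_eq_one_iff gh).2 (by
      show w.valuation (germG K C h₀) = 1
      rw [hh₀]; exact hw1)
    exact (hu.map (IsLocalRing.residue w)).ne_zero h
  have hu : ∀ i, IsAlgebraic κρ (ψ (uF i)) := by
    intro i
    have e1 : ψ (uF i) = IsLocalRing.residue w ⟨_, hmem (hhNq i)⟩ * (IsLocalRing.residue w gh)⁻¹ := by
      rw [eq_mul_inv_iff_mul_eq₀ hgh, ← ha i, hψ, ← map_mul]
      congr 1
      exact Subtype.ext (hhN i).symm
    rw [e1]
    exact (halg _ (hhNq i) _).mul (halg h₀ hh₀q _).inv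
  let S₀ := algebraicClosure κρ κw
  have hbase : ∀ c : k', ψ (algebraMap k' F c) ∈ S₀ := by
    intro c
    obtain ⟨z, hz⟩ := hglob ((H.hom.appTop).hom ((Scheme.ΓSpecIso (CommRingCat.of k')).inv.hom c))
    have h := baseRingHom_eq H.hom η'
    have h' : algebraMap k' F c = algebraMap κρ F z := hz.symm ▸ congr(($h).hom c)
    rw [h']
    exact S₀.algebraMap_mem z
  have hall : ∀ z : F, IsAlgebraic κρ z := by
    intro z
    rw [← isAlgebraic_algebraMap_iff (FaithfulSMul.algebraMap_injective F κw)]
    haveI := huF.isAlgebraic_field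
    obtain ⟨P, hP0, hPz⟩ := Algebra.IsAlgebraic.isAlgebraic (R := IntermediateField.adjoin k' (Set.range uF)) z
    have hadj : ∀ c ∈ IntermediateField.adjoin k' (Set.range uF), ψ c ∈ S₀ := by
      intro c hc
      induction hc using IntermediateField.adjoin_induction with
      | mem x hx => obtain ⟨i, rfl⟩ := hx; exact (mem_algebraicClosure_iff).2 (hu i)
      | algebraMap x => exact hbase x
      | add x y _ _ hx hy => rw [map_add]; exact add_mem hx hy
      | inv x _ hx => rw [map_inv₀]; exact inv_mem hx
      | mul x y _ _ hx hy => rw [map_mul]; exact mul_mem hx hy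
    let f : IntermediateField.adjoin k' (Set.range uF) →+* S₀ :=
      (ψ.comp (algebraMap (IntermediateField.adjoin k' (Set.range uF)) F)).codRestrict S₀.toSubfield.toSubring
        fun c => hadj _ c.2
    have hS : IsAlgebraic S₀ (ψ z) := by
      refine ⟨P.map f, (Polynomial.map_ne_zero_iff f.injective).2 hP0, ?_⟩
      rw [Polynomial.aeval_def, Polynomial.eval₂_map]
      show P.eval₂ (ψ.comp (algebraMap _ F)) (ψ z) = 0
      rw [← Polynomial.hom_eval₂, ← Polynomial.aeval_def, hPz, map_zero]
    exact hS.restrictScalars κρ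
  haveI : Algebra.IsAlgebraic κρ F := ⟨hall⟩
  show (Algebra.trdeg κρ F).toNat = 0
  rw [trdeg_eq_zero, Cardinal.toNat_eq_zero]
  exact Or.inl rfl

include K π r in
/-- The special component is affine. -/
theorem isAffine_special (hdim : topologicalKrullDim ↥(gen K C).left ≤ topologicalKrullDim ↥H.left)
    (hdim' : topologicalKrullDim ↥H.left ≤ topologicalKrullDim ↥(gen K C).left) : IsAffine H.left := by
  have h0 := trdegHom_toAffOf K π r hdim hdim'
  obtain ⟨g, hρ, N, gN, i, hi, hci, hl, hqN, hb, hA, hf, hs, hker⟩ := AffineHull.exists_antiAffine_kernel H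
  haveI := hρ; haveI := hs; haveI := hA; haveI := hf
  haveI : IrreducibleSpace (affOf H).left := by
    refine { toPreirreducibleSpace := ⟨?_⟩, toNonempty := ⟨(toAffOf H).left.base (genericPoint H.left)⟩ }
    have := ((IrreducibleSpace.isIrreducible_univ H.left).image (toAffOf H).left.base
      (toAffOf H).left.continuous.continuousOn).2
    rwa [Set.image_univ, (toAffOf H).left.surjective.range_eq] at this
  let Q := affOf H
  have hQd : DimLib.ptDim Q.hom ((toAffOf H).left.base (genericPoint H.left)) = DimLib.ptDim H.hom (genericPoint H.left) := by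
    haveI : LocallyOfFiniteType ((toAffOf H).left ≫ Q.hom) := by rw [Over.w]; infer_instance
    have h1 := DimLib.ptDim_comp Q.hom (toAffOf H).left (genericPoint H.left)
    rw [h0, Over.w, add_zero] at h1
    exact h1.symm
  let a : AlgGrp.Action H Q :=
    { act := (fst H Q ≫ toAffOf H) * snd H Q
      one_act := by
        rw [MonObj.comp_mul, whiskerRight_fst_assoc, whiskerRight_snd, IsMonHom.one_hom,
          toUnit_unique (fst (𝟙_ _) Q) (toUnit _), ← Hom.one_def, _root_.one_mul, leftUnitor_hom]
      mul_act := by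
        rw [MonObj.comp_mul, MonObj.comp_mul, MonObj.comp_mul, whiskerRight_fst_assoc, whiskerRight_snd,
          whiskerLeft_fst_assoc, whiskerLeft_snd, show μ[H] = fst H H * snd H H by
            rw [Hom.mul_def, lift_fst_snd, Category.id_comp],
          MonObj.mul_comp, MonObj.comp_mul, MonObj.comp_mul, MonObj.comp_mul, associator_hom_fst_assoc,
          associator_hom_snd_fst_assoc, associator_hom_snd_snd, _root_.mul_assoc] }
  have horb : a.orbitMap η[Q] = toAffOf H := by
    show lift (𝟙 H) (toUnit H ≫ η[Q]) ≫ ((fst H Q ≫ toAffOf H) * snd H Q) = _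
    rw [MonObj.comp_mul, lift_fst_assoc, lift_snd, Category.id_comp, ← Hom.one_def, _root_.mul_one]
  haveI : QuasiCompact Q.hom := inferInstanceAs (QuasiCompact (Spec.map _))
  have hdimeq := OrbitDimFormula.dim_eq a η[Q]
  rw [horb] at hdimeq
  rw [(toAffOf H).left.surjective.range_eq, (Homeomorph.Set.univ _).isHomeomorph.topologicalKrullDim_eq] at hdimeq
  have hQ : (DimLib.ptDim H.hom (genericPoint H.left) : WithBot ℕ∞) ≤ topologicalKrullDim ↥Q.left := by
    rw [← hQd]
    exact DimLib.ptDim_le_topologicalKrullDim Q.hom _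
  obtain ⟨m, hm⟩ : ∃ m : ℕ, topologicalKrullDim ↥Q.left = (m : WithBot ℕ∞) :=
    ⟨_, DimLib.topologicalKrullDim_eq_ptDim_genericPoint Q.hom⟩
  haveI hP : Nonempty ↥(pullback (toAffOf H).left η[Q].left) := by
    have h1 : η[H].left ≫ (toAffOf H).left = 𝟙 _ ≫ η[Q].left := by
      rw [Category.id_comp, ← Over.comp_left, IsMonHom.one_hom]
    exact ⟨(pullback.lift η[H].left (𝟙 _) h1).base (IsLocalRing.closedPoint k')⟩
  rw [DimLib.topologicalKrullDim_eq_ptDim_genericPoint H.hom, hm] at hdimeq
  rw [hm] at hQ
  have hQ' : DimLib.ptDim H.hom (genericPoint H.left) ≤ m := by exact_mod_cast hQ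
  have hN0 : topologicalKrullDim ↥(pullback (toAffOf H).left η[Q].left) ≤ 0 := by
    revert hdimeq
    generalize topologicalKrullDim ↥(pullback (toAffOf H).left η[Q].left) = b
    intro hdimeq
    induction b with
    | bot => exact bot_le
    | coe b =>
      induction b with
      | top =>
        rw [show ((m : WithBot ℕ∞)) = (((m : ℕ∞)) : WithBot ℕ∞) from rfl, ← WithBot.coe_add, add_top] at hdimeq
        exact absurd hdimeq.symm (fun h => ENat.top_ne_coe _ (WithBot.coe_injective (h.trans rfl)))
      | coe b =>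
        have h2 : DimLib.ptDim H.hom (genericPoint H.left) = m + b := by exact_mod_cast hdimeq
        have : b = 0 := by omega
        subst this
        exact le_rfl
  haveI : Subsingleton ↥(𝟙_ (Over (Spec (CommRingCat.of k')))).left := inferInstanceAs (Subsingleton (PrimeSpectrum k'))
  refine AffineHull.isAffine_of_antiAffine_trivial H fun N' _ _ _ i' _ _ hN' => ?_
  have h1 : i' ≫ toAffOf H = 1 := AffineHull.eq_one_of_isAffine hN' _
  have h2 : i'.left ≫ (toAffOf H).left = N'.hom ≫ η[Q].left := by
    rw [← Over.comp_left, h1, Hom.one_def]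
    rfl
  let l := pullback.lift i'.left N'.hom h2
  haveI : IsClosedImmersion (l ≫ pullback.fst (toAffOf H).left η[Q].left) := by
    rw [pullback.lift_fst]; infer_instance
  haveI : IsSeparated (pullback.fst (toAffOf H).left η[Q].left) := inferInstance
  haveI : IsClosedImmersion l := IsClosedImmersion.of_comp l (pullback.fst (toAffOf H).left η[Q].left)
  have hdimN : topologicalKrullDim ↥N'.left ≤ 0 :=
    l.isClosedEmbedding.isEmbedding.isInducing.topologicalKrullDim_le.trans hN0
  haveI := DimLib.isFinite_of_dim_le_zero N'.hom hdimN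
  haveI : IsAffine N'.left := isAffine_of_isAffineHom N'.hom
  have h3 := AffineHull.eq_one_of_isAffine hN' (𝟙 N')
  rw [← Category.id_comp i', h3, MonObj.one_comp]

end Groth.Agent.AlgGrpLib.AffineSpec
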