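import Groth.Agent.AlgGrpLib.SpecializeVal
import Groth.Agent.S14733

/-!
# Dimensions of the fibres of a flat scheme over a valuation ring
-/

set_option autoImplicit false
set_option linter.style.haveILetI false
set_option backward.isDefEq.respectTransparency.types false

universe u

open CategoryTheory CategoryTheory.Limits AlgebraicGeometry

noncomputable section

namespace Groth.Agent.AlgGrpLib.SpecializeVal

theorem valuationRing_atPrime {V : Type u} [CommRing V] [IsDomain V] [ValuationRing V] (p : Ideal V) [p.IsPrime] :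
    ValuationRing (Localization.AtPrime p) := by
  let L := Localization.AtPrime p
  refine ValuationRing.iff_local_bezout_domain.2 ⟨inferInstance, IsBezout.iff_span_pair_isPrincipal.2 fun x y => ?_⟩
  obtain ⟨⟨a, u⟩, hx⟩ := IsLocalization.surj p.primeCompl x
  obtain ⟨⟨b, v⟩, hy⟩ := IsLocalization.surj p.primeCompl y
  obtain ⟨g, hg⟩ := IsBezout.iff_span_pair_isPrincipal.1 inferInstance a b
  refine ⟨algebraMap V L g, ?_⟩
  have e := congrArg (Ideal.map (algebraMap V L)) hg
  rw [Ideal.map_span, Set.image_pair] at e
  change _ = Ideal.map (algebraMap V L) (Ideal.span {g}) at e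
  rw [Ideal.map_span, Set.image_singleton] at e
  refine Eq.trans ?_ e
  have hx' : Ideal.span ({x} : Set L) = Ideal.span {algebraMap V L a} :=
    Ideal.span_singleton_eq_span_singleton.2 ⟨(IsLocalization.map_units L u).unit, hx⟩
  have hy' : Ideal.span ({y} : Set L) = Ideal.span {algebraMap V L b} :=
    Ideal.span_singleton_eq_span_singleton.2 ⟨(IsLocalization.map_units L v).unit, hy⟩
  rw [Ideal.span_insert, Ideal.span_insert, hx', hy']

/-- Fibres of a flat morphism to the spectrum of a valuation ring are not larger than the generic fibre. -/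
theorem dim_fibre_le {V : Type u} [CommRing V] [IsDomain V] [ValuationRing V] {X : Scheme.{u}}
    (f : X ⟶ Spec (CommRingCat.of V)) [Flat f] [LocallyOfFiniteType f] [QuasiCompact f]
    {k' : Type u} [Field k'] (π : Spec (CommRingCat.of k') ⟶ Spec (CommRingCat.of V)) [IsPreimmersion π] :
    topologicalKrullDim ↥(pullback f π) ≤
      topologicalKrullDim ↥(f.base ⁻¹' {genericPoint (Spec (CommRingCat.of V))}) := by
  let p := pullback.snd f π
  let q := pullback.fst f π
  haveI : LocallyOfFiniteType p := MorphismProperty.pullback_snd _ _ ‹LocallyOfFiniteType f›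
  refine DimLib.topologicalKrullDim_le_of_forall_maximal p _ fun y _ => ?_
  obtain ⟨ζ, hζ, hmax⟩ := DimLib.exists_maximal_specializes (q y)
  have hfζ : f ζ = genericPoint (Spec (CommRingCat.of V)) := by
    obtain ⟨w, hw, hwe⟩ := Flat.generalizingMap f (genericPoint_specializes (f ζ))
    rw [hmax w hw, hwe]
  let I : X.IdealSheafData := Scheme.IdealSheafData.vanishingIdeal ⟨closure {ζ}, isClosed_closure⟩
  let ι₀ := I.subschemeι
  have hrange : Set.range ι₀ = closure {ζ} := by
    rw [Scheme.IdealSheafData.range_subschemeι]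
    exact Scheme.IdealSheafData.coe_support_vanishingIdeal _
  obtain ⟨ζ', hζ'⟩ : ζ ∈ Set.range ι₀ := hrange ▸ subset_closure rfl
  have hgen : IsGenericPoint ζ' (Set.univ : Set I.subscheme) := by
    rw [IsGenericPoint, ι₀.isEmbedding.closure_eq_preimage_closure_image, Set.image_singleton, hζ', ← hrange,
      Set.preimage_range]
  haveI : Nonempty I.subscheme := ⟨ζ'⟩
  haveI : IrreducibleSpace I.subscheme :=
    { toPreirreducibleSpace := ⟨hgen.isIrreducible.2⟩, toNonempty := ⟨ζ'⟩ }
  let g := ι₀ ≫ f
  have hg : g ζ' = genericPoint (Spec (CommRingCat.of V)) := by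
    show f (ι₀ ζ') = _
    rw [hζ', hfζ]
  have hsub : ({genericPoint (Spec (CommRingCat.of V))} : Set (Spec (CommRingCat.of V))) ⊆ Set.range g :=
    Set.singleton_subset_iff.2 ⟨ζ', hg⟩
  haveI : IsDominant g := ⟨fun a => closure_mono hsub
    ((genericPoint_spec (Spec (CommRingCat.of V))).def.ge (Set.mem_univ a))⟩
  haveI : LocallyOfFiniteType g := inferInstance
  haveI : QuasiCompact g := inferInstance
  let r : pullback g π ⟶ pullback f π := pullback.map g π f π ι₀ (𝟙 _) (𝟙 _) (by simp [g]) (by simp)
  have sq : IsPullback (pullback.fst g π) r ι₀ q := by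
    refine IsPullback.of_bot ?_ (pullback.lift_fst _ _ _).symm (IsPullback.of_hasPullback f π)
    have h2 : r ≫ pullback.snd f π = pullback.snd g π := (pullback.lift_snd _ _ _).trans (Category.comp_id _)
    rw [h2]
    exact IsPullback.of_hasPullback g π
  haveI : IsClosedImmersion r := MorphismProperty.of_isPullback (P := @IsClosedImmersion) sq inferInstance
  obtain ⟨x', hx'⟩ : q y ∈ Set.range ι₀ := hrange ▸ hζ.mem_closure
  obtain ⟨y', -, hy'⟩ := Scheme.exists_preimage_of_isPullback sq x' y hx'
  subst hy'
  have h1 : (DimLib.ptDim p (r y') : WithBot ℕ∞) = DimLib.ptDim (r ≫ p) y' := by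
    rw [DimLib.ptDim_comp_preimmersion p r y']
  haveI : LocallyOfFiniteType (r ≫ p) := inferInstance
  refine (h1.le.trans (DimLib.ptDim_le_topologicalKrullDim (r ≫ p) y')).trans ?_
  let γ : Spec (CommRingCat.of V) := π.base (IsLocalRing.closedPoint k')
  have hne : Nonempty ↥(g.fiber γ) := by
    refine ⟨(g.fiberHomeo γ).symm ⟨pullback.fst g π y', ?_⟩⟩
    show g (pullback.fst g π y') = γ
    rw [← Scheme.Hom.comp_apply, pullback.condition, Scheme.Hom.comp_apply]
    exact congrArg π (Subsingleton.elim (α := PrimeSpectrum k') _ _)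
  calc topologicalKrullDim ↥(pullback g π)
      = topologicalKrullDim ↥(g.base ⁻¹' {γ}) := SpecializeSubgroup.dim_bc_point π (Over.mk g) γ rfl
    _ = topologicalKrullDim ↥(g.base ⁻¹' {genericPoint (Spec (CommRingCat.of V))}) := by
        have := S14733.result V (fun p _ => valuationRing_atPrime p) I.subscheme g γ hne
        rwa [(g.fiberHomeo _).isHomeomorph.topologicalKrullDim_eq,
          (g.fiberHomeo _).isHomeomorph.topologicalKrullDim_eq] at this
    _ ≤ _ := (ι₀.isEmbedding.restrictPreimage (f.base ⁻¹' {genericPoint (Spec (CommRingCat.of V))})).isInducing.topologicalKrullDim_le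

end Groth.Agent.AlgGrpLib.SpecializeVal
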