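import Groth.Agent.AlgGrpLib.AffineSpecBase
import Groth.Agent.AlgGrpLib.SpecializeDim
import Groth.Agent.AlgGrpLib.OrbitDim
import Groth.Agent.DimLib.Components
import Groth.Agent.RedSepLib.Immersion
import Groth.Agent.SGA3cLib.ActionPoints

/-!
# Integral functions on the generic fibre are integral at every point of the special neutral component
-/

set_option autoImplicit false
set_option maxHeartbeats 1000000
set_option synthInstance.maxHeartbeats 200000
set_option linter.style.haveILetI false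
set_option backward.isDefEq.respectTransparency.types false

universe u

open CategoryTheory CategoryTheory.Limits TopologicalSpace MonoidalCategory CartesianMonoidalCategory MonObj GrpObj AlgebraicGeometry
open Opposite

noncomputable section

namespace Groth.Agent.AlgGrpLib.AffineSpec

open Groth.Agent.AlgGrpLib.ValClosure (genPt)

variable {V : Type u} [CommRing V] [IsDomain V] [ValuationRing V] (K : Type u) [Field K] [Algebra V K]
  [IsFractionRing V K] (C : Over (Spec (CommRingCat.of V)))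

/-- Sections over `V`. -/
abbrev Sec : Type u := {σ : Spec (CommRingCat.of V) ⟶ C.left // σ ≫ C.hom = 𝟙 _}

variable {C}

/-- Value of a function at a section. -/
abbrev evS (σ : Sec C) : Γ((gen K C).left, ⊤) →+* K := ev K C (genSec K σ.1 σ.2)

/-- The special point of a section. -/
abbrev Sec.pt (σ : Sec C) : C.left := σ.1.base (IsLocalRing.closedPoint V)

/-- A section as a morphism over `V`. -/
def Sec.over (σ : Sec C) : 𝟙_ (Over (Spec (CommRingCat.of V))) ⟶ C := Over.homMk σ.1 σ.2

/-- Its generic point as a morphism over `K`. -/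
def genOver (σ : Sec C) : 𝟙_ (Over (Spec (CommRingCat.of K))) ⟶ gen K C :=
  Over.homMk (genSec K σ.1 σ.2) (genSec_hom K σ.1 σ.2)

theorem map_const (σ : Sec C) :
    (Over.pullback (genPt V K)).map (toUnit C ≫ σ.over) = toUnit (gen K C) ≫ genOver K σ := by
  ext1
  apply pullback.hom_ext
  · show ((Over.pullback (genPt V K)).map (toUnit C ≫ σ.over)).left ≫ prj K C =
      ((gen K C).hom ≫ genSec K σ.1 σ.2) ≫ prj K C
    rw [Category.assoc, genSec_prj]
    refine (pullback.lift_fst _ _ _).trans ?_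
    show pullback.fst C.hom (genPt V K) ≫ C.hom ≫ σ.1 = _
    rw [← Category.assoc, pullback.condition, Category.assoc]
    rfl
  · show ((Over.pullback (genPt V K)).map (toUnit C ≫ σ.over)).left ≫ (gen K C).hom =
      ((gen K C).hom ≫ genSec K σ.1 σ.2) ≫ (gen K C).hom
    rw [Category.assoc, genSec_hom, Category.comp_id]
    exact Over.w _

variable [GrpObj C]

/-- Right translation by a section. -/
def trans (σ : Sec C) : C ⟶ C := 𝟙 C * (toUnit C ≫ σ.over)

/-- Right translation by the inverse. -/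
def transInv (σ : Sec C) : C ⟶ C := 𝟙 C * (toUnit C ≫ σ.over)⁻¹

omit [IsDomain V] [ValuationRing V] in
theorem trans_transInv (σ : Sec C) : trans σ ≫ transInv σ = 𝟙 C := by
  rw [transInv, MonObj.comp_mul, Category.comp_id, GrpObj.comp_inv, ← Category.assoc,
    toUnit_unique (trans σ ≫ toUnit C) (toUnit C), trans, mul_inv_cancel_right]

omit [IsDomain V] [ValuationRing V] in
theorem transInv_trans (σ : Sec C) : transInv σ ≫ trans σ = 𝟙 C := by
  rw [trans, MonObj.comp_mul, Category.comp_id, ← Category.assoc, toUnit_unique (transInv σ ≫ toUnit C) (toUnit C),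
    transInv, inv_mul_cancel_right]

/-- Translation of functions. -/
abbrev transFn (τ : C ⟶ C) : Γ((gen K C).left, ⊤) →+* Γ((gen K C).left, ⊤) :=
  ((Over.pullback (genPt V K)).map τ).left.appTop.hom

variable [IsAffine (gen K C).left]

variable (C) in
/-- Translates stay in a finite-dimensional space. -/
theorem exists_decomp (f : Γ((gen K C).left, ⊤)) :
    ∃ (n : ℕ) (a b : Fin n → Γ((gen K C).left, ⊤)),
      ∀ σ : Sec C, transFn K (trans σ) f = ∑ i, a i * cst K C (evS K σ (b i)) := by
  let P := gen K C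
  have sq : IsPullback (fst P P).left (snd P P).left P.hom P.hom := IsPullback.of_hasPullback _ _
  haveI : IsAffine (Spec (CommRingCat.of K)) := inferInstance
  obtain ⟨n, -, a, b, hab⟩ := H8Lim.exists_sum_mul_of_isPushout (isPushout_appTop_of_isPullback sq)
    (μ[P].left.appTop.hom f)
  refine ⟨n, a, b, fun σ => ?_⟩
  let l : P ⟶ P ⊗ P := lift (𝟙 P) (toUnit P ≫ genOver K σ)
  have hτ : (Over.pullback (genPt V K)).map (trans σ) = l ≫ μ[P] := by
    rw [trans, Functor.map_mul, CategoryTheory.Functor.map_id, map_const]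
    exact Hom.mul_def _ _
  show ((Over.pullback (genPt V K)).map (trans σ)).left.appTop.hom f = _
  rw [hτ, Over.comp_left, Scheme.Hom.comp_appTop, CommRingCat.comp_apply, hab, map_sum]
  refine Finset.sum_congr rfl fun i _ => ?_
  rw [map_mul]
  congr 1
  · have h : (fst P P).left.appTop ≫ l.left.appTop = 𝟙 _ := by
      rw [← Scheme.Hom.comp_appTop, ← Over.comp_left, lift_fst]
      rfl
    exact congr(($h).hom (a i))
  · have h : (snd P P).left.appTop ≫ l.left.appTop =
        ((genSec K σ.1 σ.2).appTop ≫ (Scheme.ΓSpecIso (CommRingCat.of K)).hom) ≫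
          (Scheme.ΓSpecIso (CommRingCat.of K)).inv ≫ P.hom.appTop := by
      rw [← Scheme.Hom.comp_appTop, ← Over.comp_left, lift_snd, Category.assoc, Iso.hom_inv_id_assoc,
        ← Scheme.Hom.comp_appTop]
      rfl
    exact congr(($h).hom (b i))

variable [IsAlgClosed K] [Flat C.hom] [LocallyOfFiniteType C.hom] [IsIntegral (gen K C).left]
  {d : ℕ} {q : C.left} (hqc : C.hom.base q = IsLocalRing.closedPoint V) (t : Fin d → ff K C)
  (hgauss : ∀ P : MvPolynomial (Fin d) K, P ≠ 0 → ∃ c : K, c ≠ 0 ∧ ∃ e : (locRing K C q).toSubring, IsUnit e ∧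
    MvPolynomial.aeval t P = algebraMap K (ff K C) c * e)
  [Algebra.IsAlgebraic (IntermediateField.adjoin K (Set.range t)) (ff K C)]

omit [GrpObj C] [IsAffine (gen K C).left] in
include hqc hgauss in
/-- Values at sections near the generic point of the special component lie in the span of finitely many of them. -/
theorem exists_span {I : Type} [Finite I] (s : Finset I) : ∀ (b : I → Γ((gen K C).left, ⊤)), (∀ i ∉ s, b i = 0) →
    ∀ O₀ : C.left.Opens, q ∈ O₀ → ∃ (O : C.left.Opens) (n : ℕ) (σs : Fin n → Sec C), q ∈ O ∧ O ≤ O₀ ∧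
      (∀ j, (σs j).pt ∈ O₀) ∧ ∀ σ : Sec C, σ.pt ∈ O →
        ∃ l : Fin n → V, ∀ i, evS K σ (b i) = ∑ j, algebraMap V K (l j) * evS K (σs j) (b i) := by
  classical
  induction s using Finset.strongInduction with
  | H s ih =>
    intro b hb O₀ hO₀
    by_cases hall : ∀ i, b i = 0
    · exact ⟨O₀, 0, Fin.elim0, hO₀, le_rfl, fun j => j.elim0, fun σ _ => ⟨Fin.elim0, fun i => by simp [hall i]⟩⟩
    push Not at hall
    obtain ⟨i', hi'⟩ := hall
    obtain ⟨c, hc, hint, w, hw, i₀, hi₀⟩ := GaussVal.exists_scale (V := V) (locRing K C q) t hgauss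
      (fun v => algebraMap_mem_locRing K C v q) (fun i => germG K C (b i))
      ⟨i', fun h => hi' (germG_injective K C (h.trans (map_zero _).symm))⟩
    have hi₀s : i₀ ∈ s := by
      by_contra h
      rw [hb i₀ h, map_zero, zero_div, map_zero] at hi₀
      exact zero_ne_one hi₀
    let g : I → Γ((gen K C).left, ⊤) := fun i => b i * cst K C c⁻¹
    have hg : ∀ i, germG K C (g i) = germG K C (b i) / algebraMap K (ff K C) c := by
      intro i
      rw [div_eq_mul_inv, ← map_inv₀, RingHom.algebraMap_toAlgebra, RingHom.comp_apply, ← map_mul]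
    have hev : ∀ (σ : Sec C) i, evS K σ (g i) = evS K σ (b i) / c := by
      intro σ i
      rw [div_eq_mul_inv, map_mul, evS, ev_cst K C _ (genSec_hom K σ.1 σ.2)]
    let OB : C.left.Opens := ⟨⋂ i, {x | IntAt K C (g i) x}, isOpen_iInter_of_finite fun i => intAt_isOpen K C _⟩
    have hqB : q ∈ OB := Set.mem_iInter.2 fun i => (intAt_iff K C _ q).2 (by rw [hg]; exact hint i)
    obtain ⟨σ₁, hσ₁, v, hv₁, hvu, hv⟩ := exists_section K C (O := O₀ ⊓ OB) ⟨hO₀, hqB⟩ hqc (g i₀) w hw
      (by rw [hg]; exact hi₀)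
    let τ₁ : Sec C := ⟨σ₁, hσ₁⟩
    have hb1 : evS K τ₁ (b i₀) = c * algebraMap V K v := by
      rw [hv]
      show _ = c * evS K τ₁ (g i₀)
      rw [hev, mul_div_cancel₀ _ hc]
    have hne : evS K τ₁ (b i₀) ≠ 0 := by
      rw [hb1]
      exact mul_ne_zero hc (fun h => hvu.ne_zero (IsFractionRing.injective V K (h.trans (map_zero _).symm)))
    let r : I → K := fun i => evS K τ₁ (b i) / evS K τ₁ (b i₀)
    let b' : I → Γ((gen K C).left, ⊤) := fun i => b i - cst K C (r i) * b i₀
    have hb' : ∀ i ∉ s.erase i₀, b' i = 0 := by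
      intro i hi
      by_cases h : i = i₀
      · subst h; simp [b', r, div_self hne]
      · have := hb i (fun hs => hi (Finset.mem_erase.2 ⟨h, hs⟩))
        simp [b', r, this]
    obtain ⟨O, n, σs, hqO, hOle, hσs, hspan⟩ := ih (s.erase i₀) (Finset.erase_ssubset hi₀s) b' hb' (O₀ ⊓ OB)
      ⟨hO₀, hqB⟩
    refine ⟨O, n + 1, Fin.cons τ₁ σs, hqO, hOle.trans inf_le_left, ?_, ?_⟩
    · intro j
      induction j using Fin.cases with
      | zero => simp only [Fin.cons_zero]; exact hv₁.1
      | succ j => simp only [Fin.cons_succ]; exact (hσs j).1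
    intro σ hσ
    obtain ⟨l, hl⟩ := hspan σ hσ
    have hVal : ∀ σ' : Sec C, σ'.pt ∈ OB → ∃ e : V, evS K σ' (b i₀) = c * algebraMap V K e := by
      intro σ' h
      obtain ⟨e, he⟩ := exists_ev_eq K σ'.1 σ'.2 (Set.mem_iInter.1 h i₀)
      refine ⟨e, ?_⟩
      rw [he]
      show _ = c * evS K σ' (g i₀)
      rw [hev, mul_div_cancel₀ _ hc]
    obtain ⟨e, he⟩ := hVal σ (hOle hσ).2
    choose ej hej using fun j => hVal (σs j) (hσs j).2
    obtain ⟨u, rfl⟩ := hvu
    refine ⟨Fin.cons ((e - ∑ j, l j * ej j) * (↑u⁻¹ : V)) l, fun i => ?_⟩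
    have h := hl i
    simp only [b', map_sub, map_mul, evS, ev_cst K C _ (genSec_hom K _ _)] at h
    rw [Fin.sum_univ_succ]
    simp only [Fin.cons_zero, Fin.cons_succ]
    have hu : algebraMap V K (↑u⁻¹ : V) * algebraMap V K (u : V) = 1 := by
      rw [← map_mul, Units.inv_mul, map_one]
    have hsum : ∑ j, algebraMap V K (l j) * (evS K (σs j) (b i) - r i * evS K (σs j) (b i₀)) =
        (∑ j, algebraMap V K (l j) * evS K (σs j) (b i)) - r i * c * algebraMap V K (∑ j, l j * ej j) := by
      rw [map_sum, Finset.mul_sum, ← Finset.sum_sub_distrib]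
      refine Finset.sum_congr rfl fun j _ => ?_
      rw [hej j, map_mul]
      ring
    rw [show ∑ j, algebraMap V K (l j) * (ev K C (genSec K (σs j).1 (σs j).2) (b i) -
        r i * ev K C (genSec K (σs j).1 (σs j).2) (b i₀)) = _ from hsum] at h
    have hr : r i * (c * algebraMap V K (u : V)) = evS K τ₁ (b i) := by
      rw [← hb1]; exact div_mul_cancel₀ _ hne
    rw [map_mul, map_sub, ← hr]
    have he' : ev K C (genSec K σ.1 σ.2) (b i₀) = c * algebraMap V K e := he
    rw [he'] at h
    show ev K C (genSec K σ.1 σ.2) (b i) = _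
    linear_combination h + (r i * c * (algebraMap V K (∑ j, l j * ej j) - algebraMap V K e)) * hu

variable {k' : Type u} [Field k'] [IsAlgClosed k'] (π : Spec (CommRingCat.of k') ⟶ Spec (CommRingCat.of V))
  [IsClosedImmersion π] {H : Over (Spec (CommRingCat.of k'))} [GrpObj H] [IrreducibleSpace H.left]
  [LocallyOfFiniteType H.hom] [QuasiCompact H.hom] (r : H ⟶ Red.bc π C) [IsMonHom r] [IsClosedImmersion r.left]

omit [IsAffine (gen K C).left] [GrpObj C] [Flat C.hom] in
theorem map_generic {e e' : H ⟶ H} (h : e' ≫ e = 𝟙 H) : e.left (genericPoint H.left) = genericPoint H.left := by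
  refine (((genericPoint_spec H.left).specializes (Set.mem_univ _)).antisymm ?_).eq.symm
  have h1 := ((genericPoint_spec H.left).specializes (Set.mem_univ (e'.left (genericPoint H.left)))).map e.left.continuous
  rwa [← Scheme.Hom.comp_apply, ← Over.comp_left, h] at h1

variable (hq : (r.left ≫ pullback.fst C.hom π).base (genericPoint H.left) = q)
  (hopen : ∀ W : H.left.Opens, (W : Set H.left).Nonempty → ∃ O : C.left.Opens, q ∈ O ∧
    ∀ x ∈ O, C.hom.base x = IsLocalRing.closedPoint V → ∃ y ∈ W, (r.left ≫ pullback.fst C.hom π).base y = x)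

omit [IsAffine (gen K C).left] [IsAlgClosed k'] [GrpObj C] [GrpObj H] [IrreducibleSpace H.left]
  [LocallyOfFiniteType H.hom] [QuasiCompact H.hom] [IsMonHom r] in
/-- A section through a point of the special component gives a rational point of it. -/
theorem exists_special_point (σ : Sec C) {y₀ : H.left} (h : (r.left ≫ pullback.fst C.hom π).base y₀ = σ.pt) :
    ∃ y : 𝟙_ (Over (Spec (CommRingCat.of k'))) ⟶ H,
      (Over.pullback π).map (toUnit C ≫ σ.over) = toUnit (Red.bc π C) ≫ y ≫ r ∧
      y.left.base (IsLocalRing.closedPoint k') = y₀ := by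
  let p : Spec (CommRingCat.of k') ⟶ pullback C.hom π :=
    pullback.lift (π ≫ σ.1) (𝟙 _) (by rw [Category.assoc, σ.2, Category.comp_id, Category.id_comp])
  have hπ : π.base (IsLocalRing.closedPoint k') = IsLocalRing.closedPoint V := by
    have hc : IsClosed ({π.base (IsLocalRing.closedPoint k')} : Set (Spec (CommRingCat.of V))) := by
      have : Set.range π.base = {π.base (IsLocalRing.closedPoint k')} := by
        ext z
        refine ⟨fun ⟨w, hw⟩ => ?_, fun hz => ⟨_, hz.symm⟩⟩
        rw [← hw, Subsingleton.elim (α := PrimeSpectrum k') w (IsLocalRing.closedPoint k')]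
        rfl
      rw [← this]
      exact π.isClosedEmbedding.isClosed_range
    exact IsLocalRing.eq_maximalIdeal ((PrimeSpectrum.isClosed_singleton_iff_isMaximal _).1 hc) |> PrimeSpectrum.ext
  haveI : IsClosedImmersion (pullback.fst C.hom π) := MorphismProperty.pullback_fst _ _ ‹IsClosedImmersion π›
  have hp : p.base (IsLocalRing.closedPoint k') = r.left.base y₀ := by
    apply (pullback.fst C.hom π).isClosedEmbedding.injective
    rw [← Scheme.Hom.comp_apply, pullback.lift_fst, Scheme.Hom.comp_apply, hπ, ← Scheme.Hom.comp_apply]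
    exact h.symm
  obtain ⟨y', hy'⟩ := RedSepLib.exists_lift_of_range_subset p r.left (by
    rintro _ ⟨z, rfl⟩
    exact ⟨y₀, by rw [Subsingleton.elim (α := PrimeSpectrum k') z (IsLocalRing.closedPoint k'), hp]⟩)
  refine ⟨Over.homMk y' (by rw [← Over.w r, ← Category.assoc, hy']; exact pullback.lift_snd _ _ _), ?_, ?_⟩
  · ext1
    show _ = (Red.bc π C).hom ≫ y' ≫ r.left
    rw [hy']
    apply pullback.hom_ext
    · refine (pullback.lift_fst _ _ _).trans ?_
      show pullback.fst C.hom π ≫ C.hom ≫ σ.1 = ((Red.bc π C).hom ≫ p) ≫ pullback.fst C.hom π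
      rw [Category.assoc, pullback.lift_fst, ← Category.assoc, pullback.condition, Category.assoc]
      rfl
    · show ((Over.pullback π).map (toUnit C ≫ σ.over)).left ≫ (Red.bc π C).hom =
        ((Red.bc π C).hom ≫ p) ≫ pullback.snd C.hom π
      rw [Category.assoc, pullback.lift_snd, Category.comp_id]
      exact Over.w _
  · apply r.left.isClosedEmbedding.injective
    show r.left.base (y'.base _) = _
    rw [← Scheme.Hom.comp_apply, hy', hp]

omit [IsAffine (gen K C).left] [IsAlgClosed k'] [IrreducibleSpace H.left] [LocallyOfFiniteType H.hom]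
  [QuasiCompact H.hom] [IsClosedImmersion r.left] in
theorem trans_apply (σ : Sec C) {y : 𝟙_ (Over (Spec (CommRingCat.of k'))) ⟶ H}
    (hy : (Over.pullback π).map (toUnit C ≫ σ.over) = toUnit (Red.bc π C) ≫ y ≫ r) (x : H.left) :
    (trans σ).left.base ((r.left ≫ pullback.fst C.hom π).base x) =
      (r.left ≫ pullback.fst C.hom π).base ((𝟙 H * (toUnit H ≫ y)).left.base x) := by
  have h : r ≫ (Over.pullback π).map (trans σ) = (𝟙 H * (toUnit H ≫ y)) ≫ r := by
    rw [trans, Functor.map_mul, CategoryTheory.Functor.map_id, hy, MonObj.comp_mul, MonObj.mul_comp, Category.comp_id,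
      Category.id_comp, Category.assoc, ← Category.assoc r, toUnit_unique (r ≫ toUnit _) (toUnit H)]
  rw [← Scheme.Hom.comp_apply, ← Scheme.Hom.comp_apply]
  congr 2
  rw [Category.assoc, show pullback.fst C.hom π ≫ (trans σ).left =
      ((Over.pullback π).map (trans σ)).left ≫ pullback.fst C.hom π from (pullback.lift_fst _ _ _).symm,
    ← Category.assoc, ← Over.comp_left, h, Over.comp_left, Category.assoc]

include hqc hgauss hq hopen in
/-- A function integral at the generic point is integral at all closed points of the special component. -/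
theorem intAt_closed (f : Γ((gen K C).left, ⊤)) (hf : IntAt K C f q) {z : H.left}
    (hz : IsClosed ({z} : Set H.left)) : IntAt K C f ((r.left ≫ pullback.fst C.hom π).base z) := by
  set ι₁ := r.left ≫ pullback.fst C.hom π with hι
  obtain ⟨n, a, b, hdec⟩ := exists_decomp K C f
  obtain ⟨Ou, hqu, hOu⟩ := hopen ⊤ ⟨genericPoint H.left, trivial⟩
  obtain ⟨O, m, σs, hqO, -, hσs, hspan⟩ :=
    exists_span K hqc t hgauss Finset.univ b (fun i h => absurd (Finset.mem_univ i) h) Ou hqu
  have hsp : ∀ σ : Sec C, C.hom.base σ.pt = IsLocalRing.closedPoint V := fun σ => by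
    rw [← Scheme.Hom.comp_apply, σ.2]
    rfl
  have hfj : ∀ j, IntAt K C (transFn K (trans (σs j)) f) q := by
    intro j
    refine IntAt.translate K C _ ?_
    obtain ⟨y₀, -, hy₀⟩ := hOu _ (hσs j) (hsp _)
    obtain ⟨y, hy, -⟩ := exists_special_point π r (σs j) hy₀
    rw [← hq, trans_apply π r (σs j) hy]
    rwa [map_generic (H := H) (e := 𝟙 H * (toUnit H ≫ y)) (e' := 𝟙 H * (toUnit H ≫ y)⁻¹), hq]
    rw [MonObj.comp_mul, Category.comp_id, ← Category.assoc, toUnit_unique (_ ≫ toUnit H) (toUnit H),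
      inv_mul_cancel_right]
  let U₀ : C.left.Opens := ⟨⋂ j, {x | IntAt K C (transFn K (trans (σs j)) f) x},
    isOpen_iInter_of_finite fun j => intAt_isOpen K C _⟩
  have hqU : q ∈ U₀ := Set.mem_iInter.2 hfj
  obtain ⟨zo, hzo⟩ := OrbitDim.exists_ratPoint_mem (X := H) (S := {z}) hz.isLocallyClosed ⟨z, rfl⟩
  let e : H ⟶ H := (𝟙 H)⁻¹ * (toUnit H ≫ zo)
  let e' : H ⟶ H := (toUnit H ≫ zo) * (𝟙 H)⁻¹
  have hee : e' ≫ e = 𝟙 H := by
    simp only [e, MonObj.comp_mul, GrpObj.comp_inv, Category.comp_id]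
    rw [← Category.assoc, toUnit_unique (e' ≫ toUnit H) (toUnit H)]
    simp [e']
  let ee : H ⟶ H := (toUnit H ≫ zo) * (𝟙 H)⁻¹
  have hee2 : e ≫ ee = 𝟙 H := by
    simp only [ee, MonObj.comp_mul, GrpObj.comp_inv, Category.comp_id]
    rw [← Category.assoc, toUnit_unique (e ≫ toUnit H) (toUnit H)]
    simp [e]
  let W : H.left.Opens := ι₁ ⁻¹ᵁ O ⊓ ee.left ⁻¹ᵁ (ι₁ ⁻¹ᵁ U₀)
  have hW : genericPoint H.left ∈ W := by
    refine ⟨show ι₁.base _ ∈ O from hq.symm ▸ hqO, ?_⟩
    show ι₁.base (ee.left.base _) ∈ U₀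
    rw [map_generic (H := H) (e := ee) (e' := e) hee2, hq]
    exact hqU
  obtain ⟨O', hqO', hO'⟩ := hopen W ⟨_, hW⟩
  obtain ⟨w, hw⟩ := (locRing K C q).exists_le_valuationSubring
  obtain ⟨σ, hσ, v, hσO, -, -⟩ := exists_section K C hqO' hqc 1 w hw (by rw [map_one, map_one])
  obtain ⟨y₀, hy₀, hy₀'⟩ := hO' _ hσO (hsp ⟨σ, hσ⟩)
  obtain ⟨y, hy, hyp⟩ := exists_special_point π r ⟨σ, hσ⟩ hy₀'
  let x := ee.left.base y₀
  have hxU : ι₁.base x ∈ U₀ := hy₀.2
  have hσO2 : Sec.pt (C := C) ⟨σ, hσ⟩ ∈ O := by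
    have h : ι₁.base y₀ ∈ O := hy₀.1
    have e1 : ι₁.base y₀ = Sec.pt (C := C) ⟨σ, hσ⟩ := hy₀'
    rwa [e1] at h
  obtain ⟨l, hl⟩ := hspan ⟨σ, hσ⟩ hσO2
  have hint : IntAt K C (transFn K (trans ⟨σ, hσ⟩) f) (ι₁.base x) := by
    have : transFn K (trans ⟨σ, hσ⟩) f = ∑ j, cst K C (algebraMap V K (l j)) * transFn K (trans (σs j)) f := by
      rw [hdec]
      simp only [hl, hdec, map_sum, map_mul, Finset.mul_sum]
      rw [Finset.sum_comm]
      refine Finset.sum_congr rfl fun j _ => Finset.sum_congr rfl fun i _ => ?_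
      ring
    rw [this]
    exact IntAt.sum K C _ _ fun j _ => (intAt_cst K C _ _).mul K C (Set.mem_iInter.1 hxU j)
  have hxz : (𝟙 H * (toUnit H ≫ y)).left.base x = z := by
    have h1 : y ≫ ee ≫ (𝟙 H * (toUnit H ≫ y)) = zo := by
      simp only [ee, MonObj.comp_mul, GrpObj.comp_inv, Category.comp_id, ← Category.assoc,
        toUnit_unique (_ ≫ toUnit H) (toUnit _)]
      simp
    have h2 := hzo (IsLocalRing.closedPoint k')
    rw [← h1, Over.comp_left, Over.comp_left, Scheme.Hom.comp_apply, Scheme.Hom.comp_apply, hyp] at h2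
    exact h2
  have htx : (trans ⟨σ, hσ⟩).left.base (ι₁.base x) = ι₁.base z := by
    rw [hι, trans_apply π r ⟨σ, hσ⟩ hy, hxz]
  have hinv : (transInv ⟨σ, hσ⟩).left.base (ι₁.base z) = ι₁.base x := by
    rw [← htx, ← Scheme.Hom.comp_apply, ← Over.comp_left, trans_transInv]
    rfl
  have := IntAt.translate K C (transInv ⟨σ, hσ⟩) (hinv ▸ hint)
  have hcomp : transFn K (transInv ⟨σ, hσ⟩) (transFn K (trans ⟨σ, hσ⟩) f) = f := by
    show (((Over.pullback (genPt V K)).map (transInv ⟨σ, hσ⟩)).left.appTop).hom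
      ((((Over.pullback (genPt V K)).map (trans ⟨σ, hσ⟩)).left.appTop).hom f) = f
    rw [← CommRingCat.comp_apply, ← Scheme.Hom.comp_appTop, ← Over.comp_left, ← Functor.map_comp, transInv_trans,
      CategoryTheory.Functor.map_id]
    rfl
  exact hcomp ▸ this

end Groth.Agent.AlgGrpLib.AffineSpec
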