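import Groth.Agent.AlgGrpLib.AffineSpecMain
import Groth.Agent.NeronLib.InfinitesimalAlg

/-!
# Torsion in the special component

If the `l`-th power map is an automorphism of the generic fibre, no central point of order `l` of the special
component is non-trivial: otherwise the residue degrees of the valuations over the generic point would grow
without bound.
-/

set_option autoImplicit false
set_option maxHeartbeats 1000000
set_option synthInstance.maxHeartbeats 200000
set_option linter.style.haveILetI false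
set_option backward.isDefEq.respectTransparency.types false

universe u

open CategoryTheory CategoryTheory.Limits TopologicalSpace MonoidalCategory CartesianMonoidalCategory MonObj GrpObj AlgebraicGeometry
open Opposite

noncomputable section

namespace Groth.Agent.AlgGrpLib.AffineSpec

open Groth.Agent.AlgGrpLib.ValClosure (genPt)

variable {V : Type u} [CommRing V] [IsDomain V] [ValuationRing V] (K : Type u) [Field K] [Algebra V K]
  [IsFractionRing V K] {k' : Type u} [Field k'] (π : Spec (CommRingCat.of k') ⟶ Spec (CommRingCat.of V))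
  [IsClosedImmersion π] {C : Over (Spec (CommRingCat.of V))} [Flat C.hom] [LocallyOfFiniteType C.hom]
  [QuasiCompact C.hom]
  {H : Over (Spec (CommRingCat.of k'))} [IrreducibleSpace H.left] [LocallyOfFiniteType H.hom]
  (r : H ⟶ Red.bc π C) [IsClosedImmersion r.left]
  [GrpObj C] [IsAlgClosed K] [IsAlgClosed k'] [GrpObj H] [Smooth H.hom] [QuasiCompact H.hom] [IsMonHom r]
  [IsIntegral (gen K C).left] [IsAffine (gen K C).left] [LocallyOfFiniteType (gen K C).hom]

omit [GrpObj C] [GrpObj H] [IsMonHom r] [IsAffine (gen K C).left] in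
include K π r in
/-- Coordinates at the generic point of the special component. -/
theorem exists_coords (hdim : topologicalKrullDim ↥(gen K C).left ≤ topologicalKrullDim ↥H.left)
    (hdim' : topologicalKrullDim ↥H.left ≤ topologicalKrullDim ↥(gen K C).left) :
    C.hom.base ((r.left ≫ pullback.fst C.hom π).base (genericPoint H.left)) = IsLocalRing.closedPoint V ∧
    ∃ (d : ℕ) (t : Fin d → ff K C),
      (∀ i, t i ∈ (locRing K C ((r.left ≫ pullback.fst C.hom π).base (genericPoint H.left))).toSubring) ∧
      (∀ P : MvPolynomial (Fin d) K, P ≠ 0 → ∃ c : K, c ≠ 0 ∧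
        ∃ e : (locRing K C ((r.left ≫ pullback.fst C.hom π).base (genericPoint H.left))).toSubring, IsUnit e ∧
          MvPolynomial.aeval t P = algebraMap K (ff K C) c * e) ∧
      Algebra.IsAlgebraic (IntermediateField.adjoin K (Set.range t)) (ff K C) ∧
      FiniteDimensional (IntermediateField.adjoin K (Set.range t)) (ff K C) := by
  classical
  haveI : IsReduced H.left := AbSchLib.isReduced_of_smooth H.hom
  haveI : IsIntegral H.left := (isIntegral_iff_irreducibleSpace_and_isReduced _).2 ⟨inferInstance, inferInstance⟩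
  haveI : JacobsonSpace H.left := LocallyOfFiniteType.jacobsonSpace H.hom
  haveI : IsClosedImmersion (pullback.fst C.hom π) := MorphismProperty.pullback_fst _ _ ‹IsClosedImmersion π›
  let ι₁ := r.left ≫ pullback.fst C.hom π
  let η' := genericPoint H.left
  let q : C.left := ι₁.base η'
  let F := H.left.residueField η'
  have hqc : C.hom.base q = IsLocalRing.closedPoint V := by
    rw [← Scheme.Hom.comp_apply, show ι₁ ≫ C.hom = H.hom ≫ π by
      simp only [ι₁, Category.assoc, pullback.condition]; rw [← Category.assoc, ← Over.w r]; rfl,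
      Scheme.Hom.comp_apply, Subsingleton.elim (α := PrimeSpectrum k') (H.hom.base η') (IsLocalRing.closedPoint k')]
    exact closedPt_eq π
  haveI : IsIso (ι₁.residueFieldMap η') := DimLib.isIso_residueFieldMap_of_isPreimmersion ι₁ η'
  let χ : C.left.presheaf.stalk q →+* F := (C.left.residue q ≫ ι₁.residueFieldMap η').hom
  have hχs : Function.Surjective χ := fun z => by
    obtain ⟨z', rfl⟩ := (ConcreteCategory.bijective_of_isIso (ι₁.residueFieldMap η')).2 z
    obtain ⟨a, rfl⟩ := C.left.residue_surjective q z'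
    exact ⟨a, rfl⟩
  have hχu : ∀ a, χ a ≠ 0 → IsUnit a := by
    intro a ha
    by_contra h
    refine ha ?_
    have h0 : C.left.residue q a = 0 := (IsLocalRing.residue_eq_zero_iff a).2 h
    show ι₁.residueFieldMap η' (C.left.residue q a) = 0
    rw [h0, map_zero]
  -- the coordinates
  letI : Algebra k' F := (DimLib.baseRingHom H.hom η').toAlgebra
  obtain ⟨ιT, uT, huT⟩ := exists_isTranscendenceBasis' k' F
  let d := DimLib.ptDim H.hom η'
  have hcard : Cardinal.mk ιT = (d : Cardinal.{u}) := by
    rw [huT.cardinalMk_eq_trdeg]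
    exact (Cardinal.cast_toNat_of_lt_aleph0 (DimLib.trdeg_baseRingHom_lt H.hom η')).symm
  obtain ⟨eT⟩ : Nonempty (ιT ≃ Fin d) := by
    refine Cardinal.lift_mk_eq'.1 ?_
    rw [hcard, Cardinal.mk_fin, Cardinal.lift_natCast, Cardinal.lift_natCast]
  let uF : Fin d → F := uT ∘ eT.symm
  have huF : IsTranscendenceBasis k' uF := huT.comp_equiv eT.symm
  choose a ha using fun i => hχs (uF i)
  let t : Fin d → ff K C := fun i => stalkIn K C q (a i)
  let π' : V →+* k' := (Spec.preimage π).hom
  let vSt : V →+* C.left.presheaf.stalk q :=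
    ((Scheme.ΓSpecIso (CommRingCat.of V)).inv ≫ C.hom.appTop ≫ C.left.presheaf.germ ⊤ q trivial).hom
  have hvSt : ∀ v, stalkIn K C q (vSt v) = algebraMap K (ff K C) (algebraMap V K v) := by
    intro v
    rw [RingHom.algebraMap_toAlgebra, RingHom.comp_apply, cst_algebraMap]
    exact stalkIn_germ K C (U := ⊤) trivial _
  have hχv : ∀ v, χ (vSt v) = algebraMap k' F (π' v) := by
    intro v
    have h : (Scheme.ΓSpecIso (CommRingCat.of V)).inv ≫ C.hom.appTop ≫ C.left.presheaf.germ ⊤ q trivial ≫
        C.left.residue q ≫ ι₁.residueFieldMap η' =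
        CommRingCat.ofHom π' ≫ CommRingCat.ofHom (DimLib.baseRingHom H.hom η') := by
      rw [baseRingHom_eq, Scheme.residue_residueFieldMap, ← Category.assoc (C.left.presheaf.germ _ _ _),
        Scheme.Hom.germ_stalkMap, Category.assoc]
      have hπ : Spec.map (CommRingCat.ofHom π') = π := Spec.map_preimage π
      have h2 : C.hom.appTop ≫ ι₁.appTop = π.appTop ≫ H.hom.appTop := by
        rw [← Scheme.Hom.comp_appTop, ← Scheme.Hom.comp_appTop]
        congr 1
        simp only [ι₁, Category.assoc, pullback.condition]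
        rw [← Category.assoc, ← Over.w r]
        rfl
      rw [← Category.assoc C.hom.appTop]
      refine (congrArg (fun z => (Scheme.ΓSpecIso (CommRingCat.of V)).inv ≫
        (z ≫ H.left.presheaf.germ ⊤ η' trivial ≫ H.left.residue η')) h2).trans ?_
      rw [← hπ, Category.assoc, ← Scheme.ΓSpecIso_inv_naturality_assoc]
    exact congr(($h).hom v)
  have hprim : ∀ P : MvPolynomial (Fin d) V, (∃ n, IsUnit (P.coeff n)) → ∃ e : (locRing K C q).toSubring,
      IsUnit e ∧ (e : ff K C) = MvPolynomial.eval₂ ((algebraMap K (ff K C)).comp (algebraMap V K)) t P := by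
    rintro P ⟨n, hn⟩
    let e₀ := MvPolynomial.eval₂ vSt a P
    have hu : IsUnit e₀ := by
      refine hχu _ fun h0 => ?_
      have h1 : MvPolynomial.aeval uF (MvPolynomial.map π' P) = χ e₀ := by
        rw [MvPolynomial.aeval_def, MvPolynomial.eval₂_map, MvPolynomial.eval₂_comp_left χ vSt a P]
        rw [show (χ : _ → F) ∘ a = uF from funext ha,
          show χ.comp vSt = (algebraMap k' F).comp π' from RingHom.ext hχv]
      have h2 := algebraicIndependent_iff.1 huF.1 _ (h1.trans h0)
      have h3 := congrArg (MvPolynomial.coeff n) h2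
      rw [MvPolynomial.coeff_map, MvPolynomial.coeff_zero] at h3
      exact (hn.map π').ne_zero h3
    refine ⟨⟨stalkIn K C q e₀, ⟨e₀, rfl⟩⟩, ?_, ?_⟩
    · exact hu.map (stalkIn K C q).rangeRestrict
    · show stalkIn K C q e₀ = _
      rw [MvPolynomial.eval₂_comp_left (stalkIn K C q) vSt a P,
        show (stalkIn K C q).comp vSt = (algebraMap K (ff K C)).comp (algebraMap V K) from RingHom.ext hvSt]
      rfl
  have hgauss := GaussVal.gauss_of_primitive V (locRing K C q) t hprim
  -- algebraicity over `K(t)`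
  haveI hKalg : Algebra.IsAlgebraic (IntermediateField.adjoin K (Set.range t)) (ff K C) := by
    letI := (DimLib.baseRingHom (gen K C).hom (genericPoint (gen K C).left)).toAlgebra
    let rξ : ff K C →ₐ[K] (gen K C).left.residueField (genericPoint (gen K C).left) :=
      { ((gen K C).left.residue (genericPoint (gen K C).left)).hom with
        commutes' := fun c => by
          have h := baseRingHom_eq (gen K C).hom (genericPoint (gen K C).left)
          exact congr(($h.symm).hom c) }
    have hr : Function.Bijective rξ :=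
      ⟨((gen K C).left.residue (genericPoint (gen K C).left)).hom.injective, IsLocalRing.residue_surjective⟩
    have htr : Algebra.trdeg K (ff K C) = (d : Cardinal.{u}) := by
      rw [(AlgEquiv.ofBijective rξ hr).trdeg_eq,
        ← Cardinal.cast_toNat_of_lt_aleph0 (DimLib.trdeg_baseRingHom_lt (gen K C).hom _)]
      have h := le_antisymm hdim hdim'
      rw [DimLib.topologicalKrullDim_eq_ptDim_genericPoint (gen K C).hom,
        DimLib.topologicalKrullDim_eq_ptDim_genericPoint H.hom] at h
      have h' : DimLib.ptDim (gen K C).hom (genericPoint (gen K C).left) = d := by exact_mod_cast h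
      rw [← h']
      rfl
    have hti := GaussVal.algebraicIndependent_of_gauss (locRing K C q) t hgauss
    exact (AlgebraicIndependent.isTranscendenceBasis_of_lift_trdeg_le_of_finite hti (by
      rw [htr, Cardinal.mk_fin, Cardinal.lift_natCast, Cardinal.lift_natCast])).isAlgebraic_field
  refine ⟨hqc, d, t, fun i => ⟨a i, rfl⟩, hgauss, hKalg, ?_⟩
  letI : (gen K C).left.Over (Spec (CommRingCat.of K)) := ⟨(gen K C).hom⟩
  haveI : LocallyOfFiniteType ((gen K C).left ↘ Spec (CommRingCat.of K)) := ‹LocallyOfFiniteType (gen K C).hom›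
  obtain ⟨_, ⟨U, hU, rfl⟩, hηU, -⟩ := (gen K C).left.isBasis_affineOpens.exists_subset_of_mem_open
    (Set.mem_univ (genericPoint (gen K C).left)) isOpen_univ
  haveI : Nonempty U := ⟨⟨_, hηU⟩⟩
  let cU : K →+* Γ((gen K C).left, U) :=
    ((gen K C).hom.appLE ⊤ U le_top).hom.comp (Scheme.ΓSpecIso (CommRingCat.of K)).inv.hom
  letI := cU.toAlgebra
  haveI : Algebra.FiniteType K Γ((gen K C).left, U) :=
    ((gen K C).hom.finiteType_appLE (isAffineOpen_top _) hU le_top).comp
    (RingHom.FiniteType.of_surjective _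
      (ConcreteCategory.bijective_of_isIso (Scheme.ΓSpecIso (CommRingCat.of K)).inv).2)
  haveI := functionField_isFractionRing_of_isAffineOpen (gen K C).left U hU
  haveI : IsScalarTower K Γ((gen K C).left, U) (ff K C) := IsScalarTower.of_algebraMap_eq fun x =>
    (TopCat.Presheaf.germ_res_apply (gen K C).left.presheaf (homOfLE le_top) (genericPoint (gen K C).left) hηU _).symm
  obtain ⟨S, hS⟩ := NeronLib.fg_top_of_finiteType K (ff K C) Γ((gen K C).left, U)
  haveI := IntermediateField.finiteDimensional_adjoin (K := IntermediateField.adjoin K (Set.range t))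
    (S := (S : Set (ff K C))) fun x _ => (Algebra.IsAlgebraic.isAlgebraic x).isIntegral
  have htop : IntermediateField.adjoin (IntermediateField.adjoin K (Set.range t)) (S : Set (ff K C)) = ⊤ := by
    refine eq_top_iff.2 fun x _ => ?_
    have hx : x ∈ IntermediateField.adjoin K (S : Set (ff K C)) := hS.symm ▸ IntermediateField.mem_top
    have hle : IntermediateField.adjoin K (S : Set (ff K C)) ≤ (IntermediateField.adjoin
        (IntermediateField.adjoin K (Set.range t)) (S : Set (ff K C))).restrictScalars K :=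
      IntermediateField.adjoin_le_iff.2 (IntermediateField.subset_adjoin _ _)
    exact hle hx
  haveI : FiniteDimensional (IntermediateField.adjoin K (Set.range t))
      ↥(⊤ : IntermediateField (IntermediateField.adjoin K (Set.range t)) (ff K C)) := htop ▸ inferInstance
  exact Module.Finite.equiv IntermediateField.topEquiv.toLinearEquiv

omit [QuasiCompact C.hom] [GrpObj C] [IsAffine (gen K C).left] [IsAlgClosed K] [LocallyOfFiniteType (gen K C).hom] in
/-- Residue families independent over the special component are no larger than the degree over `K(t)`. -/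
theorem card_le_finrank {d : ℕ} {q : C.left} (t : Fin d → ff K C)
    (hgauss : ∀ P : MvPolynomial (Fin d) K, P ≠ 0 → ∃ c : K, c ≠ 0 ∧ ∃ e : (locRing K C q).toSubring, IsUnit e ∧
      MvPolynomial.aeval t P = algebraMap K (ff K C) c * e)
    [FiniteDimensional (IntermediateField.adjoin K (Set.range t)) (ff K C)]
    (w : ValuationSubring (ff K C)) (hw : locRing K C q ≤ w.toLocalSubring) {J : Type u} [Fintype J] (e : J → w)
    (he : ∀ c : J → (locRing K C q).toSubring, (∑ i, IsLocalRing.residue w (Subring.inclusion hw.1 (c i)) *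
      IsLocalRing.residue w (e i)) = 0 → ∀ i, ¬ IsUnit (c i)) :
    Fintype.card J ≤ Module.finrank (IntermediateField.adjoin K (Set.range t)) (ff K C) := by
  classical
  refine LinearIndependent.fintype_card_le_finrank (b := fun i => (e i : ff K C)) ?_
  rw [Fintype.linearIndependent_iff]
  intro g hg
  by_contra hne
  push Not at hne
  obtain ⟨i₀, hi₀⟩ := hne
  have hunit : ∀ i, ∃ (c : K) (u : (locRing K C q).toSubring), IsUnit u ∧ ((g i : ff K C) = algebraMap K (ff K C) c * u) := by
    intro i
    obtain ⟨a, b, hab⟩ := (IntermediateField.mem_adjoin_range_iff K t _).1 (g i).2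
    by_cases ha : a = 0
    · exact ⟨0, 1, isUnit_one, by rw [hab, ha]; simp⟩
    by_cases hb : b = 0
    · exact ⟨0, 1, isUnit_one, by rw [hab, hb]; simp⟩
    obtain ⟨c, -, u, hu, hau⟩ := hgauss a ha
    obtain ⟨c', hc', u', hu', hbu⟩ := hgauss b hb
    obtain ⟨U', rfl⟩ := hu'
    refine ⟨c / c', u * ↑U'⁻¹, hu.mul (Units.isUnit _), ?_⟩
    have h1 : ((U' : (locRing K C q).toSubring) : ff K C) * ((↑U'⁻¹ : (locRing K C q).toSubring) : ff K C) = 1 :=
      congrArg Subtype.val U'.mul_inv
    rw [hab, hau, hbu, map_div₀, Subring.coe_mul, eq_inv_of_mul_eq_one_right h1]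
    ring
  choose c u hu hcu using hunit
  obtain ⟨i₁, -, hmax⟩ := Finset.univ.exists_max_image (fun i => ValuationRing.valuation V K (c i)) ⟨i₀, Finset.mem_univ _⟩
  have hc₁ : c i₁ ≠ 0 := by
    intro h
    have := hmax i₀ (Finset.mem_univ _)
    rw [h, map_zero, le_zero_iff, map_eq_zero] at this
    exact hi₀ (Subtype.ext (by rw [hcu, this]; simp))
  have hex : ∀ i, ∃ v : V, algebraMap V K v = c i / c i₁ := fun i => by
    refine (ValuationRing.mem_integer_iff V K _).1 ?_
    show ValuationRing.valuation V K (c i / c i₁) ≤ 1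
    rw [map_div₀]
    exact div_le_one_of_le₀ (hmax i (Finset.mem_univ _)) zero_le'
  choose v hv using hex
  let cc : J → (locRing K C q).toSubring := fun i => ⟨_, algebraMap_mem_locRing K C (v i) q⟩ * u i
  have hsum : ∑ i, (cc i : ff K C) * (e i : ff K C) = 0 := by
    have hcL : algebraMap K (ff K C) (c i₁) ≠ 0 := by simpa using hc₁
    refine mul_left_cancel₀ hcL ?_
    rw [mul_zero, Finset.mul_sum, ← hg]
    refine Finset.sum_congr rfl fun i _ => ?_
    show _ * ((algebraMap K (ff K C) (algebraMap V K (v i)) * (u i : ff K C)) * _) = _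
    rw [hv, map_div₀, Algebra.smul_def]
    show _ = (g i : ff K C) * _
    rw [hcu, ← _root_.mul_assoc, ← _root_.mul_assoc, mul_div_cancel₀ _ hcL]
  refine he cc ?_ i₁ ?_
  · simp only [← map_mul, ← map_sum]
    rw [← map_zero (IsLocalRing.residue w)]
    congr 1
    apply Subtype.ext
    rw [AddSubmonoidClass.coe_finsetSum]
    exact hsum
  · have hv1 : v i₁ = 1 := IsFractionRing.injective V K (by rw [hv, div_self hc₁, map_one])
    have : cc i₁ = u i₁ := by
      apply Subtype.ext
      show algebraMap K (ff K C) (algebraMap V K (v i₁)) * (u i₁ : ff K C) = _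
      rw [hv1, map_one, map_one, _root_.one_mul]
    rw [this]
    exact hu i₁

theorem appLE_congr_hom {X Y : Scheme.{u}} {f g : X ⟶ Y} (h : f = g) {U : Y.Opens} {W : X.Opens}
    (e : W ≤ f ⁻¹ᵁ U) : f.appLE U W e = g.appLE U W (h ▸ e) := by
  subst h; rfl

omit [GrpObj C] [GrpObj H] [IsMonHom r] in
theorem comp_pow_one {X : Over (Spec (CommRingCat.of k'))} [GrpObj X] {T : Over (Spec (CommRingCat.of k'))}
    (x : T ⟶ X) (m : ℕ) : x ≫ (𝟙 X : X ⟶ X) ^ m = x ^ m := by
  rw [MonObj.comp_pow, Category.comp_id]

include K π r in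
/-- No non-trivial central points of order `l` in the special component. -/
theorem eq_one_of_pow_eq_one (hdim : topologicalKrullDim ↥(gen K C).left ≤ topologicalKrullDim ↥H.left)
    (hdim' : topologicalKrullDim ↥H.left ≤ topologicalKrullDim ↥(gen K C).left) (l : ℕ)
    (hgen : IsIso ((Over.pullback (genPt V K)).map ((𝟙 C : C ⟶ C) ^ l)))
    (hfix : ((𝟙 H : H ⟶ H) ^ l).left.base (genericPoint H.left) = genericPoint H.left)
    [IsSeparated H.hom]
    (t : 𝟙_ (Over (Spec (CommRingCat.of k'))) ⟶ H) (ht : t ^ l = 1)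
    (hcen : (𝟙 H : H ⟶ H) * (toUnit H ≫ t) = (toUnit H ≫ t) * 𝟙 H) : t = 1 := by
  classical
  haveI : IsReduced H.left := AbSchLib.isReduced_of_smooth H.hom
  haveI : IsIntegral H.left := (isIntegral_iff_irreducibleSpace_and_isReduced _).2 ⟨inferInstance, inferInstance⟩
  obtain ⟨hqc, d, tt, -, hgauss, hKalg, hfin⟩ := exists_coords K π r hdim hdim'
  haveI := hfin
  haveI : IsClosedImmersion (pullback.fst C.hom π) := MorphismProperty.pullback_fst _ _ ‹IsClosedImmersion π›
  let ι₁ := r.left ≫ pullback.fst C.hom π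
  let η' := genericPoint H.left
  let q : C.left := ι₁.base η'
  let F := H.left.residueField η'
  let pC : C ⟶ C := (𝟙 C : C ⟶ C) ^ l
  let pH : H ⟶ H := (𝟙 H : H ⟶ H) ^ l
  have hrp : r ≫ (Over.pullback π).map pC = pH ≫ r := by
    rw [show (Over.pullback π).map pC = (𝟙 (Red.bc π C)) ^ l by
      rw [show (𝟙 (Red.bc π C)) = (Over.pullback π).map (𝟙 C) from (CategoryTheory.Functor.map_id _ _).symm]
      exact map_pow (Over.pullback π).homMonoidHom (𝟙 C) l, MonObj.comp_pow, Category.comp_id]
    exact ((UnipStruct.comp_pow' r (𝟙 H) l).trans (by rw [Category.id_comp])).symm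
  have hι : ι₁ ≫ pC.left = pH.left ≫ ι₁ := by
    simp only [ι₁, Category.assoc]
    rw [show pullback.fst C.hom π ≫ pC.left = ((Over.pullback π).map pC).left ≫ pullback.fst C.hom π from
        (pullback.lift_fst _ _ _).symm, ← Category.assoc, ← Over.comp_left, hrp, Over.comp_left, Category.assoc]
  have hpq : pC.left.base q = q := by
    show pC.left.base (ι₁.base η') = ι₁.base η'
    rw [← Scheme.Hom.comp_apply, hι, Scheme.Hom.comp_apply, hfix]
  -- the automorphism of the function field
  let pK : (gen K C).left ⟶ (gen K C).left := ((Over.pullback (genPt V K)).map pC).left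
  haveI : IsIso pK := by
    haveI := hgen
    exact (inferInstance : IsIso ((Over.forget _).map ((Over.pullback (genPt V K)).map ((𝟙 C : C ⟶ C) ^ l))))
  let ξ := genericPoint (gen K C).left
  have hpξ : pK.base ξ = ξ := genericPoint_eq_of_isOpenImmersion pK
  let θ : ff K C →+* ff K C :=
    ((gen K C).left.presheaf.stalkSpecializes (Inseparable.of_eq hpξ).le ≫ pK.stalkMap ξ).hom
  have hθ : Function.Bijective θ := by
    haveI : IsIso ((gen K C).left.presheaf.stalkSpecializes (Inseparable.of_eq hpξ).le) :=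
      ((gen K C).left.presheaf.stalkCongr (Inseparable.of_eq hpξ)).isIso_inv
    exact ConcreteCategory.bijective_of_isIso ((gen K C).left.presheaf.stalkSpecializes (Inseparable.of_eq hpξ).le ≫ pK.stalkMap ξ)
  have hθgerm : ∀ (U : (gen K C).left.Opens) (hU : ξ ∈ U) (b : Γ((gen K C).left, U)),
      θ ((gen K C).left.presheaf.germ U ξ hU b) =
        (gen K C).left.presheaf.germ (pK ⁻¹ᵁ U) ξ (show pK.base ξ ∈ U from hpξ.symm ▸ hU) ((pK.app U).hom b) := by
    intro U hU b
    show ((gen K C).left.presheaf.germ U ξ hU ≫ (gen K C).left.presheaf.stalkSpecializes _ ≫ pK.stalkMap ξ) b = _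
    rw [TopCat.Presheaf.germ_stalkSpecializes_assoc, Scheme.Hom.germ_stalkMap]
    rfl
  let θq : C.left.presheaf.stalk q →+* C.left.presheaf.stalk q :=
    (C.left.presheaf.stalkSpecializes (Inseparable.of_eq hpq).le ≫ pC.left.stalkMap q).hom
  haveI : IsLocalHom θq := by
    haveI : IsIso (C.left.presheaf.stalkSpecializes (Inseparable.of_eq hpq).le) :=
      (C.left.presheaf.stalkCongr (Inseparable.of_eq hpq)).isIso_inv
    show IsLocalHom ((pC.left.stalkMap q).hom.comp (C.left.presheaf.stalkSpecializes (Inseparable.of_eq hpq).le).hom)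
    infer_instance
  have hθq : ∀ z, θ (stalkIn K C q z) = stalkIn K C q (θq z) := by
    intro z
    obtain ⟨U, hU, b, rfl⟩ := C.left.presheaf.exists_germ_eq z
    have hU' : q ∈ pC.left ⁻¹ᵁ U := show pC.left.base q ∈ U from hpq.symm ▸ hU
    have e1 : θq (C.left.presheaf.germ U q hU b) = C.left.presheaf.germ (pC.left ⁻¹ᵁ U) q hU' ((pC.left.app U).hom b) := by
      show (C.left.presheaf.germ U q hU ≫ C.left.presheaf.stalkSpecializes _ ≫ pC.left.stalkMap q) b = _
      rw [TopCat.Presheaf.germ_stalkSpecializes_assoc, Scheme.Hom.germ_stalkMap]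
      rfl
    rw [e1, stalkIn_germ, stalkIn_germ, hθgerm]
    have hc : pK ≫ prj K C = prj K C ≫ pC.left := pullback.lift_fst _ _ _
    have e2 : pK ⁻¹ᵁ (prj K C ⁻¹ᵁ U) = prj K C ⁻¹ᵁ (pC.left ⁻¹ᵁ U) := by
      rw [← Scheme.Hom.comp_preimage, ← Scheme.Hom.comp_preimage, hc]
    have hn : pC.left.app U ≫ (prj K C).app (pC.left ⁻¹ᵁ U) =
        (prj K C).app U ≫ pK.app (prj K C ⁻¹ᵁ U) ≫ (gen K C).left.presheaf.map (eqToHom e2.symm).op := by
      simp only [Scheme.Hom.app_eq_appLE, Scheme.Hom.appLE_comp_appLE, Scheme.Hom.appLE_map]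
      exact appLE_congr_hom hc.symm _
    have h2 : ((prj K C).app (pC.left ⁻¹ᵁ U)).hom ((pC.left.app U).hom b) =
        ((gen K C).left.presheaf.map (eqToHom e2.symm).op).hom ((pK.app (prj K C ⁻¹ᵁ U)).hom (((prj K C).app U).hom b)) :=
      congr(($hn).hom b)
    rw [h2]
    exact (TopCat.Presheaf.germ_res_apply _ _ _ _ _).symm
  -- the special component
  let φF : F →+* F :=
    IsLocalRing.ResidueField.map
      (f := (H.left.presheaf.stalkSpecializes (Inseparable.of_eq hfix).le ≫ pH.left.stalkMap η').hom)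
  have hφ : ∀ z : C.left.presheaf.stalk q,
      (ι₁.residueFieldMap η').hom (C.left.residue q (θq z)) = φF ((ι₁.residueFieldMap η').hom (C.left.residue q z)) := by
    intro z
    obtain ⟨U, hU, b, rfl⟩ := C.left.presheaf.exists_germ_eq z
    have hU' : q ∈ pC.left ⁻¹ᵁ U := show pC.left.base q ∈ U from hpq.symm ▸ hU
    have e1 : θq (C.left.presheaf.germ U q hU b) = C.left.presheaf.germ (pC.left ⁻¹ᵁ U) q hU' ((pC.left.app U).hom b) := by
      show (C.left.presheaf.germ U q hU ≫ C.left.presheaf.stalkSpecializes _ ≫ pC.left.stalkMap q) b = _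
      rw [TopCat.Presheaf.germ_stalkSpecializes_assoc, Scheme.Hom.germ_stalkMap]
      rfl
    have key : ∀ (W : C.left.Opens) (hW : q ∈ W) (x : Γ(C.left, W)),
        (ι₁.residueFieldMap η').hom (C.left.residue q (C.left.presheaf.germ W q hW x)) =
          H.left.residue η' (H.left.presheaf.germ (ι₁ ⁻¹ᵁ W) η' hW ((ι₁.app W).hom x)) := by
      intro W hW x
      have h : C.left.presheaf.germ W q hW ≫ C.left.residue q ≫ ι₁.residueFieldMap η' =
          (ι₁.app W ≫ H.left.presheaf.germ (ι₁ ⁻¹ᵁ W) η' hW) ≫ H.left.residue η' := by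
        rw [Scheme.residue_residueFieldMap, Scheme.Hom.germ_stalkMap_assoc, Category.assoc]
      exact congr(($h).hom x)
    rw [e1, key, key]
    show _ = IsLocalRing.ResidueField.map _ (IsLocalRing.residue _ _)
    rw [IsLocalRing.ResidueField.map_residue]
    refine congrArg (H.left.residue η') ?_
    show _ = (H.left.presheaf.germ (ι₁ ⁻¹ᵁ U) η' hU ≫ H.left.presheaf.stalkSpecializes _ ≫ pH.left.stalkMap η') _
    rw [TopCat.Presheaf.germ_stalkSpecializes_assoc, Scheme.Hom.germ_stalkMap]
    have e2 : pH.left ⁻¹ᵁ (ι₁ ⁻¹ᵁ U) = ι₁ ⁻¹ᵁ (pC.left ⁻¹ᵁ U) := by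
      rw [← Scheme.Hom.comp_preimage, ← Scheme.Hom.comp_preimage, hι]
    have hn : pC.left.app U ≫ ι₁.app (pC.left ⁻¹ᵁ U) =
        ι₁.app U ≫ pH.left.app (ι₁ ⁻¹ᵁ U) ≫ H.left.presheaf.map (eqToHom e2.symm).op := by
      simp only [Scheme.Hom.app_eq_appLE, Scheme.Hom.appLE_comp_appLE, Scheme.Hom.appLE_map]
      exact appLE_congr_hom hι _
    have h2 : (ι₁.app (pC.left ⁻¹ᵁ U)).hom ((pC.left.app U).hom b) =
        (H.left.presheaf.map (eqToHom e2.symm).op).hom ((pH.left.app (ι₁ ⁻¹ᵁ U)).hom ((ι₁.app U).hom b)) :=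
      congr(($hn).hom b)
    rw [h2]
    exact TopCat.Presheaf.germ_res_apply _ _ _ _ _
  haveI : IsIso (ι₁.residueFieldMap η') := DimLib.isIso_residueFieldMap_of_isPreimmersion ι₁ η'
  let χ : C.left.presheaf.stalk q →+* F := (C.left.residue q ≫ ι₁.residueFieldMap η').hom
  have hχs : Function.Surjective χ := fun z => by
    obtain ⟨z', rfl⟩ := (ConcreteCategory.bijective_of_isIso (ι₁.residueFieldMap η')).2 z
    obtain ⟨a, rfl⟩ := C.left.residue_surjective q z'
    exact ⟨a, rfl⟩
  -- translation by `t` fixes the power map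
  by_contra htne
  let τ : H ⟶ H := 𝟙 H * (toUnit H ≫ t)
  have hτp : τ ≫ pH = pH := by
    have hc : Commute (𝟙 H : H ⟶ H) (toUnit H ≫ t) := hcen
    rw [comp_pow_one τ l, hc.mul_pow, ← MonObj.comp_pow, ht, MonObj.comp_one, _root_.mul_one]
  have hns : ¬ Function.Surjective φF := by
    intro hs
    have hτη : τ.left.base η' = η' := map_generic (e := τ) (e' := 𝟙 H * (toUnit H ≫ t)⁻¹) (by
      rw [MonObj.comp_mul, Category.comp_id, ← Category.assoc, toUnit_unique (_ ≫ toUnit H) (toUnit H),
        inv_mul_cancel_right])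
    let τF : F →+* F :=
      IsLocalRing.ResidueField.map
        (f := (H.left.presheaf.stalkSpecializes (Inseparable.of_eq hτη).le ≫ τ.left.stalkMap η').hom)
    have hid : ∀ z, τF z = z := by
      intro z
      obtain ⟨y, rfl⟩ := hs z
      obtain ⟨y, rfl⟩ := H.left.residue_surjective η' y
      obtain ⟨U, hU, b, rfl⟩ := H.left.presheaf.exists_germ_eq y
      have hU1 : η' ∈ pH.left ⁻¹ᵁ U := show pH.left.base η' ∈ U from hfix.symm ▸ hU
      have hU2 : η' ∈ τ.left ⁻¹ᵁ (pH.left ⁻¹ᵁ U) := show τ.left.base η' ∈ pH.left ⁻¹ᵁ U from hτη.symm ▸ hU1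
      have e1 : φF (H.left.residue η' (H.left.presheaf.germ U η' hU b)) =
          H.left.residue η' (H.left.presheaf.germ (pH.left ⁻¹ᵁ U) η' hU1 ((pH.left.app U).hom b)) := by
        show IsLocalRing.ResidueField.map _ (IsLocalRing.residue _ _) = _
        rw [IsLocalRing.ResidueField.map_residue]
        refine congrArg (H.left.residue η') ?_
        show (H.left.presheaf.germ U η' hU ≫ H.left.presheaf.stalkSpecializes _ ≫ pH.left.stalkMap η') b = _
        rw [TopCat.Presheaf.germ_stalkSpecializes_assoc, Scheme.Hom.germ_stalkMap]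
        rfl
      rw [e1]
      show IsLocalRing.ResidueField.map _ (IsLocalRing.residue _ _) = _
      rw [IsLocalRing.ResidueField.map_residue]
      refine congrArg (H.left.residue η') ?_
      show (H.left.presheaf.germ (pH.left ⁻¹ᵁ U) η' hU1 ≫ H.left.presheaf.stalkSpecializes _ ≫ τ.left.stalkMap η') _ = _
      rw [TopCat.Presheaf.germ_stalkSpecializes_assoc, Scheme.Hom.germ_stalkMap]
      have hpp : τ.left ≫ pH.left = pH.left := by rw [← Over.comp_left, hτp]
      have e2 : τ.left ⁻¹ᵁ (pH.left ⁻¹ᵁ U) = pH.left ⁻¹ᵁ U := by rw [← Scheme.Hom.comp_preimage, hpp]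
      have hn : pH.left.app U ≫ τ.left.app (pH.left ⁻¹ᵁ U) = pH.left.app U ≫ H.left.presheaf.map (eqToHom e2).op := by
        simp only [Scheme.Hom.app_eq_appLE, Scheme.Hom.appLE_comp_appLE, Scheme.Hom.appLE_map, hpp]
      have h2 := congr(($hn).hom b)
      show H.left.presheaf.germ (τ.left ⁻¹ᵁ (pH.left ⁻¹ᵁ U)) η' hU2 ((τ.left.app (pH.left ⁻¹ᵁ U)).hom ((pH.left.app U).hom b)) = _
      rw [show (τ.left.app (pH.left ⁻¹ᵁ U)).hom ((pH.left.app U).hom b) =
        (H.left.presheaf.map (eqToHom e2).op).hom ((pH.left.app U).hom b) from h2]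
      exact TopCat.Presheaf.germ_res_apply _ _ _ _ _
    have hτid : τ = 𝟙 H := by
      refine Over.OverMorphism.ext ?_
      haveI : IsDominant (H.left.fromSpecResidueField η') := by
        refine ⟨fun z => closure_mono (s := {η'}) ?_ ((genericPoint_spec H.left).def.ge (Set.mem_univ z))⟩
        rintro _ rfl
        exact ⟨IsLocalRing.closedPoint _, Scheme.fromSpecResidueField_apply η' _⟩
      refine ext_of_isDominant_of_isSeparated H.hom (by rw [Over.w τ]; exact (Category.id_comp _).symm)
        (H.left.fromSpecResidueField η') ?_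
      rw [← Scheme.Hom.SpecMap_residueFieldMap_fromSpecResidueField τ.left η']
      have hc := Scheme.residueFieldCongr_fromSpecResidueField (X := H.left) hτη.symm
      rw [← hc, ← Category.assoc, ← Spec.map_comp]
      have hh : (H.left.residueFieldCongr hτη.symm).hom ≫ τ.left.residueFieldMap η' = 𝟙 _ := by
        ext z
        obtain ⟨y, rfl⟩ := H.left.residue_surjective η' z
        refine Eq.trans ?_ (hid _)
        show _ = IsLocalRing.ResidueField.map _ (IsLocalRing.residue _ _)
        rw [IsLocalRing.ResidueField.map_residue]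
        have h := congr(($(Scheme.residue_residueFieldCongr H.left hτη.symm)).hom y)
        show τ.left.residueFieldMap η' ((H.left.residueFieldCongr hτη.symm).hom (H.left.residue η' y)) = _
        refine (congrArg (τ.left.residueFieldMap η').hom h).trans ?_
        exact congr(($(Scheme.residue_residueFieldMap τ.left η')).hom _)
      rw [hh, Spec.map_id, Category.id_comp]
      rfl
    refine htne ?_
    have h1 := congrArg ((1 : 𝟙_ (Over (Spec (CommRingCat.of k'))) ⟶ H) ≫ ·) hτid
    simp only [τ, MonObj.comp_mul, Category.comp_id, _root_.one_mul] at h1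
    rwa [← Category.assoc, toUnit_unique (_ ≫ toUnit H) (𝟙 _), Category.id_comp] at h1
  obtain ⟨u, hu⟩ : ∃ u, u ∉ Set.range φF := by
    by_contra h
    push Not at h
    exact hns h
  -- valuations and their residue fields
  have hmk : ∀ w : {w : ValuationSubring (ff K C) // locRing K C q ≤ w.toLocalSubring},
      ∃ ψ : F →+* IsLocalRing.ResidueField w.1,
        ∀ z, ψ (χ z) = IsLocalRing.residue w.1 (Subring.inclusion w.2.1 ⟨stalkIn K C q z, z, rfl⟩) := by
    intro w
    let ψ₀ : C.left.presheaf.stalk q →+* w.1 := (stalkIn K C q).codRestrict w.1 fun z => w.2.1 ⟨z, rfl⟩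
    haveI : IsLocalHom ψ₀ := ⟨fun z hz => by
      obtain ⟨hle, hloc⟩ := w.2
      obtain ⟨⟨y, z', rfl⟩, hy⟩ :=
        isUnit_iff_exists_inv.1 (hloc.map_nonunit (⟨_, z, rfl⟩ : (locRing K C q).toSubring) hz)
      refine isUnit_iff_exists_inv.2 ⟨z', stalkIn_injective K C q ?_⟩
      rw [map_mul, map_one]
      exact congrArg Subtype.val hy⟩
    refine ⟨(IsLocalRing.ResidueField.map ψ₀).comp (inv (ι₁.residueFieldMap η')).hom, fun z => ?_⟩
    show IsLocalRing.ResidueField.map ψ₀
      ((inv (ι₁.residueFieldMap η')).hom ((ι₁.residueFieldMap η').hom (C.left.residue q z))) = _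
    rw [← CommRingCat.comp_apply, IsIso.hom_inv_id]
    exact IsLocalRing.ResidueField.map_residue _ _
  choose ψ hψ using hmk
  -- the induction
  have hstep : ∀ n : ℕ, ∃ (w : {w : ValuationSubring (ff K C) // locRing K C q ≤ w.toLocalSubring})
      (J : Type u) (_ : Fintype J) (e : J → w.1), 2 ^ n ≤ Fintype.card J ∧
        ∀ c : J → F, ∑ i, ψ w (c i) * IsLocalRing.residue w.1 (e i) = 0 → ∀ i, c i = 0 := by
    intro n
    induction n with
    | zero =>
      obtain ⟨w, hw⟩ := (locRing K C q).exists_le_valuationSubring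
      refine ⟨⟨w, hw⟩, PUnit, inferInstance, fun _ => 1, by simp, fun c hc i => ?_⟩
      simpa using hc
    | succ n ih =>
      obtain ⟨w, J, _, e, hcard, hind⟩ := ih
      let w₁ : ValuationSubring (ff K C) := w.1.comap θ
      have hw₁ : locRing K C q ≤ w₁.toLocalSubring := by
        have hle : (locRing K C q).toSubring ≤ w₁.toSubring := by
          rintro _ ⟨z, rfl⟩
          show θ (stalkIn K C q z) ∈ w.1
          rw [hθq]
          exact w.2.1 ⟨_, rfl⟩
        refine ⟨hle, ⟨?_⟩⟩
        rintro ⟨_, z, rfl⟩ hz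
        obtain ⟨y, hy⟩ := isUnit_iff_exists_inv.1 hz
        have h1 : IsUnit (⟨θ (stalkIn K C q z), hle ⟨z, rfl⟩⟩ : w.1) := by
          refine isUnit_iff_exists_inv.2 ⟨⟨θ (y : ff K C), y.2⟩, Subtype.ext ?_⟩
          show θ (stalkIn K C q z) * θ (y : ff K C) = 1
          rw [← map_mul, show stalkIn K C q z * (y : ff K C) = 1 from congrArg Subtype.val hy, map_one]
        obtain ⟨hle', hloc⟩ := w.2
        have h2 : IsUnit (⟨_, θq z, rfl⟩ : (locRing K C q).toSubring) := hloc.map_nonunit _ (by
          convert! h1 using 1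
          exact Subtype.ext (hθq z).symm)
        obtain ⟨⟨_, z', rfl⟩, hz'⟩ := isUnit_iff_exists_inv.1 h2
        have h3 : IsUnit (θq z) := isUnit_iff_exists_inv.2 ⟨z', stalkIn_injective K C q (by
          rw [map_mul, map_one]; exact congrArg Subtype.val hz')⟩
        exact (IsUnit.of_map θq z h3).map (stalkIn K C q).rangeRestrict
      let wn : {w : ValuationSubring (ff K C) // locRing K C q ≤ w.toLocalSubring} := ⟨w₁, hw₁⟩
      obtain ⟨zu, hzu⟩ := hχs u
      let eu : w.1 := Subring.inclusion w.2.1 ⟨stalkIn K C q zu, zu, rfl⟩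
      have hpre : ∀ y : w.1, ∃ x : w₁, θ (x : ff K C) = (y : ff K C) := fun y => by
        obtain ⟨x, hx⟩ := hθ.2 (y : ff K C)
        exact ⟨⟨x, show θ x ∈ w.1 from hx ▸ y.2⟩, hx⟩
      choose pre hpre using hpre
      refine ⟨wn, J ⊕ J, inferInstance, Sum.elim (fun i => pre (e i)) (fun i => pre (eu * e i)), ?_, fun c hc => ?_⟩
      · rw [Fintype.card_sum, pow_succ]; omega
      let θw : w₁ →+* w.1 := (θ.comp w₁.subtype).codRestrict w.1 fun x => x.2
      haveI : IsLocalHom θw := ⟨fun x hx => by
        obtain ⟨y, hy⟩ := isUnit_iff_exists_inv.1 hx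
        refine isUnit_iff_exists_inv.2 ⟨pre y, Subtype.ext (hθ.1 ?_)⟩
        show θ ((x : ff K C) * (pre y : ff K C)) = θ 1
        rw [map_mul, map_one, hpre]
        exact congrArg Subtype.val hy⟩
      let θb := IsLocalRing.ResidueField.map θw
      have hθψ : ∀ x : F, θb (ψ wn x) = ψ w (φF x) := by
        intro x
        obtain ⟨z, rfl⟩ := hχs x
        rw [hψ]
        show IsLocalRing.ResidueField.map θw (IsLocalRing.residue _ _) = _
        rw [IsLocalRing.ResidueField.map_residue, show φF (χ z) = χ (θq z) from (hφ z).symm, hψ]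
        refine congrArg (IsLocalRing.residue w.1) (Subtype.ext ?_)
        exact hθq z
      have hθe : ∀ y : w.1, θb (IsLocalRing.residue wn.1 (pre y)) = IsLocalRing.residue w.1 y := by
        intro y
        show IsLocalRing.ResidueField.map θw (IsLocalRing.residue _ _) = _
        rw [IsLocalRing.ResidueField.map_residue]
        exact congrArg (IsLocalRing.residue w.1) (Subtype.ext (hpre y))
      have h := congrArg θb hc
      rw [map_zero, map_sum, Fintype.sum_sum_type] at h
      simp only [map_mul, hθψ, Sum.elim_inl, Sum.elim_inr, hθe] at h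
      rw [show IsLocalRing.residue w.1 eu = ψ w u from (hψ w zu).symm.trans (by rw [hzu])] at h
      have h' : ∑ i, ψ w (φF (c (Sum.inl i)) + φF (c (Sum.inr i)) * u) * IsLocalRing.residue w.1 (e i) = 0 := by
        rw [← h, ← Finset.sum_add_distrib]
        refine Finset.sum_congr rfl fun i _ => ?_
        rw [map_add, map_mul, add_mul, _root_.mul_assoc]
      have hz := hind _ h'
      have hR : ∀ i, c (Sum.inr i) = 0 := by
        intro i
        by_contra hne
        refine hu ⟨- c (Sum.inl i) / c (Sum.inr i), ?_⟩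
        have hne' : φF (c (Sum.inr i)) ≠ 0 := by simpa using hne
        rw [map_div₀, map_neg, div_eq_iff hne']
        linear_combination -hz i
      rintro (i | i)
      · have := hz i
        rw [hR i, map_zero, zero_mul, add_zero] at this
        simpa using this
      · exact hR i
  obtain ⟨w, J, _, e, hcard, hind⟩ := hstep (Module.finrank (IntermediateField.adjoin K (Set.range tt)) (ff K C))
  have hle : Fintype.card J ≤ Module.finrank (IntermediateField.adjoin K (Set.range tt)) (ff K C) :=
    card_le_finrank K tt hgauss w.1 w.2 e fun c hc i hu' => by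
      choose z hz using fun j => (c j).2
      have h0 := hind (fun j => χ (z j)) (by
        rw [← hc]
        refine Finset.sum_congr rfl fun j _ => ?_
        rw [hψ]
        congr 2
        exact Subtype.ext (hz j)) i
      have h1 : IsUnit (z i) := by
        obtain ⟨⟨_, z', rfl⟩, hz'⟩ := isUnit_iff_exists_inv.1 hu'
        refine isUnit_iff_exists_inv.2 ⟨z', stalkIn_injective K C q ?_⟩
        rw [map_mul, map_one, hz]
        exact congrArg Subtype.val hz'
      exact (h1.map χ).ne_zero h0
  exact absurd (hcard.trans hle) (not_le.2 Nat.lt_two_pow_self)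

end Groth.Agent.AlgGrpLib.AffineSpec
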