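import Groth.Agent.AlgGrpLib.RatVar
import Groth.Agent.AlgGrpLib.CentreSolvable
import Groth.Agent.S3304
import Groth.Agent.S3267
import Groth.Agent.AlgGrpLib.BorelFixed
import Groth.Agent.HopfOneDim.Comm

/-!
# Connected linear groups are rational varieties

Descend through big cells; the solvable pieces are special extensions of `G_a`'s and `G_m`'s.
-/

set_option autoImplicit false
set_option backward.isDefEq.respectTransparency.types false
set_option maxHeartbeats 800000
set_option linter.style.haveILetI false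

universe u

open CategoryTheory CategoryTheory.Limits MonoidalCategory CartesianMonoidalCategory MonObj GrpObj AlgebraicGeometry
open LaurentPolynomial TensorProduct WithConv

noncomputable section

namespace Groth.Agent.AlgGrpLib.RatGroup

open RatVar (Rat)
open Groth.Agent.DynLib (Pt push conj pre tee cst)

variable {k : Type u} [Field k] [IsAlgClosed k]

/-- Connected smooth affine groups with soluble group of points are rational. -/
theorem rat_of_derivedSeries (n : ℕ) : ∀ (G : Over (Spec (CommRingCat.of k))) [GrpObj G] [IsAffine G.left]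
    [LocallyOfFiniteType G.hom] [Smooth G.hom] [ConnectedSpace G.left],
    derivedSeries (𝟙_ (Over (Spec (CommRingCat.of k))) ⟶ G) n = ⊥ → Rat G := by
  induction n with
  | zero =>
    intro G _ _ _ _ _ h
    haveI : IsReduced G.left := AbSchLib.isReduced_of_smooth G.hom
    haveI := LieSmooth.isIso_one_of_points (X := G) fun x => by
      have hx : x ∈ derivedSeries (𝟙_ (Over (Spec (CommRingCat.of k))) ⟶ G) 0 := by simp
      rw [h, Subgroup.mem_bot] at hx
      exact hx
    haveI : IsIso (1 : 𝟙_ (Over (Spec (CommRingCat.of k))) ⟶ G).left :=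
      inferInstanceAs (IsIso ((Over.forget _).map (1 : 𝟙_ (Over (Spec (CommRingCat.of k))) ⟶ G)))
    refine RatVar.rat_trivial G ?_
    have h1 : (1 : 𝟙_ (Over (Spec (CommRingCat.of k))) ⟶ G).left ≫ G.hom = 𝟙 _ := Over.w _
    rw [IsIso.eq_inv_of_hom_inv_id h1]
    infer_instance
  | succ n ih =>
    intro G _ _ _ _ _ h
    obtain ⟨D, gD, i, hi, hci, hDs, hDc, hnorm, hmem, hcom⟩ := SolvableSpecial.exists_derived G
    letI := gD
    haveI := hi
    haveI := hci
    haveI := hDs
    haveI := hDc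
    haveI : IsAffine D.left := isAffine_of_isAffineHom i.left
    haveI : LocallyOfFiniteType D.hom := by rw [← Over.w i]; infer_instance
    haveI : Mono i := Over.mono_of_mono_left i
    obtain ⟨Q, gQ, q, hq, hQa, hQl, hqf, hqs, hker⟩ := S3278.result k G D i hnorm
    letI := gQ
    haveI := hq
    haveI := hQa
    haveI := hQl
    haveI := hqf
    haveI := hqs
    haveI : QuasiCompact G.hom := (quasiCompact_iff_compactSpace _).mpr inferInstance
    have hD : derivedSeries (𝟙_ (Over (Spec (CommRingCat.of k))) ⟶ D) n = ⊥ := by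
      rw [eq_bot_iff]
      intro d hd
      have h' := SolvableSpecial.derivedSeries_le (IsMonHom.monoidHom i _) hmem n ⟨d, hd, rfl⟩
      rw [h, Subgroup.mem_bot] at h'
      exact (cancel_mono i).1 (h'.trans (MonObj.one_comp i).symm)
    refine RatVar.rat_of_extension i q hker (SolvableSpecial.special_of_derivedSeries n D hD) (ih D hD) ?_
    haveI : IsReduced G.left := AbSchLib.isReduced_of_smooth G.hom
    haveI := AlgGrpLib.quasiCompact_left q
    haveI : IsReduced Q.left := UnipStruct.isReduced_of_cover q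
    haveI : ConnectedSpace Q.left := q.left.surjective.connectedSpace q.left.continuous
    haveI := UnipStruct.smooth_of_isReduced Q
    haveI : IsReduced (Q ⊗ Q).left := by
      haveI := Groth.Agent.AlgGrpLib.PointsDense.geometricallyReduced_tensor k Q Q
      exact GeometricallyReduced.isReduced_of_flat_of_isLocallyNoetherian (Q ⊗ Q).hom
    haveI : LocallyOfFiniteType (Q ⊗ Q).hom := Groth.Agent.AlgGrpLib.PointsDense.locallyOfFiniteType_tensor k Q Q
    have hcomm : fst Q Q * snd Q Q = snd Q Q * fst Q Q := by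
      refine SolvableSpecial.ext_points _ _ fun x => ?_
      obtain ⟨a, ha⟩ := GeomPoints.exists_lift_point (K := k) q ((SolvableSpecial.ptIso (k := k)).hom ≫ x ≫ fst Q Q)
      obtain ⟨b, hb⟩ := GeomPoints.exists_lift_point (K := k) q ((SolvableSpecial.ptIso (k := k)).hom ≫ x ≫ snd Q Q)
      obtain ⟨d, hd⟩ := hcom ((SolvableSpecial.ptIso (k := k)).inv ≫ a) ((SolvableSpecial.ptIso (k := k)).inv ≫ b)
      have h1 := congrArg (IsMonHom.monoidHom q _) hd
      rw [map_commutatorElement] at h1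
      have h0 : IsMonHom.monoidHom q _ (d ≫ i) = 1 := by
        show (d ≫ i) ≫ q = 1
        rw [Category.assoc, AlgGrpLib.kernel_comp hker, MonObj.comp_one]
      rw [h0, eq_comm, commutatorElement_eq_one_iff_mul_comm] at h1
      have ea : IsMonHom.monoidHom q _ ((SolvableSpecial.ptIso (k := k)).inv ≫ a) = x ≫ fst Q Q := by
        show ((SolvableSpecial.ptIso (k := k)).inv ≫ a) ≫ q = _
        rw [Category.assoc, ha, Iso.inv_hom_id_assoc]
      have eb : IsMonHom.monoidHom q _ ((SolvableSpecial.ptIso (k := k)).inv ≫ b) = x ≫ snd Q Q := by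
        show ((SolvableSpecial.ptIso (k := k)).inv ≫ b) ≫ q = _
        rw [Category.assoc, hb, Iso.inv_hom_id_assoc]
      rw [ea, eb] at h1
      rw [MonObj.comp_mul, MonObj.comp_mul]
      exact h1
    haveI : IsCommMonObj Q := (isCommMonObj_iff_isMulCommutative _).2 fun T => ⟨⟨fun x y => by
      have h := congrArg (lift x y ≫ ·) hcomm
      simpa [MonObj.comp_mul] using h⟩⟩
    exact RatVar.rat_comm Q

variable {A : Type u} [CommRing A] [HopfAlgebra k A] [Algebra.FiniteType k A] [IsDomain A]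

/-- Integral groups with soluble group of points are rational. -/
theorem rat_spec_of_isSolvable (h : Group.IsSolvable (WithConv (A →ₐ[k] k))) : Rat (HopfQuot.spec (k := k) A) := by
  let H := HopfQuot.spec (k := k) A
  haveI : IsAffine H.left := inferInstanceAs (IsAffine (Spec (CommRingCat.of A)))
  haveI : IsReduced H.left := inferInstanceAs (IsReduced (Spec (CommRingCat.of A)))
  haveI : ConnectedSpace H.left := inferInstanceAs (ConnectedSpace (PrimeSpectrum A))
  haveI : LocallyOfFiniteType H.hom := (HasRingHomProperty.Spec_iff (P := @LocallyOfFiniteType)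
    (φ := CommRingCat.ofHom (algebraMap k A))).2 (RingHom.finiteType_algebraMap.2 inferInstance)
  haveI : Smooth H.hom := UnipStruct.smooth_of_isReduced H
  have hsolH : Group.IsSolvable (𝟙_ (Over (Spec (CommRingCat.of k))) ⟶ H) := by
    let f : (𝟙_ (Over (Spec (CommRingCat.of k))) ⟶ H) →*
        (((Spec (CommRingCat.of k)).asOver (Spec (CommRingCat.of k))) ⟶ H) :=
      MonoidHom.mk' (fun g => SolvableSpecial.ptIso.hom ≫ g) fun g h => MonObj.comp_mul _ _ _
    refine solvable_of_solvable_injective (f := (HopfQuot.ptSpec (k := k) (A := A) (T := k)).symm.toMonoidHom.comp f)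
      ((HopfQuot.ptSpec (k := k) (A := A) (T := k)).symm.injective.comp fun g h e' => ?_)
    exact (cancel_epi SolvableSpecial.ptIso.hom).1 e'
  obtain ⟨n, hn⟩ := hsolH.solvable
  exact rat_of_derivedSeries n H hn

/-- The two factors of the big cell of an integral group are integral, and the group is rational if they are. -/
theorem cell (lam : A →ₐc[k] k[T;T⁻¹]) :
    IsDomain (A ⧸ DynLib.oneIdeal ((DynLib.invertHom k).comp lam)) ∧ IsDomain (A ⧸ DynLib.limIdeal lam) ∧
      ∀ [(DynLib.oneIdeal ((DynLib.invertHom k).comp lam)).IsHopfIdeal k] [(DynLib.limIdeal lam).IsHopfIdeal k],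
        Rat (HopfQuot.spec (k := k) (A ⧸ DynLib.oneIdeal ((DynLib.invertHom k).comp lam))) →
        Rat (HopfQuot.spec (k := k) (A ⧸ DynLib.limIdeal lam)) → Rat (HopfQuot.spec (k := k) A) := by
  let lamNeg := (DynLib.invertHom k).comp lam
  let Jp := DynLib.limIdeal lam
  let Jm := DynLib.oneIdeal lamNeg
  have hneg := DynLib.invertHom_comp_eq lam
  have hp : Dyn.Represents k A Jp (fun R _ _ g => Dyn.LimExists k A lam R g) :=
    fun R _ _ g => (DynLib.kills_limIdeal_iff lam g).trans (DynLib.limExists_iff lam g).symm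
  have hopen := DynLib.isOpenImmersion_cell_field (k := k) (A := A) (lam := lam) (lamNeg := lamNeg) hneg
    (Jm := Jm) (Jp := Jp) hp fun R _ _ g => (DynLib.kills_oneIdeal_iff lamNeg g).trans (DynLib.limIsOne_iff lamNeg g).symm
  let em : A ⧸ Jm →ₐ[k] k := Ideal.Quotient.liftₐ Jm (Bialgebra.counitAlgHom k A)
    ((DynLib.kills_oneIdeal_iff lamNeg (Bialgebra.counitAlgHom k A)).2
      (show (1 : Pt k A k) ∈ DynLib.oneSub k lamNeg from one_mem _))
  let ep : A ⧸ Jp →ₐ[k] k := Ideal.Quotient.liftₐ Jp (Bialgebra.counitAlgHom k A)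
    ((DynLib.kills_limIdeal_iff lam (Bialgebra.counitAlgHom k A)).2
      (show (1 : Pt k A k) ∈ DynLib.limSub k lam from one_mem _))
  haveI : Nonempty ↥(Spec (CommRingCat.of ((A ⧸ Jm) ⊗[k] (A ⧸ Jp)))) := by
    let e : (A ⧸ Jm) ⊗[k] (A ⧸ Jp) →ₐ[k] k := Algebra.TensorProduct.lift em ep fun _ _ => .all _ _
    exact ⟨⟨RingHom.ker e, RingHom.ker_isPrime e⟩⟩
  haveI := hopen
  haveI : IsIntegral (Spec (CommRingCat.of A)) := inferInstance
  haveI : IsIntegral (Spec (CommRingCat.of ((A ⧸ Jm) ⊗[k] (A ⧸ Jp)))) :=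
    isIntegral_of_isOpenImmersion (Spec.map (CommRingCat.ofHom (DynLib.cellHom k Jm Jp).toRingHom))
  haveI : IsDomain ((A ⧸ Jm) ⊗[k] (A ⧸ Jp)) := (affine_isIntegral_iff (R := CommRingCat.of _)).1 ‹_›
  refine ⟨?_, ?_, fun {_ _} hm hp' => ?_⟩
  · refine Function.Injective.isDomain
      (Algebra.TensorProduct.includeLeft : A ⧸ Jm →ₐ[k] (A ⧸ Jm) ⊗[k] (A ⧸ Jp)).toRingHom fun x y h => ?_
    have := congrArg (Algebra.TensorProduct.lift (AlgHom.id k (A ⧸ Jm)) ((Algebra.ofId k (A ⧸ Jm)).comp ep)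
      fun _ _ => .all _ _) h
    simpa using this
  · refine Function.Injective.isDomain
      (Algebra.TensorProduct.includeRight : A ⧸ Jp →ₐ[k] (A ⧸ Jm) ⊗[k] (A ⧸ Jp)).toRingHom fun x y h => ?_
    have := congrArg (Algebra.TensorProduct.lift ((Algebra.ofId k (A ⧸ Jp)).comp em) (AlgHom.id k (A ⧸ Jp))
      fun _ _ => .all _ _) h
    simpa using this
  · let e := pullbackSpecIso k (A ⧸ Jm) (A ⧸ Jp)
    let f : HopfQuot.spec (k := k) (A ⧸ Jm) ⊗ HopfQuot.spec (k := k) (A ⧸ Jp) ⟶ HopfQuot.spec (k := k) A :=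
      Over.homMk (e.hom ≫ Spec.map (CommRingCat.ofHom (DynLib.cellHom k Jm Jp).toRingHom)) (by
        show (e.hom ≫ Spec.map _) ≫ Spec.map (CommRingCat.ofHom (algebraMap k A)) =
          pullback.fst _ _ ≫ Spec.map (CommRingCat.ofHom (algebraMap k (A ⧸ Jm)))
        rw [Category.assoc, ← Spec.map_comp, ← CommRingCat.ofHom_comp]
        refine Eq.trans (congrArg (fun r => e.hom ≫ Spec.map (CommRingCat.ofHom r))
          (DynLib.cellHom k Jm Jp).comp_algebraMap) ?_
        rw [← pullbackSpecIso_hom_fst k (A ⧸ Jm) (A ⧸ Jp), Category.assoc, ← Spec.map_comp, ← CommRingCat.ofHom_comp])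
    haveI : IsOpenImmersion f.left := inferInstanceAs (IsOpenImmersion (e.hom ≫ Spec.map _))
    exact RatVar.rat_of_open f (RatVar.rat_tensor hm hp')

/-- Integral affine groups are rational. -/
theorem rat_spec : Rat (HopfQuot.spec (k := k) A) := by
  haveI : IsNoetherianRing A := Algebra.FiniteType.isNoetherianRing k A
  suffices key : ∀ P : Ideal A, ∀ (D : Type u) (_ : CommRing D) (_ : HopfAlgebra k D) (π : A →ₐc[k] D),
      RingHom.ker (π : A →+* D) = P → IsDomain D → Function.Surjective π → Rat (HopfQuot.spec (k := k) D) from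
    key _ A _ _ (BialgHom.id k A) rfl inferInstance Function.surjective_id
  intro P
  induction P using WellFoundedGT.induction with
  | ind P ih =>
  intro D _ _ π hP hD hπ
  haveI := hD
  haveI : Algebra.FiniteType k D := Algebra.FiniteType.of_surjective (π : A →ₐ[k] D) hπ
  by_cases hc : ∀ lam : D →ₐc[k] k[T;T⁻¹], CentralTorus.IsCentralCochar lam
  · exact rat_spec_of_isSolvable (CentralTorus.isSolvable_of_central hc)
  push Not at hc
  obtain ⟨lam, hlam⟩ := hc
  -- a piece of the cell: unipotent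
  have hU : ∀ {E : Type u} [CommRing E] [HopfAlgebra k E] [Algebra.FiniteType k E] (mu : E →ₐc[k] k[T;T⁻¹])
      [(DynLib.oneIdeal mu).IsHopfIdeal k], IsDomain (E ⧸ DynLib.oneIdeal mu) →
      Rat (HopfQuot.spec (k := k) (E ⧸ DynLib.oneIdeal mu)) := by
    intro E _ _ _ mu _ hdom
    haveI := hdom
    haveI : Algebra.FiniteType k (E ⧸ DynLib.oneIdeal mu) :=
      Algebra.FiniteType.of_surjective (Ideal.Quotient.mkₐ k _) Ideal.Quotient.mk_surjective
    have hu := S3304.result k E mu (DynLib.oneIdeal mu) fun R _ _ g =>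
      (DynLib.kills_oneIdeal_iff mu g).trans (DynLib.limIsOne_iff mu g).symm
    refine rat_spec_of_isSolvable (S3267.result k _ fun V _ _ _ hfin hs => ?_)
    haveI := hs.1
    obtain ⟨v, hv, hv0⟩ := (Submodule.ne_bot_iff _).1 (hu V hfin inferInstance)
    have hsub : HopfRep.IsSubcomod (k := k) (A := E ⧸ DynLib.oneIdeal mu) (Submodule.span k {v}) := by
      intro w hw
      obtain ⟨c, rfl⟩ := Submodule.mem_span_singleton.1 hw
      refine ⟨(⟨c • v, hw⟩ : Submodule.span k {v}) ⊗ₜ 1, ?_⟩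
      rw [LinearMap.rTensor_tmul, map_smul, show HopfRep.Comod.coact (k := k) v = v ⊗ₜ[k] (1 : E ⧸ DynLib.oneIdeal mu)
        from hv]
      rfl
    rcases hs.2 _ hsub with h0 | h0
    · exact absurd ((Submodule.span_singleton_eq_bot).1 h0) hv0
    · rw [← finrank_top, ← h0, finrank_span_singleton hv0]
  let lamNeg := (DynLib.invertHom k).comp lam
  let Jp := DynLib.limIdeal lam
  let Jp' := DynLib.limIdeal lamNeg
  haveI : Jp.IsHopfIdeal k := DynLib.isHopfIdeal_limIdeal lam
  haveI : (DynLib.oneIdeal lamNeg).IsHopfIdeal k := DynLib.isHopfIdeal_oneIdeal lamNeg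
  obtain ⟨hdm, hdp, hcell⟩ := cell lam
  refine hcell (hU lamNeg hdm) ?_
  -- the cocharacter lies in its limit subgroup
  let g₀ : Pt k D k[T;T⁻¹] := toConv (lam : D →ₐ[k] k[T;T⁻¹])
  have hg₀ : g₀ ∈ DynLib.limSub k[T;T⁻¹] lam := by
    refine ⟨push ((Polynomial.CAlgHom (R := k[T;T⁻¹])).restrictScalars k) g₀, ?_⟩
    rw [DynLib.conj_apply, DynLib.push_push]
    let u : k[T;T⁻¹] →ₐ[k] (k[T;T⁻¹])[T;T⁻¹] := tee k k[T;T⁻¹]
    let v : k[T;T⁻¹] →ₐ[k] (k[T;T⁻¹])[T;T⁻¹] := cst k k[T;T⁻¹]
    have hv : push (cst k k[T;T⁻¹]) g₀ = pre lam v := rfl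
    obtain ⟨w, hw⟩ : ∃ w : k[T;T⁻¹] →ₐ[k] (k[T;T⁻¹])[T;T⁻¹], u (T 1) * v (T 1) = w (T 1) :=
      ⟨(toConv u * toConv v).ofConv, by
        rw [AlgHom.convMul_apply, LaurentPolynomial.comul_T, Algebra.TensorProduct.lift_tmul]⟩
    rw [hv, DynLib.pre_mul lam u v w hw, ← DynLib.pre_mul lam v u w (by rw [mul_comm]; exact hw), _root_.mul_inv_cancel_right]
    refine congrArg (fun φ => push φ g₀) (AlgHom.ext fun x => ?_)
    rw [DynLib.cst_apply]
    exact Polynomial.toLaurent_C x
  let π₁ : D →ₐc[k] D ⧸ Jp := Bialgebra.Quotient.mkBialgHom (R := k) Jp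
  haveI : Algebra.FiniteType k (D ⧸ Jp) :=
    Algebra.FiniteType.of_surjective (Ideal.Quotient.mkₐ k Jp) Ideal.Quotient.mk_surjective
  haveI := hdp
  obtain ⟨lam₁, hlam₁⟩ : ∃ lam₁ : D ⧸ Jp →ₐc[k] k[T;T⁻¹], lam₁.comp π₁ = lam := by
    let l₀ : D ⧸ Jp →ₐ[k] k[T;T⁻¹] := Ideal.Quotient.liftₐ Jp (lam : D →ₐ[k] k[T;T⁻¹])
      ((DynLib.kills_limIdeal_iff lam (lam : D →ₐ[k] k[T;T⁻¹])).2 hg₀)
    refine ⟨BialgHom.ofAlgHom l₀ (Ideal.Quotient.algHom_ext k (AlgHom.ext fun a => ?_))
      (Ideal.Quotient.algHom_ext k (AlgHom.ext fun a => ?_)), BialgHom.ext fun a => rfl⟩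
    · exact (CoalgHomClass.counit_comp_apply lam a).trans (CoalgHomClass.counit_comp_apply π₁ a).symm
    · show Algebra.TensorProduct.map l₀ l₀ (Coalgebra.comul (π₁ a)) = Coalgebra.comul (R := k) (lam a)
      rw [← CoalgHomClass.map_comp_comul_apply π₁, ← CoalgHomClass.map_comp_comul_apply lam]
      generalize Coalgebra.comul (R := k) a = t
      induction t using TensorProduct.induction_on with
      | zero => simp
      | add p q hp hq => simp only [map_add, hp, hq]
      | tmul p q => rfl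
  let mu := (DynLib.invertHom k).comp lam₁
  let muNeg := (DynLib.invertHom k).comp mu
  haveI : (DynLib.limIdeal mu).IsHopfIdeal k := DynLib.isHopfIdeal_limIdeal mu
  haveI : (DynLib.oneIdeal muNeg).IsHopfIdeal k := DynLib.isHopfIdeal_oneIdeal muNeg
  obtain ⟨hdm', hdp', hcell'⟩ := cell mu
  refine hcell' (hU muNeg hdm') ?_
  let π₂ : D ⧸ Jp →ₐc[k] (D ⧸ Jp) ⧸ DynLib.limIdeal mu := Bialgebra.Quotient.mkBialgHom (R := k) _
  refine ih _ ?_ _ _ _ ((π₂.comp π₁).comp π) rfl hdp' ((Ideal.Quotient.mk_surjective.comp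
    Ideal.Quotient.mk_surjective).comp hπ)
  refine lt_of_le_of_ne (fun z hz => ?_) fun heq => hlam ?_
  · rw [← hP] at hz
    show π₂ (π₁ (π z)) = 0
    rw [show π z = 0 from hz, map_zero, map_zero]
  have hbot : ∀ d : D, π₂ (π₁ d) = 0 → d = 0 := fun d hd => by
    obtain ⟨a, rfl⟩ := hπ d
    have ha : a ∈ RingHom.ker (((π₂.comp π₁).comp π : A →ₐc[k] (D ⧸ Jp) ⧸ DynLib.limIdeal mu) :
        A →+* (D ⧸ Jp) ⧸ DynLib.limIdeal mu) := hd
    rw [← heq, ← hP] at ha
    exact ha
  have h1 : ∀ a ∈ Jp, (AlgHom.id k D) a = 0 := fun a ha => hbot a (by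
    rw [show π₁ a = 0 from Ideal.Quotient.eq_zero_iff_mem.2 ha, map_zero])
  have h2 : ∀ a ∈ Jp', (AlgHom.id k D) a = 0 := by
    refine (DynLib.kills_limIdeal_iff lamNeg (AlgHom.id k D)).2 ?_
    let r : D ⧸ Jp →ₐ[k] D := Ideal.Quotient.liftₐ Jp (AlgHom.id k D) h1
    have hr : toConv (AlgHom.id k D) = DynLib.pull (R := D) π₁ (toConv r) := WithConv.ext (AlgHom.ext fun a => rfl)
    have hl : lamNeg = mu.comp π₁ := by
      show (DynLib.invertHom k).comp lam = ((DynLib.invertHom k).comp lam₁).comp π₁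
      rw [← hlam₁]
      rfl
    rw [hr, hl]
    refine (DynLib.pull_mem_limSub_iff π₁ Ideal.Quotient.mk_surjective mu (toConv r)).2 ?_
    refine (DynLib.kills_limIdeal_iff mu r).1 fun a ha => ?_
    obtain ⟨d, rfl⟩ := Ideal.Quotient.mk_surjective a
    exact hbot d (Ideal.Quotient.eq_zero_iff_mem.2 ha)
  haveI : Jp'.IsHopfIdeal k := DynLib.isHopfIdeal_limIdeal lamNeg
  have hZ := S3309.result k D lam lamNeg (DynLib.invertHom_comp_eq lam) Jp Jp'
    (fun R _ _ g => (DynLib.kills_limIdeal_iff lam g).trans (DynLib.limExists_iff lam g).symm)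
    (fun R _ _ g => (DynLib.kills_limIdeal_iff lamNeg g).trans (DynLib.limExists_iff lamNeg g).symm)
  have h3 := (hZ D (AlgHom.id k D)).1 fun a ha => by
    obtain ⟨p, hp, q, hq, rfl⟩ := Submodule.mem_sup.1 ha
    rw [map_add, h1 p hp, h2 q hq, add_zero]
  beta_reduce at h3
  rw [DynLib.conjOrbit_eq] at h3
  have h4 : conj D lam (toConv (AlgHom.id k D)) = push (cst k D) (toConv (AlgHom.id k D)) := WithConv.ext h3
  rw [DynLib.conj_apply, mul_inv_eq_iff_eq_mul] at h4
  exact h4

/-- Connected linear groups are rational. -/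
theorem rat_group (G : Over (Spec (CommRingCat.of k))) [GrpObj G] [IsAffine G.left] [Smooth G.hom]
    [ConnectedSpace G.left] : Rat G := by
  obtain ⟨C, _, _, e, heiso, hemon⟩ := HopfQuot.exists_spec (k := k) G
  haveI := heiso; haveI := hemon
  haveI : IsIso e.left := inferInstanceAs (IsIso ((Over.forget _).map e))
  haveI : IsReduced G.left := AbSchLib.isReduced_of_smooth G.hom
  haveI : ConnectedSpace (HopfQuot.spec (k := k) C).left :=
    (inv e.left).homeomorph.surjective.connectedSpace (inv e.left).homeomorph.continuous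
  haveI : IsReduced (HopfQuot.spec (k := k) C).left := isReduced_of_isOpenImmersion e.left
  haveI : _root_.IsReduced C := (affine_isReduced_iff (CommRingCat.of C)).1 ‹IsReduced (HopfQuot.spec (k := k) C).left›
  haveI : ConnectedSpace (PrimeSpectrum C) := ‹ConnectedSpace (HopfQuot.spec (k := k) C).left›
  haveI : LocallyOfFiniteType (HopfQuot.spec (k := k) C).hom := by rw [← Over.w e]; infer_instance
  haveI : Algebra.FiniteType k C := RingHom.finiteType_algebraMap.1
    ((HasRingHomProperty.Spec_iff (P := @LocallyOfFiniteType) (φ := CommRingCat.ofHom (algebraMap k C))).1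
      ‹LocallyOfFiniteType (HopfQuot.spec (k := k) C).hom›)
  haveI : IsDomain C := HopfOneDim.isDomain k AlgGrpLib.BorelFixed.isUnit_or_isNilpotent_of_idem
  exact RatVar.rat_of_iso (asIso e) rat_spec

end Groth.Agent.AlgGrpLib.RatGroup
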