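import Groth.Agent.AlgGrpLib.StableOpen
import Groth.Agent.S16118
import Groth.Agent.S2821
import Groth.Agent.Misc15.OpenAction
import Groth.Agent.SDiv28.AffineCompl
import Groth.Agent.AbCubeLib.CanonicalSection
import Groth.Agent.AbCubeLib.ExistsAmple
import Groth.Agent.FlatMor12.GenericSmooth
import Groth.Agent.NeronLib.Regular
import Groth.Agent.FEtFF.Hartogs
import Groth.Agent.CohDer1.Blanchard.Base
import Groth.Agent.Props12.AmpleExternal
import Groth.Agent.PicLib.PicGroup
import Groth.Prelude.Def_RelProj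

/-!
# A normal variety covered by translates of an affine open is quasi-projective

Sumihiro's argument without linearisations: the complement of the affine open is Cartier on the smooth locus,
its class is invariant under translations, and the direct image to `X` is ample.
-/

set_option autoImplicit false
set_option linter.style.haveILetI false
set_option backward.isDefEq.respectTransparency.types false
set_option maxHeartbeats 1000000

universe u

open CategoryTheory CategoryTheory.Limits MonoidalCategory CartesianMonoidalCategory MonObj GrpObj AlgebraicGeometry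
  TopologicalSpace
open AlgGrp Groth.Agent.Coherent Groth.Agent.PicLib Groth.Agent.AmpleLib

namespace Groth.Agent.AlgGrpLib.AmpleTranslates

theorem two_le_of_not_le_one {d : WithBot ℕ∞} (h : ¬ d ≤ 1) : 2 ≤ d := by
  induction d using WithBot.recBotCoe with
  | bot => exact absurd bot_le h
  | coe n => exact WithBot.coe_le_coe.2 (by
      show (2 : ℕ∞) ≤ n
      rw [← one_add_one_eq_two]
      exact Order.add_one_le_of_lt (not_le.1 fun h' => h (WithBot.coe_le_coe.2 h')))

/-- Open immersion of affines with bijective restriction of functions is an equality. -/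
theorem le_of_bijective_res {X : Scheme.{u}} {A B : X.Opens} (hA : IsAffineOpen A) (hB : IsAffineOpen B) (h : B ≤ A)
    (hbij : Function.Bijective (X.presheaf.map (homOfLE h).op)) : A ≤ B := by
  haveI : IsIso (X.presheaf.map (homOfLE h).op) := (ConcreteCategory.isIso_iff_bijective _).2 hbij
  haveI : IsIso (Spec.map (X.presheaf.map (homOfLE h).op)) := inferInstance
  intro x hx
  obtain ⟨q, rfl⟩ := hA.range_fromSpec.ge hx
  obtain ⟨q', rfl⟩ := (inferInstance : Surjective (Spec.map (X.presheaf.map (homOfLE h).op))).surj q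
  rw [← Scheme.Hom.comp_apply, hA.map_fromSpec hB (homOfLE h).op]
  exact hB.range_fromSpec.le ⟨q', rfl⟩

theorem isNormal_opens {X : Scheme.{u}} (hX : Pi1.IsNormalScheme X) (V : X.Opens) :
    Pi1.IsNormalScheme V.toScheme := fun z => by
  let e := (asIso (V.ι.stalkMap z)).commRingCatIsoToRingEquiv
  haveI := (hX (V.ι z)).1
  haveI := (hX (V.ι z)).2
  exact ⟨e.symm.injective.isDomain e.symm.toRingHom, IsIntegrallyClosed.of_equiv e⟩

variable {k : Type u} [Field k] [IsAlgClosed k]

/-- The smooth locus contains the points of codimension at most one. -/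
theorem mem_smoothLocus_of_le_one {X : Scheme.{u}} (f : X ⟶ Spec (CommRingCat.of k)) [LocallyOfFinitePresentation f]
    [IsLocallyNoetherian X] [IsIntegral X] (hX : Pi1.IsNormalScheme X) (x : X) (hx : ringKrullDim (X.presheaf.stalk x) ≤ 1) :
    x ∈ f.smoothLocus := by
  haveI := (hX x).1
  haveI := (hX x).2
  haveI : Ring.KrullDimLE 1 (X.presheaf.stalk x) := ⟨hx⟩
  haveI : Ring.DimensionLEOne (X.presheaf.stalk x) := ⟨fun {p} hp hprime => hprime.isMaximal_of_ne_bot hp⟩
  haveI : IsDedekindDomain (X.presheaf.stalk x) := { }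
  haveI : IsPrincipalIdealRing (X.presheaf.stalk x) := inferInstance
  haveI : IsRegularLocalRing (X.presheaf.stalk x) := inferInstance
  haveI : PerfectField (Spec (CommRingCat.of k)).functionField := by
    let R := CommRingCat.of k
    let gp : PrimeSpectrum R := genericPoint (Spec R)
    letI : Algebra R ((Spec R).presheaf.stalk gp) := StructureSheaf.stalkAlgebra R gp
    haveI : IsLocalization.AtPrime ((Spec R).presheaf.stalk gp) gp.asIdeal := StructureSheaf.IsLocalization.to_stalk R gp
    let e : k ≃+* (Spec R).functionField :=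
      (IsLocalization.atUnits R gp.asIdeal.primeCompl (S := (Spec R).presheaf.stalk gp) fun r hr =>
        (isUnit_iff_ne_zero (G₀ := k)).2 fun h => hr (by rw [show r = 0 from h]; exact zero_mem _)).toRingEquiv
    haveI := IsAlgClosed.of_ringEquiv k _ e
    infer_instance
  refine Groth.Agent.FlatMor12.GenericSmooth.mem_smoothLocus_of_regular f x ?_
  exact Subsingleton.elim _ _

/-- An invertible module with sections cutting out the translates of an affine open covering the variety. -/
theorem exists_module_of_translates (G X : Over (Spec (CommRingCat.of k))) [GrpObj G] [IsAffine G.left]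
    [Smooth G.hom] [ConnectedSpace ↥G.left] [IsIntegral X.left] [IsSeparated X.hom] [LocallyOfFiniteType X.hom]
    [QuasiCompact X.hom] (hX : Pi1.IsNormalScheme X.left) (a : AlgGrp.Action G X)
    (U : X.left.Opens) (hU : IsAffineOpen U) (hne : (U : Set X.left).Nonempty)
    (hcov : ∀ x : X.left, ∃ g, x ∈ (StableOpen.trans a g).left ⁻¹ᵁ U) :
    ∃ M : X.left.Modules, PicF.IsInvertible M ∧ ∃ tM : (𝟙_ (Over (Spec (CommRingCat.of k))) ⟶ G) → Γ(M, ⊤),
      ∀ g, glocus M (tM g) = (StableOpen.trans a g).left ⁻¹ᵁ U := by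
  classical
  haveI : IsLocallyNoetherian X.left := LocallyOfFiniteType.isLocallyNoetherian X.hom
  haveI : CompactSpace X.left := QuasiCompact.compactSpace_of_compactSpace X.hom
  haveI : IsNoetherian X.left := { }
  haveI : LocallyOfFinitePresentation X.hom := inferInstance
  haveI : X.left.IsSeparated := ⟨by rw [← terminal.comp_from X.hom]; infer_instance⟩
  set V := X.hom.smoothLocus with hVdef
  have hV1 : ∀ x : X.left, ringKrullDim (X.left.presheaf.stalk x) ≤ 1 → x ∈ V :=
    mem_smoothLocus_of_le_one X.hom hX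
  have hηV : genericPoint X.left ∈ V := X.hom.genericPoint_mem_smoothLocus_of_perfectField
  -- functions extend across the complement of `V`
  have hO : ∀ O : X.left.Opens, Function.Bijective (V.ι.app O) := by
    refine CohDer1.Blanchard.bijective_app_of_basis V.ι X.left.affineOpens (fun O y hy => ?_) fun O hO' => ?_
    · obtain ⟨B, hB, hyB, hBO⟩ := Opens.isBasis_iff_nbhd.mp X.left.isBasis_affineOpens hy
      exact ⟨B, hB, hyB, hBO⟩
    · exact FEtFF.Hartogs.bijective_ι_app V (fun x hx => by
        haveI := (hX x).1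
        haveI := (hX x).2
        exact CAlgH3.two_le_depth_of_normal (two_le_of_not_le_one fun h => hx (hV1 x h))) hO'
  -- the action on `V`
  have hVst : a.act.left ⁻¹ᵁ V = (snd G X).left ⁻¹ᵁ V :=
    StableOpen.preimage_eq_of_trans a V (StableOpen.preimage_smoothLocus a)
  obtain ⟨b, hb⟩ := Misc15.OpenAction.exists_action a V hVst.ge
  let VX : Over (Spec (CommRingCat.of k)) := Misc15.OpenAction.obj V
  haveI : Nonempty VX.left := ⟨⟨_, hηV⟩⟩
  haveI : IsIntegral VX.left := isIntegral_of_isOpenImmersion V.ι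
  haveI : IsSeparated VX.hom := inferInstanceAs (IsSeparated (V.ι ≫ X.hom))
  haveI : LocallyOfFiniteType VX.hom := inferInstanceAs (LocallyOfFiniteType (V.ι ≫ X.hom))
  haveI : QuasiCompact VX.hom := inferInstanceAs (QuasiCompact (V.ι ≫ X.hom))
  haveI : Smooth VX.hom := Scheme.Hom.smoothLocus_eq_top_iff.1 (by
    show (V.ι ≫ X.hom).smoothLocus = ⊤
    rw [← Scheme.Hom.preimage_smoothLocus_eq]
    exact Scheme.Opens.ι_preimage_self V)
  haveI : IsLocallyNoetherian VX.left := LocallyOfFiniteType.isLocallyNoetherian VX.hom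
  have htr : ∀ g, StableOpen.trans b g ≫ Misc15.OpenAction.incl V = Misc15.OpenAction.incl V ≫ StableOpen.trans a g := by
    intro g
    show (lift _ _ ≫ b.act) ≫ _ = _ ≫ lift _ _ ≫ a.act
    rw [Category.assoc, hb, lift_whiskerLeft_assoc, Category.id_comp, ← Category.assoc, comp_lift, ← Category.assoc,
      toUnit_unique (_ ≫ toUnit X) (toUnit _), Category.comp_id]
  -- the Cartier divisor
  let U' : VX.left.Opens := V.ι ⁻¹ᵁ U
  let Z : Closeds VX.left := ⟨(U' : Set VX.left)ᶜ, U'.isOpen.isClosed_compl⟩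
  let I := Scheme.IdealSheafData.vanishingIdeal Z
  have hsupp : (I.support : Set VX.left) = (U' : Set VX.left)ᶜ := rfl
  have hI : BlowUp.IsEffCartierIdeal I := by
    haveI : AlgebraicGeometry.IsReduced I.subscheme := Props12.isReduced_subscheme_vanishingIdeal Z
    have hrange : Set.range I.subschemeι = (U' : Set VX.left)ᶜ := I.range_subschemeι.trans hsupp
    refine SDiv28.Ufd.isEffCartierIdeal I (fun x _ => ?_) fun z hz => ?_
    · haveI := NeronLib.isRegularLocalRing_stalk_of_smooth (R := k) VX.hom x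
      exact Groth.Agent.S2821.result _
    · have hzU : V.ι (I.subschemeι z) ∉ U := hrange.le ⟨z, rfl⟩
      have hmax := (SDiv28.isWeakAssPoint_structureModule_iff_reduced z).1
        ((SDiv28.isWeakAssPoint_structureModule_iff z).2 hz)
      refine (ringKrullDim_eq_of_ringEquiv (asIso (V.ι.stalkMap (I.subschemeι z))).commRingCatIsoToRingEquiv).symm.trans ?_
      refine SDiv28.AffCompl.ringKrullDim_eq_one (fun A B hA hB => hA.inf hB) hU (U.2.dense hne)
        (hX _).1 (hX _).2 hzU fun y hy hne' => ?_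
      by_contra hyU
      have hyV : y ∈ V := hy.mem_open V.2 (I.subschemeι z).2
      obtain ⟨y', hy'⟩ := hrange.ge (show (⟨y, hyV⟩ : VX.left) ∈ (U' : Set VX.left)ᶜ from hyU)
      have hy'' : I.subschemeι y' ⤳ I.subschemeι z := by
        rw [hy']
        exact V.ι.isOpenEmbedding.isInducing.specializes_iff.1 hy
      have := hmax y' (I.subschemeι.isEmbedding.isInducing.specializes_iff.1 hy'')
      exact hne' (by rw [← this, hy']; rfl)
  have hIinv := AbCubeLib.isInvertible_idealMod I hI
  obtain ⟨L, hL, hLI⟩ : ∃ L : VX.left.Modules, PicF.IsInvertible L ∧ ClSub.IsInverseOf L (ClSub.idealMod I) := by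
    obtain ⟨c, hc⟩ := PicM.exists_mul_eq_one (PicM.of hIinv)
    obtain ⟨L, hL, rfl⟩ := PicM.exists_eq_of c
    rw [mul_comm, PicM.of_mul, PicM.of_eq_one_iff] at hc
    exact ⟨L, hL, hc⟩
  obtain ⟨s, hs⟩ := AbCubeLib.exists_section_of_effCartier I hI hL hLI
  have hs' : glocus L s = U' := Opens.ext (hs.trans (by rw [hsupp, compl_compl]))
  -- translated sections
  have hsec : ∀ g, ∃ t : Γ(L, ⊤), glocus L t = V.ι ⁻¹ᵁ ((StableOpen.trans a g).left ⁻¹ᵁ U) := by
    intro g
    obtain ⟨e⟩ := Groth.Agent.S16118.result k G VX (isNormal_opens hX V) b g L hL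
    refine ⟨e.hom.app ⊤ (pullSec (StableOpen.trans b g).left s),
      (glocus_map_iso e _).trans ((glocus_pullSec _ hL s).trans ?_)⟩
    rw [hs']
    show (StableOpen.trans b g).left ⁻¹ᵁ (V.ι ⁻¹ᵁ U) = _
    have e' : (StableOpen.trans b g).left ≫ V.ι = V.ι ≫ (StableOpen.trans a g).left := by
      exact congrArg CommaMorphism.left (htr g)
    rw [← Scheme.Hom.comp_preimage, ← Scheme.Hom.comp_preimage]
    exact congrArg (fun φ : V.toScheme ⟶ X.left => φ ⁻¹ᵁ U) e'
  choose t ht using hsec
  -- the direct image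
  let M : X.left.Modules := (Scheme.Modules.pushforward V.ι).obj L
  let tM : ∀ _ : (𝟙_ (Over (Spec (CommRingCat.of k))) ⟶ G), Γ(M, ⊤) := fun g => t g
  have hres : ∀ (g) (O : X.left.Opens), resM M (le_top : O ≤ ⊤) (tM g) = resM L (le_top : V.ι ⁻¹ᵁ O ≤ ⊤) (t g) :=
    fun g O => rfl
  have hgen : ∀ (g) (O : X.left.Opens), IsGen M O (resM M le_top (tM g)) ↔
      IsGen L (V.ι ⁻¹ᵁ O) (resM L le_top (t g)) := by
    intro g O
    have hsmul : ∀ (W : X.left.Opens) (hW : W ≤ O),
        (fun r : Γ(X.left, W) => r • resM M hW (resM M le_top (tM g))) =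
          (fun r : Γ(V.toScheme, V.ι ⁻¹ᵁ W) => r • resM L (V.ι.preimage_mono hW)
            (resM L (le_top : V.ι ⁻¹ᵁ O ≤ ⊤) (t g))) ∘ (V.ι.app W) := fun W hW => rfl
    constructor
    · intro h W' hW'
      obtain ⟨W, rfl⟩ : ∃ W : X.left.Opens, V.ι ⁻¹ᵁ W = W' := ⟨V.ι ''ᵁ W', V.ι.preimage_image_eq W'⟩
      have hW : V.ι ''ᵁ (V.ι ⁻¹ᵁ W) ≤ O := by
        rintro _ ⟨y, hy, rfl⟩; exact hW' hy
      have h' := h _ hW
      have key : ∀ (W₁ : V.toScheme.Opens) (e : V.ι ⁻¹ᵁ (V.ι ''ᵁ (V.ι ⁻¹ᵁ W)) = W₁) (hle : W₁ ≤ V.ι ⁻¹ᵁ O),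
          Function.Bijective fun r : Γ(V.toScheme, W₁) => r • resM L hle (resM L le_top (t g)) := by
        rintro W₁ rfl hle
        rw [hsmul] at h'
        exact (Function.Bijective.of_comp_iff _ (hO _)).1 h'
      exact key _ (V.ι.preimage_image_eq _) hW'
    · intro h W hW
      rw [hsmul]
      exact (h _ (V.ι.preimage_mono hW)).comp (hO W)
  have hgU : ∀ g, IsGen M ((StableOpen.trans a g).left ⁻¹ᵁ U) (resM M le_top (tM g)) := fun g =>
    (hgen g _).2 ((le_glocus_iff _ _).1 (ht g).ge)
  have hM : PicF.IsInvertible M := isInvertible_of_gens fun y => by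
    obtain ⟨g, hg⟩ := hcov y
    exact ⟨_, hg, _, hgU g⟩
  have hloc : ∀ g, glocus M (tM g) = (StableOpen.trans a g).left ⁻¹ᵁ U := by
    intro g
    set A := (StableOpen.trans a g).left ⁻¹ᵁ U with hAdef
    haveI := StableOpen.isIso_trans a g
    have hA : IsAffineOpen A := hU.preimage_of_isIso _
    refine le_antisymm ?_ ((le_glocus_iff _ _).2 (hgU g))
    have h1 : V.ι ⁻¹ᵁ glocus M (tM g) ≤ V.ι ⁻¹ᵁ A :=
      le_of_le_of_eq ((le_glocus_iff _ _).2 ((hgen g _).1 (isGen_glocus _))) (ht g)
    intro y hy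
    obtain ⟨O, hO', hyO, hOle⟩ := Opens.isBasis_iff_nbhd.mp X.left.isBasis_affineOpens hy
    have hVeq : V.ι ⁻¹ᵁ (O ⊓ A) = V.ι ⁻¹ᵁ O :=
      le_antisymm (fun z hz => hz.1) fun z hz => ⟨hz, h1 (hOle hz)⟩
    refine (le_of_bijective_res hO' (hO'.inf hA) inf_le_left ?_ hyO).2
    have hn := V.ι.naturality (homOfLE (inf_le_left : O ⊓ A ≤ O)).op
    have hiso : IsIso (V.toScheme.presheaf.map
        ((Opens.map V.ι.base).map (homOfLE (inf_le_left : O ⊓ A ≤ O))).op) := by
      have : ((Opens.map V.ι.base).map (homOfLE (inf_le_left : O ⊓ A ≤ O))) = eqToHom hVeq := Subsingleton.elim _ _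
      rw [this, eqToHom_op]
      infer_instance
    have hb3 := (ConcreteCategory.bijective_of_isIso (V.toScheme.presheaf.map
      ((Opens.map V.ι.base).map (homOfLE (inf_le_left : O ⊓ A ≤ O))).op)).comp (hO O)
    refine (Function.Bijective.of_comp_iff' (hO (O ⊓ A)) _).1 ?_
    convert hb3 using 1
    funext r
    exact ConcreteCategory.congr_hom hn r
  exact ⟨M, hM, tM, hloc⟩

theorem isQuasiProjective_of_translates (G X : Over (Spec (CommRingCat.of k))) [GrpObj G] [IsAffine G.left]
    [Smooth G.hom] [ConnectedSpace ↥G.left] [IsIntegral X.left] [IsSeparated X.hom] [LocallyOfFiniteType X.hom]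
    [QuasiCompact X.hom] (hX : Pi1.IsNormalScheme X.left) (a : AlgGrp.Action G X)
    (U : X.left.Opens) (hU : IsAffineOpen U) (hne : (U : Set X.left).Nonempty)
    (hcov : ∀ x : X.left, ∃ g, x ∈ (StableOpen.trans a g).left ⁻¹ᵁ U) :
    RelProj.IsQuasiProjective X.hom := by
  haveI : IsLocallyNoetherian X.left := LocallyOfFiniteType.isLocallyNoetherian X.hom
  haveI : CompactSpace X.left := QuasiCompact.compactSpace_of_compactSpace X.hom
  haveI : IsNoetherian X.left := { }
  haveI : X.left.IsSeparated := ⟨by rw [← terminal.comp_from X.hom]; infer_instance⟩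
  obtain ⟨M, hM, tM, hloc⟩ := exists_module_of_translates G X hX a U hU hne hcov
  -- ampleness
  have hamp : CohB1.IsAmple M := by
    refine isAmple_iff_affGlocus.2 ⟨hM, inferInstance, fun y => ?_⟩
    obtain ⟨g, hg⟩ := hcov y
    haveI := StableOpen.isIso_trans a g
    exact ⟨1, Nat.one_pos, powSec (tM g) 1, by rw [glocus_powSec hM (tM g) 0, hloc]; exact hg, le_top,
      by rw [glocus_powSec hM (tM g) 0, hloc]; exact hU.preimage_of_isIso _⟩
  exact ⟨inferInstance, inferInstance, M, Props12.AmpleExternal.isRelAmple_of_isAmple X.hom M hamp⟩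

end Groth.Agent.AlgGrpLib.AmpleTranslates
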