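import Groth.Agent.S19705
import Groth.Agent.AlgGrpLib.AffineHullMain
import Groth.Agent.AlgGrpLib.AffineToProper
import Groth.Agent.CohDer1.AntiAffSmooth
import Groth.Agent.AlgGrpLib.ImageSubgroup
import Groth.Agent.GrpQ26.Preimage

/-!
# Minimal anti-affine groups and simple abelian quotients
-/

set_option autoImplicit false
set_option backward.isDefEq.respectTransparency.types false

universe u

open CategoryTheory CategoryTheory.Limits MonoidalCategory CartesianMonoidalCategory MonObj GrpObj AlgebraicGeometry

namespace Groth.Agent.AlgGrpLib.AntiAffineMinimal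

variable {k : Type u} [Field k]

/-- No non-constant global functions, as in the statements. -/
abbrev AA (Y : Over (Spec (CommRingCat.of k))) : Prop :=
  Function.Bijective ((Scheme.ΓSpecIso (CommRingCat.of k)).inv ≫ Y.hom.appTop).hom

theorem bijective_appTop_of {Y : Over (Spec (CommRingCat.of k))} (h : AA Y) : Function.Bijective Y.hom.appTop := by
  unfold AA at h
  rw [CommRingCat.hom_comp, RingHom.coe_comp] at h
  exact (Function.Bijective.of_comp_iff _ (ConcreteCategory.bijective_of_isIso (Scheme.ΓSpecIso (CommRingCat.of k)).inv)).1 h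

theorem aa_of_bijective {Y : Over (Spec (CommRingCat.of k))} (h : Function.Bijective Y.hom.appTop) : AA Y := by
  unfold AA
  rw [CommRingCat.hom_comp, RingHom.coe_comp]
  exact Function.Bijective.comp h (ConcreteCategory.bijective_of_isIso (Scheme.ΓSpecIso (CommRingCat.of k)).inv)

/-- An affine scheme without non-constant functions is a point. -/
theorem isIso_of_affine {Y : Over (Spec (CommRingCat.of k))} [IsAffine Y.left] (h : Function.Bijective Y.hom.appTop) :
    IsIso Y.hom := by
  haveI : IsIso Y.hom.appTop := (ConcreteCategory.isIso_iff_bijective _).2 h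
  have e : Y.hom = Y.left.isoSpec.hom ≫ Spec.map Y.hom.appTop ≫ (Spec (CommRingCat.of k)).isoSpec.inv := by
    rw [Scheme.isoSpec_hom_naturality_assoc, Iso.hom_inv_id, Category.comp_id]
  rw [e]
  infer_instance

theorem hom_eq_of_trivial {T B : Over (Spec (CommRingCat.of k))} (hB : IsIso B.hom) (a b : T ⟶ B) : a = b :=
  Over.OverMorphism.ext (by rw [← cancel_mono B.hom, Over.w, Over.w])

variable {G N A : Over (Spec (CommRingCat.of k))} [GrpObj G] [GrpObj N] [GrpObj A]
  [LocallyOfFiniteType G.hom] [QuasiCompact G.hom] (i : N ⟶ G) [IsMonHom i] [IsClosedImmersion i.left]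
  [IsAffine N.left] (q : G ⟶ A) [IsMonHom q] [Surjective q.left] [Flat q.left] [IsProper A.hom]

/-- A simple quotient forces minimality. -/
theorem minimal_of_simple (hGa : AA G) (hq : AlgGrp.IsKernel i q)
    (hA : ∀ (B : Over (Spec (CommRingCat.of k))) [GrpObj B] (b : B ⟶ A) [IsMonHom b] [IsClosedImmersion b.left],
      Smooth B.hom → ConnectedSpace ↥B.left → IsIso b ∨ Red.IsTrivialGrp B)
    (H : Over (Spec (CommRingCat.of k))) [GrpObj H] (h : H ⟶ G) [IsMonHom h] [IsClosedImmersion h.left]
    (hne : ¬ IsIso h) (hHa : AA H) : Red.IsTrivialGrp H := by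
  haveI : ConnectedSpace G.left := AlgGrpLib.connectedSpace_of_bijective (bijective_appTop_of hGa)
  haveI : LocallyOfFiniteType H.hom := by rw [← Over.w h]; infer_instance
  haveI : QuasiCompact H.hom := by rw [← Over.w h]; infer_instance
  haveI : Smooth H.hom := CohDer1.AntiAff.smooth H (bijective_appTop_of hHa)
  haveI : ConnectedSpace H.left := AlgGrpLib.connectedSpace_of_bijective (bijective_appTop_of hHa)
  obtain ⟨B, gB, b, ρ, hb, hρ, hbc, hρb, hρs, hρf, hBs, -, -⟩ := ImageSubgroup.exists_image (h ≫ q)
  letI := gB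
  haveI := hb
  haveI := hbc
  haveI := hρs
  haveI : ConnectedSpace B.left := ρ.left.surjective.connectedSpace ρ.left.continuous
  rcases hA B b hBs inferInstance with hiso | htriv
  · exfalso
    apply hne
    haveI := hiso
    haveI : IsIso b.left := inferInstanceAs (IsIso ((Over.forget _).map b))
    haveI : Surjective (h ≫ q).left := by rw [← hρb, Over.comp_left]; infer_instance
    let F : H ⊗ N ⟶ G := (h ⊗ₘ i) ≫ μ[G]
    have hFm : F = (fst H N ≫ h) * (snd H N ≫ i) := by
      rw [Hom.mul_def]
      simp only [F]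
      congr 1
    have hF : F ≫ q = fst H N ≫ h ≫ q := by
      rw [hFm, MonObj.mul_comp, Category.assoc, Category.assoc, kernel_comp hq, MonObj.comp_one, _root_.mul_one]
    have sq : IsPullback F (fst H N) q (h ≫ q) := by
      haveI : Mono i := kernel_mono hq
      refine IsPullback.of_isLimit' ⟨hF⟩ (PullbackCone.IsLimit.mk _
        (fun s => lift s.snd (hq.lift ((s.snd ≫ h)⁻¹ * s.fst) (toUnit _) (by
          rw [MonObj.mul_comp, GrpObj.inv_comp, s.condition, Category.assoc, inv_mul_cancel, Hom.one_def])))
        (fun s => ?_) (fun s => lift_fst _ _) (fun s m h1 h2 => ?_))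
      · rw [hFm, MonObj.comp_mul, lift_fst_assoc, lift_snd_assoc, hq.lift_fst, mul_inv_cancel_left]
      · refine CartesianMonoidalCategory.hom_ext _ _ (h2.trans (lift_fst _ _).symm) ?_
        rw [lift_snd, ← cancel_mono i, hq.lift_fst, Category.assoc, ← h1, ← h2]
        show _ = _ * (m ≫ F)
        rw [hFm, MonObj.comp_mul, Category.assoc m, inv_mul_cancel_left]
    haveI : Surjective F.left := MorphismProperty.of_isPullback (sq.map (Over.forget _)).flip ‹Surjective (h ≫ q).left›
    obtain ⟨g, hg⟩ := (Groth.Agent.S19705.result k G N i (ExactSeqBasics.isNormalHom_kernel q hq) A q hq G (𝟙 G)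
      hGa (fun M₁ _ _ _ j₁ _ _ _ => ⟨j₁, Category.comp_id _⟩)).2 H h ‹Surjective F.left›
    haveI : Mono h := Over.mono_of_mono_left h
    exact ⟨g, by rw [← cancel_mono h, Category.assoc, hg, Category.comp_id, Category.id_comp], hg⟩
  · haveI : IsIso B.hom := htriv
    have hk : h ≫ q = 1 := by
      rw [← hρb, hom_eq_of_trivial htriv ρ 1, MonObj.one_comp]
    obtain ⟨w, hw⟩ := exists_lift_kernel hq hk
    haveI : IsClosedImmersion (w.left ≫ i.left) := by rw [← Over.comp_left, hw]; infer_instance
    haveI : IsClosedImmersion w.left := IsClosedImmersion.of_comp w.left i.left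
    haveI : IsAffine H.left := isAffine_of_isAffineHom w.left
    exact isIso_of_affine (bijective_appTop_of hHa)

include q in
/-- Minimality forces a simple quotient. -/
theorem simple_of_minimal [Smooth A.hom]
    (hG : ∀ (H : Over (Spec (CommRingCat.of k))) [GrpObj H] (h : H ⟶ G) [IsMonHom h] [IsClosedImmersion h.left],
      ¬ IsIso h → (AA H) → Red.IsTrivialGrp H)
    (B : Over (Spec (CommRingCat.of k))) [GrpObj B] (b : B ⟶ A) [IsMonHom b] [IsClosedImmersion b.left]
    [Smooth B.hom] [ConnectedSpace ↥B.left] : IsIso b ∨ Red.IsTrivialGrp B := by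
  by_cases hiso : IsIso b
  · exact Or.inl hiso
  refine Or.inr ?_
  haveI : Mono b := Over.mono_of_mono_left b
  obtain ⟨gP, hP1, hP2⟩ := GrpQ26.exists_grpObj_preimage q b
  let P := Limits.pullback b q
  let p₁ : P ⟶ B := Limits.pullback.fst b q
  let p₂ : P ⟶ G := Limits.pullback.snd b q
  letI := gP
  haveI : IsMonHom p₁ := hP1
  haveI : IsMonHom p₂ := hP2
  have sq : IsPullback p₁.left p₂.left b.left q.left := (IsPullback.of_hasPullback b q).map (Over.forget _)
  haveI : IsClosedImmersion p₂.left := MorphismProperty.of_isPullback sq ‹IsClosedImmersion b.left›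
  haveI : Surjective p₁.left := MorphismProperty.of_isPullback sq.flip ‹Surjective q.left›
  haveI : Flat p₁.left := MorphismProperty.of_isPullback sq.flip ‹Flat q.left›
  haveI : Mono p₂ := Over.mono_of_mono_left p₂
  haveI : LocallyOfFiniteType P.hom := by rw [← Over.w p₂]; infer_instance
  haveI : QuasiCompact P.hom := by rw [← Over.w p₂]; infer_instance
  obtain ⟨gF, hρ, hρs, hρf, hρl⟩ := AffineHull.affinization (G := P)
  letI := gF
  haveI := hρ
  haveI := hρs
  haveI := hρf
  haveI := hρl
  obtain ⟨K, gK, κ, hκ, hκc, hκk, -⟩ := AffineToProper.exists_kernel (toAffOf P)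
  letI := gK
  haveI := hκ
  haveI := hκc
  have hKa := aa_of_bijective (AffineHull.bijective_appTop_kernel P κ hκk)
  haveI : IsClosedImmersion (κ ≫ p₂).left := by rw [Over.comp_left]; infer_instance
  have hne : ¬ IsIso (κ ≫ p₂) := fun h => hiso (by
    haveI := h
    haveI : IsIso (κ ≫ p₂).left := inferInstanceAs (IsIso ((Over.forget _).map (κ ≫ p₂)))
    haveI : Surjective p₂.left := by
      haveI : Surjective (κ.left ≫ p₂.left) := by rw [← Over.comp_left]; infer_instance
      exact Surjective.of_comp κ.left p₂.left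
    haveI : Surjective b.left := by
      haveI : Surjective (p₁.left ≫ b.left) := by rw [sq.w]; infer_instance
      exact Surjective.of_comp p₁.left b.left
    haveI : IsReduced A.left := AbSchLib.isReduced_of_smooth A.hom
    haveI : IsIso b.left := isIso_of_isClosedImmersion_of_surjective _
    exact (isIso_iff_of_reflects_iso b (Over.forget _)).1 ‹IsIso b.left›)
  haveI : IsIso K.hom := hG K (κ ≫ p₂) hne hKa
  haveI : Mono (toAffOf P) := ⟨fun x y hxy => by
    obtain ⟨z, hz⟩ := exists_lift_kernel hκk (g := x * y⁻¹) (by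
      rw [MonObj.mul_comp, GrpObj.inv_comp, hxy, mul_inv_cancel])
    rw [hom_eq_of_trivial inferInstance z 1, MonObj.one_comp] at hz
    exact mul_inv_eq_one.1 hz.symm⟩
  haveI : QuasiCompact (toAffOf P).left := quasiCompact_left _
  haveI : IsClosedImmersion (toAffOf P).left :=
    SGA3cLib.isClosedImmersion_of_mono (toAffOf P)
  haveI : IsAffine P.left := isAffine_of_isAffineHom (toAffOf P).left
  haveI : IsAffine B.left := AffineToProper.isAffine_of_flat_surjective p₁
  haveI : IsProper B.hom := by rw [← Over.w b]; infer_instance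
  haveI : IsAffineHom B.hom := isAffineHom_of_isAffine _
  haveI : IsFinite B.hom := (IsFinite.iff_isProper_and_isAffineHom).2 ⟨inferInstance, inferInstance⟩
  haveI : IsReduced B.left := AbSchLib.isReduced_of_smooth B.hom
  haveI := AffineToProper.isIso_unit (Q := B)
  haveI : IsIso η[B].left := inferInstanceAs (IsIso ((Over.forget _).map η[B]))
  show IsIso B.hom
  have e : η[B].left ≫ B.hom = 𝟙 _ := Over.w η[B]
  haveI : IsIso (η[B].left ≫ B.hom) := by rw [e]; infer_instance
  exact IsIso.of_isIso_comp_left η[B].left B.hom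

end Groth.Agent.AlgGrpLib.AntiAffineMinimal
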