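import Groth.Agent.AlgGrpLib.AffineCriterion
import Groth.Agent.AlgGrpLib.ExactSeqBasics
import Groth.Agent.GrpQLib.FlatKernel
import Groth.Agent.SGA3cLib.MonoClosed
import Groth.Agent.GrpdLib.SmoothOverField
import Groth.Agent.S3278
import Groth.Agent.S0348
import Groth.Agent.AlgGrpLib.OrbitDimFormula
import Mathlib.AlgebraicGeometry.Morphisms.Proper

/-! The anti-affine part and an affine normal subgroup with proper quotient generate. -/

universe u

set_option autoImplicit false
set_option backward.isDefEq.respectTransparency.types false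
set_option maxHeartbeats 800000

open CategoryTheory CategoryTheory.Limits MonoidalCategory CartesianMonoidalCategory MonObj GrpObj AlgebraicGeometry

namespace Groth.Agent.AlgGrpLib.AffineHull

variable {k : Type u} [Field k]

/-- A proper connected group maps to affine schemes with one-point image. -/
theorem apply_eq_of_proper {A Z : Over (Spec (CommRingCat.of k))} [GrpObj A] [IsProper A.hom] [ConnectedSpace A.left]
    [IsAffine Z.left] (u : A ⟶ Z) (a b : A.left) : u.left a = u.left b := by
  haveI : IrreducibleSpace A.left := Groth.Agent.S0348.result k A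
  let I := Scheme.IdealSheafData.vanishingIdeal (⊤ : TopologicalSpace.Closeds A.left)
  haveI : IsReduced I.subscheme := Props12.isReduced_subscheme_vanishingIdeal _
  have hsurj : Function.Surjective I.subschemeι := fun x => by
    have h : x ∈ Set.range I.subschemeι := by
      rw [Scheme.IdealSheafData.range_subschemeι, Scheme.IdealSheafData.coe_support_vanishingIdeal]
      exact Set.mem_univ x
    exact h
  haveI : IrreducibleSpace I.subscheme :=
    (I.subschemeι.isClosedEmbedding.isEmbedding.toHomeomorphOfSurjective hsurj).irreducibleSpace_iff.2 inferInstance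
  haveI : IsIntegral I.subscheme := isIntegral_of_irreducibleSpace_of_isReduced _
  haveI : UniversallyClosed (I.subschemeι ≫ A.hom) := inferInstance
  letI := (isField_of_universallyClosed k (I.subschemeι ≫ A.hom)).toField
  haveI : Subsingleton (Spec Γ(I.subscheme, ⊤)) := inferInstanceAs (Subsingleton (PrimeSpectrum Γ(I.subscheme, ⊤)))
  obtain ⟨x, rfl⟩ := hsurj a
  obtain ⟨y, rfl⟩ := hsurj b
  have e : I.subschemeι ≫ u.left = I.subscheme.toSpecΓ ≫ Spec.map (I.subschemeι ≫ u.left).appTop ≫ Z.left.isoSpec.inv := by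
    rw [← cancel_mono Z.left.isoSpec.hom]
    simp only [Category.assoc, Iso.inv_hom_id, Category.comp_id]
    rw [← Scheme.toSpecΓ_naturality, Category.assoc]
    rfl
  rw [← Scheme.Hom.comp_apply, ← Scheme.Hom.comp_apply, e, Scheme.Hom.comp_apply, Scheme.Hom.comp_apply I.subscheme.toSpecΓ,
    Subsingleton.elim (I.subscheme.toSpecΓ x) (I.subscheme.toSpecΓ y)]

theorem isMonHom_of_comp {G Q Z : Over (Spec (CommRingCat.of k))} [GrpObj G] [GrpObj Q] [GrpObj Z]
    (q : G ⟶ Q) [IsMonHom q] [Surjective q.left] [Flat q.left] [QuasiCompact q.left] (g : Q ⟶ Z) [IsMonHom (q ≫ g)] :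
    IsMonHom g := by
  haveI : Epi q := by
    haveI : Epi q.left := Flat.epi_of_flat_of_surjective q.left
    exact Over.epi_of_epi_left _
  refine ⟨by rw [← IsMonHom.one_hom q, Category.assoc, IsMonHom.one_hom (q ≫ g)], ?_⟩
  haveI : Epi (q ⊗ₘ q) := by
    haveI : Surjective (q ⊗ₘ q).left := MorphismProperty.pullbackMap (P := @Surjective)
      ‹Surjective q.left› ‹Surjective q.left› (Over.w q).symm (Over.w q).symm
    haveI : Flat (q ⊗ₘ q).left := MorphismProperty.pullbackMap (P := @Flat)
      ‹Flat q.left› ‹Flat q.left› (Over.w q).symm (Over.w q).symm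
    haveI : QuasiCompact (q ⊗ₘ q).left := MorphismProperty.pullbackMap (P := @QuasiCompact)
      ‹QuasiCompact q.left› ‹QuasiCompact q.left› (Over.w q).symm (Over.w q).symm
    haveI : Epi (q ⊗ₘ q).left := Flat.epi_of_flat_of_surjective (q ⊗ₘ q).left
    exact Over.epi_of_epi_left _
  rw [← cancel_epi (q ⊗ₘ q), ← Category.assoc, ← IsMonHom.mul_hom q, Category.assoc,
    IsMonHom.mul_hom (q ≫ g), tensorHom_comp_tensorHom_assoc]

/-- With `q : G → A` the quotient by an affine normal subgroup and `A` proper connected, `G = N · G_ant`. -/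
theorem surjective_mul (G : Over (Spec (CommRingCat.of k))) [GrpObj G] [LocallyOfFiniteType G.hom] [QuasiCompact G.hom]
    {N : Over (Spec (CommRingCat.of k))} [GrpObj N] (i : N ⟶ G) [IsMonHom i] [IsClosedImmersion i.left]
    (hN : AlgGrp.IsNormalHom i) {A : Over (Spec (CommRingCat.of k))} [GrpObj A] [IsProper A.hom]
    [ConnectedSpace A.left] (q : G ⟶ A) [IsMonHom q] [Surjective q.left] [Flat q.left] (hq : AlgGrp.IsKernel i q)
    {M : Over (Spec (CommRingCat.of k))} (j : M ⟶ G)
    (hmax : ∀ (M₁ : Over (Spec (CommRingCat.of k))) [GrpObj M₁] [LocallyOfFiniteType M₁.hom] [QuasiCompact M₁.hom]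
      (j₁ : M₁ ⟶ G) [IsMonHom j₁] [IsClosedImmersion j₁.left], Function.Bijective M₁.hom.appTop → ∃ g : M₁ ⟶ M, g ≫ j = j₁) :
    Surjective ((i ⊗ₘ j) ≫ μ[G]).left := by
  haveI : IsLocallyNoetherian G.left := LocallyOfFiniteType.isLocallyNoetherian G.hom
  haveI : QuasiCompact q.left := by
    haveI : QuasiCompact (q.left ≫ A.hom) := by rw [Over.w]; infer_instance
    exact QuasiCompact.of_comp q.left A.hom
  obtain ⟨gT, hr, N1, gN1, i1, hi1, hci1, hl1, hqc1, hb1, hAl, hrf, hrs, hker1⟩ := exists_antiAffine_kernel G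
  obtain ⟨e1, he1⟩ := hmax N1 i1 hb1
  let T := affOf G
  let r : G ⟶ T := toAffOf G
  haveI : IsAffine T.left := inferInstanceAs (IsAffine (Spec _))
  haveI : QuasiCompact r.left := by
    haveI : QuasiCompact (r.left ≫ T.hom) := by rw [Over.w]; infer_instance
    exact QuasiCompact.of_comp r.left T.hom
  haveI : LocallyOfFiniteType N.hom := by rw [← Over.w i]; infer_instance
  haveI : QuasiCompact N.hom := by rw [← Over.w i]; infer_instance
  haveI : IsLocallyNoetherian N.left := LocallyOfFiniteType.isLocallyNoetherian N.hom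
  haveI : LocallyOfFinitePresentation N.hom := inferInstance
  obtain ⟨B, gB, ρ, kB, hρ, hkB, hfac, hρs, hρf, -, hmono, hBl, -⟩ :=
    Groth.Agent.GrpQLib.exists_image (i ≫ r) (GrpdLib.flat_to_field _ k (Iso.refl _))
  haveI : QuasiCompact B.hom := by
    haveI : CompactSpace N.left := QuasiCompact.compactSpace_of_compactSpace N.hom
    haveI : CompactSpace B.left := ⟨by
      rw [← Set.range_eq_univ.2 ρ.left.surjective]; exact isCompact_range ρ.left.continuous⟩
    exact (quasiCompact_iff_compactSpace B.hom).2 inferInstance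
  haveI : IsSeparated B.hom := Groth.Agent.SGA3xLib.isSeparated_of_grpObj B
  haveI : QuasiCompact ρ.left := by
    haveI : QuasiCompact (ρ.left ≫ B.hom) := by rw [Over.w]; infer_instance
    exact QuasiCompact.of_comp ρ.left B.hom
  haveI : QuasiCompact kB.left := by
    haveI : QuasiCompact (kB.left ≫ T.hom) := by rw [Over.w]; infer_instance
    exact QuasiCompact.of_comp kB.left T.hom
  haveI : IsClosedImmersion kB.left := Groth.Agent.SGA3cLib.isClosedImmersion_of_mono kB
  have hnB : AlgGrp.IsNormalHom kB := by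
    intro W a b
    obtain ⟨T₁, c₁, g, hc₁s, hc₁f, hc₁q, hg⟩ := exists_lift_cover r a
    obtain ⟨T₂, c₂, n, hc₂s, hc₂f, hc₂q, hn⟩ := exists_lift_cover ρ (c₁ ≫ b)
    obtain ⟨n', hn'⟩ := hN T₂ (c₂ ≫ g) n
    haveI : Surjective (c₂ ≫ c₁).left := ⟨fun z => by
      obtain ⟨z', hz'⟩ := c₁.left.surjective z
      obtain ⟨w, hw⟩ := c₂.left.surjective z'
      exact ⟨w, by rw [Over.comp_left, Scheme.Hom.comp_apply, hw, hz']⟩⟩
    haveI : Flat (c₂ ≫ c₁).left := MorphismProperty.comp_mem @Flat _ _ hc₂f hc₁f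
    haveI : QuasiCompact (c₂ ≫ c₁).left := MorphismProperty.comp_mem @QuasiCompact _ _ hc₂q hc₁q
    obtain ⟨y, hy⟩ := exists_factor_of_cover (c₂ ≫ c₁) kB (a * (b ≫ kB) * a⁻¹) (n' ≫ ρ) (by
      have e := congrArg (· ≫ r) hn'
      simp only [MonObj.mul_comp, GrpObj.inv_comp, Category.assoc, ← hfac, hg] at e
      rw [Category.assoc, MonObj.comp_mul, MonObj.comp_mul, GrpObj.comp_inv, Category.assoc, Category.assoc,
        ← reassoc_of% hn]
      exact e.symm)
    exact ⟨y, hy.symm⟩
  obtain ⟨Q, gQ, π, hπ, hQaff, -, -, -, hkerπ⟩ := Groth.Agent.S3278.result k T B kB hnB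
  obtain ⟨u, hu⟩ := ExactSeqBasics.exists_desc q hq (r ≫ π) (by
    rw [← Category.assoc, ← hfac, Category.assoc, kernel_comp hkerπ, MonObj.comp_one])
  have hconst : ∀ g : G.left, π.left (r.left g) = η[Q].left (IsLocalRing.closedPoint k) := fun g => by
    have h1 : (r ≫ π).left g = u.left (q.left g) := by rw [← hu]; simp
    have h2 : (r ≫ π).left (η[G].left (IsLocalRing.closedPoint k)) =
        u.left (q.left (η[G].left (IsLocalRing.closedPoint k))) := by rw [← hu]; simp
    have h3 : (r ≫ π).left (η[G].left (IsLocalRing.closedPoint k)) = η[Q].left (IsLocalRing.closedPoint k) := by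
      rw [← Scheme.Hom.comp_apply, ← Over.comp_left, IsMonHom.one_hom]
    rw [← Scheme.Hom.comp_apply, ← Over.comp_left, h1, apply_eq_of_proper u _ (q.left (η[G].left (IsLocalRing.closedPoint k))),
      ← h2, h3]
  refine ⟨fun g => ?_⟩
  obtain ⟨b, hb⟩ : ∃ b, kB.left b = r.left g := by
    obtain ⟨w, hw, -⟩ := Scheme.Pullback.exists_preimage_pullback (f := π.left) (g := η[Q].left)
      (r.left g) (IsLocalRing.closedPoint k) (hconst g)
    have hp := hkerπ.map (Over.forget _)
    refine ⟨hp.isoPullback.inv w, ?_⟩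
    refine (Scheme.Hom.comp_apply _ _ _).symm.trans (Eq.trans ?_ hw)
    exact congr($(hp.isoPullback_inv_fst) w)
  obtain ⟨n, hn⟩ := ρ.left.surjective b
  obtain ⟨p, hp1, hp2⟩ := Scheme.Pullback.exists_preimage_pullback (f := r.left) (g := (i ≫ r).left) g n (by
    rw [← hfac, Over.comp_left, Scheme.Hom.comp_apply, hn, hb])
  let P := pullback r.left (i ≫ r).left
  let W : Over (Spec (CommRingCat.of k)) := Over.mk (pullback.fst r.left (i ≫ r).left ≫ G.hom)
  let gw : W ⟶ G := Over.homMk (pullback.fst r.left (i ≫ r).left) rfl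
  let nw : W ⟶ N := Over.homMk (pullback.snd r.left (i ≫ r).left) (by
    show pullback.snd r.left (i ≫ r).left ≫ N.hom = pullback.fst r.left (i ≫ r).left ≫ G.hom
    rw [← Over.w (i ≫ r), ← pullback.condition_assoc, Over.w r])
  have hgn : gw ≫ r = nw ≫ i ≫ r := Over.OverMorphism.ext pullback.condition
  obtain ⟨m, hm⟩ := exists_lift_kernel hker1 (g := (nw ≫ i)⁻¹ * gw) (by
    rw [MonObj.mul_comp, GrpObj.inv_comp, hgn, Category.assoc, inv_mul_cancel])
  have hprod : lift nw (m ≫ e1) ≫ (i ⊗ₘ j) ≫ μ[G] = gw := by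
    rw [← Category.assoc, lift_map, Category.assoc m, he1, hm]
    exact mul_inv_cancel_left (nw ≫ i) gw
  refine ⟨(lift nw (m ≫ e1)).left p, ?_⟩
  rw [← Scheme.Hom.comp_apply, ← Over.comp_left, hprod]
  exact hp1

end Groth.Agent.AlgGrpLib.AffineHull
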