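import Groth.Agent.AlgGrpLib.TorusToProper
import Groth.Agent.SGA3cLib.MultHomLocus
import Groth.Agent.SGA3cLib.NormalMultCentral
import Groth.Agent.Et18.Descent
import Mathlib.RingTheory.IntegralClosure.IsIntegralClosure.Basic

/-! # The power maps of a torus over a field are finite, flat and surjective -/

set_option autoImplicit false
set_option backward.isDefEq.respectTransparency.types false

universe u

open CategoryTheory CategoryTheory.Limits MonoidalCategory CartesianMonoidalCategory MonObj GrpObj AlgebraicGeometry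
open Groth.Agent.SGA3cLib

namespace Groth.Agent.AlgGrpLib.TorusIsogeny

/-- Finite, flat and surjective. -/
abbrev FFS : MorphismProperty Scheme.{u} := @IsFinite ⊓ MultHomLocus.FF

instance : (FFS.{u}).IsStableUnderBaseChange := inferInstance

section DS

variable {M : Type} [AddCommGroup M]

theorem pow_eq_DSmap (U : Scheme.{u}) (n : ℕ) :
    (𝟙 (Red.DS U M)) ^ n = Red.DSmap U (nsmulAddMonoidHom (α := M) n) := by
  refine dsFn_injective (MonoidHom.ext fun m => ?_)
  have h1 : ∀ (n : ℕ), dsFn ((𝟙 (Red.DS U M)) ^ n) m = dsFn (𝟙 (Red.DS U M)) m ^ n := by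
    intro n
    induction n with
    | zero => rw [pow_zero, pow_zero, dsFn_one]
    | succ k ih => rw [pow_succ, pow_succ, dsFn_mul, ih]
  rw [h1, ← Category.id_comp (Red.DSmap U _), S5427.dsFn_DSmap, ← map_pow]
  exact congrArg (dsFn (𝟙 (Red.DS U M))) rfl

theorem isFinite_DSmap (n : ℕ) (hn : n ≠ 0) [AddGroup.FG M] (U : Scheme.{u}) :
    IsFinite (Red.DSmap U (nsmulAddMonoidHom (α := M) n)).left := by
  refine MultHomLocus.map_diagMap _ U @IsFinite ?_
  let f : Multiplicative M →* Multiplicative M := AddMonoidHom.toMultiplicative (nsmulAddMonoidHom (α := M) n)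
  let F := MonoidAlgebra.mapDomainRingHom (ULift.{u} ℤ) f
  show IsFinite (Spec.map (CommRingCat.ofHom F))
  rw [IsFinite.SpecMap_iff]
  show F.Finite
  refine RingHom.IsIntegral.to_finite ?_ ?_
  · letI := F.toAlgebra
    intro b
    show IsIntegral (MonoidAlgebra (ULift.{u} ℤ) (Multiplicative M)) b
    induction b using MonoidAlgebra.induction_linear with
    | zero => exact isIntegral_zero
    | add x y hx hy => exact hx.add hy
    | single g c =>
      have hg : IsIntegral (MonoidAlgebra (ULift.{u} ℤ) (Multiplicative M))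
          (MonoidAlgebra.single g (1 : ULift.{u} ℤ)) := by
        refine IsIntegral.of_pow (Nat.pos_of_ne_zero hn) ?_
        have he : MonoidAlgebra.single g (1 : ULift.{u} ℤ) ^ n =
            algebraMap (MonoidAlgebra (ULift.{u} ℤ) (Multiplicative M)) _ (MonoidAlgebra.single g 1) := by
          show _ = F (MonoidAlgebra.single g 1)
          rw [MonoidAlgebra.single_pow, one_pow]
          exact (MonoidAlgebra.mapDomain_single (f := f)).symm
        rw [he]
        exact isIntegral_algebraMap
      have hc : IsIntegral (MonoidAlgebra (ULift.{u} ℤ) (Multiplicative M))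
          (MonoidAlgebra.single (1 : Multiplicative M) c) := by
        have : MonoidAlgebra.single (1 : Multiplicative M) c =
            algebraMap (MonoidAlgebra (ULift.{u} ℤ) (Multiplicative M)) _
              (MonoidAlgebra.single (1 : Multiplicative M) c) := by
          show _ = F (MonoidAlgebra.single 1 c)
          have h2 := MonoidAlgebra.mapDomain_single (f := f) (a := (1 : Multiplicative M)) (r := c)
          rw [map_one] at h2
          exact h2.symm
        rw [this]
        exact isIntegral_algebraMap
      have := hg.mul hc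
      rwa [MonoidAlgebra.single_mul_single, _root_.mul_one, _root_.one_mul] at this
  · haveI : AddMonoid.FG M := AddGroup.fg_iff_addMonoid_fg.1 inferInstance
    refine RingHom.FiniteType.of_comp_finiteType (f := algebraMap (ULift.{u} ℤ) _) ?_
    have : F.comp (algebraMap (ULift.{u} ℤ) _) = algebraMap (ULift.{u} ℤ) _ :=
      RingHom.ext fun c => by
        show F (MonoidAlgebra.single 1 c) = MonoidAlgebra.single 1 c
        exact (MonoidAlgebra.mapDomain_single (f := f)).trans (by rw [map_one])
    rw [this]
    exact RingHom.finiteType_algebraMap.2 inferInstance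

theorem ffs_pow_DS (n : ℕ) (hn : n ≠ 0) (d : ℕ) (U : Scheme.{u}) :
    FFS ((𝟙 (Red.DS U (Fin d → ℤ))) ^ n).left := by
  rw [pow_eq_DSmap]
  refine ⟨isFinite_DSmap n hn U, MultHomLocus.ff_of_injective _ (fun a b h => ?_) U⟩
  funext i
  have := congrFun h i
  simpa [hn] using this

end DS

/-- The `n`-th power map of a torus over a field is finite, flat and surjective. -/
theorem ffs_pow {k : Type u} [Field k] {T : Over (Spec (CommRingCat.of k))} [GrpObj T] (hT : Red.IsTorus T)
    (n : ℕ) (hn : n ≠ 0) : FFS ((𝟙 T) ^ n).left := by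
  obtain ⟨Ω, _, _, g, d, e, he⟩ := TorusToProper.exists_split_point hT
  haveI := he
  haveI : IsMonHom e.inv := inferInstance
  have hh := ffs_pow_DS n hn d (Spec (CommRingCat.of Ω))
  have hpow : ∀ m : ℕ, e.hom ≫ ((𝟙 (Red.DS (Spec (CommRingCat.of Ω)) (Fin d → ℤ))) ^ m) ≫ e.inv =
      (Over.pullback g).map ((𝟙 T) ^ m) := by
    intro m
    induction m with
    | zero =>
      rw [pow_zero, pow_zero, Functor.map_one, MonObj.one_comp, MonObj.comp_one]
    | succ j ih =>
      rw [pow_succ, pow_succ, Functor.map_mul, MonObj.mul_comp, MonObj.comp_mul, ih]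
      simp
  have h1 : FFS ((Over.pullback g).map ((𝟙 T) ^ n)).left := by
    rw [← hpow]
    refine ((FFS.{u}).arrow_mk_iso_iff ?_).mp hh
    exact Arrow.isoMk ((Over.forget _).mapIso e.symm) ((Over.forget _).mapIso e.symm) (by
      show e.inv.left ≫ (e.hom ≫ _ ≫ e.inv).left = _ ≫ e.inv.left
      rw [← Over.comp_left, Iso.inv_hom_id_assoc, Over.comp_left]
      rfl)
  have hsq := MultHomLocus.isPullback_map ((𝟙 T) ^ n) g
  have hfs : Flat g ∧ Surjective g := by
    obtain ⟨φ, rfl⟩ := Spec.map_surjective g
    rw [flat_and_surjective_SpecMap_iff]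
    letI := φ.hom.toAlgebra
    exact (inferInstanceAs (Module.FaithfullyFlat k Ω))
  haveI := hfs.1
  haveI := hfs.2
  have hq : (@Surjective ⊓ @Flat ⊓ @QuasiCompact : MorphismProperty Scheme.{u}) (pullback.fst T.hom g) :=
    ⟨⟨inferInstance, inferInstance⟩, inferInstance⟩
  haveI : MorphismProperty.DescendsAlong (@IsFinite : MorphismProperty Scheme.{u})
      (@Surjective ⊓ @Flat ⊓ @QuasiCompact) := Et18.descends_isFinite
  exact ⟨MorphismProperty.of_isPullback_of_descendsAlong hsq.flip hq h1.1,
    MorphismProperty.of_isPullback_of_descendsAlong hsq.flip hq h1.2⟩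

end Groth.Agent.AlgGrpLib.TorusIsogeny
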