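import Groth.Agent.AlgGrpLib.IsogenyBC
import Groth.Agent.S16615
import Groth.Agent.S19598
import Groth.Agent.AlgGrpLib.TorusIsogeny
import Groth.Agent.AbCubeLib.Projection
import Groth.Agent.UnipStruct.Group
import Groth.Agent.Et18.Descent

/-!
# Tori and isogenies
-/

set_option autoImplicit false
set_option backward.isDefEq.respectTransparency.types false
set_option linter.style.haveILetI false

universe u

open CategoryTheory CategoryTheory.Limits MonoidalCategory CartesianMonoidalCategory MonObj AlgebraicGeometry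

noncomputable section

namespace Groth.Agent.AlgGrpLib.TorusIsog

theorem isPullback_kernelPair {S : Scheme.{u}} {G N Q : Over S} [GrpObj G] [GrpObj N] [GrpObj Q] {i : N ⟶ G}
    (q : G ⟶ Q) [IsMonHom q] [Mono i] (hN : AlgGrp.IsKernel i q) :
    IsPullback (fst G N) ((G ◁ i) ≫ μ[G]) q q := by
  have he : (G ◁ i) ≫ μ[G] = fst G N * (snd G N ≫ i) := by
    rw [Hom.mul_def]
    congr 1
  rw [he]
  have hw : fst G N ≫ q = (fst G N * (snd G N ≫ i)) ≫ q := by
    rw [MonObj.mul_comp, Category.assoc, kernel_comp hN, MonObj.comp_one, _root_.mul_one]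
  have hex : ∀ s : PullbackCone q q, ∃ n : s.pt ⟶ N, n ≫ i = s.fst⁻¹ * s.snd := fun s =>
    exists_lift_kernel hN (by rw [MonObj.mul_comp, GrpObj.inv_comp, s.condition, inv_mul_cancel])
  choose n hn using hex
  refine ⟨⟨hw⟩, ⟨PullbackCone.IsLimit.mk hw (fun s => lift s.fst (n s)) (fun s => lift_fst _ _) (fun s => ?_)
    (fun s m h1 h2 => ?_)⟩⟩
  · rw [MonObj.comp_mul, lift_fst, lift_snd_assoc, hn, mul_inv_cancel_left]
  · apply CartesianMonoidalCategory.hom_ext
    · rw [lift_fst, h1]
    · rw [lift_snd, ← cancel_mono i, hn, ← h2, MonObj.comp_mul, ← h1, Category.assoc, inv_mul_cancel_left]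

variable {k : Type u} [Field k] {G Q : Over (Spec (CommRingCat.of k))} [GrpObj G] [GrpObj Q]
  [LocallyOfFiniteType G.hom] [QuasiCompact G.hom] [Smooth Q.hom] [QuasiCompact Q.hom]

/-- A homomorphism onto a smooth group with finite kernel is finite. -/
theorem isFinite_of_kernel (q : G ⟶ Q) [IsMonHom q] [Surjective q.left] [IsFinite (UnipStruct.kerObj q).hom] :
    IsFinite q.left := by
  haveI : Flat q.left := IsogenyBC.flat_of_isogeny G q
  haveI : QuasiCompact q.left := quasiCompact_left q
  haveI := kernel_mono (UnipStruct.isKernel_kerι q)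
  have h := (isPullback_kernelPair q (UnipStruct.isKernel_kerι q)).flip.map (Over.forget _)
  haveI hfst : IsFinite (fst G (UnipStruct.kerObj q)).left :=
    inferInstanceAs (IsFinite (pullback.fst G.hom (UnipStruct.kerObj q).hom))
  haveI := Et18.descends_isFinite.{u}
  exact MorphismProperty.of_isPullback_of_descendsAlong (Q := @Surjective ⊓ @Flat ⊓ @QuasiCompact)
    h.flip ⟨⟨‹_›, ‹_›⟩, ‹_›⟩ hfst

/-- Smooth quotients of tori by closed subgroups are tori. -/
theorem isTorus_of_surjective (hG : Red.IsTorus G) (q : G ⟶ Q) [IsMonHom q] [Surjective q.left] : Red.IsTorus Q := by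
  haveI : Flat q.left := IsogenyBC.flat_of_isogeny G q
  haveI : IsSeparated Q.hom := SGA3xLib.isSeparated_of_grpObj Q
  let i := UnipStruct.kerι q
  haveI : IsClosedImmersion i.left := UnipStruct.isClosedImmersion_kerι q
  haveI : Mono i := Over.mono_of_mono_left i
  haveI : IsMonHom i := UnipStruct.isMonHom_kerι q
  haveI : LocallyOfFiniteType (UnipStruct.kerObj q).hom := by rw [← Over.w i]; infer_instance
  have hFT : SGA3x.IsMultTypeFT G := by
    obtain ⟨S', f, h1, h2, h3, h4⟩ := hG
    exact ⟨S', f, h1, h2, h3, fun s' => by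
      obtain ⟨U, hU, r, hr⟩ := h4 s'
      exact ⟨U, hU, Fin r → ℤ, inferInstance, Module.Finite.iff_addGroup_fg.1 inferInstance, hr⟩⟩
  have hH := Groth.Agent.S19598.result (UnipStruct.kerObj q) G hFT i inferInstance inferInstance inferInstance
  haveI : QuasiCompact q.left := quasiCompact_left q
  have hlfp : LocallyOfFinitePresentation q.left := by
    haveI : LocallyOfFinitePresentation (q.left ≫ Q.hom) := by rw [Over.w q]; infer_instance
    exact Groth.Agent.H8Lim.lfp_cancel_right q.left Q.hom
  exact Groth.Agent.S16615.result hG i hH q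
    ⟨inferInstance, inferInstance, hlfp, isPullback_kernelPair q (UnipStruct.isKernel_kerι q)⟩

/-- A smooth connected commutative group isogenous onto a torus is a torus. -/
theorem isTorus_of_isogeny [IsCommMonObj G] [Smooth G.hom] [ConnectedSpace G.left] [ConnectedSpace Q.left]
    (hQ : Red.IsTorus Q) (f : G ⟶ Q) [IsMonHom f] [Surjective f.left] [IsFinite (UnipStruct.kerObj f).hom] :
    Red.IsTorus G := by
  haveI : Flat f.left := IsogenyBC.flat_of_isogeny G f
  haveI : QuasiCompact f.left := quasiCompact_left f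
  haveI : IsFinite f.left := isFinite_of_kernel f
  haveI : IsSeparated Q.hom := SGA3xLib.isSeparated_of_grpObj Q
  haveI : IsSeparated G.hom := SGA3xLib.isSeparated_of_grpObj G
  let i := UnipStruct.kerι f
  haveI : IsMonHom i := UnipStruct.isMonHom_kerι f
  obtain ⟨m, hm, hkill⟩ := AbCubeLib.exists_pow_eq_one_of_isFinite (UnipStruct.kerObj f)
  haveI : IsMonHom ((𝟙 G) ^ m) := Groth.Agent.SGA3cLib.BCPoints.isMonHom_of_mul _ fun X x y => by
    simp only [MonObj.comp_pow, Category.comp_id, mul_pow]
  have hi : i ≫ ((𝟙 G) ^ m) = 1 := by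
    rw [MonObj.comp_pow, Category.comp_id, ← Category.id_comp i, ← MonObj.pow_comp, hkill, MonObj.one_comp]
  obtain ⟨g, hg⟩ := ExactSeqBasics.exists_desc f (UnipStruct.isKernel_kerι f) ((𝟙 G) ^ m) hi
  haveI : IsMonHom (f ≫ g) := by rw [hg]; infer_instance
  haveI : IsMonHom g := UnipStruct.isMonHom_desc f g
  have hgf : g ≫ f = (𝟙 Q) ^ m := by
    haveI : Epi f.left := Flat.epi_of_flat_of_surjective _
    haveI : Epi f := Over.epi_of_epi_left _
    rw [← cancel_epi f, ← Category.assoc, hg, MonObj.pow_comp, Category.id_comp, MonObj.comp_pow, Category.comp_id]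
  haveI : Surjective (g ≫ f).left := by rw [hgf]; exact (TorusIsogeny.ffs_pow hQ m hm.ne').2.2
  obtain ⟨M, gM, j, p, hj, hp, hjc, hpj, hps, hpf, hM, -, hMq⟩ := ImageSubgroup.exists_image g
  letI := gM
  haveI := hjc
  haveI := hp
  haveI := hps
  haveI := hM
  haveI := hMq
  have hMt : Red.IsTorus M := isTorus_of_surjective hQ p
  let r : M ⟶ Q := j ≫ f
  haveI : Surjective r.left := by
    have h : Surjective ((p ≫ r).left) := by
      rw [show p ≫ r = g ≫ f from by rw [← Category.assoc, hpj]]; infer_instance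
    rw [Over.comp_left] at h
    exact Surjective.of_comp p.left r.left
  haveI : IsFinite r.left := inferInstanceAs (IsFinite (j.left ≫ f.left))
  haveI : ConnectedSpace M.left := p.left.surjective.connectedSpace p.left.continuous
  have hint : ∀ (Z : Over (Spec (CommRingCat.of k))) [GrpObj Z] [Smooth Z.hom] [QuasiCompact Z.hom]
      [ConnectedSpace Z.left], IrreducibleSpace Z.left := fun Z _ _ _ _ => by
    haveI : IsIntegral Z.left := AbVarLib.isIntegral_of_smooth_connected Z.hom
    infer_instance
  haveI := hint M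
  haveI := hint G
  haveI := hint Q
  haveI : LocallyOfFiniteType (r.left ≫ Q.hom) := by rw [Over.w r]; infer_instance
  haveI : LocallyOfFiniteType (f.left ≫ Q.hom) := by rw [Over.w f]; infer_instance
  haveI : LocallyOfFiniteType (j.left ≫ G.hom) := by rw [Over.w j]; infer_instance
  have hd : topologicalKrullDim M.left = topologicalKrullDim G.left :=
    (AbVarLib.topologicalKrullDim_eq_of_lqf Q.hom r.left).trans
      (AbVarLib.topologicalKrullDim_eq_of_lqf Q.hom f.left).symm
  haveI : Surjective j.left := AbVarLib.surjective_of_lqf G.hom j.left hd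
  haveI := hj
  haveI : Surjective g.left := by
    rw [← hpj, Over.comp_left]; infer_instance
  exact isTorus_of_surjective hQ g

end Groth.Agent.AlgGrpLib.TorusIsog
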