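import Groth.Agent.AlgGrpLib.TorusUnipotent
import Groth.Agent.AlgGrpLib.AffineHullMain
import Groth.Agent.AlgGrpLib.AffineToProper
import Groth.Agent.AlgGrpLib.TorusIsogenyIff
import Groth.Agent.AlgGrpLib.ExactSeqBasics
import Groth.Agent.AlgGrpLib.AxesTorus
import Groth.Agent.AlgGrpLib.AntiAffineSections
import Groth.Agent.S18070

/-!
# Anti-affineness is detected on the semi-abelian and vector quotients
-/

set_option autoImplicit false
set_option backward.isDefEq.respectTransparency.types false
set_option linter.style.haveILetI false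

universe u

open CategoryTheory CategoryTheory.Limits MonoidalCategory CartesianMonoidalCategory MonObj GrpObj AlgebraicGeometry

namespace Groth.Agent.AlgGrpLib.AntiAffineParts

variable {k : Type u} [Field k]

/-- A split torus is a torus. -/
theorem isTorus_of_split {M : ℕ} {T : Over (Spec (CommRingCat.of k))} [GrpObj T]
    (h : Red.IsSplitTorusWith (Fin M → ℤ) T) : Red.IsTorus T := by
  obtain ⟨E⟩ := h
  refine ⟨Spec (CommRingCat.of k), 𝟙 _, inferInstance, inferInstance, fun V hV => ⟨V, hV.isCompact, by simp⟩,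
    fun s => ⟨⊤, trivial, M, ?_⟩⟩
  let ω := (⊤ : (Spec (CommRingCat.of k)).Opens).ι ≫ 𝟙 (Spec (CommRingCat.of k))
  obtain ⟨cD, hcD, -⟩ := SGA3cLib.CentralEq.exists_bc_DS ω
  haveI : IsMonHom E.hom.hom.hom := E.hom.hom.isMonHom_hom
  haveI := hcD (Fin M → ℤ)
  let w : T ≅ Red.DS (Spec (CommRingCat.of k)) (Fin M → ℤ) := (Grp.forget _).mapIso E
  haveI : IsMonHom w.hom := E.hom.hom.isMonHom_hom
  let b : Red.bc ω T ≅ Red.bc ω (Red.DS (Spec (CommRingCat.of k)) (Fin M → ℤ)) := (Over.pullback ω).mapIso w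
  haveI : IsMonHom b.hom := by show IsMonHom ((Over.pullback ω).map w.hom); infer_instance
  haveI : IsMonHom (b ≪≫ cD (Fin M → ℤ)).hom := by
    show IsMonHom (b.hom ≫ (cD (Fin M → ℤ)).hom); infer_instance
  exact ⟨Grp.mkIso' (b ≪≫ cD (Fin M → ℤ))⟩

/-- A pointed map from an anti-affine scheme to an affine one is trivial. -/
theorem eq_one_of_antiAffine {X Y : Over (Spec (CommRingCat.of k))} [GrpObj X] [GrpObj Y] [LocallyOfFiniteType X.hom]
    [QuasiCompact X.hom] [IsAffine Y.left]
    (h : Function.Bijective ((Scheme.ΓSpecIso (CommRingCat.of k)).inv ≫ X.hom.appTop).hom)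
    (f : X ⟶ Y) [IsMonHom f] : f = 1 := by
  haveI : CompactSpace X.left := QuasiCompact.compactSpace_of_compactSpace X.hom
  haveI : IsLocallyNoetherian X.left := LocallyOfFiniteType.isLocallyNoetherian X.hom
  rw [eq_const_of_affine (bijective_appTop_of_const h) η[X] f, IsMonHom.one_hom, ← Hom.one_def]

/-- If the quotient by a closed subgroup is anti-affine, that subgroup surjects onto the affinization. -/
theorem surjective_of_antiAffine_quotient {G U Q H : Over (Spec (CommRingCat.of k))} [GrpObj G] [GrpObj U] [GrpObj Q]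
    [GrpObj H] [Smooth U.hom] [QuasiCompact U.hom] [LocallyOfFiniteType G.hom] [QuasiCompact G.hom]
    [LocallyOfFiniteType Q.hom] [QuasiCompact Q.hom] [LocallyOfFiniteType H.hom] [IsAffine H.left] [IsCommMonObj H]
    (v : U ⟶ G) [IsMonHom v] (q : G ⟶ Q) [IsMonHom q] [Surjective q.left] [Flat q.left] (hk : AlgGrp.IsKernel v q)
    (hQ : Function.Bijective ((Scheme.ΓSpecIso (CommRingCat.of k)).inv ≫ Q.hom.appTop).hom)
    (π : G ⟶ H) [IsMonHom π] [Surjective π.left] [Flat π.left] : Surjective (v ≫ π).left := by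
  haveI : QuasiCompact H.hom := inferInstance
  obtain ⟨I, gI, b, ρ, hb, hρ, hbc, hρb, hρs, -, -, -, -⟩ := ImageSubgroup.exists_image (v ≫ π)
  letI := gI
  haveI := hb
  haveI := hρ
  haveI := hbc
  haveI := hρs
  have hnorm : AlgGrp.IsNormalHom b := fun X x y => ⟨y, by rw [mul_inv_cancel_comm]⟩
  obtain ⟨R, gR, r, hr, hRa, hRl, hrf, hrs, hkr⟩ := Groth.Agent.S3278.result k H I b hnorm
  letI := gR
  haveI := hr
  haveI := hRa
  haveI := hrs
  haveI := hrf
  haveI : QuasiCompact q.left := quasiCompact_left q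
  obtain ⟨σ, hσ⟩ := ExactSeqBasics.exists_desc q hk (π ≫ r) (by
    rw [← Category.assoc, ← hρb, Category.assoc, kernel_comp hkr, MonObj.comp_one])
  haveI : IsMonHom (q ≫ σ) := by rw [hσ]; infer_instance
  haveI : IsMonHom σ := UnipStruct.isMonHom_desc q σ
  have hσ1 : σ = 1 := eq_one_of_antiAffine hQ σ
  have hr1 : r = 1 := by
    haveI : QuasiCompact π.left := quasiCompact_left π
    haveI : Epi π.left := Flat.epi_of_flat_of_surjective _
    haveI : Epi π := Over.epi_of_epi_left _
    rw [← cancel_epi π, ← hσ, hσ1, MonObj.comp_one, MonObj.comp_one]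
  obtain ⟨l, hl⟩ := exists_lift_kernel hkr (g := 𝟙 H) (by rw [Category.id_comp, hr1])
  haveI : Surjective (l.left ≫ b.left) := by rw [← Over.comp_left, hl, Over.id_left]; infer_instance
  haveI : Surjective b.left := Surjective.of_comp l.left b.left
  rw [← hρb, Over.comp_left]
  infer_instance

/-- The anti-affine criterion. -/
theorem antiAffine_of_parts [IsAlgClosed k] {G T U Gs Gu : Over (Spec (CommRingCat.of k))} [GrpObj G] [GrpObj T] [GrpObj U] [GrpObj Gs] [GrpObj Gu]
    [Smooth G.hom] [QuasiCompact G.hom] [ConnectedSpace G.left] [IsCommMonObj G]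
    [LocallyOfFiniteType Gs.hom] [QuasiCompact Gs.hom] [LocallyOfFiniteType Gu.hom] [QuasiCompact Gu.hom]
    [Smooth U.hom] [ConnectedSpace U.left] [IsAffine U.left] (hU : Red.HasNoSubtorus k U)
    (hT : Red.IsTorus T)
    (t : T ⟶ G) [IsMonHom t] (u : U ⟶ G) [IsMonHom u]
    (qs : G ⟶ Gs) [IsMonHom qs] [Surjective qs.left] [Flat qs.left] (hs : AlgGrp.IsKernel u qs)
    (qu : G ⟶ Gu) [IsMonHom qu] [Surjective qu.left] [Flat qu.left] (hu : AlgGrp.IsKernel t qu)
    (hGs : Function.Bijective ((Scheme.ΓSpecIso (CommRingCat.of k)).inv ≫ Gs.hom.appTop).hom)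
    (hGu : Function.Bijective ((Scheme.ΓSpecIso (CommRingCat.of k)).inv ≫ Gu.hom.appTop).hom) :
    Function.Bijective ((Scheme.ΓSpecIso (CommRingCat.of k)).inv ≫ G.hom.appTop).hom := by
  haveI : Smooth T.hom := AxesTorus.smooth_of_isTorus hT
  obtain ⟨gF, hρ, hρs, hρf, hρl⟩ := AffineHull.affinization (G := G)
  letI := gF
  haveI := hρ
  haveI := hρs
  haveI := hρf
  haveI := hρl
  let H := affOf G
  let π : G ⟶ H := toAffOf G
  haveI : QuasiCompact π.left := quasiCompact_left π
  haveI : IsCommMonObj H := IsogenyBC.comm_of_surjective G π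
  haveI : IsReduced G.left := AbSchLib.isReduced_of_smooth G.hom
  haveI : IsReduced H.left := inferInstanceAs (IsReduced (Spec Γ(G.left, ⊤)))
  haveI : GeometricallyReduced H.hom := AbVarLib.geometricallyReduced_of_perfectField H.hom
  haveI : Smooth H.hom := AbVarLib.smooth_of_geometricallyReduced H
  haveI : ConnectedSpace H.left := π.left.surjective.connectedSpace π.left.continuous
  haveI : QuasiCompact T.hom := by rw [← Over.w t]; haveI : IsClosedImmersion η[Gu].left := SGA3xLib.isClosedImmersion_of_section Gu.hom _ (Over.w η[Gu]); haveI : IsClosedImmersion t.left := MorphismProperty.of_isPullback (hu.map (Over.forget _)).flip ‹IsClosedImmersion η[Gu].left›; infer_instance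
  haveI : QuasiCompact U.hom := inferInstance
  haveI hsU := surjective_of_antiAffine_quotient u qs hs hGs π
  haveI hsT := surjective_of_antiAffine_quotient t qu hu hGu π
  have hHT : Red.IsTorus H := TorusIsog.isTorus_of_surjective hT (t ≫ π)
  haveI : IsIso H.hom := TorusUnip.hasNoSubtorus_of_surjective (u ≫ π) hU H (𝟙 H) hHT
  have h1 : π = 1 := Over.OverMorphism.ext (by
    rw [← cancel_mono H.hom, Over.w, Over.w])
  have hk : AlgGrp.IsKernel (𝟙 G) π := by
    refine IsPullback.of_isLimit' ⟨by rw [Category.id_comp, h1, Hom.one_def]⟩ ?_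
    exact PullbackCone.IsLimit.mk _ (fun s => s.fst) (fun s => Category.comp_id _) (fun s => toUnit_unique _ _)
      (fun s m h _ => by rw [← h, Category.comp_id])
  have hb := AffineHull.bijective_appTop_kernel G (𝟙 G) hk
  rw [CommRingCat.hom_comp, RingHom.coe_comp]
  exact Function.Bijective.comp hb (ConcreteCategory.bijective_of_isIso (Scheme.ΓSpecIso (CommRingCat.of k)).inv)

end Groth.Agent.AlgGrpLib.AntiAffineParts
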