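import Groth.Agent.AlgGrpLib.AffineCriterion

/-! Anti-affine groups over algebraically closed fields with one rational point. -/

universe u

set_option autoImplicit false
set_option backward.isDefEq.respectTransparency.types false

open CategoryTheory CategoryTheory.Limits MonoidalCategory CartesianMonoidalCategory MonObj GrpObj AlgebraicGeometry

namespace Groth.Agent.AlgGrpLib.AffineHull

/-- A homomorphism from an anti-affine group with a single rational point is trivial. -/
theorem eq_one_of_points {k : Type u} [Field k] [IsAlgClosed k] {N G : Over (Spec (CommRingCat.of k))} [GrpObj N]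
    [GrpObj G] [LocallyOfFiniteType N.hom] [QuasiCompact N.hom] (hN : Function.Bijective N.hom.appTop)
    (f : N ⟶ G) [IsMonHom f] (hpts : ∀ p : 𝟙_ (Over (Spec (CommRingCat.of k))) ⟶ N, p = η[N]) : f = 1 := by
  haveI : JacobsonSpace N.left := LocallyOfFiniteType.jacobsonSpace N.hom
  have hclosed : ∀ y ∈ closedPoints N.left, y = η[N].left (IsLocalRing.closedPoint k) := fun y hy => by
    have h := hpts (Over.homMk (pointOfClosedPoint N.hom y hy) (pointOfClosedPoint_comp N.hom y hy))
    rw [← h]
    exact (pointOfClosedPoint_apply N.hom y hy _).symm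
  have hall : ∀ y : N.left, y = η[N].left (IsLocalRing.closedPoint k) := fun y => by
    haveI := Groth.Agent.SGA3xLib.isSeparated_of_grpObj N
    have hc : IsClosed ({η[N].left (IsLocalRing.closedPoint k)} : Set N.left) := by
      have h1 : IsClosedImmersion η[N].left := inferInstance
      have h2 := h1.base_closed.isClosed_range
      have h3 : Set.range η[N].left = {η[N].left (IsLocalRing.closedPoint k)} := by
        ext z; constructor
        · rintro ⟨w, rfl⟩
          exact congrArg η[N].left (((inferInstance : Subsingleton (PrimeSpectrum k))).elim w (IsLocalRing.closedPoint k))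
        · rintro rfl; exact ⟨_, rfl⟩
      rwa [h3] at h2
    by_contra hne
    obtain ⟨z, hz, hz'⟩ := nonempty_inter_closedPoints (X := N.left)
      (Z := ({η[N].left (IsLocalRing.closedPoint k)} : Set N.left)ᶜ) ⟨y, hne⟩ hc.isOpen_compl.isLocallyClosed
    exact hz (hclosed z hz')
  haveI : IsAffine N.left := by
    obtain ⟨_, ⟨U, hU, rfl⟩, hyU, -⟩ := N.left.isBasis_affineOpens.exists_subset_of_mem_open
      (Set.mem_univ (η[N].left (IsLocalRing.closedPoint k))) isOpen_univ
    have htop : U = ⊤ := top_le_iff.1 fun y _ => hall y ▸ hyU
    subst htop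
    haveI : IsAffine ((⊤ : N.left.Opens) : Scheme) := hU
    exact IsAffine.of_isIso N.left.topIso.inv
  have h1 := eq_one_of_isAffine hN (𝟙 N)
  rw [← Category.id_comp f, h1, MonObj.one_comp]

end Groth.Agent.AlgGrpLib.AffineHull
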