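import Mathlib

/-!
# Residues of a valuation ring restricted to a subfield
-/

set_option autoImplicit false

universe u

open MvPolynomial

namespace Groth.Agent.AlgGrpLib.ValResidueTrdeg

variable (k L F O : Type u) [Field k] [Field L] [Field F] [CommRing O] [IsLocalRing O] [IsDomain O]
  [Algebra k L] [Algebra k F] [Algebra L F] [IsScalarTower k L F] [Algebra O F] [Algebra k O] [IsScalarTower k O F]

/-- If the residue field of a valuation ring of `F` has transcendence degree one less than `F`, then enough
elements of the subfield `L` lie in the ring with algebraically independent residues. -/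
theorem exists_indep (hinj : Function.Injective (algebraMap O F))
    (hval : ∀ x : F, x ∈ Set.range (algebraMap O F) ∨ x⁻¹ ∈ Set.range (algebraMap O F))
    (m n : ℕ) (hF : Algebra.trdeg k F = m) (hL : Algebra.trdeg k L = n)
    (hκ : (m : Cardinal) ≤ Algebra.trdeg k (IsLocalRing.ResidueField O) + 1) :
    ∃ (y : Fin (n - 1) → L) (a : Fin (n - 1) → O), (∀ i, algebraMap L F (y i) = algebraMap O F (a i)) ∧
      AlgebraicIndependent k (fun i => IsLocalRing.residue O (a i)) := by
  classical
  let κ := IsLocalRing.ResidueField O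
  let Of : O →ₐ[k] F := IsScalarTower.toAlgHom k O F
  let R : Subalgebra k O := (IsScalarTower.toAlgHom k L F).range.comap Of
  let res : O →ₐ[k] κ := IsScalarTower.toAlgHom k O κ
  let S : Subalgebra k κ := R.map res
  haveI : FaithfulSMul k S := (faithfulSMul_iff_algebraMap_injective k S).2 (algebraMap k S).injective
  haveI : FaithfulSMul S κ := (faithfulSMul_iff_algebraMap_injective S κ).2 Subtype.val_injective
  haveI : FaithfulSMul k L := (faithfulSMul_iff_algebraMap_injective k L).2 (algebraMap k L).injective
  haveI : FaithfulSMul L F := (faithfulSMul_iff_algebraMap_injective L F).2 (algebraMap L F).injective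
  let v : ValuationSubring F := { (algebraMap O F).range with mem_or_inv_mem' := fun x => hval x }
  have hle : Algebra.trdeg S κ ≤ Algebra.trdeg L F := by
    obtain ⟨t, ht⟩ := exists_isTranscendenceBasis S κ
    rw [← ht.cardinalMk_eq_trdeg]
    have hsurj : ∀ z : t, ∃ a : O, res a = (z : κ) := fun z => IsLocalRing.residue_surjective (z : κ)
    choose z hz using hsurj
    refine AlgebraicIndependent.cardinalMk_le_trdeg (R := L) (x := fun i => algebraMap O F (z i)) ?_
    rw [algebraicIndependent_iff]
    intro p hp
    by_contra hne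
    obtain ⟨s0, hs0, hmax⟩ := Finset.exists_max_image p.support (fun s => v.valuation (algebraMap L F (p.coeff s)))
      (MvPolynomial.support_nonempty.2 hne)
    have hc0 : p.coeff s0 ≠ 0 := MvPolynomial.mem_support_iff.1 hs0
    have hmem : ∀ s ∈ p.support, ∃ a : O, algebraMap O F a = algebraMap L F (p.coeff s / p.coeff s0) := by
      intro s hs
      have h1 : v.valuation (algebraMap L F (p.coeff s / p.coeff s0)) ≤ 1 := by
        rw [map_div₀, map_div₀]
        exact div_le_one_of_le₀ (hmax s hs) zero_le
      exact (v.valuation_le_one_iff _).1 h1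
    choose! a ha using hmem
    have haR : ∀ s ∈ p.support, res (a s) ∈ S := fun s hs =>
      ⟨a s, ⟨p.coeff s / p.coeff s0, (ha s hs).symm⟩, rfl⟩
    let b : (↥t →₀ ℕ) → S := fun s => if hs : s ∈ p.support then ⟨res (a s), haR s hs⟩ else 0
    let q : MvPolynomial ↥t S := ∑ s ∈ p.support, MvPolynomial.monomial s (b s)
    have hzero : ∑ s ∈ p.support, a s * s.prod (fun i e => z i ^ e) = 0 := by
      refine hinj ?_
      rw [map_sum, map_zero]
      have e : ∀ s ∈ p.support, algebraMap O F (a s * s.prod (fun i e => z i ^ e)) =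
          (algebraMap L F (p.coeff s0))⁻¹ * (algebraMap L F (p.coeff s) * s.prod (fun i e => (algebraMap O F (z i)) ^ e)) := by
        intro s hs
        rw [map_mul, ha s hs, map_div₀, map_finsuppProd]
        simp only [map_pow]
        ring
      rw [Finset.sum_congr rfl e, ← Finset.mul_sum]
      rw [MvPolynomial.aeval_def, MvPolynomial.eval₂_eq] at hp
      have hp' : ∑ s ∈ p.support, algebraMap L F (p.coeff s) * s.prod (fun i e => (algebraMap O F (z i)) ^ e) = 0 := hp
      rw [hp', mul_zero]
    have hq : MvPolynomial.aeval (fun i : ↥t => (i : κ)) q = 0 := by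
      rw [map_sum]
      have e : ∀ s ∈ p.support, MvPolynomial.aeval (fun i : ↥t => (i : κ)) (MvPolynomial.monomial s (b s)) =
          res (a s * s.prod (fun i e => z i ^ e)) := by
        intro s hs
        rw [MvPolynomial.aeval_monomial, map_mul, map_finsuppProd]
        simp only [map_pow, hz, b, dif_pos hs]
        rfl
      rw [Finset.sum_congr rfl e, ← map_sum, hzero, map_zero]
    have hq0 : q = 0 := ht.1.eq_zero_of_aeval_eq_zero q hq
    have h1 : q.coeff s0 = b s0 := by
      simp only [q, MvPolynomial.coeff_sum, MvPolynomial.coeff_monomial]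
      rw [Finset.sum_ite_eq' p.support s0, if_pos hs0]
    rw [hq0, MvPolynomial.coeff_zero] at h1
    have h2 : a s0 = 1 := hinj (by rw [ha s0 hs0, div_self hc0, map_one, map_one])
    have h3 : (b s0 : κ) = 1 := by
      simp only [b, dif_pos hs0, h2, map_one]
    rw [← h1] at h3
    exact zero_ne_one (α := κ) h3
  have hsum : Algebra.trdeg k S + Algebra.trdeg S κ = Algebra.trdeg k κ := trdeg_add_eq k S
  have hsum' : Algebra.trdeg k L + Algebra.trdeg L F = Algebra.trdeg k F := trdeg_add_eq k L
  have hnS : ((n - 1 : ℕ) : Cardinal) ≤ Algebra.trdeg k S := by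
    rcases lt_or_ge (Algebra.trdeg k S) Cardinal.aleph0 with hS | hS
    · have hLF : Algebra.trdeg L F < Cardinal.aleph0 := by
        refine lt_of_le_of_lt ?_ (Cardinal.natCast_lt_aleph0 (n := m))
        rw [← hF, ← hsum']
        exact self_le_add_left _ _
      obtain ⟨d, hd⟩ := Cardinal.lt_aleph0.1 hS
      obtain ⟨e, he⟩ := Cardinal.lt_aleph0.1 hLF
      have h1 : (m : Cardinal) ≤ ((d + e + 1 : ℕ) : Cardinal) := by
        refine hκ.trans ?_
        rw [← hsum, Nat.cast_add, Nat.cast_add, Nat.cast_one, hd]
        exact add_le_add (add_le_add le_rfl (hle.trans he.le)) le_rfl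
      have h2 : n + e = m := by
        have := hsum'
        rw [hL, he, hF] at this
        exact_mod_cast this
      rw [hd]
      have h1' : m ≤ d + e + 1 := by exact_mod_cast h1
      exact_mod_cast (by omega : n - 1 ≤ d)
    · exact (Cardinal.natCast_lt_aleph0).le.trans hS
  obtain ⟨t, ht⟩ := exists_isTranscendenceBasis k S
  rw [← ht.cardinalMk_eq_trdeg] at hnS
  obtain ⟨em⟩ : Nonempty (ULift.{u} (Fin (n - 1)) ↪ t) := by
    rw [← Cardinal.le_def]
    simpa using hnS
  let w : Fin (n - 1) → S := fun i => ((em ⟨i⟩ : t) : S)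
  have hw : AlgebraicIndependent k w := ht.1.comp (fun i => em ⟨i⟩) (fun i j h => ULift.up.inj (em.injective h))
  have hw' : AlgebraicIndependent k (fun i => (w i : κ)) := hw.map' (f := S.val) Subtype.val_injective
  have hchoose : ∀ i, ∃ (a : O) (y : L), algebraMap L F y = algebraMap O F a ∧ res a = (w i : κ) := by
    intro i
    obtain ⟨a, ⟨y, hy⟩, ha⟩ := (w i).2
    exact ⟨a, y, hy, ha⟩
  choose a y hy ha using hchoose
  exact ⟨y, a, hy, by
    have : (fun i => IsLocalRing.residue O (a i)) = fun i => (w i : κ) := funext ha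
    rw [this]; exact hw'⟩

end Groth.Agent.AlgGrpLib.ValResidueTrdeg
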