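import Groth.Prelude.Def_CohB1
import Groth.Prelude.Def_Pi1
import Groth.Agent.AlgGrpLib.ValResidueTrdeg
import Groth.Agent.DimLib.Morphism
import Groth.Agent.FlatMor12.DimPieces
import Groth.Agent.VarietyLib.LocalDimPt
import Groth.Agent.GenSmoothLib.SmoothDim
import Groth.Agent.WDivPn5.Chart
import Groth.Agent.CurveLib.ProjLine
import Groth.Agent.Coherent.Chow

/-!
# A birational model on which the image of a divisor has codimension at most one
-/

set_option autoImplicit false
set_option linter.style.haveILetI false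
set_option backward.isDefEq.respectTransparency.types false
set_option maxHeartbeats 1000000

universe u

open CategoryTheory CategoryTheory.Limits AlgebraicGeometry TopologicalSpace IsLocalRing

namespace Groth.Agent.AlgGrpLib.BiratModel

variable {k : Type u} [Field k]

/-- The constants in a local ring. -/
noncomputable def base {X : Scheme.{u}} (p : X ⟶ Spec (CommRingCat.of k)) (x : X) :
    k →+* X.presheaf.stalk x :=
  (Spec.preimage (X.fromSpecStalk x ≫ p)).hom

theorem spec_base {X : Scheme.{u}} (p : X ⟶ Spec (CommRingCat.of k)) (x : X) :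
    Spec.map (CommRingCat.ofHom (base p x)) = X.fromSpecStalk x ≫ p :=
  Spec.map_preimage _

theorem baseRingHom_eq {X : Scheme.{u}} (p : X ⟶ Spec (CommRingCat.of k)) (x : X) :
    DimLib.baseRingHom p x = (X.residue x).hom.comp (base p x) := by
  have : CommRingCat.ofHom (DimLib.baseRingHom p x) = CommRingCat.ofHom (base p x) ≫ X.residue x := by
    apply Spec.map_injective
    rw [DimLib.specMap_baseRingHom, Spec.map_comp, spec_base, Scheme.fromSpecResidueField, Category.assoc]
  exact congrArg CommRingCat.Hom.hom this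

/-- The transcendence degree of the residue field. -/
theorem trdeg_residue {X : Scheme.{u}} (p : X ⟶ Spec (CommRingCat.of k)) [LocallyOfFiniteType p] (x : X) :
    @Algebra.trdeg k (X.residueField x) _ _ ((X.residue x).hom.comp (base p x)).toAlgebra =
      (DimLib.ptDim p x : Cardinal) := by
  rw [← baseRingHom_eq, DimLib.ptDim, DimLib.trdegHom, Cardinal.cast_toNat_of_lt_aleph0 (DimLib.trdeg_baseRingHom_lt p x)]

/-- The transcendence degree of the function field. -/
theorem trdeg_functionField {X : Scheme.{u}} [IsIntegral X] (p : X ⟶ Spec (CommRingCat.of k)) [LocallyOfFiniteType p] :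
    @Algebra.trdeg k X.functionField _ _ (base p (genericPoint X)).toAlgebra =
      (DimLib.ptDim p (genericPoint X) : Cardinal) := by
  rw [← trdeg_residue p (genericPoint X)]
  let r : X.functionField →+* X.residueField (genericPoint X) := (X.residue (genericPoint X)).hom
  have hbij : Function.Bijective r := ⟨r.injective, IsLocalRing.residue_surjective⟩
  exact (DimLib.trdeg_comp_ringEquiv (base p (genericPoint X)) (RingEquiv.ofBijective r hbij)).symm

theorem ringKrullDim_eq_one {O : Type u} [CommRing O] [IsDomain O] [IsLocalRing O] [IsNoetherianRing O]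
    [IsIntegrallyClosed O] (h1 : ringKrullDim O = 1) : ValuationRing O := by
  have hf : ¬ IsField O := fun hf => by
    rw [ringKrullDim_eq_zero_of_isField hf] at h1
    exact zero_ne_one h1
  haveI : Ring.DimensionLEOne O := ⟨fun {P} hne hP => by
    by_contra hmax
    have hlt : P < maximalIdeal O := lt_of_le_of_ne (le_maximalIdeal hP.ne_top) fun e =>
      hmax (e ▸ maximalIdeal.isMaximal O)
    let s : LTSeries (PrimeSpectrum O) := ((RelSeries.singleton _ (⟨⊥, Ideal.isPrime_bot⟩ : PrimeSpectrum O)).snoc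
      ⟨P, hP⟩ (show (⊥ : Ideal O) < P from bot_lt_iff_ne_bot.2 hne)).snoc
      (IsLocalRing.closedPoint O) (by
        rw [RelSeries.last_snoc]
        exact hlt)
    have h2 : (s.length : WithBot ℕ∞) ≤ ringKrullDim O := Order.LTSeries.length_le_krullDim s
    rw [h1] at h2
    have h3 : s.length ≤ 1 := by exact_mod_cast h2
    simp [s] at h3⟩
  haveI : IsDedekindDomain O := {}
  have h' : IsDedekindDomain O ↔ ValuationRing O := (IsDiscreteValuationRing.TFAE O hf).out 2 1
  exact h'.1 inferInstance

theorem main (X Y : Over (Spec (CommRingCat.of k))) [LocallyOfFiniteType X.hom] [QuasiCompact X.hom] [IsIntegral X.left]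
    (hXn : Pi1.IsNormalScheme X.left) [IsProper Y.hom] [IsIntegral Y.left]
    (ξ : ↥X.left) (hξ : ringKrullDim ↑(X.left.presheaf.stalk ξ) = 1)
    (f : X.left.PartialMap Y.left) (hf : f.hom ≫ Y.hom = f.domain.ι ≫ X.hom) [IsDominant f.hom] :
    ∃ (Y' : Over (Spec (CommRingCat.of k))) (_ : IsProper Y'.hom) (_ : IsIntegral Y'.left) (φ : Y' ⟶ Y)
      (P : Y'.left.PartialIso Y.left) (_ : P.iso.hom ≫ P.target.ι = P.source.ι ≫ φ.left)
      (g : X.left.PartialMap Y'.left) (_ : g.hom ≫ Y'.hom = g.domain.ι ≫ X.hom)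
      (_ : (g.compHom φ.left).toRationalMap = f.toRationalMap) (hξg : ξ ∈ g.domain),
      ringKrullDim ↑(Y'.left.presheaf.stalk (g.hom.base ⟨ξ, hξg⟩)) ≤ 1 := by
  classical
  haveI : IsLocallyNoetherian X.left := LocallyOfFiniteType.isLocallyNoetherian X.hom
  let gX := genericPoint X.left
  let gY := genericPoint Y.left
  let O := X.left.presheaf.stalk ξ
  let F := X.left.functionField
  let L := Y.left.functionField
  have hspec : gX ⤳ ξ := genericPoint_specializes ξ
  haveI : IsIntegrallyClosed O := (hXn ξ).2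
  haveI : IsDomain O := (hXn ξ).1
  haveI : ValuationRing O := ringKrullDim_eq_one hξ
  have hOF : Spec.map (CommRingCat.ofHom (algebraMap O F)) ≫ X.left.fromSpecStalk ξ = X.left.fromSpecStalk gX :=
    Scheme.SpecMap_stalkSpecializes_fromSpecStalk hspec
  letI : Algebra k O := (base X.hom ξ).toAlgebra
  letI : Algebra k F := (base X.hom gX).toAlgebra
  letI : Algebra k L := (base Y.hom gY).toAlgebra
  haveI : IsScalarTower k O F := IsScalarTower.of_algebraMap_eq' (by
    have : CommRingCat.ofHom (base X.hom gX) = CommRingCat.ofHom (base X.hom ξ) ≫ CommRingCat.ofHom (algebraMap O F) := by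
      apply Spec.map_injective
      rw [Spec.map_comp, spec_base, spec_base, ← Category.assoc, hOF]
    exact congrArg CommRingCat.Hom.hom this)
  -- the map of function fields
  haveI : Nonempty f.domain.toScheme := ⟨⟨_, f.dense_domain.nonempty.choose_spec⟩⟩
  have hgX : gX ∈ f.domain := hspec.trans specializes_rfl |> fun _ =>
    (genericPoint_specializes _).mem_open f.domain.2 f.dense_domain.nonempty.choose_spec
  let eF : Spec X.left.functionField ⟶ Y.left := f.fromFunctionField
  have heF : eF ≫ Y.hom = X.left.fromSpecStalk gX ≫ X.hom := by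
    show (f.domain.fromSpecStalkOfMem gX hgX ≫ f.hom) ≫ Y.hom = _
    rw [Category.assoc, hf, ← Category.assoc, Scheme.Opens.fromSpecStalkOfMem_ι]
  have hgen : eF (IsLocalRing.closedPoint X.left.functionField) = gY := by
    have h1 : f.domain.ι (f.domain.fromSpecStalkOfMem gX hgX (IsLocalRing.closedPoint _)) = gX := by
      rw [← Scheme.Hom.comp_apply, Scheme.Opens.fromSpecStalkOfMem_ι, Scheme.fromSpecStalk_closedPoint]
    have h2 : f.domain.fromSpecStalkOfMem gX hgX (IsLocalRing.closedPoint _) = genericPoint f.domain.toScheme :=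
      f.domain.ι.isOpenEmbedding.injective (by rw [h1, genericPoint_eq_of_isOpenImmersion f.domain.ι])
    show f.hom (f.domain.fromSpecStalkOfMem gX hgX (IsLocalRing.closedPoint _)) = gY
    rw [h2]
    refine ((genericPoint_spec f.domain.toScheme).image f.hom.continuous).eq ?_
    rw [Set.image_univ, f.hom.denseRange.closure_range]
    exact genericPoint_spec Y.left
  let φ₀ : Y.left.presheaf.stalk gY ⟶ X.left.functionField :=
    Y.left.presheaf.stalkSpecializes (Inseparable.of_eq hgen).specializes ≫ Scheme.stalkClosedPointTo eF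
  have hφ₀ : Spec.map φ₀ ≫ Y.left.fromSpecStalk gY = eF := by
    rw [Spec.map_comp, Category.assoc, Scheme.SpecMap_stalkSpecializes_fromSpecStalk, Scheme.Spec_stalkClosedPointTo_fromSpecStalk]
  letI : Algebra L F := φ₀.hom.toAlgebra
  haveI : IsScalarTower k L F := IsScalarTower.of_algebraMap_eq' (by
    have : CommRingCat.ofHom (base X.hom gX) = CommRingCat.ofHom (base Y.hom gY) ≫ φ₀ := by
      apply Spec.map_injective
      rw [Spec.map_comp, spec_base, spec_base, ← Category.assoc, hφ₀, heF]
    exact congrArg CommRingCat.Hom.hom this)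
  -- dimensions
  let m := DimLib.ptDim X.hom gX
  let n := DimLib.ptDim Y.hom gY
  have hκ : (m : Cardinal) ≤ Algebra.trdeg k (IsLocalRing.ResidueField O) + 1 := by
    have h := VarietyLib.localDim_eq_stalk_add_ptDim X.hom ξ
    rw [GenSmoothLib.localDim_eq_topologicalKrullDim X.hom, DimLib.topologicalKrullDim_eq_ptDim_genericPoint X.hom, hξ] at h
    have h' : m = 1 + DimLib.ptDim X.hom ξ := by exact_mod_cast h
    have e : Algebra.trdeg k (IsLocalRing.ResidueField O) = (DimLib.ptDim X.hom ξ : Cardinal) := by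
      rw [← trdeg_residue X.hom ξ]
      congr 1
    rw [e, h', Nat.cast_add, Nat.cast_one, add_comm]
  obtain ⟨y, a, hya, hind⟩ := ValResidueTrdeg.exists_indep k L F O (IsFractionRing.injective O F)
    (fun x => (ValuationRing.isInteger_or_isInteger O x).imp (fun h => h) fun h => h)
    m n (trdeg_functionField X.hom) (trdeg_functionField Y.hom) hκ
  -- an affine open on which the functions are regular
  have hgerm : ∀ i, ∃ (W : Y.left.Opens) (hW : gY ∈ W) (s : Γ(Y.left, W)), Y.left.presheaf.germ W gY hW s = y i :=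
    fun i => Y.left.presheaf.germ_exist (y i)
  choose W hW s hs using hgerm
  obtain ⟨U, hU, hgU, hUW⟩ : ∃ U : Y.left.Opens, IsAffineOpen U ∧ gY ∈ U ∧ ∀ i, U ≤ W i := by
    have hmem : gY ∈ (⟨⋂ i, (W i : Set Y.left), isOpen_iInter_of_finite fun i => (W i).2⟩ : Y.left.Opens) :=
      Set.mem_iInter.2 hW
    obtain ⟨U, hU, hgU, hle⟩ := exists_isAffineOpen_mem_and_subset hmem
    exact ⟨U, hU, hgU, fun i z hz => Set.mem_iInter.1 (hle hz) i⟩
  let sU : Fin (n - 1) → Γ(Y.left, U) := fun i => Y.left.presheaf.map (homOfLE (hUW i)).op (s i)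
  have hsU : ∀ i, Y.left.presheaf.germ U gY hgU (sU i) = y i := fun i => by
    rw [← hs i]
    exact TopCat.Presheaf.germ_res_apply Y.left.presheaf (homOfLE (hUW i)) gY hgU (s i)
  haveI : Nonempty U.toScheme := ⟨⟨gY, hgU⟩⟩
  let u : Spec Γ(Y.left, U) ⟶ Y.left := hU.fromSpec
  let cU : k →+* Γ(Y.left, U) := (Spec.preimage (u ≫ Y.hom)).hom
  have hcU : Spec.map (CommRingCat.ofHom cU) = u ≫ Y.hom := Spec.map_preimage _
  obtain ⟨j, hj, hjs, -⟩ := WDivPn5.exists_affine_chart k (n - 1)
  let t : Spec Γ(Y.left, U) ⟶ Spec (WDivPn5.PolyR k (n - 1)) :=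
    Spec.map (CommRingCat.ofHom (MvPolynomial.eval₂Hom cU sU))
  haveI : IsProper (CohB1.ProjSpace.toSpec (n - 1) k) := CurveLib.isProper_projSpace k (n - 1)
  let Z := pullback Y.hom (CohB1.ProjSpace.toSpec (n - 1) k)
  let zs : Z ⟶ Spec (CommRingCat.of k) := pullback.fst Y.hom (CohB1.ProjSpace.toSpec (n - 1) k) ≫ Y.hom
  let h : Spec Γ(Y.left, U) ⟶ Z := pullback.lift u (t ≫ j) (by
    rw [Category.assoc, hjs, ← Spec.map_comp, ← hcU]
    congr 1
    exact CommRingCat.hom_ext (RingHom.ext fun c => (MvPolynomial.eval₂Hom_C _ _ _).symm))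
  haveI : IsImmersion h := by
    haveI : IsImmersion (h ≫ pullback.fst Y.hom (CohB1.ProjSpace.toSpec (n - 1) k)) := by
      rw [pullback.lift_fst]; infer_instance
    exact IsImmersion.of_comp h (pullback.fst _ _)
  haveI : IsProper zs := inferInstanceAs (IsProper (pullback.fst Y.hom (CohB1.ProjSpace.toSpec (n - 1) k) ≫ Y.hom))
  haveI : QuasiCompact h := by
    haveI : QuasiCompact (h ≫ zs) := (quasiCompact_iff_compactSpace _).2 inferInstance
    exact QuasiCompact.of_comp h zs
  haveI : IsDomain Γ(Y.left, U) := inferInstance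
  haveI : IsReduced h.image := Coherent.isReduced_image h
  haveI : IrreducibleSpace h.image := by
    have h1 : IsPreirreducible (closure (Set.range h.toImage)) :=
      (by rw [← Set.image_univ]; exact ((IrreducibleSpace.isIrreducible_univ _).image _ h.toImage.continuous.continuousOn).2.closure)
    rw [h.toImage.denseRange.closure_range] at h1
    exact { isPreirreducible_univ := h1, toNonempty := ⟨h.toImage (Classical.arbitrary _)⟩ }
  haveI : IsIntegral h.image := isIntegral_of_irreducibleSpace_of_isReduced _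
  let Y' : Over (Spec (CommRingCat.of k)) := Over.mk (h.imageι ≫ zs)
  haveI : IsProper Y'.hom := inferInstanceAs (IsProper (h.imageι ≫ zs))
  haveI : IsIntegral Y'.left := inferInstanceAs (IsIntegral h.image)
  haveI : IrreducibleSpace Y'.left := inferInstanceAs (IrreducibleSpace h.image)
  let φ : Y' ⟶ Y := Over.homMk (h.imageι ≫ pullback.fst Y.hom (CohB1.ProjSpace.toSpec (n - 1) k)) (Category.assoc _ _ _)
  have hφ : h.toImage ≫ φ.left = u := by
    show h.toImage ≫ h.imageι ≫ pullback.fst _ _ = u
    rw [Scheme.Hom.toImage_imageι_assoc, pullback.lift_fst]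
  let P : Y'.left.PartialIso Y.left :=
    { source := h.toImage.opensRange
      dense_source := h.toImage.denseRange
      target := u.opensRange
      dense_target := u.opensRange.2.dense ⟨_, Classical.arbitrary _, rfl⟩
      iso := h.toImage.isoOpensRange.symm ≪≫ u.isoOpensRange }
  have hP : P.iso.hom ≫ P.target.ι = P.source.ι ≫ φ.left := by
    show (h.toImage.isoOpensRange.inv ≫ u.isoOpensRange.hom) ≫ u.opensRange.ι = h.toImage.opensRange.ι ≫ φ.left
    rw [Category.assoc, Scheme.Hom.isoOpensRange_hom_ι, ← hφ, ← Category.assoc,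
      Scheme.Hom.isoOpensRange_inv_comp]
  -- the map on the local ring
  have hlift : ∃ l : Spec (CommRingCat.of O) ⟶ Y.left,
      Spec.map (CommRingCat.ofHom (algebraMap O F)) ≫ l = eF ∧ l ≫ Y.hom = X.left.fromSpecStalk ξ ≫ X.hom := by
    have hvc : ValuativeCriterion Y.hom := by
      have := ‹IsProper Y.hom›
      rw [IsProper.eq_valuativeCriterion] at this
      exact this.1.1.1
    obtain ⟨l, hl1, hl2⟩ := ((ValuativeCriterion.iff.1 hvc).1
      { R := O, domain := (hXn ξ).1, K := F, i₁ := eF, i₂ := X.left.fromSpecStalk ξ ≫ X.hom,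
        commSq := ⟨heF.trans ((congrArg (· ≫ X.hom) hOF).symm.trans (Category.assoc _ _ _))⟩ }).exists_lift.some
    exact ⟨l, hl1, hl2⟩
  obtain ⟨l, hl1, hl2⟩ := hlift
  let aR : MvPolynomial (Fin (n - 1)) k →+* O := MvPolynomial.eval₂Hom (algebraMap k O) a
  let θ : Spec (CommRingCat.of O) ⟶ Z := pullback.lift l (Spec.map (CommRingCat.ofHom aR) ≫ j) (by
    refine hl2.trans ?_
    rw [Category.assoc, hjs, ← spec_base, ← Spec.map_comp]
    congr 1
    exact CommRingCat.hom_ext (RingHom.ext fun c => (MvPolynomial.eval₂Hom_C _ _ _).symm))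
  let eV : Spec X.left.functionField ⟶ Spec Γ(Y.left, U) := Spec.map (Y.left.presheaf.germ U gY hgU ≫ φ₀)
  have heV : eV ≫ u = eF := by
    rw [← hφ₀, ← hU.fromSpecStalk_eq_fromSpecStalk hgU, IsAffineOpen.fromSpecStalk, ← Spec.map_comp_assoc]
  have hgen' : eV ≫ h = Spec.map (CommRingCat.ofHom (algebraMap O F)) ≫ θ := by
    apply pullback.hom_ext
    · rw [Category.assoc, Category.assoc, pullback.lift_fst, pullback.lift_fst, heV]
      exact hl1.symm
    · rw [Category.assoc, Category.assoc, pullback.lift_snd, pullback.lift_snd, ← Category.assoc, ← Category.assoc]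
      congr 1
      rw [← Spec.map_comp, ← Spec.map_comp]
      congr 1
      refine CommRingCat.hom_ext (MvPolynomial.ringHom_ext (fun c => ?_) (fun i => ?_))
      · show φ₀.hom (Y.left.presheaf.germ U gY hgU (MvPolynomial.eval₂Hom cU sU (MvPolynomial.C c))) =
          algebraMap O F (aR (MvPolynomial.C c))
        rw [MvPolynomial.eval₂Hom_C, MvPolynomial.eval₂Hom_C]
        have e : CommRingCat.ofHom cU ≫ Y.left.presheaf.germ U gY hgU = CommRingCat.ofHom (base Y.hom gY) := by
          apply Spec.map_injective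
          rw [Spec.map_comp, hcU, spec_base, ← Category.assoc, ← hU.fromSpecStalk_eq_fromSpecStalk hgU]
          rfl
        have e' : Y.left.presheaf.germ U gY hgU (cU c) = base Y.hom gY c := ConcreteCategory.congr_hom e c
        rw [e']
        exact (IsScalarTower.algebraMap_apply k L F c).symm.trans (IsScalarTower.algebraMap_apply k O F c)
      · show φ₀.hom (Y.left.presheaf.germ U gY hgU (MvPolynomial.eval₂Hom cU sU (MvPolynomial.X i))) =
          algebraMap O F (aR (MvPolynomial.X i))
        rw [MvPolynomial.eval₂Hom_X', MvPolynomial.eval₂Hom_X', hsU]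
        exact hya i
  haveI : IsDominant (Spec.map (CommRingCat.ofHom (algebraMap O F))) := by
    refine ⟨?_⟩
    exact PrimeSpectrum.denseRange_comap_iff_ker_le_nilRadical _ |>.2 (fun x hx => by
      have : x = 0 := IsFractionRing.injective O F (hx.trans (map_zero _).symm)
      rw [this]; exact zero_mem _)
  haveI : IsReduced (Spec (CommRingCat.of O)) := inferInstance
  obtain ⟨θ', hθ'⟩ := Coherent.exists_lift_of_dominant (Spec.map (CommRingCat.ofHom (algebraMap O F))) θ h.imageι
    (eV ≫ h.toImage) (by rw [Category.assoc, Scheme.Hom.toImage_imageι, hgen'])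
  have hθs : θ' ≫ Y'.hom = X.left.fromSpecStalk ξ ≫ X.hom := by
    show θ' ≫ h.imageι ≫ zs = _
    rw [← Category.assoc, hθ']
    show θ ≫ pullback.fst _ _ ≫ Y.hom = _
    rw [← Category.assoc, pullback.lift_fst, hl2]
  haveI : LocallyOfFiniteType Y'.hom := inferInstance
  let g := Scheme.PartialMap.ofFromSpecStalk X.hom Y'.hom (x := ξ) θ' hθs
  have hξg : ξ ∈ g.domain := Scheme.PartialMap.mem_domain_ofFromSpecStalk X.hom Y'.hom θ' hθs
  have hgθ : g.fromSpecStalkOfMem hξg = θ' :=
    Scheme.PartialMap.fromSpecStalkOfMem_ofFromSpecStalk X.hom Y'.hom θ' hθs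
  have hcomp : (g.compHom φ.left).toRationalMap = f.toRationalMap := by
    apply Scheme.RationalMap.eq_of_fromFunctionField_eq
    rw [Scheme.RationalMap.fromFunctionField_toRationalMap, Scheme.RationalMap.fromFunctionField_toRationalMap]
    have hgx : gX ∈ g.domain := hspec.mem_open g.domain.2 hξg
    have e : g.domain.fromSpecStalkOfMem gX hgx =
        Spec.map (CommRingCat.ofHom (algebraMap O F)) ≫ g.domain.fromSpecStalkOfMem ξ hξg := by
      rw [← cancel_mono g.domain.ι, Category.assoc, Scheme.Opens.fromSpecStalkOfMem_ι, Scheme.Opens.fromSpecStalkOfMem_ι, hOF]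
    show g.domain.fromSpecStalkOfMem gX hgx ≫ g.hom ≫ φ.left = eF
    rw [e, Category.assoc]
    show Spec.map _ ≫ (g.domain.fromSpecStalkOfMem ξ hξg ≫ g.hom ≫ φ.left) = eF
    rw [← Category.assoc (g.domain.fromSpecStalkOfMem ξ hξg) g.hom]
    show Spec.map _ ≫ g.fromSpecStalkOfMem hξg ≫ φ.left = eF
    rw [hgθ]
    show Spec.map _ ≫ θ' ≫ h.imageι ≫ pullback.fst _ _ = eF
    rw [← Category.assoc θ', hθ', pullback.lift_fst, hl1]
  refine ⟨Y', inferInstance, inferInstance, φ, P, hP, g, Scheme.PartialMap.ofFromSpecStalk_comp X.hom Y'.hom θ' hθs,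
    hcomp, hξg, ?_⟩
  let y' : Y'.left := g.hom.base ⟨ξ, hξg⟩
  have hy' : θ' (IsLocalRing.closedPoint O) = y' := by
    rw [← hgθ]
    show g.hom (g.domain.fromSpecStalkOfMem ξ hξg (IsLocalRing.closedPoint _)) = g.hom ⟨ξ, hξg⟩
    congr 1
    refine g.domain.ι.isOpenEmbedding.injective ?_
    rw [← Scheme.Hom.comp_apply, Scheme.Opens.fromSpecStalkOfMem_ι, Scheme.fromSpecStalk_closedPoint]
    rfl
  -- the image has dimension at least `n - 1`
  have hlow : n - 1 ≤ DimLib.ptDim Y'.hom y' := by
    let q : Y'.left ⟶ CohB1.ProjSpace (n - 1) k := h.imageι ≫ pullback.snd Y.hom (CohB1.ProjSpace.toSpec (n - 1) k)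
    have hq : q ≫ CohB1.ProjSpace.toSpec (n - 1) k = Y'.hom := by
      show _ = h.imageι ≫ pullback.fst _ _ ≫ Y.hom
      rw [Category.assoc, pullback.condition]
    haveI : LocallyOfFiniteType (q ≫ CohB1.ProjSpace.toSpec (n - 1) k) := by rw [hq]; infer_instance
    have h1 := DimLib.ptDim_apply_le (CohB1.ProjSpace.toSpec (n - 1) k) q y'
    rw [hq] at h1
    refine le_trans (le_of_eq ?_) h1
    let pt : Spec (WDivPn5.PolyR k (n - 1)) := Spec.map (CommRingCat.ofHom aR) (IsLocalRing.closedPoint O)
    have hqy : q y' = j pt := by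
      rw [← hy', ← Scheme.Hom.comp_apply]
      have : θ' ≫ q = Spec.map (CommRingCat.ofHom aR) ≫ j := by
        show θ' ≫ h.imageι ≫ pullback.snd _ _ = _
        rw [← Category.assoc, hθ', pullback.lift_snd]
      rw [this]
      rfl
    rw [hqy, ← DimLib.ptDim_comp_preimmersion (CohB1.ProjSpace.toSpec (n - 1) k) j pt, hjs]
    have hpt : pt.asIdeal = ⊥ := by
      show Ideal.comap aR (maximalIdeal O) = ⊥
      rw [← IsLocalRing.ker_residue, RingHom.comap_ker, ← RingHom.injective_iff_ker_eq_bot]
      have e : (IsLocalRing.residue O).comp aR = (MvPolynomial.aeval fun i => IsLocalRing.residue O (a i)).toRingHom :=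
        MvPolynomial.ringHom_ext (fun c => by simp [aR, IsScalarTower.algebraMap_apply k O (ResidueField O), ResidueField.algebraMap_eq])
          (fun i => by simp [aR])
      rw [e]
      exact algebraicIndependent_iff_injective_aeval.1 hind
    have hft : (MvPolynomial.C : k →+* MvPolynomial (Fin (n - 1)) k).FiniteType :=
      RingHom.finiteType_algebraMap.2 inferInstance
    have h2 := DimLib.ringKrullDim_quotient_eq_ptDim (A := WDivPn5.PolyR k (n - 1)) MvPolynomial.C hft pt
    rw [hpt, ringKrullDim_eq_of_ringEquiv (RingEquiv.quotientBot _)] at h2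
    have h3 : ringKrullDim (MvPolynomial (Fin (n - 1)) k) = ((n - 1 : ℕ) : WithBot ℕ∞) := by
      rw [MvPolynomial.ringKrullDim_of_isNoetherianRing, ringKrullDim_eq_zero_of_field, zero_add, Nat.card_fin]
    have h4 := h3.symm.trans h2
    exact_mod_cast h4
  have hup : ∀ w, w ⤳ y' → DimLib.ptDim Y'.hom w ≤ n := by
    intro w _
    have hgi : h.toImage (genericPoint (Spec Γ(Y.left, U))) = genericPoint Y'.left :=
      genericPoint_eq_of_isOpenImmersion h.toImage
    have e : DimLib.ptDim Y'.hom (genericPoint Y'.left) = n := by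
      rw [← hgi, ← DimLib.ptDim_comp_preimmersion Y'.hom h.toImage]
      have : h.toImage ≫ Y'.hom = u ≫ Y.hom := by
        show h.toImage ≫ h.imageι ≫ pullback.fst _ _ ≫ Y.hom = _
        rw [Scheme.Hom.toImage_imageι_assoc, ← Category.assoc, pullback.lift_fst]
      rw [this, DimLib.ptDim_comp_preimmersion Y.hom u, genericPoint_eq_of_isOpenImmersion u]
    by_cases hw : genericPoint Y'.left = w
    · rw [← hw, e]
    · rw [← e]
      exact (DimLib.ptDim_lt_of_specializes Y'.hom (genericPoint_specializes w) hw).le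
  have h5 := FlatMor12.stalk_dim_add_ptDim_le Y'.hom y' n hup
  by_contra hlt
  rw [not_le] at hlt
  generalize ringKrullDim (Y'.left.presheaf.stalk y') = d at h5 hlt
  induction d using WithBot.recBotCoe with
  | bot => exact absurd hlt (by simp)
  | coe d =>
    induction d using ENat.recTopCoe with
    | top =>
      have : ((⊤ : ℕ∞) : WithBot ℕ∞) ≤ ((n : ℕ∞) : WithBot ℕ∞) := le_trans (by
        exact le_add_of_nonneg_right (by exact_mod_cast Nat.zero_le _)) h5
      exact absurd (WithBot.coe_le_coe.1 this) (by simp)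
    | coe d =>
      have h6 : d + DimLib.ptDim Y'.hom y' ≤ n := by exact_mod_cast h5
      have h7 : 1 < d := by exact_mod_cast hlt
      omega

end Groth.Agent.AlgGrpLib.BiratModel
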