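import Groth.Agent.AlgGrpLib.ActionDescent
import Groth.Agent.Coherent.ConnectedFibre
import Groth.Agent.S7520
import Mathlib.AlgebraicGeometry.Geometrically.Irreducible

/-! Blanchard's lemma: morphisms out of `G ⊗ X` are constant on the fibres of `G ◁ f` for `G` connected. -/

set_option autoImplicit false
set_option backward.isDefEq.respectTransparency.types false

universe u

open CategoryTheory Limits MonoidalCategory CartesianMonoidalCategory MonObj AlgebraicGeometry
open AlgGrp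

namespace Groth.Agent.AlgGrpLib.Blanchard

open ActionDescent

section Schemes

variable {A B Y : Scheme.{u}} (π : A ⟶ B) [IsProper π] (hl : A ⟶ Y)

/-- The locus over which `hl` lands in a given affine open is open and `hl` factors through `π` there. -/
theorem exists_opens_factor (hπ : ∀ U : B.Opens, IsIso (π.app U)) (W : Y.Opens) (hW : IsAffineOpen W)
    (r : B) (hr : ∀ p, π p = r → hl p ∈ W) :
    ∃ N : B.Opens, r ∈ N ∧ π ⁻¹ᵁ N ≤ hl ⁻¹ᵁ W ∧
      ∃ κ : (N : Scheme.{u}) ⟶ Y, (π ∣_ N) ≫ κ = (π ⁻¹ᵁ N).ι ≫ hl := by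
  let N : B.Opens := ⟨(π '' ((hl ⁻¹ᵁ W : A.Opens) : Set A)ᶜ)ᶜ,
    (π.isClosedMap _ (hl ⁻¹ᵁ W).isOpen.isClosed_compl).isOpen_compl⟩
  have hle : π ⁻¹ᵁ N ≤ hl ⁻¹ᵁ W := fun p hp => by
    by_contra h
    exact hp ⟨p, h, rfl⟩
  haveI := hπ N
  refine ⟨N, ?_, hle, N.toSpecΓ ≫ Spec.map (hl.appLE W (π ⁻¹ᵁ N) hle ≫ inv (π.app N)) ≫ hW.fromSpec, ?_⟩
  · rintro ⟨p, hp, hpr⟩
    exact hp (hr p hpr)
  · rw [← Category.assoc, ← Scheme.Opens.toSpecΓ_naturality, Category.assoc, Spec.map_comp,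
      Category.assoc, ← Spec.map_comp_assoc, IsIso.inv_hom_id, Spec.map_id, Category.id_comp,
      Scheme.Opens.toSpecΓ_SpecMap_appLE_assoc, hW.toSpecΓ_fromSpec, Scheme.Hom.resLE_comp_ι]

variable {Q : Scheme.{u}} (l₁ l₂ : Q ⟶ A) (hl₁₂ : l₁ ≫ π = l₂ ≫ π)

include hl₁₂ in
/-- Two points of `Q` in the affine locus of `W` with an irreducible set meeting the factorization locus. -/
theorem apply_eq_of_irreducible (W : Y.Opens) (hW : IsAffineOpen W) (F : Set Q) (hF : IsPreirreducible F)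
    (z : Q) (hzF : z ∈ F) (hz₁ : hl (l₁ z) ∈ W) (hz₂ : hl (l₂ z) ∈ W)
    (N : B.Opens) (κ : (N : Scheme.{u}) ⟶ Y) (hκ : (π ∣_ N) ≫ κ = (π ⁻¹ᵁ N).ι ≫ hl)
    (ze : Q) (hzeF : ze ∈ F) (hze : π (l₁ ze) ∈ N) :
    hl (l₁ z) = hl (l₂ z) := by
  let QW : Q.Opens := (l₁ ≫ hl) ⁻¹ᵁ W ⊓ (l₂ ≫ hl) ⁻¹ᵁ W
  let O : Q.Opens := QW ⊓ (l₁ ≫ π) ⁻¹ᵁ N
  let v₁ : (QW : Scheme.{u}) ⟶ W := (l₁ ≫ hl).resLE W QW inf_le_left
  let v₂ : (QW : Scheme.{u}) ⟶ W := (l₂ ≫ hl).resLE W QW inf_le_right
  haveI : IsAffine (W : Scheme.{u}) := hW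
  let eι := equalizer.ι v₁ v₂
  haveI : IsClosedImmersion eι := inferInstance
  have heq : Q.homOfLE (inf_le_left : O ≤ QW) ≫ v₁ = Q.homOfLE (inf_le_left : O ≤ QW) ≫ v₂ := by
    rw [← cancel_mono W.ι, Category.assoc, Category.assoc, Scheme.Hom.resLE_comp_ι, Scheme.Hom.resLE_comp_ι,
      Scheme.homOfLE_ι_assoc, Scheme.homOfLE_ι_assoc]
    have e1 : O ≤ l₁ ⁻¹ᵁ (π ⁻¹ᵁ N) := inf_le_right
    have e2 : O ≤ l₂ ⁻¹ᵁ (π ⁻¹ᵁ N) := by
      intro x hx
      show π (l₂ x) ∈ N
      rw [← Scheme.Hom.comp_apply, ← hl₁₂]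
      exact hx.2
    have key : ∀ (l : Q ⟶ A) (e : O ≤ l ⁻¹ᵁ (π ⁻¹ᵁ N)),
        O.ι ≫ l ≫ hl = (l.resLE (π ⁻¹ᵁ N) O e ≫ (π ∣_ N)) ≫ κ := by
      intro l e
      rw [Category.assoc, hκ, Scheme.Hom.resLE_comp_ι_assoc]
    rw [key l₁ e1, key l₂ e2]
    congr 1
    rw [← cancel_mono N.ι, Category.assoc, Category.assoc, morphismRestrict_ι,
      Scheme.Hom.resLE_comp_ι_assoc, Scheme.Hom.resLE_comp_ι_assoc, hl₁₂]
  by_contra hne
  let zW : QW := ⟨z, hz₁, hz₂⟩
  have hzC : zW ∉ Set.range eι := by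
    rintro ⟨c, hc⟩
    apply hne
    have h1 := congrArg (fun m => W.ι (m c)) (equalizer.condition v₁ v₂)
    simp only [← Scheme.Hom.comp_apply, Category.assoc, v₁, v₂, Scheme.Hom.resLE_comp_ι] at h1
    rw [Scheme.Hom.comp_apply, Scheme.Hom.comp_apply, Scheme.Hom.comp_apply, Scheme.Hom.comp_apply,
      Scheme.Hom.comp_apply, Scheme.Hom.comp_apply] at h1
    have hc' : QW.ι (eι c) = z := congrArg QW.ι hc
    rwa [hc'] at h1
  let Q' : Q.Opens := QW.ι ''ᵁ ⟨(Set.range eι)ᶜ, eι.isClosedEmbedding.isClosed_range.isOpen_compl⟩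
  obtain ⟨x, -, hx1, hx2⟩ := hF Q' ((l₁ ≫ π) ⁻¹ᵁ N) Q'.isOpen ((l₁ ≫ π) ⁻¹ᵁ N).isOpen
    ⟨z, hzF, zW, hzC, rfl⟩ ⟨ze, hzeF, hze⟩
  obtain ⟨xW, hxW, rfl⟩ := hx1
  apply hxW
  have hxO : QW.ι xW ∈ O := ⟨xW.2, hx2⟩
  refine ⟨equalizer.lift (Q.homOfLE (inf_le_left : O ≤ QW)) heq ⟨QW.ι xW, hxO⟩, ?_⟩
  rw [← Scheme.Hom.comp_apply, equalizer.lift_ι]
  apply QW.ι.isOpenEmbedding.injective
  rw [← Scheme.Hom.comp_apply, Scheme.homOfLE_ι]
  rfl

end Schemes

variable {k : Type u} [Field k] {G X Y : Over (Spec (CommRingCat.of k))}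

theorem isPullback_whiskerRight_left {S : Scheme.{u}} {A B : Over S} (i : A ⟶ B) (P : Over S) :
    IsPullback (fst A P).left (i ▷ P).left i.left (fst B P).left := by
  refine IsPullback.map (F := Over.forget S) (IsPullback.of_isLimit' ⟨(whiskerRight_fst i P).symm⟩
    (PullbackCone.IsLimit.mk _ (fun s => CartesianMonoidalCategory.lift s.fst (s.snd ≫ snd B P))
      (fun s => lift_fst _ _) (fun s => ?_) (fun s m h1 h2 => ?_)))
  · apply CartesianMonoidalCategory.hom_ext
    · rw [Category.assoc, whiskerRight_fst, ← Category.assoc, lift_fst, s.condition]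
    · rw [Category.assoc, whiskerRight_snd, lift_snd]
  · apply CartesianMonoidalCategory.hom_ext
    · rw [lift_fst, h1]
    · rw [lift_snd, ← h2, Category.assoc, whiskerRight_snd]

theorem isPreirreducible_fibre_snd [GrpObj G] [ConnectedSpace ↥G.left] (P : Over (Spec (CommRingCat.of k)))
    (ω : P.left) : IsPreirreducible ((snd G P).left ⁻¹' {ω}) := by
  obtain ⟨G₀, _, i, _, _, _, hrange, hgi, _⟩ := Groth.Agent.S7520.result k G
  haveI : Surjective i.left := ⟨Set.range_eq_univ.1 (hrange.trans (PreconnectedSpace.connectedComponent_eq_univ _))⟩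
  haveI : Surjective (i ▷ P).left := MorphismProperty.of_isPullback (isPullback_whiskerRight_left i P) ‹_›
  haveI : GeometricallyIrreducible (snd G₀ P).left :=
    inferInstanceAs (GeometricallyIrreducible (pullback.snd G₀.hom P.hom))
  let π' := (snd G₀ P).left
  have h0 : IsPreirreducible (π' ⁻¹' {ω}) := by
    have h := (IrreducibleSpace.isIrreducible_univ (π'.fiber ω)).isPreirreducible.image
      (fun x => π'.fiberι ω x) (π'.fiberι ω).continuous.continuousOn
    rwa [Set.image_univ, show Set.range (fun x => π'.fiberι ω x) = π' ⁻¹' {ω} from π'.range_fiberι ω] at h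
  have := h0.image (fun x => (i ▷ P).left x) (i ▷ P).left.continuous.continuousOn
  have e : (fun x => (i ▷ P).left x) '' (π' ⁻¹' {ω}) = (snd G P).left ⁻¹' {ω} := by
    have hc : ∀ x, (snd G P).left ((i ▷ P).left x) = π' x := fun x => by
      rw [← Scheme.Hom.comp_apply, ← Over.comp_left, whiskerRight_snd]
    ext y
    constructor
    · rintro ⟨x, hx, rfl⟩
      exact (hc x).trans hx
    · intro hy
      obtain ⟨x, rfl⟩ := (i ▷ P).left.surjective y
      exact ⟨x, (hc x).symm.trans hy, rfl⟩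
  rwa [e] at this

/-- **Blanchard's lemma**, topological form. -/
theorem apply_eq_of_apply_eq [GrpObj G] [ConnectedSpace ↥G.left] [LocallyOfFiniteType G.hom]
    [LocallyOfFiniteType Y.hom] (f : X ⟶ Y) [IsProper f.left] (hf : ∀ U : Y.left.Opens, IsIso (f.left.app U))
    (h : G ⊗ X ⟶ Y) (hunit : CartesianMonoidalCategory.lift (toUnit X ≫ η[G]) (𝟙 X) ≫ h = f)
    (p q : ↥(G ⊗ X).left) (hpq : (G ◁ f).left p = (G ◁ f).left q) : h.left p = h.left q := by
  haveI := flat_hom G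
  haveI := isProper_whiskerLeft G f
  let π := (G ◁ f).left
  have hπ := isIso_app_whiskerLeft G f hf
  haveI : LocallyOfFiniteType (G ⊗ Y).hom := by
    show LocallyOfFiniteType (pullback.fst G.hom Y.hom ≫ G.hom)
    infer_instance
  haveI : IsLocallyNoetherian (G ⊗ Y).left := LocallyOfFiniteType.isLocallyNoetherian (G ⊗ Y).hom
  let P := pullback f f
  let L₁ : G ⊗ P ⟶ G ⊗ X := G ◁ pullback.fst f f
  let L₂ : G ⊗ P ⟶ G ⊗ X := G ◁ pullback.snd f f
  have hL : IsPullback L₁ L₂ (G ◁ f) (G ◁ f) := by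
    have hw : L₁ ≫ (G ◁ f) = L₂ ≫ (G ◁ f) := by
      rw [← MonoidalCategory.whiskerLeft_comp, ← MonoidalCategory.whiskerLeft_comp, pullback.condition]
    refine IsPullback.of_isLimit' ⟨hw⟩ (PullbackCone.IsLimit.mk _
      (fun s => CartesianMonoidalCategory.lift (s.fst ≫ fst G X) (pullback.lift (s.fst ≫ snd G X) (s.snd ≫ snd G X) (by
        have := congrArg (· ≫ snd G Y) s.condition
        simpa only [Category.assoc, whiskerLeft_snd] using this)))
      (fun s => ?_) (fun s => ?_) (fun s m h1 h2 => ?_))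
    · apply CartesianMonoidalCategory.hom_ext
      · rw [Category.assoc, whiskerLeft_fst, lift_fst]
      · simp [L₁]; exact pullback.lift_fst _ _ _
    · have hfst := congrArg (· ≫ fst G Y) s.condition
      simp only [Category.assoc, whiskerLeft_fst] at hfst
      apply CartesianMonoidalCategory.hom_ext
      · rw [Category.assoc, whiskerLeft_fst, lift_fst, hfst]
      · simp [L₂]; exact pullback.lift_snd _ _ _
    · apply CartesianMonoidalCategory.hom_ext
      · rw [lift_fst, ← h1, Category.assoc, whiskerLeft_fst]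
      · rw [lift_snd]
        apply pullback.hom_ext
        · rw [pullback.lift_fst, ← h1, Category.assoc, Category.assoc, whiskerLeft_snd]
        · rw [pullback.lift_snd, ← h2, Category.assoc, Category.assoc, whiskerLeft_snd]
  have hw' : L₁.left ≫ π = L₂.left ≫ π := by rw [← Over.comp_left, ← Over.comp_left, hL.w]
  -- the unit sections
  let sX : X ⟶ G ⊗ X := CartesianMonoidalCategory.lift (toUnit X ≫ η[G]) (𝟙 X)
  let sY : Y ⟶ G ⊗ Y := CartesianMonoidalCategory.lift (toUnit Y ≫ η[G]) (𝟙 Y)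
  let sP : P ⟶ G ⊗ P := CartesianMonoidalCategory.lift (toUnit P ≫ η[G]) (𝟙 P)
  have hs : IsPullback sX f (G ◁ f) sY := by
    have hw : sX ≫ (G ◁ f) = f ≫ sY := by
      apply CartesianMonoidalCategory.hom_ext <;>
        simp [sX, sY, toUnit_unique (f ≫ toUnit Y) (toUnit X)]
    refine IsPullback.of_isLimit' ⟨hw⟩ (PullbackCone.IsLimit.mk _ (fun s => s.fst ≫ snd G X)
      (fun s => ?_) (fun s => ?_) (fun s m h1 h2 => ?_))
    · apply CartesianMonoidalCategory.hom_ext
      · have hfst := congrArg (· ≫ fst G Y) s.condition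
        simp only [Category.assoc, whiskerLeft_fst, sY, lift_fst] at hfst
        simp only [sX, Category.assoc, lift_fst]
        rw [hfst, ← Category.assoc, ← Category.assoc, ← Category.assoc,
          toUnit_unique ((s.fst ≫ snd G X) ≫ toUnit X) (s.snd ≫ toUnit Y)]
      · simp [sX]
    · have hsnd := congrArg (· ≫ snd G Y) s.condition
      simpa only [Category.assoc, whiskerLeft_snd, sY, lift_snd, Category.comp_id] using hsnd
    · rw [← h1]; simp [sX]
  have hD : ∀ y : Y.left, ∃ (W : Y.left.Opens) (N : (G ⊗ Y).left.Opens),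
      sY.left y ∈ N ∧ ∃ κ : (N : Scheme.{u}) ⟶ Y.left, (π ∣_ N) ≫ κ = (π ⁻¹ᵁ N).ι ≫ h.left := by
    intro y
    obtain ⟨W, hW, hyW, -⟩ := exists_isAffineOpen_mem_and_subset (x := y) (U := (⊤ : Y.left.Opens)) trivial
    obtain ⟨N, hN, -, hκ⟩ := exists_opens_factor π h.left hπ W hW (sY.left y) (fun p hp => by
      obtain ⟨x, rfl, hx⟩ := Scheme.exists_preimage_of_isPullback (hs.map (Over.forget _)) p y hp
      show h.left (sX.left x) ∈ W
      rw [← Scheme.Hom.comp_apply, ← Over.comp_left, hunit]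
      exact hx ▸ hyW)
    exact ⟨W, N, hN, hκ⟩
  let Z : Set ↥(G ⊗ X).left := π ⁻¹' {π p}
  have hZc : _root_.IsPreconnected Z := by
    haveI := Coherent.connectedSpace_fiber_of_isIso_app π hπ (π p)
    have h0 := (PreconnectedSpace.isPreconnected_univ (α := π.fiber (π p))).image
      (fun x => π.fiberι (π p) x) (π.fiberι (π p)).continuous.continuousOn
    rwa [Set.image_univ, show Set.range (fun x => π.fiberι (π p) x) = π ⁻¹' {π p} from π.range_fiberι (π p)] at h0
  have hloc : ∀ (W : Y.left.Opens), IsAffineOpen W → ∀ a b : ↥(G ⊗ X).left, π a = π b →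
      h.left a ∈ W → h.left b ∈ W → h.left a = h.left b := by
    intro W hW a b hab haW hbW
    obtain ⟨z, hz1, hz2⟩ := Scheme.exists_preimage_of_isPullback (hL.map (Over.forget _)) a b hab
    replace hz1 : L₁.left z = a := hz1
    replace hz2 : L₂.left z = b := hz2
    subst hz1 hz2
    let ω := (snd G P).left z
    obtain ⟨W', N, hN, κ, hκ⟩ := hD ((pullback.fst f f ≫ f).left ω)
    refine apply_eq_of_irreducible π h.left L₁.left L₂.left hw' W hW _
      (isPreirreducible_fibre_snd (G := G) P ω) z rfl haW hbW N κ hκ (sP.left ω) ?_ ?_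
    · show (snd G P).left (sP.left ω) = ω
      rw [← Scheme.Hom.comp_apply, ← Over.comp_left, lift_snd]
      rfl
    · have e : sP ≫ L₁ ≫ (G ◁ f) = (pullback.fst f f ≫ f) ≫ sY := by
        apply CartesianMonoidalCategory.hom_ext <;>
          simp [sP, sY, L₁, toUnit_unique ((pullback.fst f f ≫ f) ≫ toUnit Y) (toUnit P), P]
      show π (L₁.left (sP.left ω)) ∈ N
      have e' := congrArg (fun m : P ⟶ G ⊗ Y => m.left ω) e
      simp only [Over.comp_left, Scheme.Hom.comp_apply] at e'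
      rw [e']
      exact hN
  haveI : PreconnectedSpace Z := isPreconnected_iff_preconnectedSpace.1 hZc
  have hlc : IsLocallyConstant (fun a : Z => h.left a.1) := by
    refine (IsLocallyConstant.iff_exists_open _).2 fun a => ?_
    obtain ⟨W, hW, haW, -⟩ := exists_isAffineOpen_mem_and_subset (x := h.left a.1) (U := (⊤ : Y.left.Opens)) trivial
    exact ⟨_, (h.left ⁻¹ᵁ W).isOpen.preimage continuous_subtype_val, haW,
      fun b hb => hloc W hW b.1 a.1 (b.2.trans a.2.symm) hb haW⟩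
  exact hlc.apply_eq_of_preconnectedSpace ⟨p, rfl⟩ ⟨q, hpq.symm⟩

end Groth.Agent.AlgGrpLib.Blanchard

namespace Groth.Agent.AlgGrpLib.Blanchard

open AlgGrp

variable {k : Type u} [Field k] {G X Y : Over (Spec (CommRingCat.of k))} [GrpObj G]

theorem lift_unit_act (a : AlgGrp.Action G X) :
    CartesianMonoidalCategory.lift (toUnit X ≫ η[G]) (𝟙 X) ≫ a.act = 𝟙 X := by
  have e : CartesianMonoidalCategory.lift (toUnit X ≫ η[G]) (𝟙 X) = (λ_ X).inv ≫ (η[G] ▷ X) := by
    apply CartesianMonoidalCategory.hom_ext <;> simp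
  rw [e, Category.assoc, a.one_act, Iso.inv_hom_id]

/-- **Blanchard's lemma**: an action of a connected group descends along `f` with `O_Y ≅ f_* O_X`. -/
theorem existsUnique_action [ConnectedSpace ↥G.left] [LocallyOfFiniteType G.hom] [LocallyOfFiniteType Y.hom]
    (f : X ⟶ Y) [IsProper f.left] (hf : ∀ U : Y.left.Opens, IsIso (f.left.app U)) (a : AlgGrp.Action G X) :
    ∃! b : AlgGrp.Action G Y, (G ◁ f) ≫ b.act = a.act ≫ f := by
  obtain ⟨b, hb⟩ := ActionDescent.exists_action f hf a fun p q hpq =>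
    apply_eq_of_apply_eq f hf (a.act ≫ f) (by rw [← Category.assoc, lift_unit_act, Category.id_comp]) p q hpq
  exact ⟨b, hb, fun b' hb' => ActionDescent.action_unique f hf (hb'.trans hb.symm)⟩

end Groth.Agent.AlgGrpLib.Blanchard
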