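import Groth.Prelude.Def_Red2
import Groth.Agent.SGA3cLib.DiagPoints
import Groth.Agent.AlgGrpLib.ActionShear
import Groth.Agent.GrassLib.OverPoints
import Groth.Agent.Misc15.MagnetPointsS
import Mathlib.RingTheory.LaurentSeries
import Mathlib.RingTheory.PowerSeries.Substitution
import Mathlib.AlgebraicGeometry.ValuativeCriterion

/-! Fixed points of `Ga` and `Gm` acting on proper schemes with a rational point. -/

universe u

set_option autoImplicit false
set_option backward.isDefEq.respectTransparency.types false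
set_option maxHeartbeats 800000

open CategoryTheory CategoryTheory.Limits MonoidalCategory CartesianMonoidalCategory MonObj GrpObj AlgebraicGeometry

namespace Groth.Agent.AlgGrpLib.BorelOne

variable {k : Type u} [Field k]

/-- The spectrum of an algebra, over the base field. -/
noncomputable abbrev sp (k R : Type u) [Field k] [CommRing R] [Algebra k R] : Over (Spec (CommRingCat.of k)) :=
  Over.mk (Spec.map (CommRingCat.ofHom (algebraMap k R)))

/-- The map of spectra. -/
noncomputable def spMap {A B : Type u} [CommRing A] [Algebra k A] [CommRing B] [Algebra k B] (f : A →ₐ[k] B) :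
    sp k B ⟶ sp k A :=
  Over.homMk (Spec.map (CommRingCat.ofHom f.toRingHom)) (by
    show Spec.map _ ≫ Spec.map _ = Spec.map _
    rw [← Spec.map_comp, ← CommRingCat.ofHom_comp]
    exact congrArg (fun r => Spec.map (CommRingCat.ofHom r)) f.comp_algebraMap)

theorem spMap_comp {A B C : Type u} [CommRing A] [Algebra k A] [CommRing B] [Algebra k B] [CommRing C] [Algebra k C]
    (f : A →ₐ[k] B) (g : B →ₐ[k] C) : spMap (g.comp f) = spMap g ≫ spMap f := by
  refine Over.OverMorphism.ext ?_
  show Spec.map _ = Spec.map _ ≫ Spec.map _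
  rw [← Spec.map_comp]; rfl

theorem spMap_toUnit {A B : Type u} [CommRing A] [Algebra k A] [CommRing B] [Algebra k B] (f : A →ₐ[k] B) :
    spMap f ≫ toUnit (sp k A) = toUnit (sp k B) := toUnit_unique _ _

/-- Global functions of `sp k R`. -/
noncomputable def val {R : Type u} [CommRing R] [Algebra k R] : Γ((sp k R).left, ⊤) →+* R :=
  (Scheme.ΓSpecIso (CommRingCat.of R)).hom.hom

theorem val_bijective {R : Type u} [CommRing R] [Algebra k R] : Function.Bijective (val (k := k) (R := R)) :=
  ConcreteCategory.bijective_of_isIso (Scheme.ΓSpecIso (CommRingCat.of R)).hom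

theorem val_spMap {A B : Type u} [CommRing A] [Algebra k A] [CommRing B] [Algebra k B] (f : A →ₐ[k] B)
    (r : Γ((sp k A).left, ⊤)) : val ((spMap f).left.appTop r) = f (val r) :=
  congrArg (fun m => m.hom r) (Scheme.ΓSpecIso_naturality (CommRingCat.ofHom f.toRingHom))

variable {G X : Over (Spec (CommRingCat.of k))} [GrpObj G]

section sub

variable (R : Type u) [CommRing R] [Algebra k R]

/-- `R[[s]] → R((s))` -/
noncomputable def toLaurent : PowerSeries R →ₐ[k] LaurentSeries R :=
  { HahnSeries.ofPowerSeries ℤ R with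
    commutes' := fun c => by
      first
      | rfl
      | exact (HahnSeries.algebraMap_apply' (Γ := ℤ) (R := R) c).symm
      | (ext; simp [HahnSeries.algebraMap_apply]) }

/-- `R → R[[s]]` -/
noncomputable def cst : R →ₐ[k] PowerSeries R :=
  IsScalarTower.toAlgHom k R (PowerSeries R)

/-- `R[[s]] → R`, `s ↦ 0` -/
noncomputable def ev0 : PowerSeries R →ₐ[k] R :=
  { PowerSeries.constantCoeff (R := R) with
    commutes' := fun c => by
      show PowerSeries.constantCoeff (algebraMap k (PowerSeries R) c) = _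
      rw [IsScalarTower.algebraMap_apply k R (PowerSeries R)]; simp }

theorem ev0_cst : (ev0 (k := k) R).comp (cst R) = AlgHom.id k R := by
  ext r
  show PowerSeries.constantCoeff (algebraMap R (PowerSeries R) r) = r
  simp

theorem algHom_eq_of_X {D : Type u} [CommRing D] [Algebra k D] (f g : PowerSeries k →ₐ[k] D)
    (hf : f PowerSeries.X = 0) (hg : g PowerSeries.X = 0) : f = g := by
  refine AlgHom.ext fun p => ?_
  obtain ⟨q, hq⟩ : PowerSeries.X ∣ p - PowerSeries.C (PowerSeries.constantCoeff p) :=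
    PowerSeries.X_dvd_iff.2 (by simp)
  rw [sub_eq_iff_eq_add] at hq
  rw [hq, map_add, map_add, map_mul, map_mul, hf, hg, zero_mul, zero_mul]
  exact congrArg (0 + ·) ((f.commutes _).trans (g.commutes _).symm)

theorem exists_extend {D : Type u} [CommRing D] [Algebra k D] (f : PowerSeries k →ₐ[k] D)
    (hu : IsUnit (f PowerSeries.X)) : ∃ ψ : LaurentSeries k →ₐ[k] D, ψ.comp (toLaurent k) = f := by
  have hu' : ∀ y : Submonoid.powers (PowerSeries.X : PowerSeries k), IsUnit (f.toRingHom y) := by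
    rintro ⟨_, n, rfl⟩
    exact (map_pow f.toRingHom PowerSeries.X n).symm ▸ hu.pow n
  refine ⟨{ IsLocalization.lift (g := f.toRingHom) (S := LaurentSeries k) hu' with
      commutes' := fun c => ?_ }, AlgHom.ext fun p => IsLocalization.lift_eq hu' p⟩
  have h1 : algebraMap k (LaurentSeries k) c =
      algebraMap (PowerSeries k) (LaurentSeries k) (algebraMap k (PowerSeries k) c) :=
    ((toLaurent (k := k) k).commutes c).symm
  rw [h1]
  exact (IsLocalization.lift_eq hu' _).trans (f.commutes c)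

theorem exists_lift (σ : PowerSeries R) (h0 : PowerSeries.constantCoeff σ = 0)
    (hu : IsUnit (toLaurent (k := k) R σ)) :
    ∃ (φ : PowerSeries k →ₐ[k] PowerSeries R) (ψ : LaurentSeries k →ₐ[k] LaurentSeries R),
      φ PowerSeries.X = σ ∧ (ev0 R).comp φ = (Algebra.ofId k R).comp (ev0 (k := k) k) ∧
      ψ.comp (toLaurent k) = (toLaurent R).comp φ := by
  have hs : PowerSeries.HasSubst σ := PowerSeries.HasSubst.of_constantCoeff_zero' h0
  let φ : PowerSeries k →ₐ[k] PowerSeries R := PowerSeries.substAlgHom hs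
  have hφX : φ PowerSeries.X = σ := PowerSeries.substAlgHom_X hs
  obtain ⟨ψ, hψ⟩ := exists_extend ((toLaurent (k := k) R).comp φ)
    (show IsUnit (toLaurent (k := k) R (φ PowerSeries.X)) by rw [hφX]; exact hu)
  refine ⟨φ, ψ, hφX, algHom_eq_of_X _ _ ?_ ?_, hψ⟩
  · show ev0 (k := k) R (φ PowerSeries.X) = 0
    rw [hφX]; exact h0
  · show algebraMap k R (PowerSeries.constantCoeff (PowerSeries.X : PowerSeries k)) = 0
    rw [PowerSeries.constantCoeff_X, map_zero]

end sub

theorem exists_isFixedPt [IsProper X.hom] (x₀ : 𝟙_ (Over (Spec (CommRingCat.of k))) ⟶ X) (a : AlgGrp.Action G X)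
    (w : sp k (LaurentSeries k) ⟶ G)
    (hw : ∀ (R : Type u) [CommRing R] [Algebra k R] (g : sp k R ⟶ G), ∃ σ : PowerSeries R,
      PowerSeries.constantCoeff σ = 0 ∧ IsUnit (toLaurent (k := k) R σ) ∧
      ∀ ψ : LaurentSeries k →ₐ[k] LaurentSeries R, ψ (toLaurent (k := k) k PowerSeries.X) = toLaurent (k := k) R σ →
        ∀ jl : LaurentSeries k →ₐ[k] LaurentSeries R, jl (toLaurent (k := k) k PowerSeries.X) = toLaurent (k := k) R PowerSeries.X →
        (spMap ((toLaurent (k := k) R).comp (cst R)) ≫ g) * (spMap jl ≫ w) = spMap ψ ≫ w) :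
    ∃ x : 𝟙_ (Over (Spec (CommRingCat.of k))) ⟶ X, a.IsFixedPt x := by
  let o : sp k (LaurentSeries k) ⟶ X := lift w (toUnit _ ≫ x₀) ≫ a.act
  have hval : ValuativeCriterion.Existence X.hom := by
    have := (inferInstance : IsProper X.hom)
    rw [IsProper.eq_valuativeCriterion] at this
    exact fun S => (ValuativeCriterion.iff.1 this.1.1.1).1 S
  obtain ⟨⟨⟨c, hc1, hc2⟩⟩⟩ := hval
    { R := PowerSeries k, K := LaurentSeries k, i₁ := o.left, i₂ := (sp k (PowerSeries k)).hom,
      commSq := ⟨by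
        rw [Over.w o]
        show Spec.map _ = Spec.map _ ≫ Spec.map _
        rw [← Spec.map_comp, ← CommRingCat.ofHom_comp]⟩ }
  let c' : sp k (PowerSeries k) ⟶ X := Over.homMk c hc2
  have hc' : spMap (toLaurent k) ≫ c' = o := Over.OverMorphism.ext hc1
  let u : 𝟙_ (Over (Spec (CommRingCat.of k))) ⟶ sp k k := Over.homMk (𝟙 _) (by
    show 𝟙 _ ≫ Spec.map (CommRingCat.ofHom (algebraMap k k)) = 𝟙 _
    rw [Category.id_comp, Algebra.algebraMap_self, CommRingCat.ofHom_id, Spec.map_id])
  let x : 𝟙_ (Over (Spec (CommRingCat.of k))) ⟶ X := u ≫ spMap (ev0 (k := k) k) ≫ c'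
  have hxu : ∀ (R : Type u) [CommRing R] [Algebra k R], toUnit (sp k R) ≫ u = spMap (Algebra.ofId k R) := fun R => by
    refine Over.OverMorphism.ext ?_
    show (sp k R).hom ≫ 𝟙 _ = Spec.map _
    rw [Category.comp_id]; rfl
  have key : ∀ (R : Type u) [CommRing R] [Algebra k R] (g : sp k R ⟶ G),
      lift g (toUnit _ ≫ x) ≫ a.act = toUnit _ ≫ x := by
    intro R _ _ g
    obtain ⟨σ, h0, hu, hσ⟩ := hw R g
    obtain ⟨φ, ψ, hφX, hev, hψ⟩ := exists_lift R σ h0 hu
    obtain ⟨j, jl, hjX, hjev, hι⟩ := exists_lift (k := k) R PowerSeries.X PowerSeries.constantCoeff_X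
      (IsLocalization.map_units (LaurentSeries R) (⟨PowerSeries.X, 1, pow_one _⟩ :
        Submonoid.powers (PowerSeries.X : PowerSeries R)))
    have hinj : Function.Injective (toLaurent (k := k) R).toRingHom := HahnSeries.ofPowerSeries_injective
    have hAB : lift (spMap (cst R) ≫ g) (spMap j ≫ c') ≫ a.act = spMap φ ≫ c' := by
      refine Misc15.MagnetPointsS.eq_of_injective (toLaurent (k := k) R).toRingHom hinj (spMap (toLaurent R)) rfl _ _ ?_
      rw [← Category.assoc, comp_lift, ← Category.assoc (spMap _) (spMap φ), ← spMap_comp, ← hψ, spMap_comp,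
        Category.assoc, hc', ← Category.assoc (spMap _) (spMap j), ← spMap_comp, ← hι, spMap_comp, Category.assoc, hc',
        ← Category.assoc (spMap _) (spMap (cst R)), ← spMap_comp]
      show lift (spMap ((toLaurent R).comp (cst R)) ≫ g) (spMap jl ≫ lift w (toUnit _ ≫ x₀) ≫ a.act) ≫ a.act =
        spMap ψ ≫ lift w (toUnit _ ≫ x₀) ≫ a.act
      rw [← Category.assoc, comp_lift, ← Category.assoc (spMap jl) (toUnit _), comp_toUnit,
        act_act, hσ ψ ?_ jl ?_, ← Category.assoc, comp_lift, ← Category.assoc (spMap ψ) (toUnit _), comp_toUnit]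
      · rw [← hφX]; exact congrArg (fun m : _ →ₐ[k] _ => m PowerSeries.X) hψ
      · rw [← hjX]; exact congrArg (fun m : _ →ₐ[k] _ => m PowerSeries.X) hι
    have hA := congrArg (spMap (ev0 (k := k) R) ≫ ·) hAB
    rw [← Category.assoc, comp_lift, ← Category.assoc (spMap _) (spMap (cst R)), ← spMap_comp, ev0_cst,
      ← Category.assoc (spMap _) (spMap φ), ← spMap_comp, hev, ← Category.assoc (spMap _) (spMap j), ← spMap_comp,
      hjev, spMap_comp, Category.assoc] at hA
    have hid : spMap (AlgHom.id k R) = 𝟙 (sp k R) := Over.OverMorphism.ext (Spec.map_id _)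
    rw [hid, Category.id_comp] at hA
    have hxR : toUnit (sp k R) ≫ x = spMap (Algebra.ofId k R) ≫ spMap (ev0 (k := k) k) ≫ c' := by
      rw [← hxu R, Category.assoc]
    rw [hxR]
    exact hA
  refine ⟨x, fun T g => ?_⟩
  refine Over.OverMorphism.ext (T.left.affineCover.hom_ext _ _ fun i => ?_)
  obtain ⟨A, θ, p, hp⟩ := GrassLib.exists_lift_affine (R := k) (X := T) (T.left.affineCover.f i)
  have h' := key A (p ≫ g)
  have h : p ≫ lift g (toUnit T ≫ x) ≫ a.act = p ≫ toUnit T ≫ x := by
    rw [← Category.assoc p (lift g _), comp_lift, ← Category.assoc p (toUnit T), comp_toUnit]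
    exact h'
  rw [← hp, Category.assoc, Category.assoc]
  exact congrArg (θ.hom ≫ ·) (congrArg CommaMorphism.left h)

theorem val_gmFn {A B : Type u} [CommRing A] [Algebra k A] [CommRing B] [Algebra k B] (f : A →ₐ[k] B)
    (t : sp k A ⟶ Red.Gm (Spec (CommRingCat.of k))) : val (Red.gmFn (spMap f ≫ t)) = f (val (Red.gmFn t)) :=
  val_spMap f _

theorem val_gaFn {A B : Type u} [CommRing A] [Algebra k A] [CommRing B] [Algebra k B] (f : A →ₐ[k] B)
    (t : sp k A ⟶ Red.Ga (Spec (CommRingCat.of k))) : val (Red.gaFn (spMap f ≫ t)) = f (val (Red.gaFn t)) :=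
  val_spMap f _

open Groth.Agent.SGA3cLib in
theorem exists_isFixedPt_Gm [IsProper X.hom] (x₀ : 𝟙_ (Over (Spec (CommRingCat.of k))) ⟶ X) (a : AlgGrp.Action G X)
    (e : Grp.mk G ≅ Grp.mk (Red.Gm (Spec (CommRingCat.of k)))) :
    ∃ x : 𝟙_ (Over (Spec (CommRingCat.of k))) ⟶ X, a.IsFixedPt x := by
  let f : G ⟶ Red.Gm (Spec (CommRingCat.of k)) := e.hom.hom.hom
  haveI : IsMonHom f := e.hom.hom.isMonHom_hom
  haveI : Mono f := inferInstanceAs (Mono ((Grp.forget _).map e.hom))
  have hX : IsUnit (toLaurent (k := k) k PowerSeries.X) :=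
    IsLocalization.map_units (LaurentSeries k) (⟨PowerSeries.X, 1, pow_one _⟩ : Submonoid.powers (PowerSeries.X : PowerSeries k))
  obtain ⟨y, hy⟩ := (val_bijective (k := k) (R := LaurentSeries k)).2 (toLaurent (k := k) k PowerSeries.X)
  have hyu : IsUnit y := by
    obtain ⟨u, hu⟩ := hX
    obtain ⟨z, hz⟩ := (val_bijective (k := k) (R := LaurentSeries k)).2 ↑u⁻¹
    exact IsUnit.of_mul_eq_one z (val_bijective.1 (by rw [map_mul, hy, hz, map_one, ← hu, Units.mul_inv]))
  obtain ⟨w₀, hw₀⟩ := exists_gmFn (S := Spec (CommRingCat.of k)) hyu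
  refine exists_isFixedPt x₀ a (w₀ ≫ e.inv.hom.hom) fun R _ _ g => ?_
  let r := val (Red.gmFn (g ≫ f))
  have hr : IsUnit r := (isUnit_gmFn _).map val
  refine ⟨PowerSeries.C r * PowerSeries.X, by simp, ?_, fun ψ hψ jl hjl => ?_⟩
  · rw [map_mul]
    exact ((hr.map PowerSeries.C).map _).mul
      (IsLocalization.map_units (LaurentSeries R) (⟨PowerSeries.X, 1, pow_one _⟩ : Submonoid.powers (PowerSeries.X : PowerSeries R)))
  · have he : e.inv.hom.hom ≫ f = 𝟙 _ := congrArg (fun m => m.hom.hom) e.inv_hom_id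
    rw [← cancel_mono f, MonObj.mul_comp]
    simp only [Category.assoc, he, Category.comp_id]
    refine gmFn_injective (val_bijective.1 ?_)
    rw [gmFn_mul, map_mul, val_gmFn, val_gmFn, val_gmFn, hw₀, hy, hψ, hjl, map_mul]
    rfl

open Groth.Agent.SGA3cLib in
theorem exists_isFixedPt_Ga [IsProper X.hom] (x₀ : 𝟙_ (Over (Spec (CommRingCat.of k))) ⟶ X) (a : AlgGrp.Action G X)
    (e : Grp.mk G ≅ Grp.mk (Red.Ga (Spec (CommRingCat.of k)))) :
    ∃ x : 𝟙_ (Over (Spec (CommRingCat.of k))) ⟶ X, a.IsFixedPt x := by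
  let f : G ⟶ Red.Ga (Spec (CommRingCat.of k)) := e.hom.hom.hom
  haveI : IsMonHom f := e.hom.hom.isMonHom_hom
  haveI : Mono f := inferInstanceAs (Mono ((Grp.forget _).map e.hom))
  obtain ⟨u, hu⟩ : IsUnit (toLaurent (k := k) k PowerSeries.X) :=
    IsLocalization.map_units (LaurentSeries k) (⟨PowerSeries.X, 1, pow_one _⟩ : Submonoid.powers (PowerSeries.X : PowerSeries k))
  obtain ⟨y, hy⟩ := (val_bijective (k := k) (R := LaurentSeries k)).2 (↑u⁻¹ : LaurentSeries k)
  obtain ⟨w₀, hw₀⟩ := exists_gaFn (S := Spec (CommRingCat.of k)) y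
  refine exists_isFixedPt x₀ a (w₀ ≫ e.inv.hom.hom) fun R _ _ g => ?_
  let r := val (Red.gaFn (g ≫ f))
  let v : PowerSeries R := PowerSeries.invOfUnit (1 + PowerSeries.C r * PowerSeries.X) 1
  have hv : (1 + PowerSeries.C r * PowerSeries.X) * v = 1 := PowerSeries.mul_invOfUnit _ _ (by simp)
  have huσ : IsUnit (toLaurent (k := k) R (PowerSeries.X * v)) := by
    rw [map_mul]
    exact (IsLocalization.map_units (LaurentSeries R) (⟨PowerSeries.X, 1, pow_one _⟩ :
      Submonoid.powers (PowerSeries.X : PowerSeries R))).mul ((IsUnit.of_mul_eq_one_right _ hv).map _)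
  refine ⟨PowerSeries.X * v, by simp, huσ, fun ψ hψ jl hjl => ?_⟩
  have he : e.inv.hom.hom ≫ f = 𝟙 _ := congrArg (fun m => m.hom.hom) e.inv_hom_id
  rw [← cancel_mono f, MonObj.mul_comp]
  simp only [Category.assoc, he, Category.comp_id]
  refine gaFn_injective (val_bijective.1 (huσ.mul_left_injective ?_))
  rw [gaFn_mul, map_add, val_gaFn, val_gaFn, val_gaFn, hw₀, hy]
  have h1 : ψ ↑u⁻¹ * toLaurent (k := k) R (PowerSeries.X * v) = 1 := by
    rw [← hψ, ← map_mul, ← hu, Units.inv_mul, map_one]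
  have h2 : jl ↑u⁻¹ * toLaurent (k := k) R PowerSeries.X = 1 := by
    rw [← hjl, ← map_mul, ← hu, Units.inv_mul, map_one]
  show (toLaurent (k := k) R (cst (k := k) R r) + jl ↑u⁻¹) * toLaurent (k := k) R (PowerSeries.X * v) =
    ψ ↑u⁻¹ * toLaurent (k := k) R (PowerSeries.X * v)
  rw [h1, add_mul, map_mul, ← _root_.mul_assoc (jl _), h2, _root_.one_mul, ← map_mul, ← map_mul, ← map_add]
  rw [show cst (k := k) R r * (PowerSeries.X * v) + v = (1 + PowerSeries.C r * PowerSeries.X) * v by
    show PowerSeries.C r * _ + _ = _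
    ring, hv, map_one]

end Groth.Agent.AlgGrpLib.BorelOne
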