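import Groth.Agent.AlgGrpLib.NoTorus
import Groth.Agent.DynLib.Field
import Groth.Agent.S3267

/-!
# Integral groups with central cocharacters are trigonalizable, hence solvable

A central cocharacter acts on a simple representation by a scalar; the character of a stabiliser on
its line is then, up to finite order, the restriction of a power of the determinant.
-/

set_option autoImplicit false
set_option backward.isDefEq.respectTransparency.types false
set_option maxHeartbeats 800000
set_option linter.style.haveILetI false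

universe u

open LaurentPolynomial TensorProduct WithConv Matrix HopfRep Groth.Agent.HopfLib
open Groth.Agent.DynLib (Pt push conj pre tee cst)
open Groth.Agent.AlgGrpLib.GrassAction (IsCorep isCorep_basis)
open Coalgebra (comul counit)

noncomputable section

namespace Groth.Agent.AlgGrpLib.CentralTorus

variable {k : Type u} [Field k] {C : Type u} [CommRing C] [HopfAlgebra k C]

/-- A cocharacter commuting with the universal point. -/
def IsCentralCochar (lam : C →ₐc[k] k[T;T⁻¹]) : Prop :=
  pre lam (tee k C) * push (cst k C) (toConv (AlgHom.id k C)) =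
    push (cst k C) (toConv (AlgHom.id k C)) * pre lam (tee k C)

/-- A group-like element in a domain of finite order is trivial. -/
theorem eq_one_of_pow [IsAlgClosed k] [IsDomain C] {d : C} (hd : IsGroupLikeElem k d) {m : ℕ} (hm : 0 < m)
    (hdm : d ^ m = 1) : d = 1 := by
  have halg : IsIntegral k d := IsIntegral.of_pow hm (hdm ▸ isIntegral_one)
  obtain ⟨c, hc⟩ := minpoly.mem_range_of_degree_eq_one k d
    (IsAlgClosed.degree_eq_one_of_irreducible k (minpoly.irreducible halg))
  have := hd.counit_eq_one
  rw [← hc, Bialgebra.counit_algebraMap] at this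
  rw [← hc, this, map_one]

/-- A group-like element killed by all cocharacters of an integral trigonalizable group is trivial. -/
theorem eq_one_of_cochar [IsAlgClosed k] [Algebra.FiniteType k C] [IsDomain C] (hTr : IsTrigonalizable k C) {q : C}
    (hq : IsGroupLikeElem k q) (h : ∀ θ : C →ₐc[k] k[T;T⁻¹], θ q = 1) : q = 1 := by
  classical
  obtain ⟨D, _, _, ψ, J, hJH, hψ, hD, hJ, hU⟩ := (S7967.result k C).1 hTr
  haveI := hJH
  have hDiag := SGA3bLib.isDiag_of_span_groupLike hD
  obtain ⟨r, hr⟩ := S4128.result k C D hDiag ψ hψ J hJ hU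
  have hrψ : ∀ d, r (ψ d) = d := fun d => congrArg (fun f : D →ₐc[k] D => f d) hr
  haveI : IsDomain D := Function.Injective.isDomain (ψ : D →+* C) hψ
  haveI : Algebra.FiniteType k D := Algebra.FiniteType.of_surjective (r : C →ₐ[k] D) fun d => ⟨ψ d, hrψ d⟩
  -- `r q = 1`
  have hrq : r q = 1 := by
    obtain ⟨M, _, ⟨e⟩⟩ := hDiag
    haveI : Algebra.FiniteType k (MonoidAlgebra k M) :=
      Algebra.FiniteType.of_surjective (e : D →ₐ[k] MonoidAlgebra k M) (EquivLike.surjective e)
    haveI : Group.FG M := MonoidAlgebra.finiteType_iff_group_fg.1 ‹_›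
    haveI : IsMulTorsionFree M := ⟨fun n hn a b hab => by
      have h1 : (a / b) ^ n = 1 := by
        rw [div_pow]
        exact div_eq_one.2 hab
      have h2 : e.symm (MonoidAlgebra.single (a / b) 1) = 1 := by
        refine eq_one_of_pow (k := k) ?_ (Nat.pos_of_ne_zero hn) ?_
        · exact (show IsGroupLikeElem k (MonoidAlgebra.single (a / b) (1 : k)) from ⟨by simp, by simp⟩).map e.symm
        · rw [← map_pow, MonoidAlgebra.single_pow, one_pow, h1, ← MonoidAlgebra.one_def, map_one]
      have h3 := congrArg e h2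
      rw [BialgEquiv.apply_symm_apply, map_one, MonoidAlgebra.one_def] at h3
      exact div_eq_one.1 (MonoidAlgebra.of_injective (R := k) h3)⟩
    haveI : Module.Finite ℤ (Additive M) := Module.Finite.iff_addGroup_fg.2 inferInstance
    haveI : Module.Free ℤ (Additive M) := Module.free_of_finite_type_torsion_free'
    have hsingle : ∀ d : D, IsGroupLikeElem k d → ∃ m : M, e d = MonoidAlgebra.single m 1 := fun d hd => by
      obtain ⟨m, hm⟩ := MonoidAlgebra.isGroupLikeElem_iff_mem_range_of.1 (hd.map e)
      exact ⟨m, hm.symm⟩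
    obtain ⟨m, hm⟩ := hsingle (r q) (hq.map r)
    suffices hm1 : m = 1 by
      apply e.toEquiv.injective
      show e (r q) = e 1
      rw [hm, hm1, map_one, MonoidAlgebra.one_def]
    let b := Module.Free.chooseBasis ℤ (Additive M)
    refine Additive.ofMul.injective (b.repr.injective (Finsupp.ext fun i => ?_))
    let f : M →* k[T;T⁻¹] :=
      { toFun := fun a => T (b.coord i (Additive.ofMul a))
        map_one' := by simp
        map_mul' := fun a c => by rw [ofMul_mul, map_add, T_add] }
    let φ₀ : MonoidAlgebra k M →ₐ[k] k[T;T⁻¹] := MonoidAlgebra.lift k k[T;T⁻¹] M f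
    let φ : MonoidAlgebra k M →ₐc[k] k[T;T⁻¹] := BialgHom.ofAlgHom φ₀
      (MonoidAlgebra.algHom_ext (single_one_left := Subsingleton.elim _ _) fun a => by
        simp [φ₀, f, LaurentPolynomial.counit_T])
      (MonoidAlgebra.algHom_ext (single_one_left := Subsingleton.elim _ _) fun a => by
        simp [φ₀, f, LaurentPolynomial.comul_T])
    have hh := h ((φ.comp (e : D →ₐc[k] MonoidAlgebra k M)).comp r)
    have h4 : T (b.coord i (Additive.ofMul m)) = (1 : k[T;T⁻¹]) := by
      have : φ (e (r q)) = 1 := hh
      rw [hm] at this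
      simpa [φ, φ₀, f] using this
    have h5 : b.coord i (Additive.ofMul m) = 0 := by
      by_contra hne
      have h4' : (AddMonoidAlgebra.single (b.coord i (Additive.ofMul m)) 1 : k[T;T⁻¹]) = AddMonoidAlgebra.single 0 1 :=
        h4.trans T_zero.symm
      have h6 := congrArg (fun p : k[T;T⁻¹] => p.coeff 0) h4'
      simp only [AddMonoidAlgebra.coeff_single, Finsupp.single_apply, if_neg hne, if_true] at h6
      exact zero_ne_one h6
    simpa using h5
  -- hence `q = 1`
  let S : Subalgebra k C := (ψ : D →ₐ[k] C).range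
  have hS : SGA3.IsHopfSubalgebra k C S := by
    refine ⟨?_, ?_⟩
    · rintro _ ⟨d, rfl⟩
      show CoalgebraStruct.comul (R := k) ((ψ : D →ₐ[k] C) d) ∈ _
      rw [show CoalgebraStruct.comul (R := k) ((ψ : D →ₐ[k] C) d) = _ from (CoalgHomClass.map_comp_comul_apply ψ d).symm]
      generalize CoalgebraStruct.comul (R := k) d = t
      induction t using TensorProduct.induction_on with
      | zero => simp
      | add p p' hp hp' => rw [map_add]; exact add_mem hp hp'
      | tmul p p' => exact ⟨(⟨_, p, rfl⟩ : S) ⊗ₜ (⟨_, p', rfl⟩ : S), rfl⟩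
    · rintro _ ⟨d, rfl⟩
      exact ⟨_, map_antipode' ψ d⟩
  have hJS : J = SGA3.augIdealSpan k C S := by
    rw [hJ]
    refine congrArg Ideal.span (Set.ext fun a => ⟨?_, ?_⟩)
    · rintro ⟨d, hd, rfl⟩
      exact ⟨⟨d, rfl⟩, (CoalgHomClass.counit_comp_apply ψ d).trans hd⟩
    · rintro ⟨⟨d, rfl⟩, hd⟩
      exact ⟨d, (CoalgHomClass.counit_comp_apply ψ d).symm.trans hd, rfl⟩
  have hqJ : Ideal.Quotient.mk J q = 1 := by
    have hgl : IsGroupLikeElem k (Ideal.Quotient.mk J q) := hq.map (Bialgebra.Quotient.mkBialgHom (R := k) J)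
    obtain ⟨s, hs⟩ := HopfQuot.isUnipotent_iff_forall_mem_socFil.1 hU (Ideal.Quotient.mk J q)
    exact UnipStruct.eq_one_of_mem_socFil hgl hs
  have hinv : q ∈ HopfQuot.invAlg k J := by
    rw [HopfQuot.mem_invAlg, HopfQuot.shift_eq, hq.comul_eq_tmul_self, LinearMap.lTensor_tmul]
    exact congrArg (fun z => q ⊗ₜ[k] z) hqJ
  rw [hJS, HopfQuot.invAlg_eq_of_augIdealSpan hS] at hinv
  obtain ⟨d, hd⟩ := hinv
  have : d = 1 := by rw [← hrψ d, show ψ d = q from hd, hrq]
  rw [← hd, this, map_one]

theorem lam_groupLike_ne_zero {lam : C →ₐc[k] k[T;T⁻¹]} {u : C} (hu : IsGroupLikeElem k u) : lam u ≠ 0 :=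
  (hu.map lam).ne_zero

variable [IsAlgClosed k]

/-- A central cocharacter acts on a simple representation by a scalar. -/
theorem exists_scalar {V : Type u} [AddCommGroup V] [Module k V] [Comod k C V] [Module.Finite k V]
    (hs : IsSimpleComod k C V) (b : Module.Basis (Fin (Module.finrank k V)) k V) {lam : C →ₐc[k] k[T;T⁻¹]}
    (hlam : IsCentralCochar lam) :
    ∃ P : k[T;T⁻¹], ∀ s t, lam (HopfLib.cf (A := C) (b.coord s) (b t)) = if s = t then P else 0 := by
  classical
  have := hs.1
  let a : Fin (Module.finrank k V) → Fin (Module.finrank k V) → C := fun s t => HopfLib.cf (A := C) (b.coord s) (b t)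
  have ha : IsCorep (k := k) a := isCorep_basis b
  -- entrywise commutation
  have hcomm : ∀ (s u : Fin (Module.finrank k V)) (j : ℤ),
      ∑ t, (algebraMap k C ((lam (a s t)).coeff j)) * a t u = ∑ t, a s t * algebraMap k C ((lam (a t u)).coeff j) := by
    intro s u j
    have h1 := congrArg (fun p : Pt k C C[T;T⁻¹] => (p.ofConv (a s u)).coeff j) hlam
    have e : ∀ p p' : Pt k C C[T;T⁻¹], (p * p').ofConv (a s u) = ∑ t, p.ofConv (a s t) * p'.ofConv (a t u) := by
      intro p p'
      rw [AlgHom.convMul_apply, ha.2, map_sum]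
      exact Finset.sum_congr rfl fun t _ => Algebra.TensorProduct.lift_tmul _ _ _ _ _
    simp only [e] at h1
    have hl : ∀ x : C, (pre lam (tee k C)).ofConv x = tee k C (lam x) := fun x => rfl
    have hr : ∀ x : C, (push (cst k C) (toConv (AlgHom.id k C))).ofConv x = LaurentPolynomial.C x := fun x =>
      DynLib.cst_apply x
    simp only [hl, hr] at h1
    have hC : ∀ x : C, LaurentPolynomial.C x = (AddMonoidAlgebra.single 0 x : C[T;T⁻¹]) := fun x => rfl
    simp only [AddMonoidAlgebra.coeff_sum, Finset.sum_apply', hC] at h1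
    have hc : ∀ (p : k[T;T⁻¹]) (i : ℤ), (tee k C p).coeff i = algebraMap k C (p.coeff i) := fun p i => by
      simp [tee, AddMonoidAlgebra.mapAlgHom, Algebra.ofId_apply]
    simpa only [hc, AddMonoidAlgebra.coeff_single_zero_mul, AddMonoidAlgebra.coeff_mul_single_zero] using h1
  -- each weight component is scalar
  have hscal : ∀ j : ℤ, ∃ c : k, ∀ s t, (lam (a s t)).coeff j = if s = t then c else 0 := by
    intro j
    let L : V →ₗ[k] V := b.constr k fun t => ∑ s, ((lam (a s t)).coeff j) • b s
    have hb : ∀ t, Comod.coact (k := k) (A := C) (b t) = ∑ l, b l ⊗ₜ[k] a l t := by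
      intro t
      simp only [a, HopfLib.cf_apply]
      generalize Comod.coact (k := k) (A := C) (b t) = z
      induction z using TensorProduct.induction_on with
      | zero => simp
      | add p r hp hr => simp only [map_add, TensorProduct.tmul_add, Finset.sum_add_distrib, ← hp, ← hr]
      | tmul p y =>
        simp only [HopfLib.sliceL_tmul, TensorProduct.tmul_smul]
        conv_lhs => rw [← b.sum_repr p]
        rw [TensorProduct.sum_tmul]
        simp [TensorProduct.smul_tmul']
    have hL : Hoch.IsComodHom C L := by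
      refine b.ext fun u => ?_
      show Comod.coact (L (b u)) = LinearMap.rTensor C L (Comod.coact (b u))
      symm
      rw [hb, map_sum]
      simp only [LinearMap.rTensor_tmul, L, Module.Basis.constr_basis, map_sum, map_smul, hb,
        TensorProduct.sum_tmul, Finset.smul_sum]
      rw [Finset.sum_comm, Finset.sum_comm (γ := Fin (Module.finrank k V)) (f := fun s l => _ • (b l ⊗ₜ[k] a l s))]
      refine Finset.sum_congr rfl fun l _ => ?_
      simp only [← TensorProduct.smul_tmul', ← TensorProduct.tmul_smul, ← TensorProduct.tmul_sum, Algebra.smul_def]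
      refine congrArg (fun z => b l ⊗ₜ[k] z) ?_
      rw [hcomm l u j]
      exact Finset.sum_congr rfl fun t _ => mul_comm _ _
    obtain ⟨c, hc⟩ := Module.End.exists_eigenvalue (L : Module.End k V)
    obtain ⟨v, hv⟩ := hc.exists_hasEigenvector
    have hW : IsSubcomod (k := k) (A := C) (LinearMap.ker (L - c • LinearMap.id)) := by
      refine HopfLib.isSubcomod_iff_hit.2 fun g w hw => ?_
      rw [LinearMap.mem_ker, LinearMap.sub_apply, LinearMap.smul_apply, LinearMap.id_apply, sub_eq_zero] at hw ⊢
      rw [HopfLib.isComodHom_iff_hit.1 hL g w, hw, map_smul]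
    have htop : LinearMap.ker (L - c • LinearMap.id) = ⊤ := by
      rcases hs.2 _ hW with h0 | h0
      · refine absurd ?_ hv.2
        have : v ∈ LinearMap.ker (L - c • LinearMap.id) := by
          rw [LinearMap.mem_ker, LinearMap.sub_apply, LinearMap.smul_apply, LinearMap.id_apply, sub_eq_zero]
          exact hv.apply_eq_smul
        rwa [h0, Submodule.mem_bot] at this
      · exact h0
    refine ⟨c, fun s t => ?_⟩
    have h1 : L (b t) = c • b t := by
      have : b t ∈ LinearMap.ker (L - c • LinearMap.id) := htop ▸ Submodule.mem_top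
      rwa [LinearMap.mem_ker, LinearMap.sub_apply, LinearMap.smul_apply, LinearMap.id_apply, sub_eq_zero] at this
    have h2 := congrArg (fun z => b.repr z s) h1
    simpa [L, Finsupp.single_apply, eq_comm (a := t)] using h2
  obtain ⟨i₀⟩ : Nonempty (Fin (Module.finrank k V)) := ⟨⟨0, Module.finrank_pos⟩⟩
  refine ⟨lam (a i₀ i₀), fun s t => ?_⟩
  refine AddMonoidAlgebra.ext (Finsupp.ext fun j => ?_)
  obtain ⟨c, hc⟩ := hscal j
  by_cases hst : s = t
  · subst hst
    rw [if_pos rfl]
    exact ((hc s s).trans (if_pos rfl)).trans ((hc i₀ i₀).trans (if_pos rfl)).symm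
  · rw [if_neg hst]
    exact ((hc s t).trans (if_neg hst))

/-- Equal powers in an integral algebra differ by a constant. -/
theorem exists_algebraMap_mul {D : Type u} [CommRing D] [IsDomain D] [Algebra k D] {x y : D} (hy : y ≠ 0) {N : ℕ}
    (hN : 0 < N) (h : x ^ N = y ^ N) : ∃ ζ : k, x = algebraMap k D ζ * y := by
  let K := FractionRing D
  have hy' : algebraMap D K y ≠ 0 := fun h0 => hy (IsFractionRing.injective D K (by rw [h0, map_zero]))
  have halg : IsIntegral k (algebraMap D K x / algebraMap D K y) := by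
    refine IsIntegral.of_pow hN ?_
    rw [div_pow, ← map_pow, ← map_pow, h, div_self (by rw [map_pow]; exact pow_ne_zero _ hy')]
    exact isIntegral_one
  obtain ⟨ζ, hζ⟩ := minpoly.mem_range_of_degree_eq_one k _
    (IsAlgClosed.degree_eq_one_of_irreducible k (minpoly.irreducible halg))
  refine ⟨ζ, IsFractionRing.injective D K ?_⟩
  rw [map_mul, ← IsScalarTower.algebraMap_apply k D K, hζ, div_mul_cancel₀ _ hy']

theorem isTrigonalizable_of_forall_quotient [Algebra.FiniteType k C] [IsDomain C]
    (hc : ∀ lam : C →ₐc[k] k[T;T⁻¹], IsCentralCochar lam)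
    (h : ∀ (D : Type u) (_ : CommRing D) (_ : HopfAlgebra k D) (π : C →ₐc[k] D), IsDomain D →
      Function.Surjective π → ¬ Function.Injective π → IsTrigonalizable k D) :
    IsTrigonalizable k C := by
  classical
  intro V _ _ _ hfin hs
  have := hs.1
  let n := Module.finrank k V
  let b := Module.finBasis k V
  let a : Fin n → Fin n → C := fun s t => HopfLib.cf (A := C) (b.coord s) (b t)
  have ha : IsCorep (k := k) a := isCorep_basis b
  obtain ⟨v, hv, I, hI, g, hg, hconst⟩ := NoTorus.exists_stable_line (Module.finrank_pos (R := k) (M := V)) ha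
  let F : Fin n → C := fun l => ∑ t, a l t * algebraMap k C (v t)
  have hεF : ∀ l, counit (R := k) (F l) = v l := fun l => by
    simp only [F, map_sum, Bialgebra.counit_mul, Bialgebra.counit_algebraMap, ha.1, ite_mul, _root_.one_mul,
      zero_mul, Finset.sum_ite_eq, Finset.mem_univ, if_true]
  have hΔF : ∀ l, comul (R := k) (F l) = ∑ j, a l j ⊗ₜ[k] F j := fun l => by
    simp only [F, map_sum, Bialgebra.comul_mul, Bialgebra.comul_algebraMap, ha.2, Finset.sum_mul,
      TensorProduct.tmul_sum]
    rw [Finset.sum_comm]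
    refine Finset.sum_congr rfl fun j _ => Finset.sum_congr rfl fun t _ => ?_
    rw [Algebra.TensorProduct.algebraMap_apply', Algebra.TensorProduct.tmul_mul_tmul, _root_.mul_one]
  obtain ⟨χ, hχ⟩ : ∃ χ : C, ∀ l, F l = χ * algebraMap k C (v l) := by
    by_cases hbot : I = ⊥
    · obtain ⟨χ, rfl⟩ := Ideal.Quotient.mk_surjective g
      refine ⟨χ, fun l => sub_eq_zero.1 ((Submodule.mem_bot C).1 ?_)⟩
      rw [← hbot, ← Ideal.Quotient.eq]
      exact (hg l).trans (map_mul (Ideal.Quotient.mk I) χ _).symm
    haveI := hI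
    haveI : Algebra.FiniteType k (C ⧸ I) :=
      Algebra.FiniteType.of_surjective (Ideal.Quotient.mkₐ k I) Ideal.Quotient.mk_surjective
    let π : C →ₐc[k] C ⧸ I := Bialgebra.Quotient.mkBialgHom (R := k) I
    obtain ⟨i, hi⟩ : ∃ i, v i ≠ 0 := Function.ne_iff.1 hv
    have hg' : ∀ l, π (F l) = g * algebraMap k (C ⧸ I) (v l) := hg
    have hΔπ : ∀ l, Algebra.TensorProduct.map (AlgHom.id k C) (π : C →ₐ[k] C ⧸ I) (comul (R := k) (F l)) = F l ⊗ₜ g := by
      intro l
      rw [hΔF, map_sum]
      simp only [Algebra.TensorProduct.map_tmul, AlgHom.id_apply]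
      rw [show F l = ∑ j, a l j * algebraMap k C (v j) from rfl, TensorProduct.sum_tmul]
      refine Finset.sum_congr rfl fun j _ => ?_
      rw [show (π : C →ₐ[k] C ⧸ I) (F j) = g * algebraMap k (C ⧸ I) (v j) from hg' j, mul_comm g,
        ← Algebra.smul_def, mul_comm (a l j), ← Algebra.smul_def, TensorProduct.tmul_smul, TensorProduct.smul_tmul']
    have hgl : IsGroupLikeElem k g := by
      have hu : g = (v i)⁻¹ • π (F i) := by
        rw [hg', mul_comm, ← Algebra.smul_def, smul_smul, inv_mul_cancel₀ hi, one_smul]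
      refine ⟨?_, ?_⟩
      · rw [hu, map_smul, CoalgHomClass.counit_comp_apply, hεF, smul_eq_mul, inv_mul_cancel₀ hi]
      · conv_lhs => rw [hu]
        rw [map_smul, ← CoalgHomClass.map_comp_comul_apply, show TensorProduct.map (π : C →ₗ[k] C ⧸ I)
          (π : C →ₗ[k] C ⧸ I) (comul (R := k) (F i)) = (v i) • (g ⊗ₜ[k] g) from ?_, smul_smul, inv_mul_cancel₀ hi,
          one_smul]
        have e : ∀ z : C ⊗[k] C, TensorProduct.map (π : C →ₗ[k] C ⧸ I) (π : C →ₗ[k] C ⧸ I) z =
            Algebra.TensorProduct.map (π : C →ₐ[k] C ⧸ I) (AlgHom.id k (C ⧸ I))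
              (Algebra.TensorProduct.map (AlgHom.id k C) (π : C →ₐ[k] C ⧸ I) z) := fun z => by
          induction z using TensorProduct.induction_on with
          | zero => simp
          | add p q hp hq => simp only [map_add, hp, hq]
          | tmul p q => rfl
        rw [e, hΔπ, Algebra.TensorProduct.map_tmul, AlgHom.id_apply,
          show (π : C →ₐ[k] C ⧸ I) (F i) = g * algebraMap k (C ⧸ I) (v i) from hg' i, mul_comm, ← Algebra.smul_def,
          TensorProduct.smul_tmul']
    -- the determinant
    let A : Matrix (Fin n) (Fin n) C := Matrix.of a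
    let u := A.det
    have hu : IsGroupLikeElem k u := by
      refine ⟨?_, ?_⟩
      · show Bialgebra.counitAlgHom k C u = 1
        rw [AlgHom.map_det]
        convert Matrix.det_one (n := Fin n) (R := k)
        ext s t
        simp [A, ha.1, Matrix.one_apply]
      · show Bialgebra.comulAlgHom k C u = u ⊗ₜ u
        have hm : (Bialgebra.comulAlgHom k C).mapMatrix A =
            (Algebra.TensorProduct.includeLeft : C →ₐ[k] C ⊗[k] C).mapMatrix A *
              (Algebra.TensorProduct.includeRight : C →ₐ[k] C ⊗[k] C).mapMatrix A := by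
          ext s t
          simp [A, ha.2, Matrix.mul_apply]
        rw [AlgHom.map_det, hm, Matrix.det_mul, ← AlgHom.map_det, ← AlgHom.map_det,
          Algebra.TensorProduct.includeLeft_apply, Algebra.TensorProduct.includeRight_apply,
          Algebra.TensorProduct.tmul_mul_tmul, _root_.mul_one, _root_.one_mul]
    let σ : C := HopfAlgebra.antipode k u
    have hσ : σ * u = 1 := hu.antipode_mul_cancel
    have hσgl : IsGroupLikeElem k σ := by
      refine ⟨?_, ?_⟩
      · have h1 := congrArg (counit (R := k)) hσ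
        rwa [Bialgebra.counit_mul, hu.counit_eq_one, _root_.mul_one, Bialgebra.counit_one] at h1
      · have h1 : comul (R := k) σ * (u ⊗ₜ u) = 1 := by
          rw [← hu.comul_eq_tmul_self, ← Bialgebra.comul_mul, hσ, Bialgebra.comul_one]
        have h2 : (σ ⊗ₜ[k] σ) * (u ⊗ₜ u) = 1 := by
          rw [Algebra.TensorProduct.tmul_mul_tmul, hσ]
          rfl
        calc comul (R := k) σ = comul (R := k) σ * ((σ ⊗ₜ[k] σ) * (u ⊗ₜ u)) := by rw [h2, _root_.mul_one]
          _ = (σ ⊗ₜ[k] σ) * (comul (R := k) σ * (u ⊗ₜ u)) := by ring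
          _ = σ ⊗ₜ σ := by rw [h1, _root_.mul_one]
    let q : C ⧸ I := g ^ n * π σ
    have hqgl : IsGroupLikeElem k q := hgl.pow.mul (hσgl.map π)
    obtain ⟨P, hP, hPp, hfinord⟩ := GroupLikeOrder.exists_component (k := k) (B := C ⧸ I)
    haveI := hP
    haveI := hPp
    let ρ₀ : (C ⧸ I) →ₐc[k] (C ⧸ I) ⧸ P := Bialgebra.Quotient.mkBialgHom (R := k) P
    let ρ : C →ₐc[k] (C ⧸ I) ⧸ P := ρ₀.comp π
    haveI : Algebra.FiniteType k ((C ⧸ I) ⧸ P) :=
      Algebra.FiniteType.of_surjective (Ideal.Quotient.mkₐ k P) Ideal.Quotient.mk_surjective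
    have hTrD : IsTrigonalizable k ((C ⧸ I) ⧸ P) := by
      refine h _ _ _ ρ inferInstance (Ideal.Quotient.mk_surjective.comp Ideal.Quotient.mk_surjective) fun hinj => ?_
      obtain ⟨z, hz, hz0⟩ := Submodule.exists_mem_ne_zero_of_ne_bot hbot
      refine hz0 (hinj ?_)
      rw [map_zero]
      show Ideal.Quotient.mk P (Ideal.Quotient.mk I z) = 0
      rw [Ideal.Quotient.eq_zero_iff_mem.2 hz, map_zero]
    have hqP : q - 1 ∈ P := by
      have h1 : ρ₀ q = 1 := by
        refine eq_one_of_cochar hTrD (hqgl.map ρ₀) fun θ => ?_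
        obtain ⟨Q, hQ⟩ := exists_scalar hs b (hc (θ.comp ρ))
        let lam := θ.comp ρ
        have hg1 : θ (ρ₀ g) = Q := by
          have e1 : lam (F i) = θ (ρ₀ g) * algebraMap k k[T;T⁻¹] (v i) := by
            show θ (ρ₀ (π (F i))) = _
            rw [hg', map_mul, map_mul, AlgHomClass.commutes, AlgHomClass.commutes]
          have e2 : lam (F i) = Q * algebraMap k k[T;T⁻¹] (v i) := by
            simp only [F, map_sum, map_mul, AlgHomClass.commutes]
            rw [Finset.sum_eq_single i (fun t _ ht => by rw [show lam (a i t) = _ from hQ i t, if_neg (Ne.symm ht), zero_mul])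
              (fun h => absurd (Finset.mem_univ i) h), show lam (a i i) = _ from hQ i i, if_pos rfl]
          refine (IsUnit.mul_left_inj ?_).1 (e1.symm.trans e2)
          exact (isUnit_iff_ne_zero.2 hi).map _
        have hu1 : lam u = Q ^ n := by
          show (lam : C →ₐ[k] k[T;T⁻¹]) A.det = _
          rw [AlgHom.map_det, show (lam : C →ₐ[k] k[T;T⁻¹]).mapMatrix A = Matrix.diagonal fun _ => Q from
            Matrix.ext fun s t => (hQ s t).trans (by rw [Matrix.diagonal_apply]), Matrix.det_diagonal,
            Finset.prod_const, Finset.card_univ, Fintype.card_fin]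
        show θ (ρ₀ (g ^ n * π σ)) = 1
        rw [map_mul, map_mul, map_pow, map_pow, hg1, ← hu1, show θ (ρ₀ (π σ)) = lam σ from rfl, ← map_mul, mul_comm,
          hσ, map_one]
      exact Ideal.Quotient.eq.1 (h1.trans (map_one (Ideal.Quotient.mk P)).symm)
    obtain ⟨M, hM, hqM⟩ := hfinord q hqgl hqP
    have hn : 0 < n := Module.finrank_pos
    have hpow : ∀ l, ∃ c : k, F l ^ (n * M) = algebraMap k C c * u ^ M := by
      intro l
      obtain ⟨c, hc'⟩ := hconst ((F l ^ n * σ) ^ M) (by
        have h1 : Algebra.TensorProduct.map (AlgHom.id k C) (π : C →ₐ[k] C ⧸ I) (comul (R := k) σ) = σ ⊗ₜ π σ := by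
          rw [hσgl.comul_eq_tmul_self]
          rfl
        rw [Bialgebra.comul_pow, Bialgebra.comul_mul, Bialgebra.comul_pow, map_pow, map_mul, map_pow]
        refine (congrArg₂ (fun x y => (x ^ n * y) ^ M) (hΔπ l) h1).trans ?_
        rw [Algebra.TensorProduct.tmul_pow, Algebra.TensorProduct.tmul_mul_tmul, Algebra.TensorProduct.tmul_pow, hqM])
      refine ⟨c, ?_⟩
      rw [← hc', ← mul_pow, _root_.mul_assoc, hσ, _root_.mul_one, ← pow_mul]
    have hune : u ≠ 0 := hu.ne_zero
    have hFv : ∀ l, F l ^ (n * M) = algebraMap k C (v l ^ (n * M)) * u ^ M := fun l => by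
      obtain ⟨c, hc'⟩ := hpow l
      have h1 := congrArg (counit (R := k)) hc'
      rw [Bialgebra.counit_pow, hεF, Bialgebra.counit_mul, Bialgebra.counit_algebraMap, Bialgebra.counit_pow,
        hu.counit_eq_one, one_pow, _root_.mul_one] at h1
      rw [hc', h1]
    have hFi : F i ≠ 0 := fun h0 => hi (by rw [← hεF i, h0, map_zero])
    refine ⟨F i * algebraMap k C (v i)⁻¹, fun l => ?_⟩
    obtain ⟨ζ, hζ⟩ := exists_algebraMap_mul (k := k) hFi (Nat.mul_pos hn hM)
      (x := algebraMap k C (v i) * F l * algebraMap k C (v i)⁻¹) (y := F i) (N := n * M) |> fun f =>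
        show ∃ ζ : k, algebraMap k C (v i) * F l = algebraMap k C ζ * F i by
          by_cases hl : v l = 0
          · refine ⟨0, ?_⟩
            have h0 := hFv l
            rw [hl, zero_pow (Nat.mul_pos hn hM).ne', map_zero, zero_mul] at h0
            rw [(pow_eq_zero_iff (Nat.mul_pos hn hM).ne').1 h0, mul_zero, map_zero, zero_mul]
          · obtain ⟨ζ, hζ⟩ := exists_algebraMap_mul (k := k) (y := algebraMap k C (v l) * F i)
              (x := algebraMap k C (v i) * F l)
              (mul_ne_zero ((map_ne_zero_iff _ (algebraMap k C).injective).2 hl) hFi) (Nat.mul_pos hn hM)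
              (by rw [mul_pow, mul_pow, hFv, hFv, ← map_pow, ← map_pow]; ring)
            exact ⟨ζ * v l, by rw [hζ, map_mul, _root_.mul_assoc]⟩
    have h1 := congrArg (counit (R := k)) hζ
    rw [Bialgebra.counit_mul, Bialgebra.counit_algebraMap, hεF, Bialgebra.counit_mul, Bialgebra.counit_algebraMap,
      hεF] at h1
    have hζ' : ζ = v l := mul_right_cancel₀ hi (h1.symm.trans (mul_comm _ _))
    rw [hζ'] at hζ
    calc F l = algebraMap k C (v i)⁻¹ * (algebraMap k C (v i) * F l) := by
          rw [← _root_.mul_assoc, ← map_mul, inv_mul_cancel₀ hi, map_one, _root_.one_mul]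
      _ = _ := by rw [hζ]; ring
  let w : V := ∑ l, v l • b l
  have hw : w ≠ 0 := fun h0 => hv (funext fun l => by
    have := congrArg (fun z => b.repr z l) h0
    simpa [w, Finsupp.single_apply] using this)
  have hcoact : Comod.coact (k := k) (A := C) w = w ⊗ₜ χ := by
    have hb : ∀ t, Comod.coact (k := k) (A := C) (b t) = ∑ l, b l ⊗ₜ[k] a l t := by
      intro t
      simp only [a, HopfLib.cf_apply]
      generalize Comod.coact (k := k) (A := C) (b t) = z
      induction z using TensorProduct.induction_on with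
      | zero => simp
      | add p r hp hr => simp only [map_add, TensorProduct.tmul_add, Finset.sum_add_distrib, ← hp, ← hr]
      | tmul p y =>
        simp only [HopfLib.sliceL_tmul, TensorProduct.tmul_smul]
        conv_lhs => rw [← b.sum_repr p]
        rw [TensorProduct.sum_tmul]
        simp [TensorProduct.smul_tmul']
    simp only [w, map_sum, map_smul, hb, Finset.smul_sum, TensorProduct.sum_tmul]
    rw [Finset.sum_comm]
    refine Finset.sum_congr rfl fun l _ => ?_
    rw [← TensorProduct.smul_tmul', ← TensorProduct.tmul_smul, Algebra.smul_def, mul_comm, ← hχ, TensorProduct.tmul_sum]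
    refine Finset.sum_congr rfl fun t _ => ?_
    rw [mul_comm, ← Algebra.smul_def, TensorProduct.tmul_smul]
  have hsub : IsSubcomod (k := k) (A := C) (Submodule.span k {w}) := by
    intro y hy
    obtain ⟨c, rfl⟩ := Submodule.mem_span_singleton.1 hy
    refine ⟨c • ((⟨w, Submodule.mem_span_singleton_self w⟩ : Submodule.span k {w}) ⊗ₜ χ), ?_⟩
    rw [map_smul, map_smul, LinearMap.rTensor_tmul, hcoact]
    rfl
  rcases hs.2 _ hsub with h0 | h0
  · exact absurd ((Submodule.span_singleton_eq_bot).1 h0) hw
  · rw [← finrank_top k V, ← h0, finrank_span_singleton hw]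

theorem isCentralCochar_of_surjective {D : Type u} [CommRing D] [HopfAlgebra k D] (π : C →ₐc[k] D)
    (hπ : Function.Surjective π) {lam : D →ₐc[k] k[T;T⁻¹]} (h : IsCentralCochar (lam.comp π)) :
    IsCentralCochar lam := by
  refine DynLib.pull_injective π hπ ?_
  have h' := congrArg (push (DynLib.Lmap (π : C →ₐ[k] D))) h
  rw [map_mul, map_mul, DynLib.push_pre, DynLib.Lmap_tee] at h'
  have e1 : push (DynLib.Lmap (π : C →ₐ[k] D)) (push (cst k C) (toConv (AlgHom.id k C))) =
      DynLib.pull π (push (cst k D) (toConv (AlgHom.id k D))) := by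
    rw [DynLib.push_push, DynLib.Lmap_cst]
    exact WithConv.ext (AlgHom.ext fun x => rfl)
  rw [e1] at h'
  rw [map_mul, map_mul]
  exact h'

/-- An integral group all whose cocharacters are central is trigonalizable. -/
theorem isTrigonalizable_of_central [Algebra.FiniteType k C] [IsDomain C]
    (hc : ∀ lam : C →ₐc[k] k[T;T⁻¹], IsCentralCochar lam) : IsTrigonalizable k C := by
  haveI : IsNoetherianRing C := Algebra.FiniteType.isNoetherianRing k C
  suffices key : ∀ P : Ideal C, ∀ (D : Type u) (_ : CommRing D) (_ : HopfAlgebra k D) (π : C →ₐc[k] D),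
      RingHom.ker (π : C →+* D) = P → IsDomain D → Function.Surjective π → IsTrigonalizable k D from
    key _ C _ _ (BialgHom.id k C) rfl inferInstance Function.surjective_id
  intro P
  induction P using WellFoundedGT.induction with
  | ind P ih =>
  intro D _ _ π hP hD hπ
  haveI := hD
  haveI : Algebra.FiniteType k D := Algebra.FiniteType.of_surjective (π : C →ₐ[k] D) hπ
  refine isTrigonalizable_of_forall_quotient (fun lam => isCentralCochar_of_surjective π hπ (hc _))
    fun E _ _ ρ hE hρ hρi => ?_
  refine ih _ ?_ E _ _ (ρ.comp π) rfl hE (hρ.comp hπ)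
  refine lt_of_le_of_ne (fun z hz => ?_) fun heq => hρi ?_
  · rw [← hP] at hz
    show ρ (π z) = 0
    rw [show π z = 0 from hz, map_zero]
  · rw [injective_iff_map_eq_zero]
    intro d hd
    obtain ⟨z, rfl⟩ := hπ d
    have hz : z ∈ RingHom.ker ((ρ.comp π : C →ₐc[k] E) : C →+* E) := hd
    rw [← heq, ← hP] at hz
    exact hz

theorem isSolvable_of_central [Algebra.FiniteType k C] [IsDomain C]
    (hc : ∀ lam : C →ₐc[k] k[T;T⁻¹], IsCentralCochar lam) : Group.IsSolvable (WithConv (C →ₐ[k] k)) :=
  S3267.result k C (isTrigonalizable_of_central hc)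

end Groth.Agent.AlgGrpLib.CentralTorus
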