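import Groth.Agent.AlgGrpLib.TorusFreeOrbit
import Groth.Agent.SGA3xLib.SepFibre

/-! Kernels of homomorphisms out of split tori are cut out by characters. -/

set_option autoImplicit false
set_option backward.isDefEq.respectTransparency.types false
set_option linter.style.haveILetI false

universe u

open CategoryTheory CategoryTheory.Limits MonoidalCategory CartesianMonoidalCategory MonObj AlgebraicGeometry
open TensorProduct
open Groth.Agent.SGA3cLib

namespace Groth.Agent.AlgGrpLib.CharCutOut

variable {k : Type u} [Field k] {M : Type} [AddCommGroup M] {Z : Over (Spec (CommRingCat.of k))} [GrpObj Z]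

/-- The kernel of a homomorphism from a split torus is the common zero set of the characters killing it. -/
theorem exists_subgroup_of_hom [IsSeparated Z.hom] (s : Red.DS (Spec (CommRingCat.of k)) M ⟶ Z) [IsMonHom s] :
    ∃ N : Subgroup (Multiplicative M), ∀ {W : Over (Spec (CommRingCat.of k))}
      (p : W ⟶ Red.DS (Spec (CommRingCat.of k)) M), p ≫ s = 1 ↔ ∀ m ∈ N, dsFn p m = 1 := by
  classical
  let G := Multiplicative M
  let A : CommRingCat.{u} := CommRingCat.of (MonoidAlgebra k G)
  let C : CommRingCat.of k ⟶ A := CommRingCat.ofHom (algebraMap k (MonoidAlgebra k G))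
  let W₀ : Over (Spec (CommRingCat.of k)) := Over.mk (Spec.map C)
  obtain ⟨p₀, hp₀⟩ := exists_dsPt (W := W₀)
    ((Scheme.ΓSpecIso A).inv.hom.toMonoidHom.comp (MonoidAlgebra.of k G))
  obtain ⟨I, hI⟩ := Groth.Agent.AlgGrpLib.TorusFreeOrbit.exists_equalizer_ideal (A := A) (h := Spec.map C)
    (p₀ ≫ s) (1 : W₀ ⟶ Z)
  let Fix : ∀ (B : Type u) [CommRing B] [Algebra k B], (G →* B) → Prop :=
    fun B _ _ χ => ∀ z ∈ I, MonoidAlgebra.lift k B G χ z = 0
  have key : ∀ (W : Over (Spec (CommRingCat.of k))) (p : W ⟶ Red.DS _ M),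
      p ≫ s = 1 ↔ (letI := (theta W.hom).toAlgebra; Fix Γ(W.left, ⊤) (dsFn p)) := by
    intro W p
    letI := (theta W.hom).toAlgebra
    let L : MonoidAlgebra k G →ₐ[k] Γ(W.left, ⊤) := MonoidAlgebra.lift k Γ(W.left, ⊤) G (dsFn p)
    have hC : C ≫ CommRingCat.ofHom L.toRingHom = CommRingCat.ofHom (theta W.hom) :=
      CommRingCat.hom_ext (RingHom.ext fun r => L.commutes r)
    let f : W ⟶ W₀ := Over.homMk (W.left.toSpecΓ ≫ Spec.map (CommRingCat.ofHom L.toRingHom)) (by
      show (W.left.toSpecΓ ≫ _) ≫ Spec.map C = W.hom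
      rw [Category.assoc, ← Spec.map_comp, hC, toSpecΓ_SpecMap_theta])
    have hfp : f ≫ p₀ = p := by
      refine dsFn_injective (MonoidHom.ext fun m => ?_)
      rw [dsFn_comp, hp₀]
      refine (appTop_toSpecΓ_SpecMap (CommRingCat.ofHom L.toRingHom) _).trans ?_
      exact MonoidAlgebra.lift_of _ m
    have hθ : ∀ z, theta f.left z = L z := fun z =>
      appTop_toSpecΓ_SpecMap (CommRingCat.ofHom L.toRingHom) z
    conv_lhs => rw [← hfp, Category.assoc]
    rw [← MonObj.comp_one (M := Z) f]
    refine (hI W f).trans (forall₂_congr fun z _ => ?_)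
    rw [hθ]

  have hnat : ∀ {B B' : Type u} [CommRing B] [Algebra k B] [CommRing B'] [Algebra k B'] (φ : B →ₐ[k] B') (χ : G →* B) (z),
      MonoidAlgebra.lift k B' G (φ.toMonoidHom.comp χ) z = φ (MonoidAlgebra.lift k B G χ z) := by
    intro B B' _ _ _ _ φ χ z
    induction z using MonoidAlgebra.induction_linear with
    | zero => simp
    | add x y hx hy => simp only [map_add, hx, hy]
    | single m r => simp
  have keyB : ∀ (B : Type u) [CommRing B] [Algebra k B],
      ∃ (W : Over (Spec (CommRingCat.of k))), (letI := (theta W.hom).toAlgebra; ∃ e : B →ₐ[k] Γ(W.left, ⊤),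
        Function.Injective e) := by
    intro B _ _
    refine ⟨Over.mk (Spec.map (CommRingCat.ofHom (algebraMap k B))), ?_⟩
    letI := (theta (Over.mk (Spec.map (CommRingCat.ofHom (algebraMap k B)))).hom).toAlgebra
    exact ⟨{ (Scheme.ΓSpecIso (CommRingCat.of B)).inv.hom with
        commutes' := fun r => (theta_SpecMap (CommRingCat.ofHom (algebraMap k B)) r).symm },
      (ConcreteCategory.bijective_of_isIso (Scheme.ΓSpecIso (CommRingCat.of B)).inv).1⟩
  have hone : Fix k 1 := by
    intro z hz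
    obtain ⟨W, e, he⟩ := keyB k
    letI := (theta W.hom).toAlgebra
    have h := (key W (1 : W ⟶ Red.DS _ M)).1 (MonObj.one_comp s) z hz
    have h1 : dsFn (1 : W ⟶ Red.DS (Spec (CommRingCat.of k)) M) = e.toMonoidHom.comp 1 :=
      MonoidHom.ext fun m => by rw [dsFn_one]; simp
    rw [h1, hnat] at h
    exact he (h.trans (map_zero e).symm)
  have hmul : ∀ (B : Type u) [CommRing B] [Algebra k B] (χ χ' : G →* B), Fix B χ → Fix B χ' → Fix B (χ * χ') := by
    intro B _ _ χ χ' hχ hχ' z hz
    obtain ⟨W, e, he⟩ := keyB B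
    letI := (theta W.hom).toAlgebra
    obtain ⟨p, hp⟩ := exists_dsPt (W := W) (e.toMonoidHom.comp χ)
    obtain ⟨p', hp'⟩ := exists_dsPt (W := W) (e.toMonoidHom.comp χ')
    have hps : p ≫ s = 1 := (key W p).2 fun y hy => by rw [hp, hnat, hχ y hy, map_zero]
    have hps' : p' ≫ s = 1 := (key W p').2 fun y hy => by rw [hp', hnat, hχ' y hy, map_zero]
    have h := (key W (p * p')).1 (by rw [MonObj.mul_comp, hps, hps', _root_.one_mul]) z hz
    have h1 : dsFn (p * p') = e.toMonoidHom.comp (χ * χ') :=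
      MonoidHom.ext fun m => by rw [dsFn_mul, hp, hp']; simp
    rw [h1, hnat] at h
    exact he (h.trans (map_zero e).symm)
  obtain ⟨N, hN1, hN2⟩ := Groth.Agent.AlgGrpLib.TorusFreeOrbit.exists_subgroup I hone (fun Q _ _ γ hγ =>
    hmul _ _ _ (fun z hz => by rw [hnat, hγ z hz, map_zero]) (fun z hz => by rw [hnat, hγ z hz, map_zero]))
  refine ⟨N, fun {W} p => ?_⟩
  letI := (theta W.hom).toAlgebra
  rw [key W p]
  refine ⟨fun h m hm => ?_, fun h z hz => ?_⟩
  · have h1 := h _ (hN1 m hm)
    rw [map_sub, map_one, sub_eq_zero, MonoidAlgebra.lift_single, one_smul] at h1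
    exact h1
  · let χ : G ⧸ N →* Γ(W.left, ⊤) := QuotientGroup.lift N (dsFn p) fun m hm => MonoidHom.mem_ker.2 (h m hm)
    have e2 : ∀ z, MonoidAlgebra.lift k Γ(W.left, ⊤) G (dsFn p) z =
        MonoidAlgebra.lift k Γ(W.left, ⊤) (G ⧸ N) χ (MonoidAlgebra.mapDomainRingHom k (QuotientGroup.mk' N) z) := by
      intro z
      induction z using MonoidAlgebra.induction_linear with
      | zero => simp
      | add x y hx hy => simp only [map_add, hx, hy]
      | single m r =>
        simp only [MonoidAlgebra.mapDomainRingHom_apply, MonoidAlgebra.mapDomain_single, MonoidAlgebra.lift_single]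
        rfl
    rw [e2, hN2 z hz, map_zero]

end Groth.Agent.AlgGrpLib.CharCutOut
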