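import Mathlib.LinearAlgebra.LinearIndependent.Defs
import Mathlib.FieldTheory.Minpoly.Basic
import Mathlib.LinearAlgebra.Dual.Lemmas
import Mathlib.FieldTheory.Galois.Basic

/-!
# Combinations of evaluations isolating one of finitely many characters
-/

set_option autoImplicit false

namespace Groth.Agent.AlgGrpLib.CharIsolate

open scoped Classical in
theorem exists_isolate {G k : Type*} [Monoid G] [Field k] (F : Finset (G →* k)) {χ₀ : G →* k} (hχ : χ₀ ∈ F) :
    ∃ l : G →₀ k, ∀ χ ∈ F, (l.sum fun g a => a * χ g) = if χ = χ₀ then 1 else 0 := by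
  classical
  let E : G → ({χ // χ ∈ F} → k) := fun g χ => χ.1 g
  have hspan : Submodule.span k (Set.range E) = ⊤ := by
    by_contra hne
    obtain ⟨f, hf0, hf⟩ := Submodule.exists_dual_map_eq_bot_of_lt_top (lt_top_iff_ne_top.2 hne) inferInstance
    let c : {χ // χ ∈ F} → k := fun χ => f (Pi.single χ 1)
    have hlin : LinearIndependent k (fun χ : {χ // χ ∈ F} => ((χ.1 : G →* k) : G → k)) :=
      (linearIndependent_monoidHom G k).comp _ Subtype.val_injective
    have hc : ∑ χ, c χ • ((χ.1 : G →* k) : G → k) = 0 := by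
      funext g
      have hEg : f (E g) = 0 := by
        have : f (E g) ∈ (Submodule.span k (Set.range E)).map f :=
          Submodule.mem_map_of_mem (Submodule.subset_span ⟨g, rfl⟩)
        rw [hf] at this
        exact this
      rw [Pi.zero_apply, Finset.sum_apply, ← hEg]
      conv_rhs => rw [pi_eq_sum_univ' (E g)]
      rw [map_sum]
      refine Finset.sum_congr rfl fun χ _ => ?_
      rw [map_smul, Pi.smul_apply, smul_eq_mul, smul_eq_mul, mul_comm]
    apply hf0
    refine LinearMap.pi_ext' fun χ => LinearMap.ext_ring ?_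
    simpa [c] using Fintype.linearIndependent_iff.1 hlin c hc χ
  obtain ⟨l, hl⟩ := (Finsupp.mem_span_range_iff_exists_finsupp).1
    (show (fun χ : {χ // χ ∈ F} => if χ.1 = χ₀ then (1 : k) else 0) ∈ Submodule.span k (Set.range E) by
      rw [hspan]; trivial)
  refine ⟨l, fun χ hχ' => ?_⟩
  have h := congrFun hl ⟨χ, hχ'⟩
  simpa [Finsupp.sum, E] using h

end Groth.Agent.AlgGrpLib.CharIsolate
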