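import Groth.Agent.AlgGrpLib.OpenOrbit
import Mathlib.Topology.JacobsonSpace

/-! Orbits of an open subgroup: over an algebraically closed field finitely many translates of an open
subgroup cover an algebraic group, so its orbit is dense as soon as the orbit of the group is. -/

set_option autoImplicit false
set_option backward.isDefEq.respectTransparency.types false

universe u

open CategoryTheory Limits MonoidalCategory CartesianMonoidalCategory MonObj AlgebraicGeometry
open Groth.Agent.AlgGrpLib Groth.Agent.AlgGrpLib.OpenOrbit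

namespace Groth.Agent.AlgGrpLib.CosetOrbit

variable {k : Type u} [Field k] {K : Type u} [Field K] [Algebra k K]

local notation "TK" => Over.mk (Spec.map (CommRingCat.ofHom (algebraMap k K)))

variable [IsAlgClosed K]

omit [IsAlgClosed K] in
theorem jacobson_tensor (Z : Over (Spec (CommRingCat.of k))) [LocallyOfFiniteType Z.hom] :
    JacobsonSpace ↥(TK ⊗ Z).left := by
  let π : (TK ⊗ Z).left ⟶ Spec (CommRingCat.of K) := (fst TK Z).left
  haveI : LocallyOfFiniteType π := inferInstanceAs (LocallyOfFiniteType (pullback.fst (TK).hom Z.hom))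
  exact LocallyOfFiniteType.jacobsonSpace π

omit [IsAlgClosed K] in
theorem irreducible_tensor (Z : Over (Spec (CommRingCat.of k))) [GeometricallyIrreducible Z.hom] :
    IrreducibleSpace ↥(TK ⊗ Z).left := by
  haveI : IrreducibleSpace ↥(TK).left := by
    haveI : Subsingleton ↥(TK).left := inferInstanceAs (Subsingleton (PrimeSpectrum K))
    haveI : Nonempty ↥(TK).left := inferInstanceAs (Nonempty (PrimeSpectrum K))
    exact { isPreirreducible_univ := Set.subsingleton_of_subsingleton.isPreirreducible, toNonempty := inferInstance }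
  exact irreducibleSpace_tensor _ Z

/-- A non-empty locally closed subset of `T ⊗ Z` contains a rational point. -/
theorem exists_pt (Z : Over (Spec (CommRingCat.of k))) [LocallyOfFiniteType Z.hom] {A : Set ↥(TK ⊗ Z).left}
    (hA : IsLocallyClosed A) (hne : A.Nonempty) :
    ∃ z : TK ⟶ Z, (CartesianMonoidalCategory.lift (𝟙 TK) z).left (IsLocalRing.closedPoint K) ∈ A := by
  let π : (TK ⊗ Z).left ⟶ Spec (CommRingCat.of K) := (fst TK Z).left
  haveI : LocallyOfFiniteType π := inferInstanceAs (LocallyOfFiniteType (pullback.fst (TK).hom Z.hom))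
  haveI : JacobsonSpace ↥(TK ⊗ Z).left := LocallyOfFiniteType.jacobsonSpace π
  obtain ⟨c, hc, hcc⟩ := nonempty_inter_closedPoints hne hA
  let q := (pointEquivClosedPoint π).symm ⟨c, hcc⟩
  have hq2 : q.1 ≫ π = 𝟙 _ := q.2
  have hqc : q.1 (IsLocalRing.closedPoint K) = c := by
    show (pointEquivClosedPoint π q).1 = c
    simp [q]
  let s : TK ⟶ TK ⊗ Z := Over.homMk q.1 (by
    show q.1 ≫ (TK ⊗ Z).hom = (TK).hom
    rw [← Over.w (fst TK Z), ← Category.assoc, hq2, Category.id_comp])
  have hs1 : s ≫ fst TK Z = 𝟙 _ := Over.OverMorphism.ext hq2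
  refine ⟨s ≫ snd TK Z, ?_⟩
  rw [show CartesianMonoidalCategory.lift (𝟙 TK) (s ≫ snd TK Z) = s by rw [← hs1, lift_comp_fst_snd]]
  show q.1 _ ∈ A
  rw [hqc]
  exact hc

/-- Lifting of a rational point along a morphism locally of finite type. -/
theorem exists_lift_of_mem_range' {Z W : Over (Spec (CommRingCat.of k))}
    (f : Z ⟶ W) [LocallyOfFiniteType f.left] (p : TK ⟶ W) (z : Z.left)
    (hz : f.left z = p.left (IsLocalRing.closedPoint K)) :
    ∃ q : TK ⟶ Z, q ≫ f = p := by
  let s := pullback.snd f.left p.left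
  haveI : LocallyOfFiniteType s := MorphismProperty.pullback_snd (P := @LocallyOfFiniteType) _ _ inferInstance
  haveI : JacobsonSpace ↥(pullback f.left p.left) := LocallyOfFiniteType.jacobsonSpace (Y := Spec (CommRingCat.of K)) s
  obtain ⟨z', -⟩ := Scheme.Pullback.exists_preimage_pullback (f := f.left) (g := p.left) z
    (IsLocalRing.closedPoint K) hz
  obtain ⟨c, -, hc⟩ := nonempty_inter_closedPoints (Z := (Set.univ : Set ↥(pullback f.left p.left))) ⟨z', trivial⟩
    isOpen_univ.isLocallyClosed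
  let q := (pointEquivClosedPoint (K := K) s).symm ⟨c, hc⟩
  refine ⟨Over.homMk (q.1 ≫ pullback.fst f.left p.left) ?_, Over.OverMorphism.ext ?_⟩
  · show (q.1 ≫ pullback.fst f.left p.left) ≫ Z.hom = _
    have h2 : q.1 ≫ s = 𝟙 _ := q.2
    rw [← Over.w f, Category.assoc, pullback.condition_assoc, ← Category.assoc, h2, Category.id_comp, Over.w p]
  · show (q.1 ≫ pullback.fst f.left p.left) ≫ f.left = p.left
    have h2 : q.1 ≫ s = 𝟙 _ := q.2
    rw [Category.assoc, pullback.condition, ← Category.assoc, h2, Category.id_comp]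

theorem closure_eq_univ_of_translate {Z : Scheme.{u}} (t t' : Z ⟶ Z) (ht : ∀ w, t' (t w) = w) (R : Set ↥Z)
    (hg : Set.univ ⊆ closure (t '' R)) : closure R = Set.univ := by
  refine Set.eq_univ_of_univ_subset fun z _ => ?_
  have hsub : closure (t '' R) ⊆ t' ⁻¹' closure R := by
    refine (isClosed_closure.preimage t'.continuous).closure_subset_iff.2 ?_
    rintro _ ⟨w, hw, rfl⟩
    show t' (t w) ∈ closure R
    rw [ht]
    exact subset_closure hw
  have := hsub (hg (Set.mem_univ (t z)))
  rwa [Set.mem_preimage, ht] at this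

variable {G G0 X : Over (Spec (CommRingCat.of k))} [GrpObj G] [GrpObj G0] (i : G0 ⟶ G) [IsMonHom i]
  [LocallyOfFiniteType G.hom] [LocallyOfFiniteType X.hom]

/-- The orbit map of `x` under the subgroup. -/
noncomputable def orb (a : AlgGrp.Action G X) (x : TK ⟶ X) : TK ⊗ G0 ⟶ TK ⊗ X :=
  CartesianMonoidalCategory.lift (fst _ _) (CartesianMonoidalCategory.lift (snd _ _ ≫ i) (fst _ _ ≫ x) ≫ a.act)

/-- Translation of `T ⊗ X`. -/
noncomputable def tau (a : AlgGrp.Action G X) (g : TK ⟶ G) : TK ⊗ X ⟶ TK ⊗ X :=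
  CartesianMonoidalCategory.lift (fst _ _) (CartesianMonoidalCategory.lift (fst _ _ ≫ g) (snd _ _) ≫ a.act)

omit [IsAlgClosed K] [LocallyOfFiniteType G.hom] [LocallyOfFiniteType X.hom] [IsMonHom i] in
theorem lift_orb (a : AlgGrp.Action G X) (x : TK ⟶ X) (h : TK ⟶ G0) :
    CartesianMonoidalCategory.lift (𝟙 _) h ≫ orb i a x =
      CartesianMonoidalCategory.lift (𝟙 _) (CartesianMonoidalCategory.lift (h ≫ i) x ≫ a.act) := by
  rw [orb, comp_lift, lift_fst, comp_lift_assoc, lift_snd_assoc, lift_fst_assoc, Category.id_comp]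

omit [IsAlgClosed K] [LocallyOfFiniteType G.hom] [LocallyOfFiniteType X.hom] in
theorem lift_tau (a : AlgGrp.Action G X) (g : TK ⟶ G) (z : TK ⟶ X) :
    CartesianMonoidalCategory.lift (𝟙 _) z ≫ tau a g =
      CartesianMonoidalCategory.lift (𝟙 _) (CartesianMonoidalCategory.lift g z ≫ a.act) := by
  rw [tau, comp_lift, lift_fst, comp_lift_assoc, lift_fst_assoc, lift_snd, Category.id_comp]

omit [IsAlgClosed K] [LocallyOfFiniteType G.hom] [LocallyOfFiniteType X.hom] in
theorem tau_tau (a : AlgGrp.Action G X) (g g' : TK ⟶ G) : tau a g ≫ tau a g' = tau a (g' * g) := by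
  rw [tau, tau, tau, comp_lift, lift_fst, comp_lift_assoc, lift_fst_assoc, lift_snd, act_act, MonObj.comp_mul]

omit [IsAlgClosed K] [LocallyOfFiniteType G.hom] [LocallyOfFiniteType X.hom] in
theorem tau_one (a : AlgGrp.Action G X) : tau a (1 : TK ⟶ G) = 𝟙 _ := by
  rw [tau, MonObj.comp_one, one_act', lift_fst_snd]

omit [IsAlgClosed K] [LocallyOfFiniteType G.hom] [LocallyOfFiniteType X.hom] [IsMonHom i] in
theorem orb_fst (a : AlgGrp.Action G X) (x : TK ⟶ X) : orb i a x ≫ fst _ _ = fst _ _ := by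
  rw [orb, lift_fst]

omit [IsAlgClosed K] [LocallyOfFiniteType G.hom] [LocallyOfFiniteType X.hom] [IsMonHom i] in
theorem orb_snd (a : AlgGrp.Action G X) (x : TK ⟶ X) :
    orb i a x ≫ snd _ _ = CartesianMonoidalCategory.lift (snd _ _ ≫ i) (fst _ _ ≫ x) ≫ a.act := by
  rw [orb, lift_snd]

attribute [irreducible] orb tau

theorem apply_comp {A B C : Over (Spec (CommRingCat.of k))} (f : A ⟶ B) (g : B ⟶ C) (p : A.left) :
    (f ≫ g).left p = g.left (f.left p) := rfl

omit [IsAlgClosed K] [LocallyOfFiniteType G.hom] [LocallyOfFiniteType X.hom] in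
theorem tau_inv_apply (a : AlgGrp.Action G X) (g : TK ⟶ G) (w : ↥(TK ⊗ X).left) :
    (tau a g⁻¹).left ((tau a g).left w) = w := by
  rw [← apply_comp, tau_tau, inv_mul_cancel, tau_one, Over.id_left]
  rfl

/-- Finitely many translates of an open subgroup cover the rational points. -/
theorem exists_cosets [QuasiCompact G.hom] [LocallyOfFiniteType G0.hom] [IsOpenImmersion i.left] :
    ∃ F : Finset (TK ⟶ G), ∀ g' : TK ⟶ G, ∃ g ∈ F, ∃ h : TK ⟶ G0, g' = g * (h ≫ i) := by
  classical
  haveI : CompactSpace ↥(TK ⊗ G).left := by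
    haveI : QuasiCompact (fst TK G).left := MorphismProperty.pullback_fst (P := @QuasiCompact) (f := (TK).hom) (g := G.hom) inferInstance
    haveI : CompactSpace ↥(TK).left := inferInstanceAs (CompactSpace (PrimeSpectrum K))
    exact QuasiCompact.compactSpace_of_compactSpace (fst TK G).left
  let W : (TK ⟶ G) → Set ↥(TK ⊗ G).left := fun g =>
    ((fst TK G ≫ g)⁻¹ * snd TK G).left ⁻¹' Set.range i.left
  have hW : ∀ g, IsOpen (W g) := fun g =>
    i.left.isOpenEmbedding.isOpen_range.preimage ((fst TK G ≫ g)⁻¹ * snd TK G).left.continuous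
  have hmem : ∀ g g' : TK ⟶ G, (CartesianMonoidalCategory.lift (𝟙 TK) g').left (IsLocalRing.closedPoint K) ∈ W g ↔
      (g⁻¹ * g').left (IsLocalRing.closedPoint K) ∈ Set.range i.left := fun g g' => by
    show ((CartesianMonoidalCategory.lift (𝟙 TK) g') ≫ ((fst TK G ≫ g)⁻¹ * snd TK G)).left _ ∈ Set.range i.left ↔ _
    rw [MonObj.comp_mul, GrpObj.comp_inv, lift_fst_assoc, lift_snd, Category.id_comp]
  have hcov : (Set.univ : Set ↥(TK ⊗ G).left) ⊆ ⋃ g, W g := by
    by_contra hne
    obtain ⟨z, -, hz⟩ := Set.not_subset.1 hne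
    obtain ⟨g, hg⟩ := exists_pt G (A := (⋃ g, W g)ᶜ) (isOpen_iUnion hW).isClosed_compl.isLocallyClosed ⟨z, hz⟩
    refine hg (Set.mem_iUnion.2 ⟨g, (hmem g g).2 ?_⟩)
    rw [inv_mul_cancel]
    refine ⟨(1 : TK ⟶ G0).left (IsLocalRing.closedPoint K), ?_⟩
    rw [← Scheme.Hom.comp_apply, ← Over.comp_left, MonObj.one_comp]
  obtain ⟨F, hF⟩ := isCompact_univ.elim_finite_subcover W hW hcov
  refine ⟨F, fun g' => ?_⟩
  obtain ⟨g, hgF, hg⟩ := Set.mem_iUnion₂.1 (hF (Set.mem_univ ((CartesianMonoidalCategory.lift (𝟙 TK) g').left (IsLocalRing.closedPoint K))))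
  obtain ⟨p, hp⟩ := (hmem g g').1 hg
  obtain ⟨h, hh⟩ := exists_lift_of_mem_range i (g⁻¹ * g') p hp
  exact ⟨g, hgF, h, by rw [hh, mul_inv_cancel_left]⟩

/-- **Density**: if the group moves `x` onto every rational point of a non-empty open, the orbit of `x` under an
open subgroup is dense. -/
theorem dense_orb [QuasiCompact G.hom] [LocallyOfFiniteType G0.hom] [IsOpenImmersion i.left]
    [GeometricallyIrreducible X.hom] (a : AlgGrp.Action G X) (x : TK ⟶ X) (S : X.left.Opens)
    (hS : x.left (IsLocalRing.closedPoint K) ∈ S)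
    (htr : ∀ y : TK ⟶ X, y.left (IsLocalRing.closedPoint K) ∈ S →
      ∃ g : TK ⟶ G, CartesianMonoidalCategory.lift g x ≫ a.act = y) :
    closure (Set.range (orb i a x).left) = Set.univ := by
  classical
  haveI := irreducible_tensor (K := K) X
  obtain ⟨F, hF⟩ := exists_cosets (K := K) i
  let A : Set ↥(TK ⊗ X).left := (snd TK X).left ⁻¹' S
  have hA : IsOpen A := S.isOpen.preimage (snd TK X).left.continuous
  have hAne : A.Nonempty := by
    refine ⟨(CartesianMonoidalCategory.lift (𝟙 TK) x).left (IsLocalRing.closedPoint K), ?_⟩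
    show (snd TK X).left _ ∈ S
    rw [← apply_comp]
    rw [lift_snd]
    exact hS
  let C : Set ↥(TK ⊗ X).left := ⋃ g ∈ F, closure ((tau a g).left '' Set.range (orb i a x).left)
  have hC : IsClosed C := isClosed_biUnion_finset fun g _ => isClosed_closure
  have hAC : A ⊆ C := by
    by_contra hne
    obtain ⟨w, hw⟩ := Set.not_subset.1 hne
    obtain ⟨y, hy1, hy2⟩ := exists_pt X (hA.isLocallyClosed.inter hC.isOpen_compl.isLocallyClosed) ⟨w, hw.1, hw.2⟩
    have hyS : y.left (IsLocalRing.closedPoint K) ∈ S := by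
      have : (CartesianMonoidalCategory.lift (𝟙 TK) y ≫ snd TK X).left (IsLocalRing.closedPoint K) ∈ S := hy1
      rwa [lift_snd] at this
    obtain ⟨g', hg'⟩ := htr y hyS
    obtain ⟨g, hgF, h, rfl⟩ := hF g'
    refine hy2 (Set.mem_iUnion₂.2 ⟨g, hgF, subset_closure ?_⟩)
    rw [← act_act] at hg'
    refine ⟨(orb i a x).left ((CartesianMonoidalCategory.lift (𝟙 TK) h).left (IsLocalRing.closedPoint K)), ⟨_, rfl⟩, ?_⟩
    rw [← hg', ← lift_tau, ← lift_orb, apply_comp, apply_comp]
  have huniv : Set.univ ⊆ C := by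
    rw [← (hA.dense hAne).closure_eq]
    exact hC.closure_subset_iff.2 hAC
  obtain ⟨g, -, hg⟩ : ∃ g ∈ F, Set.univ ⊆ closure ((tau a g).left '' Set.range (orb i a x).left) := by
    obtain ⟨g, hgF, hg⟩ := Set.mem_iUnion₂.1 (huniv (Set.mem_univ (genericPoint ↥(TK ⊗ X).left)))
    exact ⟨g, hgF, by rw [← genericPoint_closure]; exact isClosed_closure.closure_subset_iff.2 (Set.singleton_subset_iff.2 hg)⟩
  exact closure_eq_univ_of_translate (tau a g).left (tau a g⁻¹).left (tau_inv_apply a g) _ hg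

/-- Two dense orbits of an open subgroup meet. -/
theorem exists_translate [QuasiCompact G.hom] [LocallyOfFiniteType G0.hom] [QuasiCompact G0.hom]
    [IsSeparated X.hom] [QuasiCompact X.hom] [GeometricallyIrreducible X.hom] (a : AlgGrp.Action G X)
    (x y : TK ⟶ X) (hx : closure (Set.range (orb i a x).left) = Set.univ)
    (hy : closure (Set.range (orb i a y).left) = Set.univ) :
    ∃ h : TK ⟶ G0, CartesianMonoidalCategory.lift (h ≫ i) x ≫ a.act = y := by
  haveI := irreducible_tensor (K := K) X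
  let π : (TK ⊗ X).left ⟶ Spec (CommRingCat.of K) := (fst TK X).left
  let π0 : (TK ⊗ G0).left ⟶ Spec (CommRingCat.of K) := (fst TK G0).left
  haveI : LocallyOfFiniteType π := inferInstanceAs (LocallyOfFiniteType (pullback.fst (TK).hom X.hom))
  haveI : QuasiCompact π := inferInstanceAs (QuasiCompact (pullback.fst (TK).hom X.hom))
  haveI : IsSeparated π := inferInstanceAs (IsSeparated (pullback.fst (TK).hom X.hom))
  haveI : LocallyOfFiniteType π0 := inferInstanceAs (LocallyOfFiniteType (pullback.fst (TK).hom G0.hom))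
  haveI : QuasiCompact π0 := inferInstanceAs (QuasiCompact (pullback.fst (TK).hom G0.hom))
  haveI : IsLocallyNoetherian (TK ⊗ X).left := LocallyOfFiniteType.isLocallyNoetherian π
  haveI : CompactSpace (TK ⊗ X).left := QuasiCompact.compactSpace_of_compactSpace π
  haveI : AlgebraicGeometry.IsNoetherian (TK ⊗ X).left := {}
  have hn : ∀ z : TK ⟶ X, closure (Set.range (orb i a z).left) = Set.univ →
      Set.range (orb i a z).left ∈ nhds (genericPoint ↥(TK ⊗ X).left) := by
    intro z hz
    have hf : (orb i a z).left ≫ π = π0 := by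
      show (orb i a z ≫ fst _ _).left = _
      rw [orb_fst]
    haveI : QuasiCompact ((orb i a z).left ≫ π) := by rw [hf]; infer_instance
    haveI : LocallyOfFiniteType ((orb i a z).left ≫ π) := by rw [hf]; infer_instance
    haveI : QuasiCompact (orb i a z).left := QuasiCompact.of_comp _ π
    haveI : LocallyOfFiniteType (orb i a z).left := locallyOfFiniteType_of_comp _ π
    have hR : Topology.IsConstructible (Set.range (orb i a z).left) := by
      rw [← Set.image_univ]
      exact (orb i a z).left.isConstructible_image .univ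
    rw [H8Top.mem_nhds_iff_dense_on_irreducible_closed _ hR]
    intro Y hY _ hη
    have hYu : Y = Set.univ := Set.eq_univ_of_univ_subset
      ((genericPoint_spec ↥(TK ⊗ X).left).ge.trans (hY.closure_subset_iff.2 (Set.singleton_subset_iff.2 hη)))
    rw [hYu, Set.inter_univ, hz]
  obtain ⟨U, hU, hUo, hUη⟩ := mem_nhds_iff.1 (Filter.inter_mem (hn x hx) (hn y hy))
  obtain ⟨z, hz⟩ := exists_pt X hUo.isLocallyClosed ⟨_, hUη⟩
  obtain ⟨w₁, hw₁⟩ := (hU hz).1
  obtain ⟨w₂, hw₂⟩ := (hU hz).2
  have hlift : ∀ (v : TK ⟶ X) (w : ↥(TK ⊗ G0).left),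
      (orb i a v).left w = (CartesianMonoidalCategory.lift (𝟙 TK) z).left (IsLocalRing.closedPoint K) →
      ∃ h : TK ⟶ G0, CartesianMonoidalCategory.lift (h ≫ i) v ≫ a.act = z := by
    intro v w hw
    obtain ⟨q, hq⟩ : ∃ q : TK ⟶ TK ⊗ G0, q ≫ orb i a v = CartesianMonoidalCategory.lift (𝟙 TK) z := by
      have hf : (orb i a v).left ≫ π = π0 := by
        show (orb i a v ≫ fst _ _).left = _
        rw [orb_fst]
      haveI : LocallyOfFiniteType ((orb i a v).left ≫ π) := by rw [hf]; infer_instance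
      haveI : LocallyOfFiniteType (orb i a v).left := locallyOfFiniteType_of_comp _ π
      exact exists_lift_of_mem_range' (orb i a v) _ w hw
    refine ⟨q ≫ snd _ _, ?_⟩
    have h1 := congrArg (· ≫ fst _ _) hq
    have h2 := congrArg (· ≫ snd _ _) hq
    simp only [orb_fst, orb_snd, Category.assoc, lift_fst, lift_snd, comp_lift_assoc] at h1 h2
    rw [← h2, ← Category.assoc q (fst _ _), h1, Category.id_comp, Category.assoc]
  obtain ⟨h₁, hh₁⟩ := hlift x w₁ hw₁
  obtain ⟨h₂, hh₂⟩ := hlift y w₂ hw₂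
  refine ⟨h₂⁻¹ * h₁, ?_⟩
  rw [MonObj.mul_comp, GrpObj.inv_comp, ← act_act, hh₁, ← hh₂, act_act, inv_mul_cancel, one_act']

end Groth.Agent.AlgGrpLib.CosetOrbit
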