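import Groth.Agent.AlgGrpLib.IsogenySubgroups
import Groth.Agent.AlgGrpLib.SubgroupCalc
import Groth.Agent.AbSchLib.SmoothReduced
import Groth.Agent.SGA3cLib.BCPoints

/-!
# Isogenies and base change to an algebraic closure
-/

set_option autoImplicit false
set_option backward.isDefEq.respectTransparency.types false
set_option linter.style.haveILetI false

universe u

open CategoryTheory CategoryTheory.Limits MonoidalCategory CartesianMonoidalCategory MonObj AlgebraicGeometry

noncomputable section

namespace Groth.Agent.AlgGrpLib.IsogenyBC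

variable {k Ω : Type u} [Field k] [Field Ω] (g : Spec (CommRingCat.of Ω) ⟶ Spec (CommRingCat.of k))
  (G : Over (Spec (CommRingCat.of k))) [GrpObj G]

/-- Points of a base change. -/
def ptEquiv (X : Over (Spec (CommRingCat.of Ω))) : ((Over.map g).obj X ⟶ G) ≃* (X ⟶ Red.bc g G) :=
  { Groth.Agent.SGA3cLib.BCPoints.pt g G X with map_mul' := Groth.Agent.SGA3cLib.BCPoints.pt_mul g }

/-- Base change of points. -/
def bcPts (T : Over (Spec (CommRingCat.of k))) : (T ⟶ G) →* ((Over.pullback g).obj T ⟶ Red.bc g G) :=
  MonoidHom.mk' (fun x => (Over.pullback g).map x) fun a b => Functor.map_mul (Over.pullback g) a b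

theorem bcPts_injective (T : Over (Spec (CommRingCat.of k))) : Function.Injective (bcPts g G T) :=
  fun _ _ h => TorusToProper.eq_of_bc g h

theorem solvable_bc_iff : Red.IsSolvableGrp (Red.bc g G) ↔ Red.IsSolvableGrp G := by
  constructor
  · rintro ⟨n, hn⟩
    refine ⟨n, fun T => ?_⟩
    have h := map_derivedSeries_le_derivedSeries (bcPts g G T) n
    rw [hn, le_bot_iff, Subgroup.map_eq_bot_iff_of_injective _ (bcPts_injective g G T)] at h
    exact h
  · rintro ⟨n, hn⟩
    refine ⟨n, fun X => ?_⟩
    rw [← map_derivedSeries_eq (f := (ptEquiv g G X).toMonoidHom) (ptEquiv g G X).surjective, hn, Subgroup.map_bot]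

theorem nilpotent_bc_iff : AGF.IsNilpotentGrp (Red.bc g G) ↔ AGF.IsNilpotentGrp G := by
  constructor
  · rintro ⟨n, hn⟩
    refine ⟨n, fun T => ?_⟩
    rw [IsogenyProps.upper_iff]
    have h : Subgroup.map (bcPts g G T) (Subgroup.lowerCentralSeries (⊤ : Subgroup (T ⟶ G)) n) ≤
        Subgroup.lowerCentralSeries ⊤ n := by
      rw [Subgroup.map_lowerCentralSeries]
      exact Subgroup.lowerCentralSeries_mono n le_top
    rw [(IsogenyProps.upper_iff _ _).1 (hn _), le_bot_iff,
      Subgroup.map_eq_bot_iff_of_injective _ (bcPts_injective g G T)] at h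
    exact h
  · rintro ⟨n, hn⟩
    refine ⟨n, fun X => ?_⟩
    rw [IsogenyProps.upper_iff, ← Subgroup.map_top_of_surjective (ptEquiv g G X).toMonoidHom (ptEquiv g G X).surjective,
      ← Subgroup.map_lowerCentralSeries, (IsogenyProps.upper_iff _ _).1 (hn _), Subgroup.map_bot]

theorem comm_bc_iff : IsCommMonObj (Red.bc g G) ↔ IsCommMonObj G := by
  rw [isCommMonObj_iff_isMulCommutative, isCommMonObj_iff_isMulCommutative]
  constructor
  · intro h T
    refine ⟨⟨fun a b => bcPts_injective g G T ?_⟩⟩
    rw [map_mul, map_mul]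
    exact (h _).is_comm.comm _ _
  · intro h X
    refine ⟨⟨fun a b => ?_⟩⟩
    obtain ⟨a, rfl⟩ := (ptEquiv g G X).surjective a
    obtain ⟨b, rfl⟩ := (ptEquiv g G X).surjective b
    rw [← map_mul, ← map_mul, (h _).is_comm.comm a b]

/-- Commutativity descends to quotients. -/
theorem comm_of_surjective {H : Over (Spec (CommRingCat.of k))} [GrpObj H] [IsCommMonObj G] (f : G ⟶ H) [IsMonHom f]
    [Flat f.left] [Surjective f.left] [QuasiCompact f.left] : IsCommMonObj H := by
  rw [isCommMonObj_iff_isMulCommutative]
  refine fun X => ⟨⟨fun x y => ?_⟩⟩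
  obtain ⟨X₁, c, a, _, _, _, ha⟩ := exists_lift_cover f x
  obtain ⟨X₂, d, b, _, _, _, hb⟩ := exists_lift_cover f (c ≫ y)
  haveI : Epi c.left := Flat.epi_of_flat_of_surjective _
  haveI : Epi d.left := Flat.epi_of_flat_of_surjective _
  haveI : Epi c := Over.epi_of_epi_left _
  haveI : Epi d := Over.epi_of_epi_left _
  rw [← cancel_epi c, ← cancel_epi d]
  simp only [MonObj.comp_mul, ← ha, ← hb]
  have : (d ≫ a) * b = b * (d ≫ a) :=
    ((isCommMonObj_iff_isMulCommutative G).1 inferInstance X₂).is_comm.comm _ _
  rw [← Category.assoc d a f, ← MonObj.mul_comp, ← MonObj.mul_comp, this]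

/-- Base change keeps isogenies. -/
theorem bc_isogeny {H : Over (Spec (CommRingCat.of k))} [GrpObj H] (f : G ⟶ H) [IsMonHom f] [IsFinite f.left]
    [Surjective f.left] :
    IsMonHom ((Over.pullback g).map f) ∧ IsFinite ((Over.pullback g).map f).left ∧
      Surjective ((Over.pullback g).map f).left := by
  have hsq : IsPullback (pullback.fst G.hom g) ((Over.pullback g).map f).left f.left (pullback.fst H.hom g) := by
    refine IsPullback.of_bot ?_ ?_ (IsPullback.of_hasPullback H.hom g)
    · have h1 : ((Over.pullback g).map f).left ≫ pullback.snd H.hom g = pullback.snd G.hom g :=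
        Over.w ((Over.pullback g).map f)
      rw [h1, Over.w f]
      exact IsPullback.of_hasPullback G.hom g
    · exact (pullback.lift_fst (pullback.fst G.hom g ≫ f.left) (pullback.snd G.hom g) _).symm
  exact ⟨inferInstance, MorphismProperty.of_isPullback hsq (inferInstance : IsFinite f.left),
    MorphismProperty.of_isPullback hsq (inferInstance : Surjective f.left)⟩

theorem connected_bc [Smooth G.hom] [QuasiCompact G.hom] [ConnectedSpace G.left] :
    ConnectedSpace (Red.bc g G).left := by
  haveI : GeometricallyConnected G.hom := by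
    have := Groth.Agent.SGA3cLib.geometricallyConnected_of_rational_point k G.hom (𝟙 G.left) η[G].left (Over.w η[G])
      (fun x _ => ⟨x, rfl⟩)
    rwa [Category.id_comp] at this
  haveI : Subsingleton ↥(Spec (CommRingCat.of Ω)) := inferInstanceAs (Subsingleton (PrimeSpectrum Ω))
  haveI : Nonempty ↥(Spec (CommRingCat.of Ω)) := inferInstanceAs (Nonempty (PrimeSpectrum Ω))
  exact GeometricallyConnected.connectedSpace_of_subsingleton (pullback.snd G.hom g)

theorem affine_bc [IsAffine G.left] : IsAffine (Red.bc g G).left :=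
  inferInstanceAs (IsAffine (pullback G.hom g))

/-- Homomorphisms onto smooth groups are flat. -/
theorem flat_of_isogeny {H : Over (Spec (CommRingCat.of k))} [GrpObj H] [LocallyOfFiniteType G.hom]
    [Smooth H.hom] (f : G ⟶ H) [IsMonHom f] [Surjective f.left] : Flat f.left := by
  haveI : IsSeparated G.hom := SGA3xLib.isSeparated_of_grpObj G
  haveI : IsSeparated H.hom := SGA3xLib.isSeparated_of_grpObj H
  haveI : GeometricallyReduced H.hom := AbSchLib.geometricallyReduced_of_smooth H.hom
  exact (Groth.Agent.S7800.result G H f).1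

end Groth.Agent.AlgGrpLib.IsogenyBC
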