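import Groth.Prelude.Def_AlgGrp
import Groth.Prelude.Def_Red
import Groth.Agent.AlgGrpLib.AbelianComplement
import Groth.Agent.AlgGrpLib.IsogenyBC
import Groth.Agent.AlgGrpLib.ExactSeqBasics
import Groth.Agent.DimLib.Zero
import Groth.Agent.SGA7Aut29.AntiPow
import Groth.Agent.S3278
import Groth.Agent.S7782

/-!
# Affine commutative groups on which all power maps are faithfully flat are smooth
-/

set_option autoImplicit false
set_option linter.style.haveILetI false
set_option backward.isDefEq.respectTransparency.types false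

universe u

open CategoryTheory CategoryTheory.Limits MonoidalCategory CartesianMonoidalCategory MonObj GrpObj AlgebraicGeometry

noncomputable section

namespace Groth.Agent.AlgGrpLib.DivisibleAffine

variable {k : Type u} [Field k]

/-- Over a perfect field: the case of the reduced subgroup. -/
theorem isIso_reduction (H R : Over (Spec (CommRingCat.of k))) [GrpObj H] [GrpObj R] [IsCommMonObj H] [IsAffine H.left]
    [LocallyOfFiniteType H.hom] (r : R ⟶ H) [IsMonHom r] [IsClosedImmersion r.left] [Surjective r.left]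
    (hpow : ∀ n : ℕ, 0 < n → Flat ((𝟙 H : H ⟶ H) ^ n).left ∧ Surjective ((𝟙 H : H ⟶ H) ^ n).left) :
    IsIso r.left := by
  have hn : AlgGrp.IsNormalHom r := fun T g x => ⟨x, by
    rw [((isCommMonObj_iff_isMulCommutative H).1 inferInstance T).is_comm.comm g (x ≫ r), mul_inv_cancel_right]⟩
  obtain ⟨I, gI, π, hπ, hIaff, hIlft, hπf, hπs, hk⟩ := Groth.Agent.S3278.result k H R r hn
  letI := gI
  haveI := hπ
  haveI := hIaff
  haveI := hIlft
  haveI := hπf
  haveI := hπs
  haveI : QuasiCompact H.hom := inferInstance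
  haveI : QuasiCompact π.left := quasiCompact_left π
  haveI : IsCommMonObj I := IsogenyBC.comm_of_surjective H π
  haveI : Subsingleton ↥I.left := by
    have h1 : ∀ y : I.left, y ∈ Set.range η[I].left := fun y => by
      obtain ⟨x, rfl⟩ := π.left.surjective y
      obtain ⟨z, rfl⟩ := r.left.surjective x
      refine ⟨R.hom z, ?_⟩
      have e : r ≫ π = toUnit R ≫ η[I] := hk.w
      exact (congrArg (fun q : R ⟶ I => q.left z) e).symm
    haveI : Subsingleton ↥(𝟙_ (Over (Spec (CommRingCat.of k)))).left :=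
      inferInstanceAs (Subsingleton (PrimeSpectrum k))
    exact ⟨fun a b => by
      obtain ⟨a', rfl⟩ := h1 a
      obtain ⟨b', rfl⟩ := h1 b
      rw [Subsingleton.elim a' b']⟩
  haveI : Finite ↥I.left := Finite.of_subsingleton
  haveI : IsFinite I.hom := DimLib.isFinite_of_finite I.hom
  haveI : Flat I.hom := CubeLib.flat_of_field _
  haveI : LocallyOfFinitePresentation I.hom := inferInstance
  haveI : Surjective I.hom := ⟨fun x => ⟨η[I].left (IsLocalRing.closedPoint k), Subsingleton.elim (α := PrimeSpectrum k) _ _⟩⟩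
  let n := Scheme.Hom.finrank I.hom (IsLocalRing.closedPoint k)
  have hn0 : 0 < n := Nat.lt_of_lt_of_le Nat.one_pos ((Scheme.Hom.one_le_finrank_iff_surjective I.hom).2 inferInstance _)
  obtain ⟨hf, hs⟩ := hpow n hn0
  haveI := hf
  haveI := hs
  haveI : IsSeparated H.hom := inferInstance
  haveI : QuasiCompact ((𝟙 H : H ⟶ H) ^ n).left := quasiCompact_left _
  haveI : Epi ((𝟙 H : H ⟶ H) ^ n).left := Flat.epi_of_flat_of_surjective _
  haveI : Epi ((𝟙 H : H ⟶ H) ^ n) := Over.epi_of_epi_left _
  have h1 : ((𝟙 H : H ⟶ H) ^ n) ≫ π = ((𝟙 H : H ⟶ H) ^ n) ≫ 1 := by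
    rw [MonObj.comp_one, MonObj.pow_comp, Category.id_comp]
    exact Groth.Agent.S7782.result I n (fun s => congrArg _ (Subsingleton.elim (α := PrimeSpectrum k) s _)) H π
  rw [cancel_epi] at h1
  obtain ⟨s, hs'⟩ := exists_lift_kernel hk (g := 𝟙 H) (by rw [Category.id_comp, h1])
  haveI : Mono r := Over.mono_of_mono_left r
  haveI : IsIso r := ⟨s, by rw [← cancel_mono r, Category.assoc, hs', Category.comp_id, Category.id_comp], hs'⟩
  exact inferInstanceAs (IsIso ((Over.forget _).map r))

/-- An affine commutative group of finite type all of whose power maps are faithfully flat is smooth. -/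
theorem smooth_of_pow_flat (H : Over (Spec (CommRingCat.of k))) [GrpObj H] [IsCommMonObj H] [IsAffine H.left]
    [LocallyOfFiniteType H.hom]
    (hpow : ∀ n : ℕ, 0 < n → Flat ((𝟙 H : H ⟶ H) ^ n).left ∧ Surjective ((𝟙 H : H ⟶ H) ^ n).left) :
    Smooth H.hom := by
  let f := Spec.map (CommRingCat.ofHom (algebraMap k (AlgebraicClosure k)))
  let H' := Red.bc f H
  haveI : LocallyOfFiniteType H'.hom := MorphismProperty.pullback_snd H.hom f ‹_›
  haveI : IsAffine H'.left := IsogenyBC.affine_bc f H
  haveI : IsCommMonObj H' := (IsogenyBC.comm_bc_iff f H).2 inferInstance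
  obtain ⟨R, gR, r, hr, hrc, hRs, hrs, -⟩ := AbelianComplement.exists_smooth_reduction H'
  letI := gR
  haveI := hr
  haveI := hrc
  haveI := hrs
  have hpow' : ∀ n : ℕ, 0 < n → Flat ((𝟙 H' : H' ⟶ H') ^ n).left ∧ Surjective ((𝟙 H' : H' ⟶ H') ^ n).left := fun n hn => by
    obtain ⟨hf, hs⟩ := hpow n hn
    have hp : (Over.pullback f).map ((𝟙 H : H ⟶ H) ^ n) = (𝟙 H' : H' ⟶ H') ^ n := by
      rw [show (Over.pullback f).map ((𝟙 H : H ⟶ H) ^ n) = ((Over.pullback f).map (𝟙 H)) ^ n from
        map_pow (Over.pullback f).homMonoidHom _ n, CategoryTheory.Functor.map_id]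
    have hsq := (SGA3UnitSec.isPullback_map_left f ((𝟙 H : H ⟶ H) ^ n))
    rw [hp] at hsq
    exact ⟨MorphismProperty.of_isPullback hsq hf, MorphismProperty.of_isPullback hsq hs⟩
  haveI := isIso_reduction H' R r hpow'
  haveI : IsReduced (pullback H.hom f) := by
    haveI : IsReduced R.left := AbSchLib.isReduced_of_smooth R.hom
    exact isReduced_of_isOpenImmersion (inv r.left)
  haveI := FBaseLib.geometricallyReduced_of_perfect (Ω := AlgebraicClosure k) H.hom
  haveI : Flat H.hom := CubeLib.flat_of_field _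
  exact AbVarLib.smooth_of_geometricallyReduced (X := H)

end Groth.Agent.AlgGrpLib.DivisibleAffine
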