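import Groth.Agent.SGA3cLib.DeligneField
import Groth.Agent.HopfLib.HopfKaehler
import Groth.Agent.S2763
import Mathlib.RingTheory.Etale.Field
import Mathlib.AlgebraicGeometry.Group.Affine
import Mathlib.AlgebraicGeometry.Morphisms.Etale
import Mathlib.AlgebraicGeometry.Morphisms.FlatRank

/-!
# Finite group schemes of invertible order are étale
-/

set_option autoImplicit false
set_option backward.isDefEq.respectTransparency.types false

universe u

open TensorProduct WithConv CategoryTheory MonoidalCategory CartesianMonoidalCategory MonObj AlgebraicGeometry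

namespace Groth.Agent.AlgGrpLib.EtaleOrder

theorem etale_hopf (k A : Type u) [Field k] [CommRing A] [HopfAlgebra k A] [Module.Finite k A]
    (h : (Module.finrank k A : k) ≠ 0) : Algebra.Etale k A := by
  set I := RingHom.ker (Bialgebra.counitAlgHom k A) with hI
  let q : A →ₐ[k] A ⧸ I ^ 2 := Ideal.Quotient.mkₐ k (I ^ 2)
  set n := Module.finrank k A
  have hq : ∀ a ∈ I, ∀ b ∈ I, q a * q b = 0 := fun a ha b hb => by
    rw [← map_mul]
    exact Ideal.Quotient.eq_zero_iff_mem.2 (by rw [pow_two]; exact Ideal.mul_mem_mul ha hb)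
  let e : A →ₗ[k] A ⧸ I ^ 2 :=
    Algebra.linearMap k (A ⧸ I ^ 2) ∘ₗ (Coalgebra.counit : A →ₗ[k] k)
  let δ : A →ₗ[k] A ⧸ I ^ 2 := q.toLinearMap - e
  have hsub : ∀ x : A, x - algebraMap k A (Coalgebra.counit x) ∈ I := fun x => by
    rw [hI, RingHom.mem_ker, map_sub, AlgHom.commutes, Bialgebra.counitAlgHom_apply]
    exact sub_self _
  have hδ : ∀ x, δ x = q (x - algebraMap k A (Coalgebra.counit x)) := fun x => by
    simp [δ, e, AlgHom.commutes]
  have key : ∀ m : ℕ, ∀ a, (toConv q ^ m).ofConv a = e a + m • δ a := by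
    intro m
    induction m with
    | zero => intro a; simp [e]
    | succ m ih =>
      intro a
      refine ((congrArg (fun z : WithConv (A →ₐ[k] A ⧸ I ^ 2) => z.ofConv a) (pow_succ (toConv q) m)).trans
        (AlgHom.convMul_apply _ _ _)).trans ?_
      have hz : ∀ z : A ⊗[k] A,
          Algebra.TensorProduct.lift (toConv q ^ m).ofConv q (fun _ _ => Commute.all _ _) z =
            e (TensorProduct.lid k A ((Coalgebra.counit : A →ₗ[k] k).rTensor A z)) +
              δ (TensorProduct.lid k A ((Coalgebra.counit : A →ₗ[k] k).rTensor A z)) +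
              m • δ (TensorProduct.rid k A ((Coalgebra.counit : A →ₗ[k] k).lTensor A z)) := by
        intro z
        induction z using TensorProduct.induction_on with
        | zero => simp
        | add x y hx hy => simp only [map_add, hx, hy, smul_add]; abel
        | tmul x y =>
          rw [Algebra.TensorProduct.lift_tmul, ih x,
            show q y = e y + δ y by simp [δ]]
          simp only [LinearMap.rTensor_tmul, LinearMap.lTensor_tmul, TensorProduct.lid_tmul,
            TensorProduct.rid_tmul, map_smul]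
          have h0 : δ x * δ y = 0 := by rw [hδ, hδ]; exact hq _ (hsub x) _ (hsub y)
          simp only [e, LinearMap.comp_apply, Algebra.linearMap_apply, nsmul_eq_mul]
          simp only [Algebra.smul_def, nsmul_eq_mul, map_mul, map_natCast, eq_natCast]
          linear_combination (m : A ⧸ I ^ 2) * h0
      refine (hz (Coalgebra.comul (R := k) a)).trans ?_
      rw [Coalgebra.rTensor_counit_comul, Coalgebra.lTensor_counit_comul]
      simp only [TensorProduct.lid_tmul, TensorProduct.rid_tmul, one_smul]
      rw [succ_nsmul]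
      abel
  have hIeq : ∀ a ∈ I, a ∈ I ^ 2 := fun a ha => by
    have ha' : Coalgebra.counit (R := k) a = 0 := ha
    have h2 : δ a = q a := by simp [δ, e, ha']
    have h3 := key n a
    have h4 := Groth.Agent.SGA3cLib.pow_ofConv_comp (C := A) q (toConv (AlgHom.id k A)) n
    rw [Groth.Agent.SGA3cLib.pow_finrank_eq_one k A, ofConv_toConv, AlgHom.comp_id] at h4
    rw [← h4, AlgHom.comp_apply, AlgHom.convOne_apply, ha', map_zero, map_zero, h2] at h3
    simp only [e, LinearMap.comp_apply, ha', map_zero, zero_add] at h3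
    rw [← Nat.cast_smul_eq_nsmul k] at h3
    exact Ideal.Quotient.eq_zero_iff_mem.1 ((smul_eq_zero.1 h3.symm).resolve_left h)
  haveI : Subsingleton I.Cotangent := ⟨fun x y => by
    obtain ⟨a, rfl⟩ := I.toCotangent_surjective x
    obtain ⟨b, rfl⟩ := I.toCotangent_surjective y
    rw [Ideal.toCotangent_eq]
    exact hIeq _ (I.sub_mem a.2 b.2)⟩
  obtain ⟨eq⟩ := Groth.Agent.HopfLib.Kaehler.exists_kaehler_equiv (R := k) (A := A)
  haveI : Algebra.FormallyUnramified k A := ⟨eq.toEquiv.subsingleton⟩
  haveI : Algebra.FinitePresentation k A := Algebra.FinitePresentation.of_finiteType.mp inferInstance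
  haveI := Algebra.FormallyEtale.of_formallyUnramified_of_field k A
  exact ⟨inferInstance, inferInstance⟩

theorem etale_of_isField (R : CommRingCat.{u}) (hR : IsField R) (G : Over (Spec R)) [GrpObj G] [IsFinite G.hom]
    (h : ∀ x, (Scheme.Hom.finrank G.hom x : R) ≠ 0) : Etale G.hom := by
  letI : Field R := hR.toField
  haveI : IsAffine G.left := isAffine_of_isAffineHom G.hom
  letI : G.left.Over (Spec R) := ⟨G.hom⟩
  letI : GrpObj (G.left.asOver (Spec R)) := ‹GrpObj G›
  have e1 : G.hom = G.left.isoSpec.hom ≫ Spec.map (CommRingCat.ofHom (algebraMap R Γ(G.left, ⊤))) := by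
    rw [← Iso.inv_comp_eq]
    exact (Spec.fullyFaithful.map_preimage (X := Opposite.op Γ(G.left, ⊤)) (Y := Opposite.op R)
      (G.left.isoSpec.inv ≫ G.hom)).symm
  haveI hsp : IsFinite (Spec.map (CommRingCat.ofHom (algebraMap R Γ(G.left, ⊤)))) := by
    rw [← MorphismProperty.cancel_left_of_respectsIso (P := @IsFinite.{u}) G.left.isoSpec.hom, ← e1]
    infer_instance
  haveI hfin : Module.Finite R Γ(G.left, ⊤) := by
    rwa [IsFinite.SpecMap_iff, CommRingCat.hom_ofHom, RingHom.finite_algebraMap] at hsp
  haveI : Flat (Spec.map (CommRingCat.ofHom (algebraMap R Γ(G.left, ⊤)))) := by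
    rw [Flat.SpecMap_iff, CommRingCat.hom_ofHom, RingHom.flat_algebraMap_iff]; infer_instance
  obtain ⟨x⟩ : Nonempty (PrimeSpectrum R) := inferInstance
  have hr : Scheme.Hom.finrank G.hom x = Module.finrank R Γ(G.left, ⊤) := by
    rw [e1, Scheme.Hom.finrank_comp_left_of_isIso]
    refine (Scheme.Hom.finrank_SpecMap_algebraMap R Γ(G.left, ⊤) x).trans ?_
    rw [Module.rankAtStalk_eq_finrank_of_free]
    rfl
  have hx : (Module.finrank R Γ(G.left, ⊤) : R) ≠ 0 := by rw [← hr]; exact h x
  have het := @etale_hopf R Γ(G.left, ⊤) _ _ _ hfin hx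
  rw [e1, MorphismProperty.cancel_left_of_respectsIso (P := @Etale.{u}) G.left.isoSpec.hom,
    HasRingHomProperty.Spec_iff (P := @Etale)]
  rw [CommRingCat.hom_ofHom, RingHom.etale_algebraMap]
  exact het

theorem etale_of_fibres {X S : Scheme.{u}} (f : X ⟶ S) [Flat f] [LocallyOfFinitePresentation f]
    (h : ∀ s : S, Etale (Limits.pullback.snd f (S.fromSpecResidueField s))) : Etale f := by
  refine (Groth.Agent.S2763.result (𝟙 S) f f (Category.comp_id f)).2 fun s => ?_
  have e : (𝟙 S : S ⟶ S).fiberι s = (𝟙 S : S ⟶ S).fiberToSpecResidueField s ≫ S.fromSpecResidueField s :=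
    (Category.comp_id _).symm.trans Limits.pullback.condition
  rw [e, ← Limits.pullbackLeftPullbackSndIso_inv_snd_snd]
  have := h s
  infer_instance

end Groth.Agent.AlgGrpLib.EtaleOrder
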