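import Groth.Agent.AlgGrpLib.FiniteFixedAlg
import Groth.Agent.SGA1Quot.Existence
import Mathlib.AlgebraicGeometry.Morphisms.Smooth
import Mathlib.AlgebraicGeometry.Morphisms.Separated
import Mathlib.CategoryTheory.Monoidal.Cartesian.Over

/-! Fixed-point schemes of finite groups of invertible order. -/

set_option autoImplicit false
set_option backward.isDefEq.respectTransparency.types false

universe u

open CategoryTheory CategoryTheory.Limits MonoidalCategory CartesianMonoidalCategory AlgebraicGeometry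

namespace Groth.Agent.AlgGrpLib.FiniteFixed

variable {S : Scheme.{u}} {X : Over S}

/-- The common fixed locus of finitely many endomorphisms of a separated scheme is closed. -/
theorem exists_closed [IsSeparated X.hom] (l : List (X ⟶ X)) :
    ∃ (E : Over S) (j : E ⟶ X), IsClosedImmersion j.left ∧
      ∀ (T : Over S) (t : T ⟶ X), (∀ σ ∈ l, t ≫ σ = t) ↔ ∃ t' : T ⟶ E, t' ≫ j = t := by
  induction l with
  | nil => exact ⟨X, 𝟙 X, inferInstanceAs (IsClosedImmersion (𝟙 X.left)), fun T t => ⟨fun _ => ⟨t, Category.comp_id t⟩, fun _ σ h => absurd h (List.not_mem_nil)⟩⟩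
  | cons σ l ih =>
    obtain ⟨E, j, hj, hE⟩ := ih
    let D : X ⟶ X ⊗ X := lift (𝟙 X) (𝟙 X)
    haveI : IsClosedImmersion D.left := by
      have : D.left = pullback.diagonal X.hom := rfl
      rw [this]; infer_instance
    let p := pullback.fst (lift j (j ≫ σ)) D
    have hp : IsClosedImmersion p.left :=
      MorphismProperty.of_isPullback (P := @IsClosedImmersion) ((IsPullback.of_hasPullback (lift j (j ≫ σ)) D).map (Over.forget _)).flip ‹IsClosedImmersion D.left›
    refine ⟨pullback (lift j (j ≫ σ)) D, p ≫ j, by rw [Over.comp_left]; infer_instance, fun T t => ⟨fun h => ?_, ?_⟩⟩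
    · obtain ⟨t', ht'⟩ := (hE T t).1 fun τ hτ => h τ (List.mem_cons_of_mem _ hτ)
      refine ⟨pullback.lift t' t ?_, ?_⟩
      · apply CartesianMonoidalCategory.hom_ext
        · simp [D, ht']
        · simp [D, reassoc_of% ht', h σ List.mem_cons_self]
      · rw [pullback.lift_fst_assoc, ht']
    · rintro ⟨t', rfl⟩ τ hτ
      rcases List.mem_cons.1 hτ with rfl | hτ
      · have h1 := congrArg (fun q => q ≫ fst X X) (pullback.condition (f := lift j (j ≫ τ)) (g := D))
        have h2 := congrArg (fun q => q ≫ snd X X) (pullback.condition (f := lift j (j ≫ τ)) (g := D))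
        simp only [D, Category.assoc, lift_fst, lift_snd, Category.comp_id] at h1 h2
        show (t' ≫ p ≫ j) ≫ τ = t' ≫ p ≫ j
        simp only [Category.assoc, p]
        rw [h2, h1]
      · exact (hE T (t' ≫ p ≫ j)).2 ⟨t' ≫ p, Category.assoc _ _ _⟩ τ hτ

theorem smooth_fixed [Smooth X.hom] {H : Type u} [Group H] [Finite H] (ρ : H →* Aut X)
    (hH : IsUnit (Nat.card H : Γ(S, ⊤))) {Z : Over S} (ι : Z ⟶ X) [IsClosedImmersion ι.left]
    (hι : ∀ h : H, ι ≫ (ρ h).hom = ι)
    (hZ : ∀ (T : Over S) (t : T ⟶ X), (∀ h : H, t ≫ (ρ h).hom = t) → ∃ t' : T ⟶ Z, t' ≫ ι = t) :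
    Smooth Z.hom := by
  classical
  cases nonempty_fintype H
  refine (HasRingHomProperty.iff_exists_appLE (P := @Smooth)
    (RingHom.Smooth.stableUnderComposition.stableUnderCompositionWithLocalizationAway RingHom.Smooth.holdsForLocalizationAway).1).2 fun z => ?_
  let x := ι.left z
  let ρ' : H →* Aut X.left := ((Over.forget S).mapAut X).comp ρ
  have hρ' : ∀ h, (ρ' h).hom = (ρ h).hom.left := fun h => rfl
  have hx : ∀ h : H, (ρ' h).hom x = x := fun h => by
    show (ρ h).hom.left (ι.left z) = ι.left z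
    rw [← Scheme.Hom.comp_apply, ← Over.comp_left, hι]
  obtain ⟨V, hV, hxV, -⟩ := exists_isAffineOpen_mem_and_subset (x := X.hom x) (U := ⊤) (Set.mem_univ _)
  obtain ⟨U, hU, hxU, hUV'⟩ := exists_isAffineOpen_mem_and_subset (x := x) (U := X.hom ⁻¹ᵁ V) hxV
  obtain ⟨W, hW, hWst, hxW, hWU⟩ := SGA1Quot.exists_invariant_affine ρ' x hU fun h => by rw [hx]; exact hxU
  have hWV : W ≤ X.hom ⁻¹ᵁ V := fun y hy => hUV' (hWU hy)
  let WZ := ι.left ⁻¹ᵁ W
  have hWZ : IsAffineOpen WZ := hW.preimage ι.left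
  have hZV : WZ ≤ Z.hom ⁻¹ᵁ V := fun y hy => by
    show Z.hom y ∈ V
    rw [← Over.w ι, Scheme.Hom.comp_apply]
    exact hWV hy
  refine ⟨⟨V, hV⟩, ⟨WZ, hWZ⟩, hxW, hZV, ?_⟩
  let R := Γ(S, V)
  let B := Γ(X.left, W)
  let α := X.hom.appLE V W hWV
  letI : Algebra R B := α.hom.toAlgebra
  haveI : Algebra.Smooth R B := X.hom.smooth_appLE hV hW hWV
  have hmap : ∀ h : H, W ≤ (ρ h).hom.left ⁻¹ᵁ W := hWst
  let Φ : H → (B →ₐ[R] B) := fun h =>
    { ((ρ h).hom.left.appLE W W (hmap h)).hom with
      commutes' := fun r => by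
        show (α ≫ (ρ h).hom.left.appLE W W (hmap h)).hom r = α.hom r
        rw [Scheme.Hom.appLE_comp_appLE]
        simp only [Over.w]
        rfl }
  have hπ : ∀ h' : H, ∃ π : Equiv.Perm H, ∀ h b, Φ h (Φ h' b) = Φ (π h) b := fun h' =>
    ⟨Equiv.mulLeft h', fun h b => by
      show ((ρ h').hom.left.appLE W W (hmap h') ≫ (ρ h).hom.left.appLE W W (hmap h)).hom b =
        ((ρ (h' * h)).hom.left.appLE W W (hmap (h' * h))).hom b
      rw [Scheme.Hom.appLE_comp_appLE]
      simp only [← Over.comp_left]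
      have : (ρ (h' * h)).hom = (ρ h).hom ≫ (ρ h').hom := by rw [map_mul]; rfl
      simp only [this]⟩
  have hu : IsUnit (Fintype.card H : R) := by
    have := hH.map (S.presheaf.map (homOfLE (le_top : V ≤ ⊤)).op).hom
    rwa [map_natCast, Nat.card_eq_fintype_card] at this
  haveI := FiniteFixedAlg.smooth_quotient Φ hπ hu
  let q := ι.left.app W
  have hq : Function.Surjective q.hom := ι.left.app_surjective W hW
  have hker : RingHom.ker q.hom = FiniteFixedAlg.coinvIdeal Φ := by
    refine le_antisymm (fun a ha => ?_) (FiniteFixedAlg.le_ker Φ q.hom fun h b => ?_)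
    · rw [← Ideal.Quotient.eq_zero_iff_mem]
      let mk := CommRingCat.ofHom (Ideal.Quotient.mk (FiniteFixedAlg.coinvIdeal Φ))
      let T : Over S := Over.mk ((Spec.map mk ≫ hW.fromSpec) ≫ X.hom)
      let t : T ⟶ X := Over.homMk (Spec.map mk ≫ hW.fromSpec)
      obtain ⟨t', ht'⟩ := hZ T t fun h => Over.OverMorphism.ext (by
        show (Spec.map mk ≫ hW.fromSpec) ≫ (ρ h).hom.left = Spec.map mk ≫ hW.fromSpec
        rw [Category.assoc, ← IsAffineOpen.SpecMap_appLE_fromSpec (ρ h).hom.left hW hW (hmap h), ← Category.assoc,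
          ← Spec.map_comp]
        refine congrArg (Spec.map · ≫ hW.fromSpec) (CommRingCat.hom_ext (RingHom.ext fun b => ?_))
        exact Ideal.Quotient.eq.2 (FiniteFixedAlg.sub_mem Φ h b))
      have htop : (⊤ : T.left.Opens) ≤ t.left ⁻¹ᵁ W := fun y _ => by
        show hW.fromSpec (Spec.map mk y) ∈ W
        exact hW.opensRange_fromSpec.le ⟨_, rfl⟩
      have htop' : (⊤ : T.left.Opens) ≤ t'.left ⁻¹ᵁ WZ := by
        intro y hy
        show ι.left (t'.left y) ∈ W
        rw [← Scheme.Hom.comp_apply, ← Over.comp_left, ht']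
        exact htop hy
      have h1 : (t.left.appLE W ⊤ htop).hom a = 0 := by
        have h2 : t.left.appLE W ⊤ htop = q ≫ t'.left.appLE WZ ⊤ htop' := by
          rw [← Scheme.Hom.comp_appLE]
          simp only [← Over.comp_left, ht']
        rw [h2, CommRingCat.comp_apply]
        erw [ha]
        exact map_zero _
      have h3 : t.left.appLE W ⊤ htop = mk ≫ (Scheme.ΓSpecIso _).inv := by
        show (Spec.map mk ≫ hW.fromSpec).appLE W ⊤ htop = _
        rw [Scheme.Hom.comp_appLE, IsAffineOpen.fromSpec_app_self, Category.assoc, Scheme.Hom.map_appLE,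
          Scheme.ΓSpecIso_inv_naturality, Scheme.Hom.appTop, Scheme.Hom.app_eq_appLE]
        rfl
      rw [h3, CommRingCat.comp_apply] at h1
      exact (Scheme.ΓSpecIso _).symm.commRingCatIsoToRingEquiv.injective (h1.trans (map_zero _).symm)
    · have hq' : q = ι.left.appLE W WZ le_rfl := Scheme.Hom.app_eq_appLE ι.left
      rw [hq']
      show ((ρ h).hom.left.appLE W W (hmap h) ≫ ι.left.appLE W WZ le_rfl).hom b = _
      rw [Scheme.Hom.appLE_comp_appLE]
      simp only [← Over.comp_left, hι]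
  let e : (B ⧸ FiniteFixedAlg.coinvIdeal Φ) ≃+* Γ(Z.left, WZ) :=
    (Ideal.quotEquivOfEq hker.symm).trans (RingHom.quotientKerEquivOfSurjective hq)
  have hcomp : (Z.hom.appLE V WZ hZV).hom = e.toRingHom.comp (algebraMap R (B ⧸ FiniteFixedAlg.coinvIdeal Φ)) := by
    have : Z.hom.appLE V WZ hZV = α ≫ q := by
      simp only [← Over.w ι]
      show _ = X.hom.appLE V W hWV ≫ q
      rw [show q = ι.left.appLE W WZ le_rfl from Scheme.Hom.app_eq_appLE ι.left, Scheme.Hom.appLE_comp_appLE]
    rw [this]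
    rfl
  rw [hcomp]
  exact RingHom.Smooth.respectsIso.1 _ e (RingHom.smooth_algebraMap.2 inferInstance)

end Groth.Agent.AlgGrpLib.FiniteFixed
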