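import Mathlib.RingTheory.Smooth.Basic
import Mathlib.RingTheory.FinitePresentation
import Mathlib.RingTheory.Ideal.Quotient.Operations
import Mathlib.Tactic.Ring
import Mathlib.Tactic.LinearCombination

/-! The coinvariants of a smooth algebra under a finite group of invertible order form a smooth algebra. -/

set_option autoImplicit false

universe u

namespace Groth.Agent.AlgGrpLib.FiniteFixedAlg

variable {R B : Type u} [CommRing R] [CommRing B] [Algebra R B] {H : Type*} [Fintype H]
  (Φ : H → (B →ₐ[R] B))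

/-- The ideal generated by the differences `σ b - b`. -/
def coinvIdeal : Ideal B := Ideal.span {x | ∃ (h : H) (b : B), x = Φ h b - b}

theorem sub_mem (h : H) (b : B) : Φ h b - b ∈ coinvIdeal Φ := Ideal.subset_span ⟨h, b, rfl⟩

theorem le_ker {C : Type u} [CommRing C] (g : B →+* C) (hg : ∀ h b, g (Φ h b) = g b) :
    coinvIdeal Φ ≤ RingHom.ker g := by
  rw [coinvIdeal, Ideal.span_le]
  rintro x ⟨h, b, rfl⟩
  simp [RingHom.mem_ker, hg]

theorem coinvIdeal_fg [Algebra.FiniteType R B] : (coinvIdeal Φ).FG := by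
  classical
  obtain ⟨s, hs⟩ := (Algebra.FiniteType.out : (⊤ : Subalgebra R B).FG)
  let t : Finset B := (Finset.univ ×ˢ s).image fun p => Φ p.1 p.2 - p.2
  refine ⟨t, le_antisymm (Ideal.span_le.2 ?_) ?_⟩
  · intro x hx
    obtain ⟨p, -, rfl⟩ := Finset.mem_image.1 hx
    exact sub_mem Φ _ _
  · rw [coinvIdeal, Ideal.span_le]
    rintro x ⟨h, b, rfl⟩
    let mk := Ideal.Quotient.mkₐ R (Ideal.span (t : Set B))
    have hle : Algebra.adjoin R (s : Set B) ≤ AlgHom.equalizer (mk.comp (Φ h)) mk := by
      refine Algebra.adjoin_le fun x hx => ?_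
      show mk (Φ h x) = mk x
      refine Ideal.Quotient.eq.2 (Ideal.subset_span ?_)
      exact Finset.mem_image.2 ⟨(h, x), Finset.mem_product.2 ⟨Finset.mem_univ _, hx⟩, rfl⟩
    exact Ideal.Quotient.eq.1 (hle (hs ▸ Algebra.mem_top : b ∈ Algebra.adjoin R (s : Set B)))

theorem smooth_quotient [Algebra.Smooth R B] (hπ : ∀ h' : H, ∃ π : Equiv.Perm H, ∀ h b, Φ h (Φ h' b) = Φ (π h) b)
    (hu : IsUnit (Fintype.card H : R)) : Algebra.Smooth R (B ⧸ coinvIdeal Φ) := by
  refine ⟨?_, Algebra.FinitePresentation.quotient (coinvIdeal_fg Φ)⟩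
  rw [Algebra.FormallySmooth.iff_comp_surjective]
  intro C _ _ I hI g
  obtain ⟨f, hf⟩ := Algebra.FormallySmooth.exists_lift I ⟨2, hI⟩ (g.comp (Ideal.Quotient.mkₐ R (coinvIdeal Φ)))
  have hd : ∀ h b, f (Φ h b) - f b ∈ I := fun h b => by
    refine Ideal.Quotient.eq.1 (?_ : Ideal.Quotient.mk I (f (Φ h b)) = Ideal.Quotient.mk I (f b))
    refine (DFunLike.congr_fun hf (Φ h b)).trans (Eq.trans ?_ (DFunLike.congr_fun hf b).symm)
    exact congrArg g (Ideal.Quotient.eq.2 (sub_mem Φ h b))
  have hII : ∀ {x y : C}, x ∈ I → y ∈ I → x * y = 0 := fun {x y} hx hy => by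
    have := Ideal.mul_mem_mul hx hy
    rw [← pow_two, hI] at this
    exact (Submodule.mem_bot C).1 this
  obtain ⟨v, hv⟩ : ∃ v : C, v * (Fintype.card H : C) = 1 :=
    ⟨algebraMap R C ↑hu.unit⁻¹, by rw [← map_natCast (algebraMap R C), ← map_mul, IsUnit.val_inv_mul, map_one]⟩
  let d : B → C := fun b => v * ∑ h : H, (f (Φ h b) - f b)
  have hdI : ∀ b, d b ∈ I := fun b => I.mul_mem_left _ (I.sum_mem fun h _ => hd h b)
  let F : B →ₐ[R] C :=
    AlgHom.ofLinearMap
      { toFun := fun b => f b + d b
        map_add' := fun a b => by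
          have : ∑ h : H, (f (Φ h (a + b)) - f (a + b)) = ∑ h : H, (f (Φ h a) - f a) + ∑ h : H, (f (Φ h b) - f b) := by
            rw [← Finset.sum_add_distrib]
            exact Finset.sum_congr rfl fun h _ => by simp only [map_add]; ring
          simp only [d]
          rw [this, map_add f a b]
          ring
        map_smul' := fun r b => by
          have : ∑ h : H, (f (Φ h (r • b)) - f (r • b)) = r • ∑ h : H, (f (Φ h b) - f b) := by
            rw [Finset.smul_sum]
            exact Finset.sum_congr rfl fun h _ => by simp only [map_smul, smul_sub]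
          simp only [d]
          rw [this, map_smul f r b]
          simp only [RingHom.id_apply, smul_add, Algebra.smul_def]
          ring }
      (by simp [d])
      (fun a b => by
        show f (a * b) + d (a * b) = (f a + d a) * (f b + d b)
        have hsum : ∑ h : H, (f (Φ h (a * b)) - f (a * b)) =
            f b * ∑ h : H, (f (Φ h a) - f a) + f a * ∑ h : H, (f (Φ h b) - f b) := by
          rw [Finset.mul_sum, Finset.mul_sum, ← Finset.sum_add_distrib]
          refine Finset.sum_congr rfl fun h _ => ?_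
          have h0 := hII (hd h a) (hd h b)
          simp only [map_mul]
          linear_combination h0
        have h0 := hII (hdI a) (hdI b)
        simp only [d] at h0 ⊢
        rw [hsum, map_mul]
        linear_combination -h0)
  have hFsum : ∀ b, F b = v * ∑ h : H, f (Φ h b) := fun b => by
    show f b + d b = _
    simp only [d, Finset.sum_sub_distrib, Finset.sum_const, Finset.card_univ, nsmul_eq_mul]
    linear_combination -(f b) * hv
  have hinv : ∀ a ∈ coinvIdeal Φ, F a = 0 := fun a ha => by
    refine (le_ker Φ F.toRingHom fun h' b => ?_) ha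
    show F (Φ h' b) = F b
    obtain ⟨π, hπ'⟩ := hπ h'
    rw [hFsum, hFsum]
    refine congrArg (v * ·) ?_
    simp only [hπ']
    exact Fintype.sum_equiv π _ _ fun h => rfl
  refine ⟨Ideal.Quotient.liftₐ _ F hinv, ?_⟩
  refine Ideal.Quotient.algHom_ext _ ?_
  refine AlgHom.ext fun b => ?_
  show Ideal.Quotient.mk I (f b + d b) = g (Ideal.Quotient.mk _ b)
  rw [map_add, Ideal.Quotient.eq_zero_iff_mem.2 (hdI b), add_zero]
  exact DFunLike.congr_fun hf b

end Groth.Agent.AlgGrpLib.FiniteFixedAlg
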