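import Groth.Agent.AlgGrpLib.GroupFibrePure
import Groth.Agent.S9025
import Groth.Agent.Misc15.ClosedLocal
import Groth.Agent.SGA3cLib.WeilRes
import Groth.Prelude.Def_AlgGrp

/-!
# Fixed points of flat group schemes with connected fibres
-/

set_option autoImplicit false
set_option maxHeartbeats 1000000
set_option synthInstance.maxHeartbeats 200000
set_option linter.style.haveILetI false
set_option backward.isDefEq.respectTransparency.types false

universe u

open CategoryTheory CategoryTheory.Limits MonoidalCategory CartesianMonoidalCategory MonObj GrpObj AlgebraicGeometry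
open Opposite

noncomputable section

namespace Groth.Agent.AlgGrpLib.FixedPure

variable {S : Scheme.{u}} {G X : Over S} [GrpObj G] (a : AlgGrp.Action G X)

theorem lift_mul_act {T : Over S} (g h : T ⟶ G) (x : T ⟶ X) :
    lift (g * h) x ≫ a.act = lift g (lift h x ≫ a.act) ≫ a.act := by
  have h1 : lift (lift g h) x ≫ (μ[G] ▷ X) = lift (lift g h ≫ μ[G]) x := lift_whiskerRight _ _ _
  rw [Hom.mul_def, ← h1, Category.assoc, a.mul_act]
  simp

theorem lift_one_act {T : Over S} (x : T ⟶ X) : lift (1 : T ⟶ G) x ≫ a.act = x := by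
  have h1 : lift (toUnit T) x ≫ (η[G] ▷ X) = lift (1 : T ⟶ G) x := by rw [lift_whiskerRight, Hom.one_def]
  rw [← h1, Category.assoc, a.one_act, lift_leftUnitor_hom]

/-- A point of `X` is fixed. -/
def Fix' (T : Over S) (x : T ⟶ X) : Prop :=
  ∀ (T' : Over S) (t : T' ⟶ T) (g : T' ⟶ G), lift g (t ≫ x) ≫ a.act = t ≫ x

/-- A fixed point, as a morphism of schemes. -/
def Fix (T : Scheme.{u}) (x : T ⟶ X.left) : Prop :=
  Fix' a (Over.mk (x ≫ X.hom)) (Over.homMk x rfl)

theorem fix'_comp {T T' : Over S} (f : T' ⟶ T) (x : T ⟶ X) (h : Fix' a T x) : Fix' a T' (f ≫ x) := by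
  intro T'' t g
  rw [← Category.assoc]
  exact h T'' (t ≫ f) g

theorem fix_iff {T : Over S} (x : T ⟶ X) : Fix a T.left x.left ↔ Fix' a T x := by
  constructor
  · intro h
    have e := fix'_comp a (Over.homMk (𝟙 T.left) (by simp [Over.w x]) : T ⟶ Over.mk (x.left ≫ X.hom)) _ h
    rwa [show (Over.homMk (𝟙 T.left) (by simp [Over.w x]) : T ⟶ Over.mk (x.left ≫ X.hom)) ≫ (Over.homMk x.left rfl : Over.mk (x.left ≫ X.hom) ⟶ X) = x from
      Over.OverMorphism.ext (Category.id_comp _)] at e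
  · intro h
    have e := fix'_comp a (Over.homMk (𝟙 T.left) (by simp [Over.w x]) : Over.mk (x.left ≫ X.hom) ⟶ T) _ h
    rwa [show (Over.homMk (𝟙 T.left) (by simp [Over.w x]) : Over.mk (x.left ≫ X.hom) ⟶ T) ≫ x = (Over.homMk x.left rfl : Over.mk (x.left ≫ X.hom) ⟶ X) from
      Over.OverMorphism.ext (Category.id_comp _)] at e

theorem fix_pre (T T' : Scheme.{u}) (t : T' ⟶ T) (x : T ⟶ X.left) (h : Fix a T x) : Fix a T' (t ≫ x) := by
  have e := fix'_comp a (Over.homMk t (by simp) : Over.mk ((t ≫ x) ≫ X.hom) ⟶ Over.mk (x ≫ X.hom)) _ h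
  exact e

theorem fix_loc (T : Scheme.{u}) (x : T ⟶ X.left) (𝒱 : Scheme.OpenCover.{u} T)
    (h : ∀ i, Fix a _ (𝒱.f i ≫ x)) : Fix a T x := by
  intro T' t g
  refine Over.OverMorphism.ext (Scheme.Cover.hom_ext (𝒱.pullback₁ t.left) _ _ fun i => ?_)
  let c : Over.mk ((𝒱.pullback₁ t.left).f i ≫ T'.hom) ⟶ T' := Over.homMk ((𝒱.pullback₁ t.left).f i) rfl
  let t' : Over.mk ((𝒱.pullback₁ t.left).f i ≫ T'.hom) ⟶ Over.mk ((𝒱.f i ≫ x) ≫ X.hom) :=
    Over.homMk (pullback.snd t.left (𝒱.f i)) (by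
      show pullback.snd t.left (𝒱.f i) ≫ (𝒱.f i ≫ x) ≫ X.hom = pullback.fst t.left (𝒱.f i) ≫ T'.hom
      rw [← Over.w t, Category.assoc, ← pullback.condition_assoc]
      rfl)
  have ht' : t' ≫ (Over.homMk (𝒱.f i ≫ x) rfl : Over.mk ((𝒱.f i ≫ x) ≫ X.hom) ⟶ X) =
      c ≫ t ≫ Over.homMk x rfl := by
    refine Over.OverMorphism.ext ?_
    show pullback.snd t.left (𝒱.f i) ≫ 𝒱.f i ≫ x = pullback.fst t.left (𝒱.f i) ≫ t.left ≫ x
    rw [← pullback.condition_assoc]
  have hh := h i _ t' (c ≫ g)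
  rw [ht', ← comp_lift, Category.assoc] at hh
  exact congr($(hh).left)

variable [Flat G.hom] [LocallyOfFinitePresentation G.hom] [LocallyOfFinitePresentation X.hom]
  (hconn : ∀ s : S, ConnectedSpace (G.hom.fiber s))

omit [Flat G.hom] [LocallyOfFinitePresentation X.hom] in
include hconn in
theorem surjective_two (W : (G ⊗ X).left.Opens) {T T' : Over S} (x : T ⟶ X)
    (hσ : ∀ z : T.left, (lift (1 : T ⟶ G) x).left.base z ∈ W) (t : T' ⟶ T) (g : T' ⟶ G) :
    Surjective ((((lift (fst G T') (snd G T' ≫ t ≫ x) : G ⊗ T' ⟶ G ⊗ X).left ⁻¹ᵁ W) ⊓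
      ((lift ((snd G T' ≫ g) * (fst G T')⁻¹) (snd G T' ≫ t ≫ x) : G ⊗ T' ⟶ G ⊗ X).left ⁻¹ᵁ W)).ι ≫
        (snd G T').left) := by
  let m₁ : G ⊗ T' ⟶ G ⊗ X := lift (fst G T') (snd G T' ≫ t ≫ x)
  let m₂ : G ⊗ T' ⟶ G ⊗ X := lift ((snd G T' ≫ g) * (fst G T')⁻¹) (snd G T' ≫ t ≫ x)
  refine ⟨fun τ => ?_⟩
  let κ := T'.left.residueField τ
  let z : Spec (CommRingCat.of κ) ⟶ T'.left := T'.left.fromSpecResidueField τ
  let y : Spec (CommRingCat.of κ) ⟶ S := z ≫ T'.hom
  haveI : IrreducibleSpace (Red.bc y G).left := GroupFibrePure.irreducible_bc G hconn y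
  let P : Over S := Over.mk (pullback.fst G.hom y ≫ G.hom)
  let p : P ⟶ G := Over.homMk (pullback.fst G.hom y) rfl
  let t'' : P ⟶ T' := Over.homMk (pullback.snd G.hom y ≫ z) (by
    show (pullback.snd G.hom y ≫ z) ≫ T'.hom = pullback.fst G.hom y ≫ G.hom
    rw [pullback.condition, Category.assoc])
  let q : P ⟶ G ⊗ T' := lift p t''
  let K₀ : Over S := Over.mk y
  let z₀ : K₀ ⟶ T' := Over.homMk z rfl
  have hsec : ∀ h : K₀ ⟶ G, ∃ s : K₀ ⟶ P, s ≫ p = h ∧ s ≫ t'' = z₀ := by
    intro h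
    refine ⟨Over.homMk (pullback.lift h.left (𝟙 _) (by rw [Over.w h, Category.id_comp]; rfl)) (by
      show _ ≫ pullback.fst G.hom y ≫ G.hom = y
      rw [pullback.lift_fst_assoc, Over.w h]; rfl), Over.OverMorphism.ext (pullback.lift_fst _ _ _),
      Over.OverMorphism.ext ?_⟩
    show pullback.lift _ _ _ ≫ pullback.snd G.hom y ≫ z = z
    rw [pullback.lift_snd_assoc]
    exact Category.id_comp _
  let ω : K₀.left := IsLocalRing.closedPoint κ
  have hmem : ∀ (M : G ⊗ T' ⟶ G ⊗ X) (h : K₀ ⟶ G), lift h z₀ ≫ M = z₀ ≫ t ≫ lift (1 : T ⟶ G) x →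
      (q.left.base ⁻¹' (M.left.base ⁻¹' (W : Set (G ⊗ X).left))).Nonempty := by
    intro M h hM
    obtain ⟨s, hs₁, hs₂⟩ := hsec h
    have hsq : s ≫ q = lift h z₀ := by rw [comp_lift, hs₁, hs₂]
    have heq : (s ≫ q) ≫ M = (z₀ ≫ t) ≫ lift (1 : T ⟶ G) x := by rw [hsq, hM, Category.assoc]
    have hpt := congr($(heq).left.base ω)
    simp only [Over.comp_left, Scheme.Hom.comp_apply] at hpt
    refine ⟨s.left.base ω, ?_⟩
    exact (Set.mem_preimage.2 (Set.mem_preimage.2 (hpt.symm ▸ hσ _)))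
  have h1 := hmem m₁ 1 (by
    rw [comp_lift, lift_fst, lift_snd_assoc, ← Category.assoc z₀ t (lift _ _), comp_lift, MonObj.comp_one,
      Category.assoc])
  have h2 := hmem m₂ (z₀ ≫ g) (by
    rw [comp_lift, MonObj.comp_mul, GrpObj.comp_inv, lift_fst, lift_snd_assoc, lift_snd_assoc, mul_inv_cancel,
      ← Category.assoc z₀ t (lift _ _), comp_lift, MonObj.comp_one, Category.assoc])
  obtain ⟨w, hw₁, hw₂⟩ := nonempty_preirreducible_inter (X := (Red.bc y G).left)
    ((W.isOpen.preimage m₁.left.continuous).preimage q.left.continuous)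
    ((W.isOpen.preimage m₂.left.continuous).preimage q.left.continuous) h1 h2
  have hq : q ≫ snd G T' = t'' := lift_snd _ _
  have hq' := congr($(hq).left.base w)
  simp only [Over.comp_left, Scheme.Hom.comp_apply] at hq'
  have hz : t''.left.base w = τ := by
    show (pullback.snd G.hom y ≫ z).base w = τ
    rw [Scheme.Hom.comp_apply]
    exact Scheme.fromSpecResidueField_apply τ _
  refine ⟨⟨q.left.base w, hw₁, hw₂⟩, ?_⟩
  rw [Scheme.Hom.comp_apply, Scheme.Opens.ι_apply]
  exact hq'.trans hz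

omit [Flat G.hom] [LocallyOfFinitePresentation X.hom] in
include hconn in
/-- A point fixed by an open neighbourhood of the unit section is fixed. -/
theorem fix_of_open (W : (G ⊗ X).left.Opens) {T : Over S} (x : T ⟶ X)
    (hσ : ∀ z : T.left, (lift (1 : T ⟶ G) x).left.base z ∈ W)
    [Flat G.hom]
    (hcond : ∀ (T' : Over S) (w : T' ⟶ G ⊗ X) (t : T' ⟶ T), Set.range w.left.base ⊆ (W : Set (G ⊗ X).left) →
      w ≫ snd G X = t ≫ x → w ≫ a.act = t ≫ x) : Fix' a T x := by
  intro T' t g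
  let m₁ : G ⊗ T' ⟶ G ⊗ X := lift (fst G T') (snd G T' ≫ t ≫ x)
  let m₂ : G ⊗ T' ⟶ G ⊗ X := lift ((snd G T' ≫ g) * (fst G T')⁻¹) (snd G T' ≫ t ≫ x)
  let V : (G ⊗ T').left.Opens := (m₁.left ⁻¹ᵁ W) ⊓ (m₂.left ⁻¹ᵁ W)
  let V₀ : Over S := Over.mk (V.ι ≫ (G ⊗ T').hom)
  let jV : V₀ ⟶ G ⊗ T' := Over.homMk V.ι rfl
  let c : V₀ ⟶ T' := jV ≫ snd G T'
  haveI : Flat c.left := by
    rw [Over.comp_left]
    haveI : Flat (snd G T').left := MorphismProperty.pullback_snd (P := @Flat) G.hom T'.hom ‹Flat G.hom›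
    show Flat (V.ι ≫ (snd G T').left)
    infer_instance
  haveI : Surjective c.left := surjective_two hconn W x hσ t g
  haveI : Epi c.left := Flat.epi_of_flat_of_surjective c.left
  haveI : Epi c := Over.epi_of_epi_left _
  have hr : ∀ M : G ⊗ T' ⟶ G ⊗ X, V ≤ M.left ⁻¹ᵁ W → Set.range (jV ≫ M).left.base ⊆ (W : Set (G ⊗ X).left) := by
    rintro M hM _ ⟨v, rfl⟩
    exact hM v.2
  have e1 := hcond V₀ (jV ≫ m₁) (c ≫ t) (hr _ inf_le_left) (by simp [m₁, c])
  have e2 := hcond V₀ (jV ≫ m₂) (c ≫ t) (hr _ inf_le_right) (by simp [m₂, c])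
  rw [comp_lift] at e1 e2
  simp only [MonObj.comp_mul, GrpObj.comp_inv, ← Category.assoc] at e1 e2
  rw [← cancel_epi c, ← Category.assoc, comp_lift]
  have hg : c ≫ g = ((jV ≫ snd G T') ≫ g * (jV ≫ fst G T')⁻¹) * (jV ≫ fst G T') := (inv_mul_cancel_right _ _).symm
  rw [hg, lift_mul_act, ← Category.assoc, e1]
  exact e2

/-- Local representability of the fixed points. -/
theorem exists_local (hconn : ∀ s : S, ConnectedSpace (G.hom.fiber s)) (x₀ : X.left) :
    ∃ U : X.left.Opens, x₀ ∈ U ∧ ∃ (Z : Scheme.{u}) (j : Z ⟶ U), IsClosedImmersion j ∧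
      LocallyOfFinitePresentation j ∧ ∀ (T : Scheme.{u}) (x : T ⟶ U), Fix a T (x ≫ U.ι) ↔ ∃ z, z ≫ j = x := by
  obtain ⟨_, ⟨U₀, hU₀, rfl⟩, hx₀, -⟩ := X.left.isBasis_affineOpens.exists_subset_of_mem_open
    (Set.mem_univ x₀) isOpen_univ
  let σ : X ⟶ G ⊗ X := lift 1 (𝟙 X)
  have hσ₁ : σ ≫ a.act = 𝟙 X := lift_one_act a _
  have hσ₂ : σ ≫ snd G X = 𝟙 X := lift_snd _ _
  have hσb : ∀ (f : G ⊗ X ⟶ X), σ ≫ f = 𝟙 X → ∀ z, f.left.base (σ.left.base z) = z := fun f hf z => by
    rw [← Scheme.Hom.comp_apply, ← Over.comp_left, hf]; rfl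
  obtain ⟨_, ⟨W₀, hW₀, rfl⟩, hxW, hW₀le⟩ := (G ⊗ X).left.isBasis_affineOpens.exists_subset_of_mem_open
    (show σ.left.base x₀ ∈ ((snd G X).left ⁻¹ᵁ U₀ ⊓ a.act.left ⁻¹ᵁ U₀ : (G ⊗ X).left.Opens) from
      ⟨show (snd G X).left.base _ ∈ U₀ by rw [hσb _ hσ₂]; exact hx₀,
       show a.act.left.base _ ∈ U₀ by rw [hσb _ hσ₁]; exact hx₀⟩)
    ((snd G X).left ⁻¹ᵁ U₀ ⊓ a.act.left ⁻¹ᵁ U₀).2
  obtain ⟨f, hfle, hxf⟩ := hU₀.exists_basicOpen_le (V := σ.left ⁻¹ᵁ W₀) ⟨x₀, hxW⟩ hx₀
  let U := X.left.basicOpen f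
  have hU : IsAffineOpen U := hU₀.basicOpen f
  let W : (G ⊗ X).left.Opens := (G ⊗ X).left.basicOpen
    (((snd G X).left.appLE U₀ W₀ fun z hz => (hW₀le hz).1).hom f)
  have hW : IsAffineOpen W := hW₀.basicOpen _
  have hWeq : W = W₀ ⊓ (snd G X).left ⁻¹ᵁ U := Scheme.basicOpen_appLE _ _ _ _ _
  have hWU : W ≤ (snd G X).left ⁻¹ᵁ U := hWeq.le.trans inf_le_right
  have hWa : W ≤ a.act.left ⁻¹ᵁ U₀ := fun z hz => (hW₀le ((hWeq.le hz).1)).2
  have hσU : ∀ z ∈ U, σ.left.base z ∈ W := fun z hz => hWeq.ge ⟨hfle hz,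
    show (snd G X).left.base _ ∈ U by rw [hσb _ hσ₂]; exact hz⟩
  let A := Γ(X.left, U)
  let B := Γ((G ⊗ X).left, W)
  let φc : A ⟶ B := (snd G X).left.appLE U W hWU
  letI : Algebra A B := φc.hom.toAlgebra
  have hbase : Spec.map φc ≫ hU.fromSpec = hW.fromSpec ≫ (snd G X).left :=
    IsAffineOpen.SpecMap_appLE_fromSpec _ hU hW hWU
  haveI : LocallyOfFinitePresentation (snd G X).left :=
    MorphismProperty.pullback_snd (P := @LocallyOfFinitePresentation) G.hom X.hom ‹LocallyOfFinitePresentation G.hom›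
  haveI : Flat (snd G X).left := MorphismProperty.pullback_snd (P := @Flat) G.hom X.hom ‹Flat G.hom›
  haveI : Module.Flat A B := RingHom.flat_algebraMap_iff.1 ((snd G X).left.flat_appLE hU hW hWU)
  haveI : Algebra.FinitePresentation A B :=
    RingHom.finitePresentation_algebraMap.1 ((snd G X).left.finitePresentation_appLE hU hW hWU)
  -- purity
  have hpure : FlatCA.IsPure A B B := by
    intro p _ A' B' N' _ _ _ _ _ _ _ _ _ _ _ _ _ _ ff t' t _ _ P _ _ himp
    refine GroupFibrePure.isUnivPure_of_irreducible_cm (fun K _ y Z p₁ p₂ hsq => ?_) p A' B' N' ff t' t P himp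
    let y' : Spec (CommRingCat.of K) ⟶ S := y ≫ hU.fromSpec ≫ X.hom
    haveI : IrreducibleSpace (Red.bc y' G).left := GroupFibrePure.irreducible_bc G hconn y'
    haveI : LocallyOfFiniteType (Red.bc y' G).hom :=
      MorphismProperty.pullback_snd (P := @LocallyOfFiniteType) _ _ inferInstance
    have hsnd : (snd G X).left = pullback.snd G.hom X.hom := rfl
    have w1 : p₁ ≫ hW.fromSpec ≫ pullback.snd G.hom X.hom = p₂ ≫ y ≫ hU.fromSpec := by
      rw [← hsnd, ← hbase, ← Category.assoc]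
      exact congrArg (· ≫ hU.fromSpec) hsq.w |>.trans (Category.assoc _ _ _)
    let jZ : Z ⟶ (Red.bc y' G).left := pullback.lift (p₁ ≫ hW.fromSpec ≫ pullback.fst G.hom X.hom) p₂ (by
      simp only [Category.assoc, pullback.condition, y']
      rw [reassoc_of% w1])
    let pr : (Red.bc y' G).left ⟶ pullback G.hom X.hom :=
      pullback.lift (pullback.fst G.hom y') (pullback.snd G.hom y' ≫ y ≫ hU.fromSpec) (by
        rw [pullback.condition, Category.assoc, Category.assoc])
    have hr : IsPullback pr (pullback.snd G.hom y') (pullback.snd G.hom X.hom) (y ≫ hU.fromSpec) := by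
      refine IsPullback.of_right ?_ (pullback.lift_snd _ _ _) (IsPullback.of_hasPullback G.hom X.hom)
      rw [show pr ≫ pullback.fst G.hom X.hom = pullback.fst G.hom y' from pullback.lift_fst _ _ _, Category.assoc]
      exact IsPullback.of_hasPullback _ _
    have hK : IsPullback (y ≫ 𝟙 _) (𝟙 _) hU.fromSpec (y ≫ hU.fromSpec) :=
      (IsPullback.of_vert_isIso (fst := y) (snd := 𝟙 _) (f := 𝟙 _) (g := y) ⟨by simp⟩).paste_horiz
        (IsKernelPair.id_of_mono hU.fromSpec)
    have hsq2 : IsPullback p₁ jZ hW.fromSpec pr := by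
      refine IsPullback.of_bot ?_ ?_ hr
      · have h := hsq.paste_vert (by simpa using hK)
        simp only [Category.comp_id] at h
        rw [show jZ ≫ pullback.snd G.hom y' = p₂ from pullback.lift_snd _ _ _, ← hsnd, ← hbase]
        exact h
      · apply pullback.hom_ext
        · simp only [Category.assoc]
          rw [show pr ≫ pullback.fst G.hom X.hom = pullback.fst G.hom y' from pullback.lift_fst _ _ _]
          exact (pullback.lift_fst _ _ _).symm
        · simp only [pr, jZ, Category.assoc, pullback.lift_snd]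
          rw [pullback.lift_snd_assoc]
          exact w1
    haveI : IsOpenImmersion jZ := MorphismProperty.of_isPullback (P := @IsOpenImmersion) hsq2 inferInstance
    haveI : Nonempty Z := by
      let ω : Spec (CommRingCat.of K) := IsLocalRing.closedPoint K
      let sK : Spec (CommRingCat.of K) ⟶ (Red.bc y' G).left :=
        pullback.lift (y' ≫ η[G].left) (𝟙 _) (by
          rw [Category.assoc, Over.w η[G], Category.id_comp]; exact Category.comp_id _)
      have hs : sK ≫ pr = (y ≫ hU.fromSpec) ≫ σ.left := by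
        apply pullback.hom_ext
        · simp only [sK, pr, Category.assoc, pullback.lift_fst]
          show _ = y ≫ hU.fromSpec ≫ σ.left ≫ (fst G X).left
          rw [← Over.comp_left, lift_fst]
          show y' ≫ η[G].left = y ≫ hU.fromSpec ≫ X.hom ≫ η[G].left
          simp [y']
        · simp only [sK, pr, Category.assoc, pullback.lift_snd]
          rw [pullback.lift_snd_assoc, Category.id_comp]
          show _ = y ≫ hU.fromSpec ≫ σ.left ≫ (snd G X).left
          rw [← Over.comp_left, hσ₂]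
          exact (congrArg (y ≫ ·) (Category.comp_id _)).symm
      have hW' : pr.base (sK.base ω) ∈ Set.range hW.fromSpec.base := by
        rw [← Scheme.Hom.comp_apply, hs, Scheme.Hom.comp_apply, IsAffineOpen.range_fromSpec]
        refine hσU _ ?_
        rw [Scheme.Hom.comp_apply]
        exact hU.range_fromSpec.le ⟨_, rfl⟩
      obtain ⟨b, hb⟩ := hW'
      obtain ⟨q, -⟩ := Scheme.Pullback.exists_preimage_pullback b (sK.base ω) hb
      exact ⟨hsq2.isoPullback.inv.base q⟩
    exact GroupFibrePure.irreducible_cm_open (Red.bc y' G) jZ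
  -- the closed subscheme
  let qU : (Scheme.Opens.toScheme U₀) ⟶ S := (Scheme.Opens.ι U₀) ≫ X.hom
  haveI : IsAffine (Scheme.Opens.toScheme U₀) := hU₀
  haveI : IsSeparated qU := by
    haveI : IsSeparated (qU ≫ terminal.from S) := by
      rw [terminal.comp_from]; infer_instance
    exact IsSeparated.of_comp qU (terminal.from S)
  haveI : LocallyOfFinitePresentation (pullback.diagonal qU) := by
    have : LocallyOfFinitePresentation (pullback.diagonal qU ≫ pullback.fst qU qU) := by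
      rw [pullback.diagonal_fst]
      infer_instance
    exact EGA43.Limit.locallyOfFinitePresentation_of_comp _ (pullback.fst qU qU)
  have hr₁ : Set.range (hW.fromSpec ≫ a.act.left).base ⊆ Set.range (Scheme.Opens.ι U₀).base := by
    rintro _ ⟨z, rfl⟩
    rw [Scheme.Opens.range_ι]
    exact hWa (hW.range_fromSpec.le ⟨z, rfl⟩)
  have hr₂ : Set.range (hW.fromSpec ≫ (snd G X).left).base ⊆ Set.range (Scheme.Opens.ι U₀).base := by
    rintro _ ⟨z, rfl⟩
    rw [Scheme.Opens.range_ι]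
    exact (X.left.basicOpen_le f) (hWU (hW.range_fromSpec.le ⟨z, rfl⟩))
  let l₁ := IsOpenImmersion.lift (Scheme.Opens.ι U₀) _ hr₁
  let l₂ := IsOpenImmersion.lift (Scheme.Opens.ι U₀) _ hr₂
  let i := pullback.snd (pullback.diagonal qU) (pullback.lift l₁ l₂ (by
    simp only [l₁, l₂, qU]
    rw [IsOpenImmersion.lift_fac_assoc, IsOpenImmersion.lift_fac_assoc, Category.assoc, Category.assoc,
      Over.w a.act, Over.w (snd G X)]))
  haveI : IsClosedImmersion i := MorphismProperty.pullback_snd _ _ (inferInstance : IsClosedImmersion (pullback.diagonal qU))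
  haveI : LocallyOfFinitePresentation i :=
    MorphismProperty.pullback_snd _ _ ‹LocallyOfFinitePresentation (pullback.diagonal qU)›
  have hi : ∀ {V : Scheme.{u}} (v : V ⟶ Spec B),
      (∃ l, l ≫ i = v) ↔ v ≫ hW.fromSpec ≫ a.act.left = v ≫ hW.fromSpec ≫ (snd G X).left := by
    intro V v
    have key : (∃ l, l ≫ i = v) ↔ v ≫ l₁ ≫ (Scheme.Opens.ι U₀) = v ≫ l₂ ≫ (Scheme.Opens.ι U₀) := ?_
    · simp only [l₁, l₂, IsOpenImmersion.lift_fac] at key
      exact key
    constructor
    · rintro ⟨l, rfl⟩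
      have h1 := congrArg (fun z => l ≫ z ≫ pullback.fst qU qU ≫ (Scheme.Opens.ι U₀)) (pullback.condition (f := pullback.diagonal qU)
        (g := pullback.lift l₁ l₂ _))
      have h2 := congrArg (fun z => l ≫ z ≫ pullback.snd qU qU ≫ (Scheme.Opens.ι U₀)) (pullback.condition (f := pullback.diagonal qU)
        (g := pullback.lift l₁ l₂ _))
      simp only [Category.assoc, pullback.diagonal_fst_assoc, pullback.diagonal_snd_assoc, pullback.lift_fst_assoc,
        pullback.lift_snd_assoc] at h1 h2 ⊢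
      exact h1.symm.trans h2
    · intro h
      have h' : v ≫ l₁ = v ≫ l₂ := by rw [← cancel_mono (Scheme.Opens.ι U₀), Category.assoc, Category.assoc]; exact h
      exact ⟨pullback.lift (v ≫ l₁) v (by
        apply pullback.hom_ext
        · simp only [Category.assoc, pullback.diagonal_fst, Category.comp_id, pullback.lift_fst]
        · simp only [Category.assoc, pullback.diagonal_snd, Category.comp_id, pullback.lift_snd, h']),
        pullback.lift_snd _ _ _⟩
  let π : Spec B ⟶ Spec A := Spec.map φc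
  haveI : LocallyOfFinitePresentation π := by
    rw [HasRingHomProperty.Spec_iff (P := @LocallyOfFinitePresentation)]
    exact (snd G X).left.finitePresentation_appLE hU hW hWU
  obtain ⟨Z, hZc, ⟨hZrep⟩, hZfp⟩ := S9025.result (A := A) (B := B) hpure i
  have hZ : ∀ {T : Scheme.{u}} (xA : T ⟶ Spec A),
      (∃ z, z ≫ Z.hom = xA) ↔ ∃ l, l ≫ i = pullback.fst π xA := by
    intro T xA
    rw [SGA3cLib.WeilRes.exists_lift_iff_isIso i]
    constructor
    · rintro ⟨z, hz⟩
      obtain ⟨T₀, k, hk⟩ := (FlatFun.genPSp_nonempty_iff _ (Over.mk xA)).1 ⟨hZrep.homEquiv (Over.homMk z hz)⟩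
      rw [← SGA3cLib.WeilRes.exists_lift_iff_isIso] at hk ⊢
      obtain ⟨l, hl⟩ := hk
      refine ⟨pullback.map π xA π T₀.hom (𝟙 _) k.left (𝟙 _) (by simp) (by
        rw [Category.comp_id]; exact (Over.w k).symm) ≫ l, ?_⟩
      show _ = pullback.fst π xA
      rw [Category.assoc, hl]
      exact (pullback.lift_fst _ _ _).trans (Category.comp_id _)
    · intro h
      obtain ⟨x⟩ := (FlatFun.genPSp_nonempty_iff (fun T : Over (Spec (CommRingCat.of A)) =>
        IsIso (pullback.snd i (pullback.fst π T.hom))) (Over.mk xA)).2 ⟨Over.mk xA, 𝟙 _, h⟩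
      exact ⟨(hZrep.homEquiv.symm x).left, Over.w (hZrep.homEquiv.symm x)⟩
  haveI : LocallyOfFinitePresentation Z.hom := hZfp (inferInstanceAs (LocallyOfFinitePresentation (i ≫ π)))
  haveI := hZc
  refine ⟨U, hxf, Z.left, Z.hom ≫ hU.isoSpec.inv, inferInstance, inferInstance, fun T x => ?_⟩
  let xA : T ⟶ Spec A := x ≫ hU.isoSpec.hom
  have hxA : xA ≫ hU.fromSpec = x ≫ U.ι := by
    show (x ≫ hU.isoSpec.hom) ≫ hU.isoSpec.inv ≫ U.ι = _
    rw [Category.assoc, Iso.hom_inv_id_assoc]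
  rw [show (∃ z, z ≫ Z.hom ≫ hU.isoSpec.inv = x) ↔ ∃ z, z ≫ Z.hom = xA from exists_congr fun z => by
    constructor <;> intro h
    · show _ = x ≫ hU.isoSpec.hom
      rw [← h, Category.assoc, Category.assoc, Iso.inv_hom_id, Category.comp_id]
    · rw [← Category.assoc, h]
      show (x ≫ hU.isoSpec.hom) ≫ hU.isoSpec.inv = x
      rw [Category.assoc, Iso.hom_inv_id, Category.comp_id], hZ, hi]
  let To : Over S := Over.mk ((x ≫ U.ι) ≫ X.hom)
  let xo : To ⟶ X := Over.homMk (x ≫ U.ι) rfl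
  have hbP : pullback.fst π xA ≫ hW.fromSpec ≫ (snd G X).left = pullback.snd π xA ≫ x ≫ U.ι := by
    rw [← hbase, ← Category.assoc, pullback.condition, Category.assoc, hxA]
  constructor
  · intro h
    let P : Over S := Over.mk (pullback.fst π xA ≫ hW.fromSpec ≫ (G ⊗ X).hom)
    let w : P ⟶ G ⊗ X := Over.homMk (pullback.fst π xA ≫ hW.fromSpec) (Category.assoc _ _ _)
    let t : P ⟶ To := Over.homMk (pullback.snd π xA) (by
      show pullback.snd π xA ≫ (x ≫ U.ι) ≫ X.hom = pullback.fst π xA ≫ hW.fromSpec ≫ (G ⊗ X).hom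
      rw [← Over.w (snd G X), reassoc_of% hbP, Category.assoc])
    have hw : w ≫ snd G X = t ≫ xo := Over.OverMorphism.ext ((Category.assoc _ _ _).trans hbP)
    have hh : w ≫ a.act = t ≫ xo := by
      have := h P t (w ≫ fst G X)
      rwa [← hw, lift_comp_fst_snd, hw] at this
    have h3 := congrArg (fun z : P ⟶ X => z.left) (hh.trans hw.symm)
    simpa [w] using h3
  · intro h
    refine fix_of_open a hconn W xo (fun z => ?_) fun T' w t hrange hw => ?_
    · rw [show lift (1 : To ⟶ G) xo = xo ≫ σ by rw [comp_lift, MonObj.comp_one, Category.comp_id],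
        Over.comp_left, Scheme.Hom.comp_apply]
      exact hσU _ (show (x ≫ U.ι).base z ∈ U by rw [Scheme.Hom.comp_apply]; exact (x.base z).2)
    · let wB : T'.left ⟶ Spec B := IsOpenImmersion.lift hW.fromSpec w.left (by rwa [hW.range_fromSpec])
      have hwB : wB ≫ hW.fromSpec = w.left := IsOpenImmersion.lift_fac _ _ _
      have hwπ : wB ≫ π = t.left ≫ xA := by
        rw [← cancel_mono hU.fromSpec, Category.assoc, Category.assoc, hbase, ← Category.assoc wB, hwB, hxA,
          ← Over.comp_left, hw]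
        rfl
      refine Eq.trans ?_ hw
      refine Over.OverMorphism.ext ?_
      have h4 := congrArg (pullback.lift wB t.left hwπ ≫ ·) h
      simp only [pullback.lift_fst_assoc] at h4
      simpa [← Category.assoc, hwB] using h4

include hconn in
/-- The fixed points form a closed subscheme. -/
theorem exists_fixed : ∃ (F : Scheme.{u}) (j : F ⟶ X.left), IsClosedImmersion j ∧ LocallyOfFinitePresentation j ∧
    ∀ (T : Scheme.{u}) (x : T ⟶ X.left), Fix a T x ↔ ∃ z, z ≫ j = x := by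
  choose U hxU Z tl htl htfp hTl using exists_local a hconn
  haveI := htl
  haveI := htfp
  have hcover : TopologicalSpace.IsOpenCover U :=
    TopologicalSpace.IsOpenCover.mk (eq_top_iff.2 fun s _ => TopologicalSpace.Opens.mem_iSup.2 ⟨s, hxU s⟩)
  obtain ⟨F, j, hj, hF⟩ := Misc15.ClosedLocal.exists_closedImmersion X.left (Fix a)
    (fix_pre a) (fix_loc a) U hcover (fun s => ⟨_, tl s, htl s, hTl s⟩)
  refine ⟨F, j, hj, ?_, hF⟩
  rw [IsZariskiLocalAtTarget.iff_of_openCover (P := @LocallyOfFinitePresentation) (X.left.openCoverOfIsOpenCover U hcover)]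
  intro s
  change LocallyOfFinitePresentation (pullback.snd j (U s).ι)
  obtain ⟨l, hl⟩ := (hTl s _ (pullback.snd j (U s).ι)).1 (by
    rw [← pullback.condition]; exact (hF _ _).2 ⟨_, rfl⟩)
  obtain ⟨l', hl'⟩ := (hF _ (tl s ≫ (U s).ι)).1 ((hTl s _ (tl s)).2 ⟨𝟙 _, Category.id_comp _⟩)
  haveI : IsIso l := by
    refine ⟨pullback.lift l' (tl s) hl', ?_, ?_⟩
    · rw [← cancel_mono (pullback.snd j (U s).ι), Category.assoc, pullback.lift_snd, hl, Category.id_comp]
    · rw [← cancel_mono (tl s), Category.assoc, hl, pullback.lift_snd, Category.id_comp]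
  rw [← hl]
  infer_instance

end Groth.Agent.AlgGrpLib.FixedPure
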