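import Groth.Agent.CAlgH.GRingMaximal
import Groth.Agent.Desc19b.Source
import Groth.Agent.FlatLocal.Descent
import Groth.Agent.EGA43.FlatDescent.SchemeOpen
import Groth.Agent.AlgGrpLib.ExactSeqBasics
import Mathlib.AlgebraicGeometry.AlgClosed.Basic

/-! Homomorphisms of algebraic groups which are flat at the neutral element are flat. -/

set_option autoImplicit false
set_option backward.isDefEq.respectTransparency.types false

universe u

open CategoryTheory CategoryTheory.Limits MonoidalCategory CartesianMonoidalCategory MonObj AlgebraicGeometry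

namespace Groth.Agent.AlgGrpLib.FlatAtUnit

set_option maxHeartbeats 800000 in
open IsLocalRing in
/-- A local homomorphism of noetherian local rings inducing a bijection on completions is flat. -/
theorem flat_of_levels {A B : Type u} [CommRing A] [CommRing B] [IsLocalRing A] [IsLocalRing B]
    [IsNoetherianRing A] [IsNoetherianRing B] (φ : A →+* B) [IsLocalHom φ]
    (hs : ∀ n : ℕ, Function.Surjective ((Ideal.Quotient.mk (maximalIdeal B ^ (n + 1))).comp φ))
    (hk : ∀ (n : ℕ) (a : A), φ a ∈ maximalIdeal B ^ (n + 1) ↔ a ∈ maximalIdeal A ^ (n + 1)) : φ.Flat := by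
  letI := φ.toAlgebra
  haveI : IsLocalHom (algebraMap A B) := ‹IsLocalHom φ›
  let C := EGA4.Cpl B
  haveI : IsAdicComplete (maximalIdeal C) C := inferInstance
  haveI := CAlgH.isLocalHom_algebraMap_cpl B
  haveI : Module.FaithfullyFlat B C := Module.FaithfullyFlat.of_flat_of_isLocalHom
  have hmap : ∀ j, (maximalIdeal B ^ j).map (algebraMap B C) = maximalIdeal C ^ j := fun j => by
    rw [Ideal.map_pow, ← AdicCompletion.maximalIdeal_eq_map]
  obtain ⟨e, he⟩ := CAlgH.completion_equiv_of_quotients (maximalIdeal A) (maximalIdeal C) ((algebraMap B C).comp φ)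
    (fun j => by
      rw [← Ideal.comap_comap, ← hmap, Ideal.comap_map_eq_self_of_faithfullyFlat]
      cases j with
      | zero => simp
      | succ n => ext a; exact hk n a)
    (fun j y => by
      obtain ⟨b, hb⟩ := CAlgH.exists_sub_mem_pow _ AdicCompletion.maximalIdeal_eq_map.symm
        (CAlgH.exists_sub_algebraMap_mem B) j y
      obtain ⟨r, hr⟩ := hs j (Ideal.Quotient.mk _ b)
      refine ⟨r, ?_⟩
      have h1 : b - φ r ∈ maximalIdeal B ^ (j + 1) := Ideal.Quotient.eq.mp hr.symm
      have h2 := Ideal.mem_map_of_mem (algebraMap B C) (Ideal.pow_le_pow_right (Nat.le_succ j) h1)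
      rw [hmap, map_sub] at h2
      convert add_mem hb h2 using 1
      simp only [RingHom.comp_apply]
      ring)
  have hflat : e.toRingHom.Flat := RingHom.Flat.of_bijective e.bijective
  exact (CAlgH.completion_map_flat_iff A B e.toRingHom (RingHom.ext he)).1 hflat

theorem flat_stalkMap_of_flat_open {X Y : Scheme.{u}} (f : X ⟶ Y) (U : X.Opens) [Flat (U.ι ≫ f)] (x : X) (hx : x ∈ U) :
    (f.stalkMap x).hom.Flat := by
  have h := Flat.stalkMap (U.ι ≫ f) ⟨x, hx⟩
  exact (Desc19b.flat_stalkMap_comp_iff U.ι f ⟨x, hx⟩ (Flat.stalkMap U.ι ⟨x, hx⟩)).1 h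

theorem flat_stalkMap_apply_of_iso {X Y : Scheme.{u}} (r : X ⟶ X) (r' : Y ⟶ Y) [IsIso r] [IsIso r'] (f : X ⟶ Y)
    (h : r ≫ f = f ≫ r') (x : X) (hx : (f.stalkMap x).hom.Flat) : (f.stalkMap (r x)).hom.Flat := by
  refine (Desc19b.flat_stalkMap_comp_iff r f x (Flat.stalkMap r x)).1 ?_
  rw [Scheme.Hom.stalkMap_congr_hom _ _ h, Scheme.Hom.stalkMap_comp]
  simp only [CommRingCat.hom_comp, ← RingHom.comp_assoc]
  exact RingHom.Flat.comp (RingHom.Flat.of_bijective (ConcreteCategory.bijective_of_isIso _))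
    (RingHom.Flat.comp (Flat.stalkMap r' _) hx)

set_option maxHeartbeats 800000 in
theorem flat_of_flat_stalkMap_unit_algClosed {K : Type u} [Field K] [IsAlgClosed K]
    {H G : Over (Spec (CommRingCat.of K))} [GrpObj H] [GrpObj G] [LocallyOfFiniteType H.hom] [LocallyOfFiniteType G.hom]
    (f : H ⟶ G) [IsMonHom f] (e : H.left) (he : e ∈ Set.range η[H].left) (hf : (f.left.stalkMap e).hom.Flat) :
    Flat f.left := by
  haveI := ExactSeqBasics.locallyOfFinitePresentation_left f
  refine Flat.of_stalkMap _ fun x => ?_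
  let U : H.left.Opens := ⟨_, EGA43.FlatDescent.isOpen_flat_stalkMap f.left⟩
  suffices hU : (U : Set H.left) = Set.univ from (hU.symm ▸ Set.mem_univ x : x ∈ (U : Set H.left))
  by_contra hne
  haveI : JacobsonSpace H.left := LocallyOfFiniteType.jacobsonSpace H.hom
  obtain ⟨z, hz, hzc⟩ := nonempty_inter_closedPoints (Z := (U : Set H.left)ᶜ)
    (Set.nonempty_compl.2 hne) U.2.isClosed_compl.isLocallyClosed
  let p := (pointEquivClosedPoint H.hom).symm ⟨z, hzc⟩
  let h : 𝟙_ (Over (Spec (CommRingCat.of K))) ⟶ H := Over.homMk p.1 (by simpa using p.2)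
  let R : H ≅ H := ⟨𝟙 H * (toUnit H ≫ h), 𝟙 H * (toUnit H ≫ h)⁻¹, by simp [MonObj.comp_mul, GrpObj.comp_inv],
    by simp [MonObj.comp_mul, GrpObj.comp_inv]⟩
  let R' : G ≅ G := ⟨𝟙 G * (toUnit G ≫ h ≫ f), 𝟙 G * (toUnit G ≫ h ≫ f)⁻¹, by simp [MonObj.comp_mul, GrpObj.comp_inv],
    by simp [MonObj.comp_mul, GrpObj.comp_inv]⟩
  have hRf : R.hom ≫ f = f ≫ R'.hom := by
    simp only [R, R', MonObj.mul_comp, MonObj.comp_mul, Category.comp_id, Category.id_comp, Category.assoc]
    rw [← Category.assoc f (toUnit G), comp_toUnit]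
  have hze : R.hom.left e = z := by
    obtain ⟨t, rfl⟩ := he
    rw [← Scheme.Hom.comp_apply, ← Over.comp_left]
    have : η[H] ≫ R.hom = h := by
      simp [R, MonObj.comp_mul, MonObj.one_eq_one, toUnit_unique (η[H] ≫ toUnit H) (𝟙 _)]
    rw [this]
    have hp : (pointEquivClosedPoint H.hom p).1 = z := by simp [p]
    rw [← hp, Subsingleton.elim (α := PrimeSpectrum K) t (IsLocalRing.closedPoint K)]
    rfl
  refine hz ?_
  show (f.left.stalkMap z).hom.Flat
  rw [← hze]
  haveI : IsIso R.hom.left := ((Over.forget _).mapIso R).isIso_hom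
  haveI : IsIso R'.hom.left := ((Over.forget _).mapIso R').isIso_hom
  exact flat_stalkMap_apply_of_iso R.hom.left R'.hom.left f.left
    (by rw [← Over.comp_left, hRf, Over.comp_left]) e hf

/-- A homomorphism of algebraic groups which is flat at the neutral element is flat. -/
theorem flat_of_flat_stalkMap_unit {k : Type u} [Field k]
    {H G : Over (Spec (CommRingCat.of k))} [GrpObj H] [GrpObj G] [LocallyOfFiniteType H.hom] [LocallyOfFiniteType G.hom]
    (f : H ⟶ G) [IsMonHom f] (e : H.left) (he : e ∈ Set.range η[H].left) (hf : (f.left.stalkMap e).hom.Flat) :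
    Flat f.left := by
  haveI := ExactSeqBasics.locallyOfFinitePresentation_left f
  let U : H.left.Opens := ⟨_, EGA43.FlatDescent.isOpen_flat_stalkMap f.left⟩
  haveI : Flat (U.ι ≫ f.left) := (Flat.iff_flat_stalkMap _).2 fun p => by
    rw [Scheme.Hom.stalkMap_comp]
    exact RingHom.Flat.comp p.2 (Flat.stalkMap U.ι p)
  let g : Spec (CommRingCat.of (AlgebraicClosure k)) ⟶ Spec (CommRingCat.of k) :=
    Spec.map (CommRingCat.ofHom (algebraMap k (AlgebraicClosure k)))
  let F := Over.pullback g
  letI : GrpObj (F.obj H) := Functor.grpObjObj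
  letI : GrpObj (F.obj G) := Functor.grpObjObj
  haveI : IsMonHom (F.map f) := by infer_instance
  haveI : LocallyOfFiniteType (F.obj H).hom := MorphismProperty.pullback_snd (P := @LocallyOfFiniteType) H.hom g inferInstance
  haveI : LocallyOfFiniteType (F.obj G).hom := MorphismProperty.pullback_snd (P := @LocallyOfFiniteType) G.hom g inferInstance
  let qH := Limits.pullback.fst H.hom g
  let qG := Limits.pullback.fst G.hom g
  have hsq : IsPullback qH (F.map f).left f.left qG := by
    refine IsPullback.of_bot (v₂₁ := (F.obj G).hom) (v₂₂ := G.hom) (h₃₁ := g) ?_ ?_ (IsPullback.of_hasPullback G.hom g)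
    · rw [Over.w f, Over.w (F.map f)]
      exact IsPullback.of_hasPullback H.hom g
    · exact (Limits.pullback.lift_fst _ _ _).symm
  let V := qH ⁻¹ᵁ U
  haveI : Flat (V.ι ≫ (F.map f).left) :=
    MorphismProperty.of_isPullback (P := @Flat) ((isPullback_morphismRestrict qH U).paste_vert hsq) inferInstance
  haveI hΩ : Flat (F.map f).left := by
    refine flat_of_flat_stalkMap_unit_algClosed (F.map f) _ ⟨IsLocalRing.closedPoint (AlgebraicClosure k), rfl⟩
      (flat_stalkMap_of_flat_open _ V _ ?_)
    show qH (η[F.obj H].left _) ∈ U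
    obtain ⟨t, rfl⟩ := he
    have hmem : η[H].left t ∈ U := hf
    have : η[F.obj H].left ≫ qH = g ≫ η[H].left := by
      simp [F, qH, Functor.obj.η_def]
      rw [Limits.pullback.lift_fst, ← Category.assoc, ← pullback.condition, Category.comp_id]
    rw [← Scheme.Hom.comp_apply, this, Scheme.Hom.comp_apply]
    rwa [Subsingleton.elim (α := PrimeSpectrum k) (g _) t]
  haveI : Surjective g := ⟨fun y => ⟨IsLocalRing.closedPoint (AlgebraicClosure k), Subsingleton.elim _ _⟩⟩
  haveI : Flat g := inferInstance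
  haveI : Flat qH := inferInstance
  haveI : Surjective qH := inferInstance
  haveI : Flat qG := inferInstance
  haveI : Flat (qH ≫ f.left) := by rw [hsq.w]; infer_instance
  exact FlatLocal.flat_of_comp qH f.left

end Groth.Agent.AlgGrpLib.FlatAtUnit
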