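import Groth.Agent.GrpdLib.FppfQuot
import Groth.Agent.SGA3cLib.FpqcEpi
import Groth.Agent.SGA3cLib.ActionPoints
import Groth.Prelude.Def_W4bk4git07Quot
import Mathlib.Algebra.Polynomial.Eval.Defs

/-!
# fppf quotients by a group are geometric quotients
-/

set_option autoImplicit false
set_option backward.isDefEq.respectTransparency.types false

universe u

open CategoryTheory Limits MonoidalCategory CartesianMonoidalCategory MonObj GrpObj AlgebraicGeometry
open Groth.Agent.SGA3cLib Groth.Agent.AlgSpLib AlgSp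

namespace Groth.Agent.AlgGrpLib.FppfGeomQuot

variable {S : Scheme.{u}}

theorem exists_family_of_covering {T : Over S} {C : Sieve T} (hC : C ∈ AlgSp.J S T) :
    ∃ (κ : Type u) (W : κ → Over S) (f : ∀ i, W i ⟶ T), (∀ i, C (f i)) ∧
      ∃ c : sigmaOver W ⟶ T, (∀ i, sigmaOverι W i ≫ c = f i) ∧
        Flat c.left ∧ LocallyOfFinitePresentation c.left ∧ Surjective c.left := by
  obtain ⟨R', hR', hle⟩ := exists_precoverage_of_mem hC
  have h : R' ∈ Scheme.precoverage (@Flat ⊓ @LocallyOfFinitePresentation) T.left := hR'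
  have h0 : ∀ t : ↥T.left, ∃ (Z : Over S) (f : Z ⟶ T), C f ∧ Flat f.left ∧
      LocallyOfFinitePresentation f.left ∧ t ∈ Set.range f.left := fun t => by
    obtain ⟨Z, f, hf, z, hz⟩ := Scheme.JointlySurjective.exists_eq R' h t
    obtain ⟨h1, h2⟩ := h.2 hf
    exact ⟨Over.mk (f ≫ T.hom), Over.homMk f, hle f hf, h1, h2, z, hz⟩
  choose Z f hfC hff hfp hft using h0
  let c : sigmaOver Z ⟶ T :=
    Over.homMk (Sigma.desc fun i => (f i).left) (Sigma.hom_ext _ _ fun i => by simp [sigmaOver])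
  have hc : ∀ i, sigmaOverι Z i ≫ c = f i := fun i => Over.OverMorphism.ext (Sigma.ι_desc _ _)
  refine ⟨T.left, Z, f, hfC, c, hc, IsZariskiLocalAtSource.sigmaDesc fun i => hff i,
    IsZariskiLocalAtSource.sigmaDesc fun i => hfp i, ⟨fun t => ?_⟩⟩
  obtain ⟨y, hy⟩ := hft t
  refine ⟨(sigmaOverι Z t).left y, ?_⟩
  rw [← Scheme.Hom.comp_apply, ← Over.comp_left, hc]
  exact hy

theorem exists_desc_sigmaOver {κ : Type u} {W : κ → Over S} {X : Over S} (m : ∀ i, W i ⟶ X) :
    ∃ M : sigmaOver W ⟶ X, ∀ i, sigmaOverι W i ≫ M = m i :=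
  ⟨Over.homMk (Sigma.desc fun i => (m i).left) (Sigma.hom_ext _ _ fun i => by simp [sigmaOver]),
    fun i => Over.OverMorphism.ext (Sigma.ι_desc _ _)⟩

theorem hom_ext_sigmaOver {κ : Type u} {W : κ → Over S} {X : Over S} {a b : sigmaOver W ⟶ X}
    (h : ∀ i, sigmaOverι W i ≫ a = sigmaOverι W i ≫ b) : a = b :=
  Over.OverMorphism.ext (Sigma.hom_ext _ _ fun i => congrArg CommaMorphism.left (h i))

theorem isFpqcCov_of_flat_lfp {Z Y : Scheme.{u}} (c : Z ⟶ Y) [Flat c] [LocallyOfFinitePresentation c]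
    [Surjective c] : IsFpqcCov c := by
  refine IsFpqcCov.of_forall c fun V hV => ?_
  have h0 : ∀ y : (V : Set Y), ∃ W : Z.Opens, IsCompact (W : Set Z) ∧ c.base '' (W : Set Z) ⊆ V ∧
      y.1 ∈ c.base '' (W : Set Z) := by
    rintro ⟨y, hy⟩
    obtain ⟨z, rfl⟩ := c.surjective y
    obtain ⟨W, hW, hzW, hWV⟩ := exists_isAffineOpen_mem_and_subset (U := c ⁻¹ᵁ V) (x := z) hy
    exact ⟨W, hW.isCompact, by rintro _ ⟨w, hw, rfl⟩; exact hWV hw, z, hzW, rfl⟩
  choose W hWc hWV hWy using h0
  obtain ⟨t, ht⟩ := hV.isCompact.elim_finite_subcover (fun y => c.base '' (W y : Set Z))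
    (fun y => c.isOpenMap _ (W y).isOpen) fun y hy => Set.mem_iUnion.2 ⟨⟨y, hy⟩, hWy ⟨y, hy⟩⟩
  refine ⟨⨆ y ∈ t, W y, ?_, ?_⟩
  · simp only [TopologicalSpace.Opens.coe_iSup]
    exact t.finite_toSet.isCompact_biUnion fun y _ => hWc y
  · simp only [TopologicalSpace.Opens.coe_iSup, Set.image_iUnion]
    exact Set.Subset.antisymm (Set.iUnion₂_subset fun y _ => hWV y) ht

theorem apply_eq_of_comp_eq {A B C D : Scheme.{u}} {f : A ⟶ B} {l : C ⟶ A} {d : C ⟶ D} {j : D ⟶ B}
    (e : l ≫ f = d ≫ j) (t : C) : f (l t) = j (d t) := by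
  rw [← Scheme.Hom.comp_apply, e, Scheme.Hom.comp_apply]

variable {G X Y : Over S} [GrpObj G] (a : AlgGrp.Action G X) (q : X ⟶ Y)

theorem isPreEqvRelSp_action :
    IsPreEqvRelSp ((yon S).map a.act) ((yon S).map (snd G X)) := by
  intro T
  refine ⟨fun x => ?_, ?_, ?_⟩
  · obtain ⟨x, rfl⟩ := (yon S).map_surjective x
    refine ⟨(yon S).map (lift 1 x), ?_, ?_⟩
    · rw [← Functor.map_comp, lift_snd]
    · rw [← Functor.map_comp]; exact congrArg _ (one_smulPt a x)
  · rintro _ _ ⟨r, rfl, rfl⟩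
    obtain ⟨r, rfl⟩ := (yon S).map_surjective r
    refine ⟨(yon S).map (lift (r ≫ fst G X)⁻¹ (r ≫ a.act)), ?_, ?_⟩
    · rw [← Functor.map_comp, lift_snd, Functor.map_comp]
    · rw [← Functor.map_comp, ← Functor.map_comp]
      refine congrArg _ ?_
      have : r ≫ a.act = smulPt a (r ≫ fst G X) (r ≫ snd G X) := by
        rw [smulPt, ← comp_lift, lift_fst_snd, Category.comp_id]
      change smulPt a (r ≫ fst G X)⁻¹ (r ≫ a.act) = r ≫ snd G X
      rw [this, inv_smulPt]
  · rintro _ _ _ ⟨r, rfl, rfl⟩ ⟨r', h', rfl⟩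
    obtain ⟨r, rfl⟩ := (yon S).map_surjective r
    obtain ⟨r', rfl⟩ := (yon S).map_surjective r'
    rw [← Functor.map_comp, ← Functor.map_comp] at h'
    replace h' := (yon S).map_injective h'
    refine ⟨(yon S).map (lift ((r' ≫ fst G X) * (r ≫ fst G X)) (r ≫ snd G X)), ?_, ?_⟩
    · rw [← Functor.map_comp, lift_snd, Functor.map_comp]
    · rw [← Functor.map_comp, ← Functor.map_comp]
      refine congrArg _ ?_
      change smulPt a ((r' ≫ fst G X) * (r ≫ fst G X)) (r ≫ snd G X) = r' ≫ a.act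
      rw [mul_smulPt]
      have e : smulPt a (r ≫ fst G X) (r ≫ snd G X) = r' ≫ snd G X := by
        rw [smulPt, ← comp_lift, lift_fst_snd, Category.comp_id, h']
      rw [e, smulPt, ← comp_lift, lift_fst_snd, Category.comp_id]

section
variable (hq : QuotSh.IsQuotient Scheme.fppfPrecoverage a.act (snd G X) q)
include hq

theorem quot_props : ∃ w : (yon S).map a.act ≫ (yon S).map q = (yon S).map (snd G X) ≫ (yon S).map q,
    IsIso (quotSpDesc ((yon S).map q) w) := by
  obtain ⟨w0, hiso⟩ := hq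
  have w : (yon S).map a.act ≫ (yon S).map q = (yon S).map (snd G X) ≫ (yon S).map q := by
    rw [← Functor.map_comp, ← Functor.map_comp, w0]
  refine ⟨w, ?_⟩
  obtain ⟨e, he⟩ := exists_iso_quot a.act (snd G X)
  let eM := QuotSh.repIsoUliftYoneda Scheme.fppfPrecoverage Y
  have key : e.hom ≫ QuotSh.quotDesc Scheme.fppfPrecoverage q w0 ≫ eM.hom =
      quotSpDesc ((yon S).map q) w := by
    rw [← cancel_epi (quotSpπ ((yon S).map a.act) ((yon S).map (snd G X))), ← Category.assoc, he, quotSpπ_desc,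
      Category.assoc]
    have h1 : QuotSh.quotπ Scheme.fppfPrecoverage a.act (snd G X) ≫ QuotSh.quotDesc Scheme.fppfPrecoverage q w0 =
        QuotSh.repMap Scheme.fppfPrecoverage q := coequalizer.π_desc _ _
    rw [reassoc_of% h1, repMap_comp_repIso, Iso.inv_hom_id_assoc]
  rw [← key]
  infer_instance

/-- The quotient map has sections fppf locally. -/
theorem exists_cover_lift : ∃ (Z : Over S) (c : Z ⟶ Y) (σ : Z ⟶ X),
    σ ≫ q = c ∧ Flat c.left ∧ LocallyOfFinitePresentation c.left ∧ Surjective c.left := by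
  obtain ⟨w, hiso⟩ := quot_props a q hq
  haveI : Epi ((yon S).map q) := by
    rw [← quotSpπ_desc ((yon S).map a.act) ((yon S).map (snd G X)) ((yon S).map q) w]
    infer_instance
  obtain ⟨C, hC, h⟩ := exists_covering_lift ((yon S).map q) (𝟙 ((yon S).obj Y))
  obtain ⟨κ, W, f, hf, c, hc, h1, h2, h3⟩ := exists_family_of_covering hC
  have hl : ∀ i, ∃ m : W i ⟶ X, m ≫ q = f i := fun i => by
    obtain ⟨m, hm⟩ := h (f i) (hf i)
    obtain ⟨m, rfl⟩ := (yon S).map_surjective m
    rw [Category.comp_id, ← Functor.map_comp] at hm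
    exact ⟨m, (yon S).map_injective hm⟩
  choose m hm using hl
  obtain ⟨σ, hσ⟩ := exists_desc_sigmaOver m
  exact ⟨sigmaOver W, c, σ, hom_ext_sigmaOver fun i => by rw [reassoc_of% hσ, hm, hc], h1, h2, h3⟩

/-- Points with the same image are fppf locally translates. -/
theorem exists_local_translate {T : Over S} (x y : T ⟶ X) (h : x ≫ q = y ≫ q) :
    ∃ (T' : Over S) (c : T' ⟶ T) (g : T' ⟶ G),
      Flat c.left ∧ LocallyOfFinitePresentation c.left ∧ Surjective c.left ∧ smulPt a g (c ≫ y) = c ≫ x := by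
  obtain ⟨w, hiso⟩ := quot_props a q hq
  have h' : (yon S).map y ≫ quotSpπ ((yon S).map a.act) ((yon S).map (snd G X)) =
      (yon S).map x ≫ quotSpπ ((yon S).map a.act) ((yon S).map (snd G X)) := by
    rw [← cancel_mono (quotSpDesc ((yon S).map q) w), Category.assoc, Category.assoc, quotSpπ_desc,
      ← Functor.map_comp, ← Functor.map_comp, h]
  obtain ⟨C, hC, hrel⟩ := exists_covering_rel _ _ (isPreEqvRelSp_action a) _ _ h'
  obtain ⟨κ, W, f, hf, c, hc, h1, h2, h3⟩ := exists_family_of_covering hC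
  have hl : ∀ i, ∃ g : W i ⟶ G, smulPt a g (f i ≫ y) = f i ≫ x := fun i => by
    obtain ⟨r, hr1, hr2⟩ := hrel (f i) (hf i)
    obtain ⟨r, rfl⟩ := (yon S).map_surjective r
    simp only [← Functor.map_comp] at hr1 hr2
    replace hr1 := (yon S).map_injective hr1
    replace hr2 := (yon S).map_injective hr2
    refine ⟨r ≫ fst G X, ?_⟩
    rw [← hr1, smulPt, ← comp_lift, lift_fst_snd, Category.comp_id, hr2]
  choose g hg using hl
  obtain ⟨γ, hγ⟩ := exists_desc_sigmaOver g
  refine ⟨sigmaOver W, c, γ, h1, h2, h3, hom_ext_sigmaOver fun i => ?_⟩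
  rw [comp_smulPt, hγ, reassoc_of% hc, hg, reassoc_of% hc]

theorem hasCovLift : HasCovLift q.left := by
  obtain ⟨Z, c, σ, hσ, h1, h2, h3⟩ := exists_cover_lift a q hq
  exact ⟨Z.left, c.left, σ.left, congrArg CommaMorphism.left hσ, isFpqcCov_of_flat_lfp c.left⟩

theorem surj : Function.Surjective q.left.base := by
  intro y
  obtain ⟨Z, c, σ, hσ, h1, h2, h3⟩ := exists_cover_lift a q hq
  have hσl : σ.left ≫ q.left = c.left := congrArg CommaMorphism.left hσ
  obtain ⟨t, rfl⟩ := c.left.surjective y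
  exact ⟨σ.left.base t, congrArg (fun m => m.base t) hσl⟩

theorem orbit (hinv : GIT.IsInvariant a q) : Function.Surjective (GIT.PsiY a q hinv).base := by
  intro z
  let P := pullback q.left q.left
  let T : Over S := Over.mk (P.fromSpecResidueField z ≫ pullback.snd q.left q.left ≫ X.hom)
  let y : T ⟶ X := Over.homMk (P.fromSpecResidueField z ≫ pullback.snd q.left q.left) (by simp [T])
  let x : T ⟶ X := Over.homMk (P.fromSpecResidueField z ≫ pullback.fst q.left q.left) (by
    simp only [T, Over.mk_hom, Category.assoc]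
    rw [← Over.w q, pullback.condition_assoc])
  have hxy : x ≫ q = y ≫ q := Over.OverMorphism.ext (by
    simp only [Over.comp_left, x, y, Over.homMk_left, Category.assoc]
    rw [pullback.condition])
  obtain ⟨T', d, g, -, -, hd, hg⟩ := exists_local_translate a q hq x y hxy
  obtain ⟨t, -⟩ := d.left.surjective (IsLocalRing.closedPoint (P.residueField z))
  refine ⟨(lift g (d ≫ y)).left.base t, ?_⟩
  have e : (lift g (d ≫ y)).left ≫ GIT.PsiY a q hinv = d.left ≫ P.fromSpecResidueField z := by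
    apply pullback.hom_ext
    · simp only [GIT.PsiY, Category.assoc, pullback.lift_fst]
      exact congrArg CommaMorphism.left hg
    · simp only [GIT.PsiY, Category.assoc, pullback.lift_snd]
      exact congrArg CommaMorphism.left (lift_snd g (d ≫ y))
  refine Eq.trans (apply_eq_of_comp_eq e t) ?_
  exact Scheme.fromSpecResidueField_apply z _

theorem subm {X' Y' : Scheme.{u}} (i₁ : X' ⟶ X.left) (i₂ : Y' ⟶ Y.left) (q' : X' ⟶ Y')
    (hsq : IsPullback i₁ q' q.left i₂) : Topology.IsQuotientMap q'.base := by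
  obtain ⟨Z, c, σ, hσ, h1, h2, h3⟩ := exists_cover_lift a q hq
  have hσl : σ.left ≫ q.left = c.left := congrArg CommaMorphism.left hσ
  -- universal submersiveness
  have hc' := IsPullback.of_hasPullback i₂ c.left
  haveI : Flat (pullback.fst i₂ c.left) := MorphismProperty.pullback_fst _ _ h1
  haveI : LocallyOfFinitePresentation (pullback.fst i₂ c.left) := MorphismProperty.pullback_fst _ _ h2
  haveI : Surjective (pullback.fst i₂ c.left) := MorphismProperty.pullback_fst _ _ h3
  let l : pullback i₂ c.left ⟶ X' := hsq.lift (pullback.snd i₂ c.left ≫ σ.left) (pullback.fst i₂ c.left)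
    (by rw [Category.assoc, hσl, pullback.condition])
  have hl : l ≫ q' = pullback.fst i₂ c.left := hsq.lift_snd _ _ _
  refine (Topology.IsQuotientMap.of_comp (f := l.base) l.continuous q'.continuous ?_)
  have h := (pullback.fst i₂ c.left).isOpenMap.isQuotientMap (pullback.fst i₂ c.left).continuous
    (pullback.fst i₂ c.left).surjective
  rw [← hl] at h
  exact h

theorem sections (hinv : GIT.IsInvariant a q) (U : Y.left.Opens) : Function.Injective (q.left.app U) ∧
    Set.range (q.left.app U) = {f | GIT.IsInvSection a q U f} := by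
  set V := q.left ⁻¹ᵁ U with hV
  set W := a.act.left ⁻¹ᵁ V ⊓ (snd G X).left ⁻¹ᵁ V with hW
  have hcov : HasCovLift (q.left ∣_ U) :=
    (hasCovLift a q hq).of_isPullback (isPullback_morphismRestrict q.left U).flip
  haveI := hcov.epi
  let p1 := a.act.left.resLE V W inf_le_left
  let p2 := (snd G X).left.resLE V W inf_le_right
  have hconv : ∀ {A B : Scheme.{u}} (f : A ⟶ B) (U : B.Opens) (V : A.Opens) (e : V ≤ f ⁻¹ᵁ U) (x : Γ(↑U, ⊤)),
      V.topIso.hom ((f.resLE U V e).appTop x) = f.appLE U V e (U.topIso.hom x) := by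
    intro A B f U V e x
    rw [← CommRingCat.comp_apply, ← CommRingCat.comp_apply]
    exact congrArg (fun h => h.hom x) (arrowResLEAppIso f U V e).hom.w.symm
  have hbij : ∀ {A : Scheme.{u}} (U : A.Opens), Function.Bijective U.topIso.hom.hom :=
    fun U => ConcreteCategory.bijective_of_isIso U.topIso.hom
  have happ : q.left.app U = q.left.appLE U V le_rfl := (Scheme.Hom.app_eq_appLE q.left).trans rfl
  have hres : q.left.resLE U V le_rfl = q.left ∣_ U := Scheme.Hom.resLE_eq_morphismRestrict q.left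
  let A := CommRingCat.of (Polynomial (ULift.{u} ℤ))
  let Λ : ∀ (Z : Scheme.{u}) (s : Γ(Z, ⊤)), Z ⟶ Spec A := fun Z s =>
    Z.toSpecΓ ≫ Spec.map (CommRingCat.ofHom (Polynomial.eval₂RingHom ((Int.castRingHom _).comp ULift.ringEquiv.toRingHom) s))
  let T : Γ(Spec A, ⊤) := (Scheme.ΓSpecIso A).inv Polynomial.X
  have hΛ : ∀ Z s, (Λ Z s).appTop T = s := by
    intro Z s
    simp only [Λ, T, Scheme.Hom.comp_appTop, CommRingCat.comp_apply, Scheme.toSpecΓ_appTop]
    rw [← CommRingCat.comp_apply (Scheme.ΓSpecIso A).inv, ← Scheme.ΓSpecIso_inv_naturality, CommRingCat.comp_apply,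
      ← CommRingCat.comp_apply (Scheme.ΓSpecIso Γ(Z, ⊤)).inv, Iso.inv_hom_id, CommRingCat.id_apply]
    exact Polynomial.eval₂_X _ _
  have hext : ∀ {Z : Scheme.{u}} (u v : Z ⟶ Spec A), u.appTop T = v.appTop T → u = v := by
    intro Z u v h
    refine ext_of_isAffine ?_
    rw [← cancel_epi (Scheme.ΓSpecIso A).inv]
    refine CommRingCat.hom_ext (Polynomial.ringHom_ext' ?_ h)
    exact RingHom.ext fun z => by
      obtain ⟨z⟩ := z
      have h0 : (⟨z⟩ : ULift.{u} ℤ) = (z : ULift.{u} ℤ) := by ext; simp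
      rw [h0, map_intCast, map_intCast]
  refine ⟨fun y y' h => ?_, Set.ext fun s => ⟨?_, fun hs => ?_⟩⟩
  · obtain ⟨y, rfl⟩ := (hbij U).2 y
    obtain ⟨y', rfl⟩ := (hbij U).2 y'
    rw [happ, ← hconv q.left U V le_rfl y, ← hconv q.left U V le_rfl y', hres] at h
    replace h := (hbij V).1 h
    have h1 : Λ U.toScheme y = Λ U.toScheme y' := by
      rw [← cancel_epi (q.left ∣_ U)]
      refine hext _ _ ?_
      simp only [Scheme.Hom.comp_appTop, CommRingCat.comp_apply, hΛ]
      exact h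
    rw [← hΛ U.toScheme y, h1, hΛ]
  · rintro ⟨y, rfl⟩
    obtain ⟨y, rfl⟩ := (hbij U).2 y
    show _ = _
    rw [happ, ← hconv q.left U V le_rfl y, ← hconv, ← hconv, ← CommRingCat.comp_apply, ← CommRingCat.comp_apply,
      ← CommRingCat.comp_apply, ← CommRingCat.comp_apply, ← Scheme.Hom.comp_appTop_assoc,
      ← Scheme.Hom.comp_appTop_assoc, Scheme.Hom.resLE_comp_resLE, Scheme.Hom.resLE_comp_resLE]
    congr 4
    · simp [hinv.left]
  · obtain ⟨s, rfl⟩ := (hbij V).2 s
    have hs' : p1.appTop s = p2.appTop s := by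
      have hs0 := hs
      change _ = _ at hs0
      rw [← hconv, ← hconv] at hs0
      exact (hbij W).1 hs0
    have hcompat : ∀ {T : Scheme.{u}} (g1 g2 : T ⟶ V.toScheme), g1 ≫ (q.left ∣_ U) = g2 ≫ (q.left ∣_ U) →
        g1 ≫ Λ V.toScheme s = g2 ≫ Λ V.toScheme s := by
      intro T0 g1 g2 h
      let T : Over S := Over.mk (g2 ≫ V.ι ≫ X.hom)
      have hq12 : (g1 ≫ V.ι) ≫ q.left = (g2 ≫ V.ι) ≫ q.left := by
        rw [Category.assoc, Category.assoc, ← morphismRestrict_ι, reassoc_of% h]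
      let y : T ⟶ X := Over.homMk (g2 ≫ V.ι) (by simp [T])
      let x : T ⟶ X := Over.homMk (g1 ≫ V.ι) (by
        simp only [T, Over.mk_hom]
        rw [← Over.w q, ← Category.assoc (g1 ≫ V.ι), hq12]
        simp)
      obtain ⟨T', d, g, hd1, hd2, hd3, hg⟩ := exists_local_translate a q hq x y (Over.OverMorphism.ext hq12)
      haveI : Epi d.left := (isFpqcCov_of_flat_lfp d.left).epi
      rw [← cancel_epi d.left]
      let r : T'.left ⟶ (G ⊗ X).left := (lift g (d ≫ y)).left
      have hr1 : r ≫ a.act.left = d.left ≫ g1 ≫ V.ι := congrArg CommaMorphism.left hg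
      have hr2 : r ≫ (snd G X).left = d.left ≫ g2 ≫ V.ι := congrArg CommaMorphism.left (lift_snd g (d ≫ y))
      have hrW : Set.range r ⊆ Set.range W.ι := by
        rw [Scheme.Opens.range_ι]
        rintro _ ⟨t, rfl⟩
        refine ⟨?_, ?_⟩
        · change (r ≫ a.act.left).base t ∈ V
          rw [hr1]
          exact (g1.base (d.left.base t)).2
        · change (r ≫ (snd G X).left).base t ∈ V
          rw [hr2]
          exact (g2.base (d.left.base t)).2
      let r' := IsOpenImmersion.lift W.ι r hrW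
      have e1 : d.left ≫ g1 = r' ≫ p1 := by
        rw [← cancel_mono V.ι, Category.assoc, Category.assoc, Scheme.Hom.resLE_comp_ι,
          IsOpenImmersion.lift_fac_assoc, hr1]
      have e2 : d.left ≫ g2 = r' ≫ p2 := by
        rw [← cancel_mono V.ι, Category.assoc, Category.assoc, Scheme.Hom.resLE_comp_ι,
          IsOpenImmersion.lift_fac_assoc, hr2]
      rw [reassoc_of% e1, reassoc_of% e2]
      congr 1
      refine hext _ _ ?_
      simp only [Scheme.Hom.comp_appTop, CommRingCat.comp_apply, hΛ]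
      exact hs'
    obtain ⟨m, hm⟩ := hcov.exists_desc (Λ V.toScheme s) hcompat
    refine ⟨U.topIso.hom (m.appTop T), ?_⟩
    rw [happ, ← hconv q.left U V le_rfl, hres, ← CommRingCat.comp_apply m.appTop, ← Scheme.Hom.comp_appTop, hm, hΛ]

theorem isGeomQuot : GIT.IsGeomQuot a q :=
  ⟨hq.choose, surj a q hq, orbit a q hq hq.choose, fun _ _ i₁ i₂ q' hsq => subm a q hq i₁ i₂ q' hsq.flip,
    fun U => sections a q hq hq.choose U⟩

end

end Groth.Agent.AlgGrpLib.FppfGeomQuot
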