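import Groth.Agent.AlgGrpLib.BasisEffective
import Groth.Agent.AlgGrpLib.AssociatedBundle
import Groth.Agent.Desc19b.EffFinLocFree
import Groth.Agent.Desc19b.QuotPieces

/-!
Associated bundles of locally isotrivial torsors with a fibre in which finite sets of points lie in affine opens.
-/

set_option autoImplicit false
set_option linter.style.haveILetI false
set_option backward.isDefEq.respectTransparency false
set_option backward.isDefEq.respectTransparency.types false
set_option maxHeartbeats 1000000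

universe u

open CategoryTheory CategoryTheory.Limits MonoidalCategory CartesianMonoidalCategory MonObj AlgebraicGeometry
open Groth.Agent.S16133 Groth.Agent.Desc19b Desc

namespace Groth.Agent.AlgGrpLib.IsotrivialBundle

/-- Finite sets of points lie in affine opens. -/
def FiniteInAffine (Z : Scheme.{u}) : Prop :=
  ∀ F : Finset Z, ∃ U : Z.Opens, IsAffineOpen U ∧ (↑F : Set Z) ⊆ (U : Set Z)

/-- Every point has an open neighbourhood stable under the action in which finite sets of points lie in affine opens. -/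
def StableFiniteInAffine {k : Type u} [Field k] {G Z : Over (Spec (CommRingCat.of k))} [GrpObj G]
    (b : AlgGrp.Action G Z) : Prop :=
  ∀ z : Z.left, ∃ U : Z.left.Opens, z ∈ U ∧ b.act.left ⁻¹ᵁ U = (snd G Z).left ⁻¹ᵁ U ∧
    ∀ F : Finset Z.left, (↑F : Set Z.left) ⊆ (U : Set Z.left) →
      ∃ O : Z.left.Opens, IsAffineOpen O ∧ (↑F : Set Z.left) ⊆ (O : Set Z.left)

/-- A morphism has, locally on the base, sections over finite etale coverings. -/
def LocIsotrivial {X Y : Scheme.{u}} (f : X ⟶ Y) : Prop :=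
  ∀ y : Y, ∃ (V : Y.Opens) (_ : y ∈ V) (V' : Scheme.{u}) (p : V' ⟶ V.toScheme) (s : V' ⟶ X),
    IsFinite p ∧ Etale p ∧ Surjective p ∧ s ≫ f = p ≫ V.ι

variable {k : Type u} [Field k] {G X Y Z : Over (Spec (CommRingCat.of k))} [GrpObj G]

/-- The affine opens contained in a trivialising open form a basis. -/
def basis {X Y : Scheme.{u}} {f : X ⟶ Y} (h : LocIsotrivial f) : BasisEffective.Basis Y where
  P W := ∃ (V : Y.Opens) (V' : Scheme.{u}) (p : V' ⟶ V.toScheme) (s : V' ⟶ X),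
    W.1 ≤ V ∧ IsFinite p ∧ Etale p ∧ Surjective p ∧ s ≫ f = p ≫ V.ι
  isBasis := by
    rw [TopologicalSpace.Opens.isBasis_iff_nbhd]
    intro U x hx
    obtain ⟨V, hxV, V', p, s, h1, h2, h3, h4⟩ := h x
    obtain ⟨W, hW, hxW, hWU⟩ := TopologicalSpace.Opens.isBasis_iff_nbhd.mp Y.isBasis_affineOpens
      (show x ∈ U ⊓ V from ⟨hx, hxV⟩)
    exact ⟨W, ⟨⟨⟨W, hW⟩, V, V', p, s, hWU.trans inf_le_right, h1, h2, h3, h4⟩, rfl⟩, hxW, hWU.trans inf_le_left⟩

theorem val_snd_preimage (a : AlgGrp.Action G X) (f : X ⟶ Y)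
    (hsq : IsPullback a.act.left (snd G X).left f.left f.left) (b : AlgGrp.Action G Z)
    {U : Z.left.Opens} (hU : b.act.left ⁻¹ᵁ U = (snd G Z).left ⁻¹ᵁ U) {T : Scheme.{u}} (v : T ⟶ (X ⊗ Z).left)
    (x₁ : T ⟶ X.left) (h : (v ≫ (fst X Z).left) ≫ f.left = x₁ ≫ f.left) :
    (val a f hsq b v x₁ h ≫ (snd X Z).left) ⁻¹ᵁ U = (v ≫ (snd X Z).left) ⁻¹ᵁ U := by
  obtain ⟨T₀, rfl, P, X₁, hP, hX, h'⟩ := exists_over f v x₁ h
  simp only [eqToHom_refl, Category.id_comp] at hP hX
  subst hP hX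
  obtain ⟨g, hg, -⟩ := existsUnique_transl a f hsq _ X₁ h'
  rw [val_eq a f hsq b P X₁ h', tr_eq a f hsq b P X₁ h' g hg, ← Over.comp_left, lift_snd, Over.comp_left,
    Scheme.Hom.comp_preimage, hU, ← Scheme.Hom.comp_preimage, ← Over.comp_left, lift_snd, Over.comp_left]

theorem nonempty_quot (a : AlgGrp.Action G X) (f : X ⟶ Y)
    (hsq : IsPullback a.act.left (snd G X).left f.left f.left) (b : AlgGrp.Action G Z)
    (hZ : StableFiniteInAffine b) (W : Y.left.affineOpens) {V : Y.left.Opens} (hWV : W.1 ≤ V) {V' : Scheme.{u}}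
    (p : V' ⟶ V.toScheme) (s : V' ⟶ X.left) [IsFinite p] [Etale p] [Surjective p] (hs : s ≫ f.left = p ≫ V.ι) :
    Nonempty (Quot (datum a f hsq b) W.1) := by
  let E := datum a f hsq b
  let i : W.1.toScheme ⟶ V.toScheme := Y.left.homOfLE hWV
  let P := pullback p i
  let q : P ⟶ W.1.toScheme := pullback.snd p i
  haveI : IsFinite q := MorphismProperty.pullback_snd _ _ inferInstance
  haveI : Etale q := MorphismProperty.pullback_snd _ _ inferInstance
  haveI : Surjective q := MorphismProperty.pullback_snd _ _ inferInstance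
  haveI : IsAffine W.1.toScheme := W.2
  haveI : IsAffine P := isAffine_of_isAffineHom q
  obtain ⟨b₀, hb₀⟩ := Spec.map_surjective (P.isoSpec.inv ≫ q ≫ W.2.isoSpec.hom)
  let B : PUnit.{u + 1} → CommRingCat.{u} := fun _ => Γ(P, ⊤)
  let bb : ∀ k, Γ(Y.left, W.1) ⟶ B k := fun _ => b₀
  let v : ∀ k, Spec (B k) ⟶ X.left := fun _ => P.isoSpec.inv ≫ pullback.fst p i ≫ s
  have hv : ∀ k, v k ≫ f.left = Spec.map (bb k) ≫ W.2.fromSpec := fun k => by
    show (P.isoSpec.inv ≫ pullback.fst p i ≫ s) ≫ f.left = Spec.map b₀ ≫ W.2.fromSpec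
    rw [hb₀, Category.assoc, Category.assoc, hs, reassoc_of% (pullback.condition (f := p) (g := i)),
      Scheme.homOfLE_ι]
    simp only [Category.assoc]
    rw [← IsAffineOpen.isoSpec_inv_ι W.2, Iso.hom_inv_id_assoc]
  let D' := PullRefine.PD (α := fun k : PUnit.{u + 1} => k) (g := v) (u₀ := fun k => Spec.map (bb k) ≫ W.2.fromSpec) hv E
  haveI hqF : IsFinite (Spec.map b₀) := by rw [hb₀]; infer_instance
  haveI hqE : Etale (Spec.map b₀) := by rw [hb₀]; infer_instance
  haveI hqS : Surjective (Spec.map b₀) := by rw [hb₀]; infer_instance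
  haveI : ∀ k, IsFinite (Spec.map (bb k)) := fun _ => hqF
  haveI : ∀ k, Flat (Spec.map (bb k)) := fun _ => inferInstanceAs (Flat (Spec.map b₀))
  haveI : ∀ k, LocallyOfFinitePresentation (Spec.map (bb k)) := fun _ =>
    inferInstanceAs (LocallyOfFinitePresentation (Spec.map b₀))
  have hcov : ∀ y, ∃ k z, Spec.map (bb k) z = y := fun y => ⟨⟨⟩, (Spec.map b₀).surjective y⟩
  have H : EffFinLocFree.OrbitAffine (EffSepLqf.overAffine D') := by
    intro k l w
    let π := pullback.fst (((EffSepLqf.overAffine D').obj k).hom ≫ Spec.map (bb k)) (Spec.map (bb l))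
    let σ₀ := EffSepLqf.toTgt (EffSepLqf.overAffine D') k l ≫
      pullback.snd (Spec.map (bb k)) (((EffSepLqf.overAffine D').obj l).hom ≫ Spec.map (bb l))
    haveI : IsFinite π := MorphismProperty.pullback_fst _ _ inferInstance
    let pr : (D'.obj l).left ⟶ Z.left := pullback.fst (fst X Z).left (v l) ≫ (snd X Z).left
    haveI : IsAffineHom pr := by
      have h1 : IsPullback (pullback.snd (fst X Z).left (v l)) (pullback.fst (fst X Z).left (v l)) (v l) (fst X Z).left :=
        (IsPullback.of_hasPullback _ _).flip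
      have h2 : IsPullback (fst X Z).left (snd X Z).left X.hom Z.hom := IsPullback.of_hasPullback X.hom Z.hom
      have h3 := h1.paste_vert h2
      haveI : IsAffineHom (v l ≫ X.hom) := isAffineHom_of_isAffine _
      exact MorphismProperty.of_isPullback (P := @IsAffineHom) h3 inferInstance
    let F : Set (D'.obj l).left := σ₀ '' (π ⁻¹' {w})
    have hF : F.Finite := (π.finite_preimage_singleton w).image _
    obtain ⟨U₁, hwU₁, hU₁, hfin⟩ := hZ (pr w)
    have hπσ : (σ₀ ≫ pr) ⁻¹ᵁ U₁ = (π ≫ pr) ⁻¹ᵁ U₁ := by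
      obtain rfl : k = l := Subsingleton.elim _ _
      have hv' : (π ≫ pullback.fst (fst X Z).left (v k)) ≫ (fst X Z).left =
          (π ≫ pullback.snd (fst X Z).left (v k)) ≫ v k := by
        rw [Category.assoc, Category.assoc, pullback.condition]
      have e : ∃ (x₁ : EffSepLqf.Src (EffSepLqf.overAffine D') k k ⟶ X.left)
          (h : ((π ≫ pullback.fst (fst X Z).left (v k)) ≫ (fst X Z).left) ≫ f.left = x₁ ≫ f.left),
          σ₀ ≫ pullback.fst (fst X Z).left (v k) = val a f hsq b (π ≫ pullback.fst (fst X Z).left (v k)) x₁ h := by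
        refine ⟨pullback.snd _ _ ≫ v k, ?_, ?_⟩
        · rw [hv']; simp only [Category.assoc, hv]; simp only [← Category.assoc]
          exact congrArg (fun q => q ≫ W.2.fromSpec) ((Category.assoc _ _ _).trans
            (pullback.condition (f := ((EffSepLqf.overAffine D').obj k).hom ≫ Spec.map (bb k)) (g := Spec.map (bb k))))
        · simp only [σ₀, EffSepLqf.toTgt, Category.assoc]
          erw [pullback.lift_snd_assoc]
          simp only [EffSepLqf.overAffine, D', PullRefine.PD, pullDDFam, pullDDFamObj, liftsPullbackEquiv,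
            Equiv.trans_apply, Equiv.coe_fn_mk, Equiv.coe_fn_symm_mk]
          erw [pullback.lift_fst]
          rfl
      obtain ⟨x₁, h₁, e⟩ := e
      show (σ₀ ≫ pullback.fst (fst X Z).left (v k) ≫ (snd X Z).left) ⁻¹ᵁ U₁ =
        (π ≫ pullback.fst (fst X Z).left (v k) ≫ (snd X Z).left) ⁻¹ᵁ U₁
      rw [← Category.assoc, e, ← Category.assoc]
      exact val_snd_preimage a f hsq b hU₁ _ _ h₁
    have hpr : ∀ z ∈ F, pr z ∈ U₁ := by
      rintro _ ⟨z, hz, rfl⟩
      have hz' : z ∈ (π ≫ pr) ⁻¹ᵁ U₁ := by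
        show (π ≫ pr) z ∈ U₁
        rw [Scheme.Hom.comp_apply, show π z = w from hz]
        exact hwU₁
      rw [← hπσ] at hz'
      exact hz'
    obtain ⟨U, hU, hFU⟩ := hfin (hF.image pr).toFinset fun y hy => by
      obtain ⟨z, hz, rfl⟩ := (hF.image pr).mem_toFinset.1 hy
      exact hpr z hz
    refine ⟨pr ⁻¹ᵁ U, hU.preimage pr, fun z hz => ?_⟩
    exact hFU ((hF.image pr).mem_toFinset.2 ⟨_, ⟨z, hz, rfl⟩, rfl⟩)
  obtain ⟨U, π, qU, hq, hinv⟩ := EffSepLqf.hasAffineQuotient_of_isEffective W.2.fromSpec bb D'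
    (EffFinLocFree.isEffective_of_orbitAffine (EffSepLqf.overAffine D') H (Quot.finite_family_mem _ hcov))
  let w : ∀ k, Spec (B k) ⟶ W.1.toScheme := fun k => Spec.map (bb k) ≫ W.2.isoSpec.inv
  have hw : ∀ k, w k ≫ W.1.ι = v k ≫ f.left := fun k => by
    rw [hv k, Category.assoc, IsAffineOpen.isoSpec_inv_ι]
  have hmem := Quot.finite_family_mem w fun y => by
    obtain ⟨z, hz⟩ := (Spec.map b₀ ≫ W.2.isoSpec.inv).surjective y
    exact ⟨⟨⟩, z, hz⟩
  have hmemW : ∀ t, (π ≫ W.2.fromSpec) t ∈ W.1 := fun t => by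
    have h : (π ≫ W.2.fromSpec) t ∈ Set.range W.2.fromSpec := ⟨π t, (Scheme.Hom.comp_apply _ _ _).symm⟩
    rw [W.2.range_fromSpec] at h
    exact h
  refine Quot.nonempty_of_pieces (fun k : PUnit.{u + 1} => k) v
    (fun s hs => Quot.cover_of_open w hw hmem s hs) (π ≫ W.2.fromSpec) hmemW qU
    (fun k => ?_) (fun {T k l} x y h t => ?_)
  · rw [hv k]
    exact ⟨⟨by rw [← Category.assoc, (hq k).w, Category.assoc]; rfl⟩,
      ⟨PullbackCone.IsLimit.mk _ (fun s => (hq k).lift s.fst s.snd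
          (by rw [← cancel_mono W.2.fromSpec, Category.assoc, Category.assoc]; exact s.condition))
        (fun s => (hq k).lift_fst _ _ _) (fun s => (hq k).lift_snd _ _ _)
        (fun s m h1 h2 => (hq k).hom_ext (h1.trans ((hq k).lift_fst _ _ _).symm) (h2.trans ((hq k).lift_snd _ _ _).symm))⟩⟩
  · exact hinv x y (((congrArg (x ≫ ·) (hv k)).symm.trans h).trans (congrArg (y ≫ ·) (hv l))) t

/-- The associated bundle of a locally isotrivial torsor exists, locally on the fibre. -/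
theorem exists_bundle_local (a : AlgGrp.Action G X) (f : X ⟶ Y) [Flat f.left] [Surjective f.left] [QuasiCompact f.left]
    (hsq : IsPullback a.act.left (snd G X).left f.left f.left) (hloc : LocIsotrivial f.left) (b : AlgGrp.Action G Z)
    (hZ : StableFiniteInAffine b) :
    ∃ (W : Over (Spec (CommRingCat.of k))) (φ : X ⊗ Z ⟶ W) (ψ : W ⟶ Y),
      (a.prod b).act ≫ φ = snd G (X ⊗ Z) ≫ φ ∧
      IsPullback (fst X Z).left φ.left f.left ψ.left := by
  have hmem : Presieve.ofArrows (fun _ : PUnit.{u + 1} => X.left) (fun _ => f.left) ∈ Scheme.fpqcPrecoverage Y.left := by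
    rw [Presieve.ofArrows_pUnit]; exact f.left.singleton_mem_fpqcPrecoverage
  have hQ : ∀ W : (BasisEffective.cover (basis hloc)).I₀, Nonempty (Quot (datum a f hsq b) W.1.1) := fun W => by
    obtain ⟨V, V', p, s, hWV, h1, h2, h3, h4⟩ := W.2
    haveI := h1
    haveI := h2
    haveI := h3
    exact nonempty_quot a f hsq b hZ W.1 hWV p s h4
  obtain ⟨U, ⟨e⟩⟩ := BasisEffective.isEffective_of_basis hmem fun W => (hQ W).some
  have e1 : ((e.inv.hom ⟨⟩).left ≫ (e.hom.hom ⟨⟩).left) = 𝟙 _ :=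
    congrArg (fun q : datum a f hsq b ⟶ datum a f hsq b => (q.hom ⟨⟩).left) e.inv_hom_id
  have e2 : ((e.hom.hom ⟨⟩).left ≫ (e.inv.hom ⟨⟩).left) = 𝟙 _ :=
    congrArg (fun q : Desc.canonicalDDFam (fun _ : PUnit.{u + 1} => f.left) U ⟶ _ => (q.hom ⟨⟩).left) e.hom_inv_id
  let ei : (X ⊗ Z).left ≅ pullback f.left U.hom := ⟨(e.inv.hom ⟨⟩).left, (e.hom.hom ⟨⟩).left, e1, e2⟩
  let q : (X ⊗ Z).left ⟶ U.left := (e.inv.hom ⟨⟩).left ≫ pullback.snd f.left U.hom
  have hfst : (e.inv.hom ⟨⟩).left ≫ pullback.fst f.left U.hom = (fst X Z).left := Over.w (e.inv.hom ⟨⟩)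
  have hsq' : IsPullback (fst X Z).left q f.left U.hom := by
    refine IsPullback.of_iso_pullback ⟨?_⟩ ei hfst rfl
    rw [← hfst]
    exact (Category.assoc _ _ _).trans
      ((congrArg (fun r => (e.inv.hom ⟨⟩).left ≫ r) pullback.condition).trans (Category.assoc _ _ _).symm)
  let W : Over (Spec (CommRingCat.of k)) := Over.mk (U.hom ≫ Y.hom)
  let φ : X ⊗ Z ⟶ W := Over.homMk q (by
    show q ≫ U.hom ≫ Y.hom = _
    rw [← Category.assoc, ← hsq'.w, Category.assoc, Over.w f, Over.w (fst X Z)])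
  let ψ : W ⟶ Y := Over.homMk U.hom rfl
  refine ⟨W, φ, ψ, ?_, hsq'⟩
  refine Over.OverMorphism.ext ?_
  let v : Desc.Lifts ((datum a f hsq b).obj ⟨⟩) ((snd G (X ⊗ Z)).left ≫ (fst X Z).left) := ⟨(snd G (X ⊗ Z)).left, rfl⟩
  let P := snd G (X ⊗ Z)
  let x₁ : G ⊗ (X ⊗ Z) ⟶ X := (G ◁ fst X Z) ≫ a.act
  have hinv : a.act ≫ f = snd G X ≫ f := Over.OverMorphism.ext hsq.w
  have h : (P ≫ fst X Z) ≫ f = x₁ ≫ f := by
    simp only [P, x₁, Category.assoc, hinv, whiskerLeft_snd_assoc]
  have hl : (P.left ≫ (fst X Z).left) ≫ f.left = x₁.left ≫ f.left := congrArg CommaMorphism.left h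
  have hc := e.inv.comm (i := ⟨⟩) (j := ⟨⟩) (P.left ≫ (fst X Z).left) x₁.left hl v (e.inv.push v) rfl
  have h2 := congrArg (· ≫ pullback.snd f.left U.hom) hc
  simp only [Desc.toDDFam, Desc.canonicalDDFam, Equiv.coe_fn_mk, Desc.canMapFam_val] at h2
  erw [pullback.lift_snd] at h2
  have hd : ((datum a f hsq b).φ (i := ⟨⟩) (j := ⟨⟩) (P.left ≫ (fst X Z).left) x₁.left hl v).1 =
      (lift ((G ◁ fst X Z) ≫ a.act) ((G ◁ snd X Z) ≫ b.act)).left := by
    show val a f hsq b P.left x₁.left hl = _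
    rw [val_eq a f hsq b P x₁ h, tr_eq a f hsq b P x₁ h (fst G (X ⊗ Z))
      (congrArg (· ≫ a.act) (by ext <;> simp [P]))]
    refine congrArg CommaMorphism.left (congrArg (lift x₁) (congrArg (· ≫ b.act) ?_))
    ext <;> simp [P]
  rw [hd] at h2
  exact ((h2.trans (Category.assoc _ _ _)).symm.trans (Category.assoc _ _ _))

/-- The associated bundle of a locally isotrivial torsor exists. -/
theorem exists_bundle (a : AlgGrp.Action G X) (f : X ⟶ Y) [Flat f.left] [Surjective f.left] [QuasiCompact f.left]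
    (hsq : IsPullback a.act.left (snd G X).left f.left f.left) (hloc : LocIsotrivial f.left) (b : AlgGrp.Action G Z)
    (hZ : FiniteInAffine Z.left) :
    ∃ (W : Over (Spec (CommRingCat.of k))) (φ : X ⊗ Z ⟶ W) (ψ : W ⟶ Y),
      (a.prod b).act ≫ φ = snd G (X ⊗ Z) ≫ φ ∧
      IsPullback (fst X Z).left φ.left f.left ψ.left :=
  exists_bundle_local a f hsq hloc b fun _ =>
    ⟨⊤, trivial, by rw [Scheme.Hom.preimage_top, Scheme.Hom.preimage_top], fun F _ => hZ F⟩

end Groth.Agent.AlgGrpLib.IsotrivialBundle
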