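import Groth.Agent.AlgGrpLib.HomogQuot
import Groth.Agent.AlgGrpLib.IsotrivialBundle
import Groth.Agent.AlgGrpLib.LocIsotrivial
import Groth.Agent.AlgGrpLib.TorsorQuot
import Groth.Agent.AbSchLib.SmoothReduced

/-!
The torsor `G → G/H` and the associated bundles `G ×^H X`.
-/

set_option autoImplicit false
set_option backward.isDefEq.respectTransparency.types false
set_option maxHeartbeats 800000
set_option linter.style.haveILetI false

universe u

open CategoryTheory CategoryTheory.Limits MonoidalCategory CartesianMonoidalCategory MonObj AlgebraicGeometry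

namespace Groth.Agent.AlgGrpLib.GroupBundle

variable {k : Type u} [Field k] {G H : Over (Spec (CommRingCat.of k))} [GrpObj G] [GrpObj H]

/-- `h · g = g h⁻¹`. -/
noncomputable def rightInvAct (j : H ⟶ G) [IsMonHom j] : AlgGrp.Action H G where
  act := snd H G * (fst H G ≫ j)⁻¹
  one_act := by
    rw [MonObj.comp_mul, GrpObj.comp_inv, whiskerRight_snd, whiskerRight_fst_assoc, IsMonHom.one_hom,
      MonObj.one_eq_one G, MonObj.comp_one, inv_one, _root_.mul_one]
    rfl
  mul_act := by
    simp only [MonObj.comp_mul, GrpObj.comp_inv, whiskerRight_fst_assoc, whiskerRight_snd, whiskerLeft_fst_assoc,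
      whiskerLeft_snd, whiskerLeft_snd_assoc, associator_hom_fst_assoc, associator_hom_snd_fst_assoc,
      associator_hom_snd_snd, Category.assoc]
    rw [_root_.mul_assoc, ← mul_inv_rev]
    congr 2
    rw [IsMonHom.mul_hom, show (j ⊗ₘ j) ≫ μ[G] = (fst H H ≫ j) * (snd H H ≫ j) by rw [Hom.mul_def]; congr 1,
      MonObj.comp_mul]

theorem lift_rightInvAct (j : H ⟶ G) [IsMonHom j] {T : Over (Spec (CommRingCat.of k))} (h : T ⟶ H) (g : T ⟶ G) :
    lift h g ≫ (rightInvAct j).act = g * (h ≫ j)⁻¹ := by
  show lift h g ≫ (snd H G * (fst H G ≫ j)⁻¹) = _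
  rw [MonObj.comp_mul, GrpObj.comp_inv, lift_snd, lift_fst_assoc]

/-- A right quotient square is a torsor square for `h · g = g h⁻¹`. -/
theorem isPullback_rightInvAct {Q : Over (Spec (CommRingCat.of k))} (j : H ⟶ G) [IsMonHom j] (q : G ⟶ Q)
    (sq : IsPullback (fst G H) ((G ◁ j) ≫ μ[G]) q q) :
    IsPullback (rightInvAct j).act (snd H G) q q := by
  let e : H ⊗ G ≅ G ⊗ H :=
    { hom := lift (rightInvAct j).act (fst H G)
      inv := lift (snd G H) ((G ◁ j) ≫ μ[G])
      hom_inv_id := by
        refine CartesianMonoidalCategory.hom_ext _ _ ?_ ?_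
        · simp
        · rw [Category.assoc, lift_snd, Category.id_comp, ← Category.assoc, lift_whiskerLeft, ← Hom.mul_def]
          exact inv_mul_cancel_right _ _
      inv_hom_id := by
        refine CartesianMonoidalCategory.hom_ext _ _ ?_ ?_
        · rw [Category.assoc, lift_fst, Category.id_comp, lift_rightInvAct, Hom.mul_def]
          simp only [← Hom.mul_def]
          rw [show (G ◁ j) ≫ μ[G] = fst G H * (snd G H ≫ j) by rw [Hom.mul_def]; congr 1, mul_inv_cancel_right]
        · simp }
  refine sq.of_iso e.symm (Iso.refl _) (Iso.refl _) (Iso.refl _) ?_ ?_ (by simp) (by simp)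
  · show fst G H ≫ 𝟙 G = e.inv ≫ (rightInvAct j).act
    rw [Category.comp_id, lift_rightInvAct, show (G ◁ j) ≫ μ[G] = fst G H * (snd G H ≫ j) by
      rw [Hom.mul_def]; congr 1, mul_inv_cancel_right]
  · show ((G ◁ j) ≫ μ[G]) ≫ 𝟙 G = e.inv ≫ snd H G
    rw [Category.comp_id, lift_snd]

theorem flat_fst {A B : Over (Spec (CommRingCat.of k))} {Q : Over (Spec (CommRingCat.of k))} {q : A ⟶ Q}
    {W : Over (Spec (CommRingCat.of k))} {φ : A ⊗ B ⟶ W} {ψ : W ⟶ Q}
    (h : IsPullback (fst A B).left φ.left q.left ψ.left) [Flat q.left] [Surjective q.left]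
    [LocallyOfFinitePresentation q.left] [QuasiCompact q.left] :
    Flat φ.left ∧ Surjective φ.left ∧ LocallyOfFinitePresentation φ.left ∧ QuasiCompact φ.left :=
  ⟨MorphismProperty.of_isPullback h inferInstance, MorphismProperty.of_isPullback h inferInstance,
    MorphismProperty.of_isPullback h inferInstance, MorphismProperty.of_isPullback h inferInstance⟩

variable [IsAlgClosed k] [CharZero k]

/-- In characteristic zero the torsor `G → G/H` is locally isotrivial. -/
theorem locIsotrivial {Q : Over (Spec (CommRingCat.of k))} [LocallyOfFiniteType G.hom] [LocallyOfFiniteType Q.hom]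
    [IsReduced Q.left] (a : AlgGrp.Action G Q) (o : 𝟙_ (Over (Spec (CommRingCat.of k))) ⟶ Q) (q : G ⟶ Q)
    (hq : a.orbitMap o = q) [Flat q.left] [Surjective q.left] : IsotrivialBundle.LocIsotrivial q.left := by
  subst hq
  intro y
  obtain ⟨V, V', jV, f, w, hj, hy, h1, h2, h3, hw⟩ := LocIsotrivial.exists_multisection a o y
  haveI := hj
  haveI := h1
  haveI := h2
  haveI := h3
  let e := IsOpenImmersion.isoOfRangeEq jV jV.opensRange.ι (by rw [Scheme.Opens.range_ι]; rfl)
  refine ⟨jV.opensRange, hy, V', f ≫ e.hom, w, inferInstance, inferInstance, inferInstance, ?_⟩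
  rw [hw, Category.assoc, IsOpenImmersion.isoOfRangeEq_hom_fac]

end Groth.Agent.AlgGrpLib.GroupBundle
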