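import Groth.Agent.CommAlg4.PureEasy
import Groth.Agent.CMBC25.Field
import Groth.Agent.CohDer1.GroupCM
import Groth.Agent.AbSchLib.ConnectedFibres
import Groth.Agent.SGA3cLib.Irreducible
import Groth.Prelude.Def_Red

/-!
# Purity of open subschemes of group schemes with connected fibres
-/

set_option autoImplicit false
set_option linter.style.haveILetI false
set_option backward.isDefEq.respectTransparency.types false

universe u

open CategoryTheory CategoryTheory.Limits AlgebraicGeometry
open TensorProduct

namespace Groth.Agent.AlgGrpLib.GroupFibrePure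

/-- An associated prime with Cohen–Macaulay localisation is minimal. -/
theorem mem_minimalPrimes_of_cm {R : Type u} [CommRing R] [IsNoetherianRing R] (P : Ideal R) [P.IsPrime]
    (hP : P ∈ associatedPrimes R R) (hcm : LocCoh.IsCohenMacaulayLocalRing (Localization.AtPrime P)) :
    P ∈ minimalPrimes R := by
  let L := Localization.AtPrime P
  have hass : IsLocalRing.maximalIdeal L ∈ associatedPrimes L (LocalizedModule P.primeCompl R) :=
    Module.associatedPrimes.mem_associatedPrimes_atPrime_of_mem_associatedPrimes hP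
  have e : LocalizedModule P.primeCompl R ≃ₗ[L] L :=
    LinearEquiv.extendScalarsOfIsLocalization P.primeCompl L
      (IsLocalizedModule.iso P.primeCompl (Algebra.linearMap R L))
  have hass' : IsLocalRing.maximalIdeal L ∈ associatedPrimes L L :=
    associatedPrimes.subset_of_injective (f := e.toLinearMap) e.injective hass
  have h0 := CAlgH3.depth_eq_zero_iff.2 hass'
  rw [CAlgH3.isCohenMacaulayLocalRing_iff_depth, h0, IsLocalization.AtPrime.ringKrullDim_eq_height P L] at hcm
  exact Ideal.height_eq_zero_iff.1 (WithBot.coe_inj.1 hcm)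

/-- Irreducible fibres without embedded points give purity. -/
theorem isUnivPure_of_irreducible_cm {A B : Type u} [CommRing A] [CommRing B] [Algebra A B] [Algebra.FiniteType A B]
    [Module.Flat A B]
    (h : ∀ (K : Type u) [Field K] (y : Spec (CommRingCat.of K) ⟶ Spec (CommRingCat.of A)) (Z : Scheme.{u})
      (p₁ : Z ⟶ Spec (CommRingCat.of B)) (p₂ : Z ⟶ Spec (CommRingCat.of K)),
      IsPullback p₁ p₂ (Spec.map (CommRingCat.ofHom (algebraMap A B))) y →
      IrreducibleSpace Z ∧ ∀ z : Z, LocCoh.IsCohenMacaulayLocalRing (Z.presheaf.stalk z)) :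
    FlatCA.IsUnivPure A B B := by
  intro p _ A' B' N' _ _ _ _ _ _ _ _ _ _ _ _ _ _ f t' t _ _ P _ himp
  obtain ⟨hpush, hf, hle, -, hPt', hass, hno⟩ := himp
  have hsym : Algebra.IsPushout A A' B B' := hpush.symm
  have sq := (CommRingCat.isPushout_of_isPushout A A' B B').paste_horiz
    (CommRingCat.isPushout_tensorProduct A' t'.ResidueField B')
  obtain ⟨hirr, hcm⟩ := h _ _ _ _ _ (isPullback_SpecMap_of_isPushout _ _ _ _ sq).flip
  let F := t'.Fiber B'
  have hirrF : IrreducibleSpace (PrimeSpectrum F) := hirr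
  haveI : Algebra.FiniteType A' B' := by
    haveI := hsym
    exact (Algebra.FiniteType.baseChange (R := A) (A := B) A').equiv (Algebra.IsPushout.equiv A A' B B')
  haveI : IsNoetherianRing F := Algebra.FiniteType.isNoetherianRing t'.ResidueField F
  let e : N' ≃ₗ[B'] B' := hf.equiv.symm ≪≫ₗ AlgebraTensorModule.rid B B' B'
  let := Algebra.TensorProduct.rightAlgebra (R := A') (A := t'.ResidueField) (B := B')
  let eF : FlatCA.fiberMod t' B' N' ≃ₗ[t'.Fiber B'] t'.Fiber B' :=
    (AlgebraTensorModule.congr (LinearEquiv.refl (t'.Fiber B') (t'.Fiber B')) e) ≪≫ₗ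
      AlgebraTensorModule.rid B' (t'.Fiber B') (t'.Fiber B')
  replace hass : FlatCA.fiberIdeal t' P ∈ associatedPrimes (t'.Fiber B') (t'.Fiber B') :=
    associatedPrimes.subset_of_injective (f := eF.toLinearMap) eF.injective hass
  haveI hQ : (FlatCA.fiberIdeal t' P).IsPrime := hass.1
  have hmin : FlatCA.fiberIdeal t' P ∈ minimalPrimes F :=
    mem_minimalPrimes_of_cm _ hass (CMBC25.isCM_ringEquiv
      (StructureSheaf.stalkIso F ⟨_, hQ⟩).symm.toRingEquiv (hcm ⟨_, hQ⟩))
  have hnil : (nilradical F).IsPrime := PrimeSpectrum.irreducibleSpace_iff_isPrime_nilradical.1 hirrF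
  have hbot : FlatCA.fiberIdeal t' P ≤ nilradical F :=
    hmin.2 ⟨hnil, bot_le⟩ (nilradical_le_prime _)
  -- a prime over `t`
  have : Module.Flat A' B' := Module.Flat.isBaseChange A A' B B' hsym.out
  have sq' := (CommRingCat.isPushout_of_isPushout A A' B B').paste_horiz
    (CommRingCat.isPushout_tensorProduct A' t.ResidueField B')
  obtain ⟨hirr', -⟩ := h _ _ _ _ _ (isPullback_SpecMap_of_isPushout _ _ _ _ sq').flip
  obtain ⟨Qt⟩ : Nonempty (PrimeSpectrum (t.Fiber B')) := hirr'.toNonempty
  let Q : Ideal B' := Qt.asIdeal.comap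
    (Algebra.TensorProduct.includeRight (R := A') (A := t.ResidueField) (B := B')).toRingHom
  have hQt : Q.LiesOver t := ⟨(CommAlg4.PureEasy.fiber_prime_data t Qt.asIdeal).symm⟩
  haveI : Q.IsPrime := Ideal.comap_isPrime _ _
  obtain ⟨P'', hP''Q, hP'', hP''t'⟩ := Ideal.exists_ideal_le_liesOver_of_le (p := t') (q := t) Q hle
  refine hno Q (fun x hx => hP''Q ?_) hQt
  obtain ⟨n, hn⟩ := hbot (show (1 : t'.ResidueField) ⊗ₜ[A'] x ∈ FlatCA.fiberIdeal t' P from Ideal.mem_map_of_mem _ hx)
  refine hP''.mem_of_pow_mem n (CommAlg4.PureEasy.comap_bot_fiber_le t' P'' _ ?_)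
  rwa [Algebra.TensorProduct.tmul_pow, one_pow] at hn

variable {K : Type u} [Field K]

/-- Connected fibres with the unit section: every fibre over a field is irreducible. -/
theorem irreducible_bc {S : Scheme.{u}} (G : Over S) [GrpObj G] [LocallyOfFiniteType G.hom]
    (hconn : ∀ s : S, ConnectedSpace (G.hom.fiber s)) (y : Spec (CommRingCat.of K) ⟶ S) :
    IrreducibleSpace (Red.bc y G).left := by
  haveI : GeometricallyConnected G.hom :=
    AbSchLib.geometricallyConnected_of_section G.hom (MonObj.one (X := G)).left (Over.w _) hconn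
  haveI : GeometricallyConnected (Red.bc y G).hom :=
    inferInstanceAs (GeometricallyConnected (pullback.snd G.hom y))
  haveI : Subsingleton ↥(Spec (CommRingCat.of K)) := inferInstanceAs (Subsingleton (PrimeSpectrum K))
  haveI : LocallyOfFiniteType (Red.bc y G).hom := MorphismProperty.pullback_snd _ _ ‹LocallyOfFiniteType G.hom›
  haveI : ConnectedSpace (Red.bc y G).left := GeometricallyConnected.connectedSpace_of_subsingleton (Red.bc y G).hom
  exact SGA3cLib.irreducibleSpace_of_connected (Red.bc y G)

/-- A nonempty open subscheme of such a fibre is irreducible and Cohen–Macaulay. -/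
theorem irreducible_cm_open (H : Over (Spec (CommRingCat.of K))) [GrpObj H] [LocallyOfFiniteType H.hom]
    [IrreducibleSpace H.left] {Z : Scheme.{u}} (j : Z ⟶ H.left) [IsOpenImmersion j] [Nonempty Z] :
    IrreducibleSpace Z ∧ ∀ z : Z, LocCoh.IsCohenMacaulayLocalRing (Z.presheaf.stalk z) := by
  refine ⟨?_, fun z => CMBC25.isCM_ringEquiv (asIso (j.stalkMap z)).commRingCatIsoToRingEquiv
    (CohDer1.cm_grp H (j.base z))⟩
  have hU : IsIrreducible (Set.univ : Set Z) :=
    ⟨Set.univ_nonempty, (PreirreducibleSpace.isPreirreducible_univ (X := H.left)).preimage j.isOpenEmbedding⟩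
  exact { isPreirreducible_univ := hU.2, toNonempty := ‹_› }

end Groth.Agent.AlgGrpLib.GroupFibrePure
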