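import Groth.Agent.HopfLib.SubHopf
import Groth.Agent.HopfLib.GroupLikeLift
import Groth.Agent.IsoTriv.GroupLikeBC
import Mathlib.RingTheory.HopfAlgebra.GroupLike
import Mathlib.RingTheory.HopfAlgebra.TensorProduct
import Mathlib.RingTheory.Norm.Basic
import Mathlib.FieldTheory.IsAlgClosed.AlgebraicClosure
import Mathlib.RingTheory.TensorProduct.Free

/-!
# Group-like elements of commutative Hopf algebras over a field

* they form a finitely generated group when the algebra is Noetherian;
* along a quotient of a cocommutative Hopf algebra a positive power of each of them lifts.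
-/

set_option autoImplicit false
set_option backward.isDefEq.respectTransparency.types false

open TensorProduct Coalgebra

noncomputable section

universe u

namespace Groth.Agent.AlgGrpLib.GroupLikeFG

open Groth.Agent.HopfLib

variable {k : Type u} [Field k]

/-- The group-like elements of a Noetherian commutative Hopf algebra over a field form a finitely
generated group. -/
theorem fg_groupLike (B : Type u) [CommRing B] [HopfAlgebra k B] [IsNoetherianRing B] :
    Group.FG (GroupLike k B) := by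
  classical
  obtain ⟨t, ht, hI⟩ := (Submodule.fg_span_iff_fg_span_finset_subset
    (R := B) (Set.range fun g : GroupLike k B => (g : B) - 1)).1 (IsNoetherian.noetherian _)
  have ht' : ∀ x ∈ t, ∃ g : GroupLike k B, (g : B) - 1 = x := fun x hx => ht hx
  choose g hg using ht'
  let s : Finset (GroupLike k B) := t.attach.image fun x => g x.1 x.2
  refine ⟨⟨s, eq_top_iff.2 fun a _ => ?_⟩⟩
  let Γ' : Subgroup (GroupLike k B) := Subgroup.closure (s : Set (GroupLike k B))
  let M : Submonoid B := Γ'.toSubmonoid.map (GroupLike.valMonoidHom k B)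
  let A' : Subalgebra k B := Algebra.adjoin k (M : Set B)
  have hval : ∀ x ∈ Γ', (x : B) ∈ A' := fun x hx => Algebra.subset_adjoin ⟨x, hx, rfl⟩
  have hA' : IsSubHopf k B A' := by
    refine ⟨fun b hb => ?_, fun b hb => ?_⟩
    · refine (?_ : A' ≤ (Algebra.TensorProduct.map A'.val A'.val).range.comap (Bialgebra.comulAlgHom k B)) hb
      refine Algebra.adjoin_le ?_
      rintro _ ⟨x, hx, rfl⟩
      refine ⟨⟨(x : B), hval x hx⟩ ⊗ₜ ⟨(x : B), hval x hx⟩, ?_⟩
      show (x : B) ⊗ₜ[k] (x : B) = Coalgebra.comul (R := k) (x : B)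
      exact x.2.comul_eq_tmul_self.symm
    · refine (?_ : A' ≤ A'.comap (HopfAlgebra.antipodeAlgHom k B)) hb
      refine Algebra.adjoin_le ?_
      rintro _ ⟨x, hx, rfl⟩
      show HopfAlgebra.antipode k (x : B) ∈ A'
      rw [← GroupLike.val_inv]
      exact hval _ (Γ'.inv_mem hx)
  haveI : Module.FaithfullyFlat A' B := faithfullyFlat_isSubHopf hA'
  -- `b ↦ b₂ ⊗ S b₁` into `B ⊗[A'] B`
  let Sr : B →ₐ[k] B ⊗[A'] B :=
    ((Algebra.TensorProduct.includeRight : B →ₐ[A'] B ⊗[A'] B).restrictScalars k).comp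
      (HopfAlgebra.antipodeAlgHom k B)
  let Il : B →ₐ[k] B ⊗[A'] B := (Algebra.TensorProduct.includeLeft : B →ₐ[A'] B ⊗[A'] B).restrictScalars k
  let θ : B →ₐ[k] B ⊗[A'] B :=
    (Algebra.TensorProduct.lift Il Sr fun _ _ => .all _ _).comp (Bialgebra.comulAlgHom k B)
  have hθ : ∀ x : GroupLike k B, θ x = (x : B) ⊗ₜ[A'] ((x⁻¹ : GroupLike k B) : B) := by
    intro x
    show Algebra.TensorProduct.lift Il Sr (fun _ _ => .all _ _) (Coalgebra.comul (R := k) (x : B)) = _
    rw [x.2.comul_eq_tmul_self, Algebra.TensorProduct.lift_tmul]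
    show ((x : B) ⊗ₜ[A'] (1 : B)) * ((1 : B) ⊗ₜ[A'] HopfAlgebra.antipode k (x : B)) = _
    rw [Algebra.TensorProduct.tmul_mul_tmul, _root_.mul_one, _root_.one_mul, GroupLike.val_inv]
  have hle : Ideal.span (Set.range fun g : GroupLike k B => (g : B) - 1) ≤ RingHom.ker θ := by
    show Submodule.span B _ ≤ _
    rw [hI, Submodule.span_le]
    intro z hz
    have hm : g z hz ∈ Γ' := Subgroup.subset_closure (Finset.mem_image.2 ⟨⟨z, hz⟩, Finset.mem_attach _ _, rfl⟩)
    show θ z = 0
    rw [← hg z hz, map_sub, map_one, sub_eq_zero, hθ]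
    have e1 : ((g z hz : GroupLike k B) : B) = (⟨_, hval _ hm⟩ : A') • (1 : B) := (_root_.mul_one _).symm
    rw [e1, TensorProduct.smul_tmul]
    show (1 : B) ⊗ₜ[A'] (((g z hz : GroupLike k B) : B) * (((g z hz)⁻¹ : GroupLike k B) : B)) = 1
    rw [← GroupLike.val_mul, mul_inv_cancel, GroupLike.val_one]
    rfl
  have ha0 : θ ((a : B) - 1) = 0 := hle (Ideal.subset_span ⟨a, rfl⟩)
  rw [map_sub, map_one, sub_eq_zero, hθ] at ha0
  -- hence `a ⊗ 1 = 1 ⊗ a`
  have ha1 : (a : B) ⊗ₜ[A'] (1 : B) = (1 : B) ⊗ₜ[A'] (a : B) := by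
    have := congrArg (· * ((1 : B) ⊗ₜ[A'] (a : B))) ha0
    simp only [Algebra.TensorProduct.tmul_mul_tmul, _root_.mul_one, _root_.one_mul] at this
    rwa [← GroupLike.val_mul, inv_mul_cancel, GroupLike.val_one] at this
  obtain ⟨m, hm⟩ := IsoTriv.exists_eq_one_tmul (R := A') (M := A') B ((a : B) ⊗ₜ[A'] (1 : A')) (by
    show ((a : B) ⊗ₜ[A'] (1 : B)) ⊗ₜ[A'] (1 : A') = ((1 : B) ⊗ₜ[A'] (a : B)) ⊗ₜ[A'] (1 : A')
    rw [ha1])
  have ham : (a : B) = (m : B) := by
    have := congrArg (TensorProduct.rid A' B) hm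
    simp only [TensorProduct.rid_tmul, one_smul] at this
    exact this.trans (_root_.mul_one _)
  have hmem : (a : B) ∈ Submodule.span k ((GroupLike.val : GroupLike k B → B) '' (Γ' : Set (GroupLike k B))) := by
    have h := m.2
    rw [← Subalgebra.mem_toSubmodule, Algebra.adjoin_eq_span, Submonoid.closure_eq] at h
    rw [ham]
    exact h
  by_contra hna
  exact (linearIndep_groupLikeVal (R := k) (A := B)).notMem_span_image hna hmem

end Groth.Agent.AlgGrpLib.GroupLikeFG

end
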