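import Groth.Agent.HopfLib.GroupLikeLift
import Groth.Agent.IsoTriv.GroupLikeBC
import Mathlib.RingTheory.HopfAlgebra.GroupLike
import Mathlib.RingTheory.HopfAlgebra.TensorProduct
import Mathlib.FieldTheory.IsAlgClosed.AlgebraicClosure
import Mathlib.FieldTheory.IntermediateField.Adjoin.Basic
import Mathlib.RingTheory.TensorProduct.Free

/-!
# Group-like elements lift along quotients up to a positive power

Over an arbitrary field: a preimage exists over a finite extension, and its norm is group-like.
-/

set_option autoImplicit false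
set_option backward.isDefEq.respectTransparency.types false

open TensorProduct Coalgebra

noncomputable section

universe u

namespace Groth.Agent.AlgGrpLib.GroupLikeNorm

open Groth.Agent.IsoTriv

variable {k : Type u} [Field k]

section Norm

variable {L : Type u} [CommRing L] [Algebra k L] {ι : Type} [Fintype ι] [DecidableEq ι] (b : Module.Basis ι k L)

/-- Norm `L ⊗ C → C` for a finite free `L`. -/
def nm (C : Type u) [CommRing C] [Algebra k C] : L ⊗[k] C →* C :=
  (Matrix.detMonoidHom.comp
    (Algebra.leftMulMatrix (Algebra.TensorProduct.basis C b)).toRingHom.toMonoidHom).comp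
    (Algebra.TensorProduct.comm k L C).toAlgHom.toRingHom.toMonoidHom

theorem nm_apply {C : Type u} [CommRing C] [Algebra k C] (y : L ⊗[k] C) :
    nm b C y = (Algebra.leftMulMatrix (Algebra.TensorProduct.basis C b)
      (Algebra.TensorProduct.comm k L C y)).det := rfl

theorem leftMulMatrix_tmul {C : Type u} [CommRing C] [Algebra k C] (a : C) (l : L) (i j : ι) :
    Algebra.leftMulMatrix (Algebra.TensorProduct.basis C b) (a ⊗ₜ[k] l) i j =
      a * algebraMap k C (Algebra.leftMulMatrix b l i j) := by
  rw [Algebra.leftMulMatrix_eq_repr_mul, Algebra.leftMulMatrix_eq_repr_mul, Algebra.TensorProduct.basis_apply,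
    Algebra.TensorProduct.tmul_mul_tmul, _root_.mul_one, Algebra.TensorProduct.basis_repr_tmul,
    Finsupp.smul_apply, Finsupp.mapRange_apply, smul_eq_mul]

theorem nm_map {C D : Type u} [CommRing C] [Algebra k C] [CommRing D] [Algebra k D] (f : C →ₐ[k] D)
    (y : L ⊗[k] C) : nm b D (Algebra.TensorProduct.map (AlgHom.id k L) f y) = f (nm b C y) := by
  rw [nm_apply, nm_apply, AlgHom.map_det]
  congr 1
  induction y using TensorProduct.induction_on with
  | zero => simp
  | tmul l a =>
    refine Matrix.ext fun i j => ?_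
    rw [Algebra.TensorProduct.map_tmul, Algebra.TensorProduct.comm_tmul, Algebra.TensorProduct.comm_tmul,
      leftMulMatrix_tmul, AlgHom.mapMatrix_apply, Matrix.map_apply, leftMulMatrix_tmul, map_mul, AlgHom.commutes]
    rfl
  | add x y hx hy => simp only [map_add, hx, hy]

theorem nm_one_tmul {C : Type u} [CommRing C] [Algebra k C] (c : C) :
    nm b C ((1 : L) ⊗ₜ[k] c) = c ^ Fintype.card ι := by
  rw [nm_apply, Algebra.TensorProduct.comm_tmul,
    show c ⊗ₜ[k] (1 : L) = algebraMap C (C ⊗[k] L) c from rfl, AlgHom.commutes, Matrix.algebraMap_eq_diagonal,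
    Matrix.det_diagonal]
  simp

end Norm

variable {A : Type u} [CommRing A] [HopfAlgebra k A] {B : Type u} [CommRing B] [HopfAlgebra k B]

section NormGroupLike

variable {L : Type u} [CommRing L] [Algebra k L] {ι : Type} [Fintype ι] [DecidableEq ι] (b : Module.Basis ι k L)

/-- The norm of a group-like element is group-like. -/
theorem isGroupLike_nm {x : L ⊗[k] A} (hx : IsGroupLikeElem L x) : IsGroupLikeElem k (nm b A x) := by
  classical
  let j1 : L ⊗[k] A →ₐ[L] L ⊗[k] (A ⊗[k] A) :=
    Algebra.TensorProduct.map (AlgHom.id L L) (Algebra.TensorProduct.includeLeft : A →ₐ[k] A ⊗[k] A)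
  let j2 : L ⊗[k] A →ₐ[L] L ⊗[k] (A ⊗[k] A) :=
    Algebra.TensorProduct.map (AlgHom.id L L) (Algebra.TensorProduct.includeRight : A →ₐ[k] A ⊗[k] A)
  let Θ : (L ⊗[k] A) ⊗[L] (L ⊗[k] A) →ₐ[L] L ⊗[k] (A ⊗[k] A) :=
    Algebra.TensorProduct.lift j1 j2 fun _ _ => .all _ _
  have hΘ : Θ.comp (Bialgebra.comulAlgHom L (L ⊗[k] A)) =
      Algebra.TensorProduct.map (AlgHom.id L L) (Bialgebra.comulAlgHom k A) := by
    refine Algebra.TensorProduct.ext (Subsingleton.elim _ _) (AlgHom.ext fun a => ?_)
    show Θ (Coalgebra.comul (R := L) ((1 : L) ⊗ₜ[k] a)) = (1 : L) ⊗ₜ[k] Coalgebra.comul (R := k) a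
    rw [TensorProduct.comul_tmul, CommSemiring.comul_apply]
    generalize Coalgebra.comul (R := k) a = t
    induction t using TensorProduct.induction_on with
    | zero => simp
    | tmul p q =>
      show ((1 : L) ⊗ₜ[k] (p ⊗ₜ[k] (1 : A))) * ((1 : L) ⊗ₜ[k] ((1 : A) ⊗ₜ[k] q)) = _
      simp
    | add p q hp hq => simp only [TensorProduct.tmul_add, map_add, hp, hq]
  have h1 : Algebra.TensorProduct.map (AlgHom.id k L) (Bialgebra.comulAlgHom k A) x =
      Algebra.TensorProduct.map (AlgHom.id k L) (Algebra.TensorProduct.includeLeft : A →ₐ[k] A ⊗[k] A) x *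
        Algebra.TensorProduct.map (AlgHom.id k L) (Algebra.TensorProduct.includeRight : A →ₐ[k] A ⊗[k] A) x := by
    have h := (DFunLike.congr_fun hΘ x).symm
    rw [AlgHom.comp_apply, Bialgebra.comulAlgHom_apply, hx.comul_eq_tmul_self,
      Algebra.TensorProduct.lift_tmul] at h
    exact h
  refine ⟨?_, ?_⟩
  · have h2 : ∀ z : L ⊗[k] A, Algebra.TensorProduct.rid k L L
        (Algebra.TensorProduct.map (AlgHom.id L L) (Bialgebra.counitAlgHom k A) z) =
        Coalgebra.counit (R := L) z := fun z => by
      induction z using TensorProduct.induction_on with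
      | zero => simp
      | tmul l a => simp
      | add p q hp hq => simp only [map_add, hp, hq]
    have h3 : Algebra.TensorProduct.map (AlgHom.id L L) (Bialgebra.counitAlgHom k A) x = 1 :=
      (Algebra.TensorProduct.rid k L L).injective (by rw [h2, hx.counit_eq_one, map_one])
    have h4 := nm_map b (Bialgebra.counitAlgHom k A) x
    rw [show Algebra.TensorProduct.map (AlgHom.id k L) (Bialgebra.counitAlgHom k A) x = 1 from h3, map_one] at h4
    exact h4.symm
  · show Bialgebra.comulAlgHom k A (nm b A x) = _
    rw [← nm_map, h1, map_mul, nm_map, nm_map, Algebra.TensorProduct.includeLeft_apply,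
      Algebra.TensorProduct.includeRight_apply, Algebra.TensorProduct.tmul_mul_tmul, _root_.mul_one, _root_.one_mul]

end NormGroupLike

/-- Every element of a base change comes from a finite subextension. -/
theorem exists_finite_push (K : Type u) [Field K] [Algebra k K] [Algebra.IsIntegral k K] (z : K ⊗[k] A) :
    ∃ (L : IntermediateField k K) (_ : FiniteDimensional k L) (x : L ⊗[k] A), push A L.val x = z := by
  induction z using TensorProduct.induction_on with
  | zero => exact ⟨⊥, inferInstance, 0, map_zero _⟩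
  | tmul t a =>
    exact ⟨IntermediateField.adjoin k {t}, IntermediateField.adjoin.finiteDimensional (Algebra.IsIntegral.isIntegral t),
      ⟨t, IntermediateField.mem_adjoin_simple_self k t⟩ ⊗ₜ a, rfl⟩
  | add x y hx hy =>
    obtain ⟨L₁, _, x₁, h₁⟩ := hx
    obtain ⟨L₂, _, x₂, h₂⟩ := hy
    refine ⟨L₁ ⊔ L₂, inferInstance, push A (IntermediateField.inclusion le_sup_left) x₁ +
      push A (IntermediateField.inclusion le_sup_right) x₂, ?_⟩
    rw [map_add, push_push, push_push, ← h₁, ← h₂]
    rfl

/-- Some positive power of every group-like element of a quotient lifts to a group-like element. -/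
theorem exists_groupLike_preimage_pow [Coalgebra.IsCocomm k A] (π : A →ₐc[k] B) (hπ : Function.Surjective π)
    (χ : GroupLike k B) :
    ∃ (n : ℕ) (g : GroupLike k A), 0 < n ∧ π (g : A) = (χ : B) ^ n := by
  classical
  let K := AlgebraicClosure k
  let πK : K ⊗[k] A →ₐc[K] K ⊗[k] B := Bialgebra.TensorProduct.map (BialgHom.id K K) π
  have hπK : Function.Surjective πK := by
    intro y
    induction y using TensorProduct.induction_on with
    | zero => exact ⟨0, map_zero _⟩
    | tmul t c =>
      obtain ⟨a, rfl⟩ := hπ c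
      exact ⟨t ⊗ₜ a, rfl⟩
    | add p q hp hq =>
      obtain ⟨p', rfl⟩ := hp
      obtain ⟨q', rfl⟩ := hq
      exact ⟨p' + q', map_add _ _ _⟩
  obtain ⟨gK, hgK, hπg⟩ := Groth.Agent.HopfLib.exists_groupLike_preimage πK hπK
    (isGroupLike_tmul (T := K) χ.2)
  obtain ⟨L, hL, x, hx⟩ := exists_finite_push K gK
  haveI := hL
  haveI : Module.FaithfullyFlat L K := inferInstance
  have hxg : IsGroupLikeElem L x := by
    refine isGroupLike_of_tmul (R := L) (A := L ⊗[k] A) K ?_
    rw [← isGroupLikeElem_map_equiv (SGA3bLib.cancelBC (R := k) L K A)]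
    have e : (SGA3bLib.cancelBC (R := k) L K A) ((1 : K) ⊗ₜ[L] x) = gK :=
      (push_eq_cancel (T := L) (T' := K) x).symm.trans hx
    rw [e]
    exact hgK
  have hπx : Algebra.TensorProduct.map (AlgHom.id k L) (π : A →ₐ[k] B) x = (1 : L) ⊗ₜ[k] (χ : B) := by
    have hinj : Function.Injective (push B L.val) :=
      Module.Flat.rTensor_preserves_injective_linearMap L.val.toLinearMap Subtype.val_injective
    apply hinj
    have hnat : ∀ z : L ⊗[k] A, push B L.val (Algebra.TensorProduct.map (AlgHom.id k L) (π : A →ₐ[k] B) z) =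
        πK (push A L.val z) := fun z => by
      induction z using TensorProduct.induction_on with
      | zero => simp
      | tmul l a => rfl
      | add p q hp hq => simp only [map_add, hp, hq]
    rw [hnat, hx, hπg]
    rfl
  let b := Module.finBasis k L
  refine ⟨Fintype.card (Fin (Module.finrank k L)), ⟨nm b A x, isGroupLike_nm b hxg⟩,
    by rw [Fintype.card_fin]; exact Module.finrank_pos, ?_⟩
  show (π : A →ₐ[k] B) (nm b A x) = _
  rw [← nm_map, hπx, nm_one_tmul]

end Groth.Agent.AlgGrpLib.GroupLikeNorm

end
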