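import Groth.Agent.HopfQuot.Basic
import Groth.Agent.DynLib.Basic
import Groth.Agent.VarietyLib.GeomField
import Groth.Agent.UnipStruct.GroupLike
import Groth.Agent.AlgGrpLib.PointsDense
import Groth.Agent.HopfUnip26.Extension
import Groth.Agent.SGA3bLib.DiagQuot
import Groth.Agent.S7967
import Groth.Agent.S4128

/-!
# Group-like elements and the identity component

The prime below the augmentation ideal cuts out a subgroup; a group-like element trivial on it has
finite order.  A trigonalizable integral group without a quotient torus of rank one is unipotent.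
-/

set_option autoImplicit false
set_option backward.isDefEq.respectTransparency.types false
set_option linter.style.haveILetI false

universe u

open TensorProduct WithConv HopfRep Groth.Agent.HopfQuot Groth.Agent.HopfLib
open Coalgebra (comul counit)

noncomputable section

namespace Groth.Agent.AlgGrpLib.GroupLikeOrder

variable {k : Type u} [Field k] {B : Type u} [CommRing B] [HopfAlgebra k B]

theorem apply_groupLike_mul {R : Type u} [CommRing R] [Algebra k R] {g : B} (hg : IsGroupLikeElem k g)
    (p p' : Pt k B R) : (p * p').ofConv g = p.ofConv g * p'.ofConv g := by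
  rw [HopfQuot.mul_apply, hg.comul_eq_tmul_self, Algebra.TensorProduct.lift_tmul]

theorem apply_groupLike_pow {R : Type u} [CommRing R] [Algebra k R] {g : B} (hg : IsGroupLikeElem k g)
    (p : Pt k B R) (m : ℕ) : (p ^ m).ofConv g = p.ofConv g ^ m := by
  induction m with
  | zero => rw [pow_zero, pow_zero, HopfQuot.one_apply, hg.counit_eq_one, map_one]
  | succ m ih => rw [pow_succ, pow_succ, apply_groupLike_mul hg, ih]

/-- A group-like element with nilpotent augmentation has finite order. -/
theorem exists_pow_eq_one_of_isNilpotent {g : B} (hg : IsGroupLikeElem k g) (hn : IsNilpotent (g - 1)) :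
    ∃ M : ℕ, 0 < M ∧ g ^ M = 1 := by
  by_contra hc
  push Not at hc
  have hu : IsUnit g := by simpa using hn.isUnit_add_one
  have hinj : Function.Injective fun m : ℕ => g ^ m := by
    intro a b hab
    wlog hle : a ≤ b generalizing a b
    · exact (this hab.symm (le_of_not_ge hle)).symm
    by_contra hne
    refine hc (b - a) (by omega) ((hu.pow a).mul_left_cancel ?_)
    rw [← pow_add, Nat.add_sub_cancel' hle, mul_one]
    exact hab.symm
  obtain ⟨m, hm⟩ := hn
  let W : Submodule k B := Submodule.span k (Set.range fun j : Fin m => (g - 1) ^ (j : ℕ))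
  haveI : Module.Finite k W := Module.Finite.span_of_finite k (Set.finite_range _)
  have hmem : ∀ a : ℕ, g ^ a ∈ W := by
    intro a
    rw [show g ^ a = ((g - 1) + 1) ^ a by rw [sub_add_cancel], add_pow]
    refine Submodule.sum_mem _ fun j _ => ?_
    rw [one_pow, mul_one, mul_comm, ← nsmul_eq_mul]
    refine Submodule.smul_of_tower_mem W _ ?_
    by_cases hj : j < m
    · exact Submodule.subset_span ⟨⟨j, hj⟩, rfl⟩
    · rw [show (g - 1) ^ j = 0 from pow_eq_zero_of_le (not_lt.1 hj) hm]
      exact W.zero_mem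
  have hli : LinearIndependent k fun a : ℕ => g ^ a :=
    (linearIndepOn_isGroupLikeElem (R := k) (A := B)).linearIndependent.comp
      (fun a => (⟨g ^ a, hg.pow⟩ : {b : B | IsGroupLikeElem k b})) fun a b h => hinj (congrArg Subtype.val h)
  have hli' : LinearIndependent k fun a : ℕ => (⟨g ^ a, hmem a⟩ : W) :=
    LinearIndependent.of_comp W.subtype hli
  exact not_finite_iff_infinite.2 inferInstance hli'.finite

variable [IsAlgClosed k] [Algebra.FiniteType k B]

theorem exists_point (P : Ideal B) [P.IsPrime] : ∃ h : B →ₐ[k] k, P ≤ RingHom.ker h := by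
  haveI : Algebra.FiniteType k (B ⧸ P) := Algebra.FiniteType.of_surjective (Ideal.Quotient.mkₐ k P) Ideal.Quotient.mk_surjective
  obtain ⟨h, -⟩ := AlgGrpLib.PointsDense.exists_algHom_ne_zero_of_isReduced k k (B ⧸ P) 1 one_ne_zero
  exact ⟨h.comp (Ideal.Quotient.mkₐ k P), fun x hx => by
    show h (Ideal.Quotient.mkₐ k P x) = 0
    rw [show Ideal.Quotient.mkₐ k P x = 0 from Ideal.Quotient.eq_zero_iff_mem.2 hx, map_zero]⟩

/-- The least prime below the augmentation ideal is a Hopf ideal, and detects finite order. -/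
theorem exists_component : ∃ P : Ideal B, ∃ _ : P.IsHopfIdeal k, P.IsPrime ∧
    ∀ g : B, IsGroupLikeElem k g → g - 1 ∈ P → ∃ M : ℕ, 0 < M ∧ g ^ M = 1 := by
  classical
  haveI : IsNoetherianRing B := Algebra.FiniteType.isNoetherianRing k B
  let ε := Bialgebra.counitAlgHom k B
  haveI : (RingHom.ker ε).IsPrime := RingHom.ker_isPrime _
  obtain ⟨P, hP, hP0⟩ := Ideal.exists_minimalPrimes_le (J := RingHom.ker ε) (bot_le : (⊥ : Ideal B) ≤ _)
  haveI := hP.1.1
  have heps : ∀ (R : Ideal B), R ≤ RingHom.ker ε → ∃ e : (B ⧸ R) →ₐ[k] k,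
      e.comp (Ideal.Quotient.mkₐ k R) = ε := fun R hR =>
    ⟨Ideal.Quotient.liftₐ R ε fun x hx => hR hx, Ideal.Quotient.liftₐ_comp _ _ _⟩
  let L : Pt k B ((B ⧸ P) ⊗[k] (B ⧸ P)) := toConv (Algebra.TensorProduct.includeLeft.comp (Ideal.Quotient.mkₐ k P))
  -- `P` is the least prime below the augmentation ideal
  have hleast : ∀ R : Ideal B, R.IsPrime → R ≤ RingHom.ker ε → P ≤ R := by
    intro R hR hR0
    haveI := hR
    obtain ⟨e₁, he₁⟩ := heps P hP0
    obtain ⟨e₂, he₂⟩ := heps R hR0
    haveI : IsDomain ((B ⧸ P) ⊗[k] (B ⧸ R)) := VarietyLib.isDomain_tensor_of_isAlgClosed k _ _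
    let q : Pt k B ((B ⧸ P) ⊗[k] (B ⧸ R)) :=
      toConv (Algebra.TensorProduct.includeLeft.comp (Ideal.Quotient.mkₐ k P)) *
        toConv (Algebra.TensorProduct.includeRight.comp (Ideal.Quotient.mkₐ k R))
    have hQ : (RingHom.ker q.ofConv).IsPrime := RingHom.ker_isPrime _
    have h1 : RingHom.ker q.ofConv ≤ P := by
      intro x hx
      let φ : (B ⧸ P) ⊗[k] (B ⧸ R) →ₐ[k] B ⧸ P :=
        Algebra.TensorProduct.lift (AlgHom.id k _) ((Algebra.ofId k _).comp e₂) fun _ _ => .all _ _
      have e : push φ q = toConv (Ideal.Quotient.mkₐ k P) := by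
        have ea : push φ (toConv (Algebra.TensorProduct.includeLeft.comp (Ideal.Quotient.mkₐ k P)) :
            Pt k B ((B ⧸ P) ⊗[k] (B ⧸ R))) = toConv (Ideal.Quotient.mkₐ k P) :=
          WithConv.ext (AlgHom.ext fun b => by simp [φ])
        have eb : push φ (toConv (Algebra.TensorProduct.includeRight.comp (Ideal.Quotient.mkₐ k R)) :
            Pt k B ((B ⧸ P) ⊗[k] (B ⧸ R))) = 1 := by
          refine WithConv.ext (AlgHom.ext fun b => ?_)
          rw [HopfQuot.one_apply]
          have := congrArg (fun f : B →ₐ[k] k => f b) he₂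
          simpa [φ, ε] using congrArg (algebraMap k (B ⧸ P)) this
        rw [map_mul, ea, eb, mul_one]
      refine Ideal.Quotient.eq_zero_iff_mem.1 ?_
      have := congrArg (fun p : Pt k B (B ⧸ P) => p.ofConv x) e
      simp only [push_apply, ofConv_toConv] at this
      rw [show q.ofConv x = 0 from hx, map_zero] at this
      exact this.symm
    have h2 : RingHom.ker q.ofConv ≤ R := by
      intro x hx
      let φ : (B ⧸ P) ⊗[k] (B ⧸ R) →ₐ[k] B ⧸ R :=
        Algebra.TensorProduct.lift ((Algebra.ofId k _).comp e₁) (AlgHom.id k _) fun _ _ => .all _ _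
      have e : push φ q = toConv (Ideal.Quotient.mkₐ k R) := by
        have ea : push φ (toConv (Algebra.TensorProduct.includeRight.comp (Ideal.Quotient.mkₐ k R)) :
            Pt k B ((B ⧸ P) ⊗[k] (B ⧸ R))) = toConv (Ideal.Quotient.mkₐ k R) :=
          WithConv.ext (AlgHom.ext fun b => by simp [φ])
        have eb : push φ (toConv (Algebra.TensorProduct.includeLeft.comp (Ideal.Quotient.mkₐ k P)) :
            Pt k B ((B ⧸ P) ⊗[k] (B ⧸ R))) = 1 := by
          refine WithConv.ext (AlgHom.ext fun b => ?_)
          rw [HopfQuot.one_apply]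
          have := congrArg (fun f : B →ₐ[k] k => f b) he₁
          simpa [φ, ε] using congrArg (algebraMap k (B ⧸ R)) this
        rw [map_mul, ea, eb, one_mul]
      refine Ideal.Quotient.eq_zero_iff_mem.1 ?_
      have := congrArg (fun p : Pt k B (B ⧸ R) => p.ofConv x) e
      simp only [push_apply, ofConv_toConv] at this
      rw [show q.ofConv x = 0 from hx, map_zero] at this
      exact this.symm
    exact (hP.2 ⟨hQ, bot_le⟩ h1).trans h2
  -- points killing `P` form a subgroup
  haveI : IsDomain ((B ⧸ P) ⊗[k] (B ⧸ P)) := VarietyLib.isDomain_tensor_of_isAlgClosed k _ _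
  let Rr : Pt k B ((B ⧸ P) ⊗[k] (B ⧸ P)) := toConv (Algebra.TensorProduct.includeRight.comp (Ideal.Quotient.mkₐ k P))
  obtain ⟨e₁, he₁⟩ := heps P hP0
  have hLR : P ≤ RingHom.ker (L * Rr).ofConv := by
    refine hleast _ (RingHom.ker_isPrime _) fun x hx => ?_
    have e : push (Algebra.TensorProduct.lift e₁ e₁ fun _ _ => .all _ _) (L * Rr) = 1 := by
      suffices hh : push (Algebra.TensorProduct.lift e₁ e₁ fun _ _ => .all _ _) L = 1 ∧
          push (Algebra.TensorProduct.lift e₁ e₁ fun _ _ => .all _ _) Rr = 1 by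
        rw [map_mul, hh.1, hh.2, one_mul]
      constructor <;>
      · refine WithConv.ext (AlgHom.ext fun b => ?_)
        rw [HopfQuot.one_apply]
        have := congrArg (fun f : B →ₐ[k] k => f b) he₁
        simpa [L, Rr, ε] using this
    have := congrArg (fun p : Pt k B k => p.ofConv x) e
    simp only [push_apply, HopfQuot.one_apply] at this
    rw [show (L * Rr).ofConv x = 0 from hx, map_zero] at this
    exact this.symm
  have hS : P ≤ Ideal.comap (HopfAlgebra.antipodeAlgHom k B) P := by
    refine hleast _ inferInstance fun x hx => ?_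
    have h1 : counit (R := k) (HopfAlgebraStruct.antipode k (A := B) x) = 0 := hP0 hx
    rwa [HopfAlgebra.counit_antipode] at h1
  let Sub : ∀ (R : Type u) [CommRing R] [Algebra k R], Subgroup (Pt k B R) := fun R _ _ =>
    { carrier := {p | ∀ x ∈ P, p.ofConv x = 0}
      one_mem' := fun x hx => by
        rw [HopfQuot.one_apply, show counit (R := k) x = 0 from hP0 hx, map_zero]
      mul_mem' := fun {p p'} hp hp' x hx => by
        let φ := Algebra.TensorProduct.lift (Ideal.Quotient.liftₐ P p.ofConv hp) (Ideal.Quotient.liftₐ P p'.ofConv hp')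
          fun _ _ => .all _ _
        have e : push φ (L * Rr) = p * p' := by
          rw [map_mul]
          congr 1 <;> exact WithConv.ext (AlgHom.ext fun b => by simp [φ, L, Rr])
        rw [← e, push_apply, show (L * Rr).ofConv x = 0 from hLR hx, map_zero]
      inv_mem' := fun {p} hp x hx => by
        rw [HopfQuot.inv_apply]
        exact hp _ (hS hx) }
  have hHopf : P.IsHopfIdeal k := DynLib.isHopfIdeal_of_subgroup P Sub fun R _ _ p => Iff.rfl
  refine ⟨P, hHopf, hP.1.1, fun g hg hgP => ?_⟩
  -- values on the other components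
  have hfin := Ideal.finite_minimalPrimes_of_isNoetherianRing B (⊥ : Ideal B)
  have hpt : ∀ Q ∈ (⊥ : Ideal B).minimalPrimes, ∃ c : k, g - algebraMap k B c ∈ Q := by
    intro Q hQ
    haveI := hQ.1.1
    obtain ⟨h, hh⟩ := exists_point (k := k) Q
    let p : Pt k B (B ⧸ Q) := toConv (Ideal.Quotient.mkₐ k Q)
    let c : Pt k B (B ⧸ Q) := push (Algebra.ofId k _) (toConv h)
    have hker : RingHom.ker (p * c⁻¹).ofConv ≤ RingHom.ker ε := by
      intro x hx
      have e : push (Ideal.Quotient.liftₐ Q h fun y hy => hh hy) (p * c⁻¹) = 1 := by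
        have e1 : push (Ideal.Quotient.liftₐ Q h fun y hy => hh hy) p = toConv h :=
          WithConv.ext (AlgHom.ext fun b => by simp [p])
        have e2 : push (Ideal.Quotient.liftₐ Q h fun y hy => hh hy) c = toConv h :=
          WithConv.ext (AlgHom.ext fun b => by simp [c])
        rw [map_mul, map_inv, e1, e2, mul_inv_cancel]
      have := congrArg (fun r : Pt k B k => r.ofConv x) e
      simp only [push_apply, HopfQuot.one_apply] at this
      rw [show (p * c⁻¹).ofConv x = 0 from hx, map_zero] at this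
      exact this.symm
    have h1 : (p * c⁻¹).ofConv g = 1 := by
      have := hleast _ (RingHom.ker_isPrime _) hker hgP
      rwa [RingHom.mem_ker, map_sub, map_one, sub_eq_zero] at this
    refine ⟨h g, Ideal.Quotient.eq_zero_iff_mem.1 ?_⟩
    have h2 : p.ofConv g = c.ofConv g := by
      calc p.ofConv g = (p * c⁻¹ * c).ofConv g := by rw [inv_mul_cancel_right]
        _ = c.ofConv g := by rw [apply_groupLike_mul hg, h1, one_mul]
    rw [map_sub]
    exact sub_eq_zero.2 h2
  choose! c hc using hpt
  let S : Finset k := hfin.toFinset.image c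
  have hval : ∀ h : Pt k B k, h.ofConv g ∈ S := by
    intro h
    haveI : (RingHom.ker h.ofConv).IsPrime := RingHom.ker_isPrime _
    obtain ⟨Q, hQ, hQh⟩ := Ideal.exists_minimalPrimes_le (J := RingHom.ker h.ofConv) (bot_le : (⊥ : Ideal B) ≤ _)
    refine Finset.mem_image.2 ⟨Q, hfin.mem_toFinset.2 hQ, ?_⟩
    have := hQh (hc Q hQ)
    rw [RingHom.mem_ker, map_sub, AlgHom.commutes, sub_eq_zero] at this
    exact this.symm
  have hord : ∀ Q ∈ hfin.toFinset, ∃ m : ℕ, 0 < m ∧ c Q ^ m = 1 := by
    intro Q hQ
    haveI := (hfin.mem_toFinset.1 hQ).1.1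
    obtain ⟨h, hh⟩ := exists_point (k := k) Q
    have hcQ : h g = c Q := by
      have := hh (hc Q (hfin.mem_toFinset.1 hQ))
      rwa [RingHom.mem_ker, map_sub, AlgHom.commutes, sub_eq_zero] at this
    have hne : h g ≠ 0 := by
      intro h0
      have h1 := apply_groupLike_mul hg (toConv h) (toConv h : Pt k B k)⁻¹
      rw [mul_inv_cancel, HopfQuot.one_apply, hg.counit_eq_one, map_one, ofConv_toConv, h0, zero_mul] at h1
      exact one_ne_zero h1
    have hmem : ∀ m : ℕ, h g ^ m ∈ S := fun m => by
      rw [← apply_groupLike_pow hg (toConv h)]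
      exact hval _
    obtain ⟨a, b, hne', hab⟩ := Finite.exists_ne_map_eq_of_infinite fun m : ℕ => (⟨h g ^ m, hmem m⟩ : S)
    have hab' : h g ^ a = h g ^ b := congrArg Subtype.val hab
    rw [← hcQ]
    rcases lt_or_gt_of_ne hne' with hlt | hlt
    · refine ⟨b - a, by omega, mul_left_cancel₀ (pow_ne_zero a hne) ?_⟩
      rw [← pow_add, Nat.add_sub_cancel' hlt.le, mul_one, hab']
    · refine ⟨a - b, by omega, mul_left_cancel₀ (pow_ne_zero b hne) ?_⟩
      rw [← pow_add, Nat.add_sub_cancel' hlt.le, mul_one, hab']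
  choose! m hm hm' using hord
  let N := ∏ Q ∈ hfin.toFinset, m Q
  have hN : 0 < N := Finset.prod_pos hm
  have hnil : IsNilpotent (g ^ N - 1) := by
    rw [← mem_nilradical, nilradical, Ideal.zero_eq_bot, ← Ideal.sInf_minimalPrimes]
    refine Ideal.mem_sInf.2 fun {Q} hQ => ?_
    refine Ideal.Quotient.eq_zero_iff_mem.1 ?_
    have h1 : Ideal.Quotient.mk Q g = Ideal.Quotient.mk Q (algebraMap k B (c Q)) := Ideal.Quotient.eq.2 (hc Q hQ)
    have hQ' : Q ∈ hfin.toFinset := hfin.mem_toFinset.2 hQ
    obtain ⟨r, hr⟩ := Finset.dvd_prod_of_mem m hQ'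
    rw [map_sub, map_pow, h1, map_one, sub_eq_zero, show N = m Q * r from hr, ← map_pow (Ideal.Quotient.mk Q),
      ← map_pow (algebraMap k B), pow_mul, hm' Q hQ', one_pow, map_one, map_one]
  obtain ⟨M, hM, hgM⟩ := exists_pow_eq_one_of_isNilpotent hg.pow hnil
  exact ⟨N * M, Nat.mul_pos hN hM, by rwa [pow_mul]⟩

/-- A trigonalizable integral group without a quotient onto the Laurent algebra is unipotent. -/
theorem isUnipotent_of_isTrigonalizable [IsDomain B] (hTr : IsTrigonalizable k B)
    (hT : ∀ θ : B →ₐc[k] MonoidAlgebra k (Multiplicative ℤ), ¬ Function.Surjective θ) :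
    IsUnipotent k B := by
  obtain ⟨D, _, _, ψ, J, _, hψ, hD, hJ, hU⟩ := (S7967.result k B).1 hTr
  obtain ⟨r, hr⟩ := S4128.result k B D (SGA3bLib.isDiag_of_span_groupLike hD) ψ hψ J hJ hU
  have hrsurj : Function.Surjective r := fun d => ⟨ψ d, congrArg (fun f : D →ₐc[k] D => f d) hr⟩
  haveI : Algebra.FiniteType k D := Algebra.FiniteType.of_surjective (r : B →ₐ[k] D) hrsurj
  haveI : IsDomain D := Function.Injective.isDomain (ψ : D →+* B) hψ
  haveI : Coalgebra.IsCocomm k D := ⟨by
    refine LinearMap.ext_on (s := {a : D | IsGroupLikeElem k a}) hD fun a ha => ?_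
    simp [ha.comul_eq_tmul_self]⟩
  have hone : ∀ d : D, IsGroupLikeElem k d → d = 1 := by
    intro d hd
    by_contra hd1
    by_cases hord : ∀ m : ℕ, 0 < m → d ^ m ≠ 1
    · obtain ⟨θ, hθ⟩ := UnipStruct.exists_surjective_laurent hd hord
      exact hT (θ.comp r) (hθ.comp hrsurj)
    push Not at hord
    obtain ⟨m, hm, hdm⟩ := hord
    have halg : IsIntegral k d := IsIntegral.of_pow hm (hdm ▸ isIntegral_one)
    obtain ⟨c, hc'⟩ := minpoly.mem_range_of_degree_eq_one k d
      (IsAlgClosed.degree_eq_one_of_irreducible k (minpoly.irreducible halg))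
    have := hd.counit_eq_one
    rw [← hc', Bialgebra.counit_algebraMap] at this
    exact hd1 (by rw [← hc', this, map_one])
  have hscal : ∀ d : D, d = algebraMap k D (counit (R := k) d) := fun d => by
    have hd : d ∈ Submodule.span k {a : D | IsGroupLikeElem k a} := by rw [hD]; trivial
    induction hd using Submodule.span_induction with
    | mem a ha => rw [hone a ha, Bialgebra.counit_one, map_one]
    | zero => rw [map_zero, map_zero]
    | add a b _ _ ha hb => rw [map_add, map_add, ← ha, ← hb]
    | smul t a _ ha => rw [map_smul, smul_eq_mul, map_mul, ← ha, Algebra.smul_def]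
  exact HopfUnip26.isUnipotent_of_extension ψ J hψ hJ (isUnipotent_of_scalar hscal) hU

end Groth.Agent.AlgGrpLib.GroupLikeOrder
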