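import Groth.Agent.GrpQLib.AffineGroupQuot
import Groth.Agent.GrpQLib.SubgroupThick
import Groth.Agent.AlgSpLib.EqvQuot
import Groth.Agent.AlgSpLib.DenseScheme2
import Groth.Agent.AlgSpLib.DiagCrit
import Groth.Agent.AlgSpLib.OpenCoverScheme
import Groth.Agent.AlgSpLib.InductPrinciple
import Groth.Agent.Stk19b.Fppf.Bootstrap
import Groth.Agent.AlgGrpLib.GeomPoints
import Groth.Agent.AlgGrpLib.SolvableSpecial
import Groth.Agent.Et18.Descent
import Groth.Agent.Stk19b.SepQuot
import Groth.Agent.SGA3xLib.SepFibre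

/-!
Quotient of an algebraic group by a closed subgroup over an algebraically closed field: the quotient algebraic space
has a dense open subscheme, whose translates cover it.
-/

set_option autoImplicit false
set_option backward.isDefEq.respectTransparency.types false
set_option backward.isDefEq.respectTransparency false
set_option maxHeartbeats 800000
set_option linter.style.haveILetI false

universe u

open CategoryTheory CategoryTheory.Limits MonoidalCategory CartesianMonoidalCategory AlgebraicGeometry AlgSp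
open Groth.Agent.AlgSpLib

namespace Groth.Agent.AlgGrpLib.HomogQuot

/-- The target of a faithfully flat quasi-compact map is separated when the kernel pair is closed in the product. -/
theorem isSeparated_of_kernelPair {R U M T : Scheme.{u}} {m : U ⟶ M} {h : M ⟶ T} {r₁ r₂ : R ⟶ U}
    [Surjective m] [Flat m] [QuasiCompact m] (sq : IsPullback r₁ r₂ m m)
    (hc : IsClosedImmersion (pullback.lift r₁ r₂ (f := m ≫ h) (g := m ≫ h) (by rw [reassoc_of% sq.w]))) :
    IsSeparated h := by
  let l : R ⟶ pullback (m ≫ h) (m ≫ h) := pullback.lift r₁ r₂ (by rw [reassoc_of% sq.w])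
  have sqd : IsPullback (r₁ ≫ m) l (pullback.diagonal h) (Stk19b.SepQuot.sq m h) := by
    refine IsPullback.of_isLimit' ⟨?_⟩ (PullbackCone.IsLimit.mk _
      (fun c => sq.lift (c.snd ≫ pullback.fst _ _) (c.snd ≫ pullback.snd _ _) ?_) (fun c => ?_) (fun c => ?_)
      (fun c x h1 h2 => ?_))
    · apply pullback.hom_ext <;> simp [l, Stk19b.SepQuot.sq, pullback.lift_fst, pullback.lift_snd,
        pullback.lift_fst_assoc, pullback.lift_snd_assoc, sq.w]
    · have h1 := congrArg (· ≫ pullback.fst h h) c.condition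
      have h2 := congrArg (· ≫ pullback.snd h h) c.condition
      simp [Stk19b.SepQuot.sq, pullback.lift_fst, pullback.lift_snd] at h1 h2
      rw [Category.assoc, Category.assoc, ← h1, ← h2]
    · have h1 := congrArg (· ≫ pullback.fst h h) c.condition
      simp [Stk19b.SepQuot.sq, pullback.lift_fst] at h1
      rw [reassoc_of% sq.lift_fst, Category.assoc]
      first | exact h1 | exact h1.symm
    · apply pullback.hom_ext
      · rw [Category.assoc]
        exact (congrArg _ (pullback.lift_fst _ _ _)).trans (sq.lift_fst _ _ _)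
      · rw [Category.assoc]
        exact (congrArg _ (pullback.lift_snd _ _ _)).trans (sq.lift_snd _ _ _)
    · refine sq.hom_ext ?_ ?_
      · rw [sq.lift_fst, ← h2, Category.assoc, pullback.lift_fst]
      · rw [sq.lift_snd, ← h2, Category.assoc, pullback.lift_snd]
  refine ⟨Et18.descends_isClosedImmersion.of_isPullback sqd.flip ⟨⟨?_, ?_⟩, ?_⟩ hc⟩
  · exact Stk19b.SepQuot.sq_prop m h @Surjective inferInstance
  · exact Stk19b.SepQuot.sq_prop m h @Flat inferInstance
  · exact Stk19b.SepQuot.sq_prop m h @QuasiCompact inferInstance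

open MonObj

variable {k : Type u} [Field k] {G H : Over (Spec (CommRingCat.of k))} [GrpObj G] [GrpObj H]

theorem mono_of_left {A B : Over (Spec (CommRingCat.of k))} (i : A ⟶ B) [Mono i.left] : Mono i :=
  (Over.forget _).mono_of_mono_map (inferInstanceAs (Mono i.left))

theorem isEqvRel (i : H ⟶ G) [IsMonHom i] [Mono i] :
    IsEqvRel (fst G H) (GrpQLib.rightAct i) where
  injective T r r' h1 h2 := by
    refine CartesianMonoidalCategory.hom_ext _ _ h2 ?_
    rw [GrpQLib.comp_rightAct, GrpQLib.comp_rightAct, h2] at h1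
    exact (cancel_mono i).1 (mul_left_cancel h1)
  equivalence T := by
    refine ⟨fun a => ⟨lift a 1, ?_, lift_fst _ _⟩, ?_, ?_⟩
    · rw [GrpQLib.comp_rightAct, lift_fst, lift_snd, MonObj.one_comp, _root_.mul_one]
    · rintro a b ⟨r, rfl, rfl⟩
      refine ⟨lift (r ≫ GrpQLib.rightAct i) (r ≫ snd G H)⁻¹, ?_, lift_fst _ _⟩
      rw [GrpQLib.comp_rightAct, lift_fst, lift_snd, GrpObj.inv_comp _ i, GrpQLib.comp_rightAct, mul_inv_cancel_right]
    · rintro a b c ⟨r, rfl, rfl⟩ ⟨r', h, rfl⟩
      refine ⟨lift (r' ≫ fst G H) ((r' ≫ snd G H) * (r ≫ snd G H)), ?_, lift_fst _ _⟩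
      rw [GrpQLib.comp_rightAct, GrpQLib.comp_rightAct i r, lift_fst, lift_snd, MonObj.mul_comp _ _ i,
        ← _root_.mul_assoc, ← GrpQLib.comp_rightAct i r', h]

/-- Left translation by a rational point. -/
noncomputable def transl (g : 𝟙_ (Over (Spec (CommRingCat.of k))) ⟶ G) : G ⟶ G := (toUnit G ≫ g) * 𝟙 G

theorem comp_transl (g : 𝟙_ (Over (Spec (CommRingCat.of k))) ⟶ G) {T : Over (Spec (CommRingCat.of k))} (x : T ⟶ G) :
    x ≫ transl g = (toUnit T ≫ g) * x := by
  rw [transl, MonObj.comp_mul, Category.comp_id, ← Category.assoc, comp_toUnit]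

theorem transl_transl (g g' : 𝟙_ (Over (Spec (CommRingCat.of k))) ⟶ G) : transl g ≫ transl g' = transl (g' * g) := by
  rw [comp_transl, transl, transl, MonObj.comp_mul, _root_.mul_assoc]

theorem transl_one : transl (1 : 𝟙_ (Over (Spec (CommRingCat.of k))) ⟶ G) = 𝟙 G := by
  rw [transl, MonObj.comp_one, _root_.one_mul]

variable [IsAlgClosed k]

/-- The translates of a nonempty open subset by rational points cover the group. -/
theorem exists_transl_mem [LocallyOfFiniteType G.hom] (U : G.left.Opens) (hU : (U : Set G.left).Nonempty) (x : G.left) :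
    ∃ g : 𝟙_ (Over (Spec (CommRingCat.of k))) ⟶ G, (transl g).left x ∈ U := by
  obtain ⟨p₀, hp₀⟩ := GeomPoints.exists_point_mem (K := k) G (U : Set G.left) U.2.isLocallyClosed hU
  obtain ⟨p₁, hp₁⟩ := GeomPoints.exists_point_mem (K := k) G (closure {x})
    isClosed_closure.isLocallyClosed ⟨x, subset_closure rfl⟩
  let c := SolvableSpecial.ptIso (k := k)
  refine ⟨(c.inv ≫ p₀) * (c.inv ≫ p₁)⁻¹, ?_⟩
  have hpt : p₁ ≫ transl ((c.inv ≫ p₀) * (c.inv ≫ p₁)⁻¹) = p₀ := by
    rw [comp_transl, ← cancel_epi c.inv, MonObj.comp_mul, ← Category.assoc, comp_toUnit, toUnit_unit, Category.id_comp,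
      inv_mul_cancel_right]
  let y : Spec (CommRingCat.of k) := IsLocalRing.closedPoint k
  have h1 : (transl ((c.inv ≫ p₀) * (c.inv ≫ p₁)⁻¹)).left (p₁.left y) ∈ U := by
    rw [← Scheme.Hom.comp_apply, ← Over.comp_left, hpt]
    exact hp₀ y
  exact ((specializes_iff_mem_closure.2 (hp₁ y)).map (transl _).left.continuous).mem_open U.2 h1

/-- The quotient of an algebraic group by a closed subgroup is a scheme. -/
theorem exists_quotient [LocallyOfFiniteType G.hom] [QuasiCompact G.hom] (i : H ⟶ G) [IsMonHom i]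
    [IsClosedImmersion i.left] :
    ∃ (Q : Over (Spec (CommRingCat.of k))) (q : G ⟶ Q), LocallyOfFiniteType Q.hom ∧ QuasiCompact Q.hom ∧
      IsSeparated Q.hom ∧ Surjective q.left ∧ Flat q.left ∧ LocallyOfFinitePresentation q.left ∧
      IsPullback (fst G H) ((G ◁ i) ≫ μ[G]) q q := by
  haveI : Mono i := mono_of_left i
  haveI : LocallyOfFiniteType H.hom := by rw [← Over.w i]; infer_instance
  haveI : QuasiCompact H.hom := by rw [← Over.w i]; infer_instance
  haveI : Flat H.hom := GrpdLib.flat_to_field H.hom k (Iso.refl _)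
  haveI : LocallyOfFinitePresentation H.hom := LocallyOfFinitePresentation.iff_locallyOfFiniteType.2 inferInstance
  haveI : IsSeparated G.hom := SGA3xLib.isSeparated_of_grpObj G
  haveI : LocallyOfFinitePresentation G.hom := LocallyOfFinitePresentation.iff_locallyOfFiniteType.2 inferInstance
  let S := Spec (CommRingCat.of k)
  let R : Over S := G ⊗ H
  let s : R ⟶ G := fst G H
  let t : R ⟶ G := GrpQLib.rightAct i
  have hR : IsEqvRel s t := isEqvRel i
  haveI : Flat s.left := MorphismProperty.pullback_fst (P := @Flat) _ _ ‹Flat H.hom›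
  haveI : LocallyOfFinitePresentation s.left :=
    MorphismProperty.pullback_fst (P := @LocallyOfFinitePresentation) _ _ ‹LocallyOfFinitePresentation H.hom›
  haveI : QuasiCompact s.left := MorphismProperty.pullback_fst (P := @QuasiCompact) _ _ ‹QuasiCompact H.hom›
  haveI : LocallyOfFiniteType R.hom := by rw [← Over.w s]; infer_instance
  haveI : QuasiCompact R.hom := by rw [← Over.w s]; infer_instance
  haveI : LocallyOfFiniteType t.left := by
    haveI : LocallyOfFiniteType (t.left ≫ G.hom) := by rw [Over.w]; infer_instance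
    exact locallyOfFiniteType_of_comp t.left G.hom
  let F := quotSp ((yon S).map s) ((yon S).map t)
  let π : (yon S).obj G ⟶ F := quotSpπ _ _
  have hF : IsAlgSpace F := Stk19b.Fppf.isAlgSpace_quotSp_of_isEqvRel hR
  have := etLocal_flat.{u}.localTarget
  have := etLocal_lfp.{u}.localTarget
  have hπf : RepWith @Flat π := repWith_quotSpπ hR @Flat ‹_›
  have hπl : RepWith @LocallyOfFinitePresentation π := repWith_quotSpπ hR @LocallyOfFinitePresentation ‹_›
  have hπs : RepWith @Surjective π := repWith_surjective_quotSpπ hR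
  have sqK : IsPullback ((yon S).map t) ((yon S).map s) π π := isPullback_quotSpπ (isEqvRelSp_yon hR)
  -- quasi-separatedness
  have hqs : IsQuasiSeparatedSp F := by
    have : Sheaf.IsLocallySurjective (prod.map π π) :=
      isLocallySurjective_of_repWith (repWith_prod_map hπf hπf) (repWith_prod_map hπl hπl) (repWith_prod_map hπs hπs)
    refine repWith_of_isLocallySurjective hF.diag (prod.map π π) (isPullback_diag_prod_map sqK) _ ?_
    refine repWith_prod_lift t s ?_
    let l := pullback.lift t.left s.left ((Over.w t).trans (Over.w s).symm)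
    haveI : QuasiCompact (l ≫ pullback.fst G.hom G.hom ≫ G.hom) := by
      rw [pullback.lift_fst_assoc, Over.w]; infer_instance
    exact QuasiCompact.of_comp l (pullback.fst G.hom G.hom ≫ G.hom)
  obtain ⟨G₀, k₀, hk₀, hdense, -⟩ := exists_dense_scheme hF (isDecent_of_qsep hF hqs)
  -- translations
  have hcond : ∀ g, (yon S).map s ≫ (yon S).map (transl g) ≫ π = (yon S).map t ≫ (yon S).map (transl g) ≫ π := by
    intro g
    let r : R ⟶ R := lift (fst G H ≫ transl g) (snd G H)
    have h1 : r ≫ s = s ≫ transl g := lift_fst _ _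
    have h2 : r ≫ t = t ≫ transl g := by
      show r ≫ GrpQLib.rightAct i = GrpQLib.rightAct i ≫ transl g
      rw [GrpQLib.comp_rightAct, lift_fst, lift_snd, comp_transl, comp_transl, _root_.mul_assoc]
    rw [← Functor.map_comp_assoc, ← Functor.map_comp_assoc, ← h1, ← h2, Functor.map_comp_assoc,
      Functor.map_comp_assoc, quotSp_condition]
  let τ : (𝟙_ (Over S) ⟶ G) → (F ⟶ F) := fun g => quotSpDesc _ (hcond g)
  have hτ : ∀ g, π ≫ τ g = (yon S).map (transl g) ≫ π := fun g => quotSpπ_desc _ _ _ _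
  have hττ : ∀ g g', τ g ≫ τ g' = τ (g' * g) := fun g g' => by
    refine (coequalizer.hom_ext (?_ : π ≫ _ = π ≫ _))
    rw [reassoc_of% (hτ g), hτ, hτ, ← Functor.map_comp_assoc, transl_transl]
  have hτ1 : τ 1 = 𝟙 F := by
    refine (coequalizer.hom_ext (?_ : π ≫ _ = π ≫ _))
    rw [hτ, transl_one, (yon S).map_id, Category.id_comp, Category.comp_id]
  have hτi : ∀ g, IsIso (τ g) := fun g =>
    ⟨τ g⁻¹, by rw [hττ, inv_mul_cancel, hτ1], by rw [hττ, mul_inv_cancel, hτ1]⟩
  -- the preimage of the open subscheme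
  have sqU := hk₀.1.isPullback' π
  let pr := hk₀.1.fst' π
  let j := hk₀.1.snd π
  haveI : IsOpenImmersion j.left := hk₀.property_snd π
  haveI : Surjective pr.left := hπs.property _ _ _ sqU.flip
  have hne : (j.left.opensRange : Set G.left).Nonempty := by
    obtain ⟨z₀⟩ : Nonempty G.left := ⟨η[G].left (IsLocalRing.closedPoint k)⟩
    obtain ⟨_, ⟨p, rfl⟩⟩ := hdense.nonempty_iff.2 ⟨Points.ofPt π z₀⟩ |>.imp fun _ h => h
    obtain ⟨w, rfl⟩ := (Points.schemeEquiv G₀).surjective p
    obtain ⟨v, -⟩ := pr.left.surjective w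
    exact ⟨j.left v, ⟨v, rfl⟩⟩
  let f : (𝟙_ (Over S) ⟶ G) → ((yon S).obj G₀ ⟶ F) := fun g => k₀ ≫ τ g⁻¹
  have hf : ∀ g, RepWith @IsOpenImmersion (f g) := fun g =>
    haveI := hτi g⁻¹
    RepWith.comp hk₀ (repWith_of_isIso _ _)
  have hs : ∀ x : Points F, ∃ g, x ∈ Set.range (Points.map (f g)) := fun x => by
    obtain ⟨z, rfl⟩ := surjective_ofPt π hπs x
    obtain ⟨g, ⟨v, hv⟩⟩ := exists_transl_mem j.left.opensRange hne z
    refine ⟨g, Points.ofScheme G₀ (pr.left v), ?_⟩
    have h1 : Points.ofPt (π ≫ τ g) z = Points.ofPt π (j.left v) := by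
      rw [hτ, ofPt_map, hv]
    have h2 : Points.ofPt π (j.left v) = Points.ofPt k₀ (pr.left v) := by
      rw [← ofPt_map j π v, ← ofPt_map pr k₀ v, sqU.w]
    have h3 : Points.ofPt π z = Points.map (τ g⁻¹) (Points.ofPt (π ≫ τ g) z) := by
      rw [Points.map_ofPt, Category.assoc, hττ, inv_mul_cancel, hτ1, Category.comp_id]
    rw [h3, h1, h2, Points.map_ofPt]
    exact (Points.map_ofPt _ _ _).symm
  obtain ⟨Q, ⟨e⟩⟩ := exists_iso_yon_of_openCover f hf hs
  obtain ⟨q, hq⟩ := (yon S).map_surjective (π ≫ e.inv)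
  have sqq : IsPullback (𝟙 _) ((yon S).map q) π e.hom := by
    refine IsPullback.of_horiz_isIso ⟨?_⟩
    rw [hq, Category.id_comp, Category.assoc, e.inv_hom_id, Category.comp_id]
  haveI : Surjective q.left := hπs.property _ _ _ sqq
  haveI : Flat q.left := hπf.property _ _ _ sqq
  haveI : LocallyOfFinitePresentation q.left := hπl.property _ _ _ sqq
  have hμ : (G ◁ i) ≫ μ[G] = t := by
    show _ = fst G H * (snd G H ≫ i)
    rw [Hom.mul_def]; congr 1
  have sqQ : IsPullback (fst G H) ((G ◁ i) ≫ μ[G]) q q := by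
    rw [hμ]
    refine IsPullback.flip (IsPullback.of_map (yon S) ?_ ?_)
    · refine (yon S).map_injective ?_
      rw [Functor.map_comp, Functor.map_comp, hq, ← Category.assoc, ← Category.assoc, sqK.w]
    · exact sqK.of_iso (Iso.refl _) (Iso.refl _) (Iso.refl _) e.symm (by simp [t]) (by simp [s]) (by simp [hq]) (by simp [hq])
  haveI : LocallyOfFinitePresentation Q.hom := lfp_of_comp_fppf q.left Q.hom (by rw [Over.w]; infer_instance)
  haveI : QuasiCompact Q.hom := by
    haveI : QuasiCompact (q.left ≫ Q.hom) := by rw [Over.w]; infer_instance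
    exact FlatMorThick.quasiCompact_of_comp_surjective q.left Q.hom
  refine ⟨Q, q, inferInstance, inferInstance, ?_, inferInstance, inferInstance, inferInstance, sqQ⟩
  haveI : IsLocallyNoetherian Q.left := LocallyOfFiniteType.isLocallyNoetherian Q.hom
  haveI : QuasiSeparated Q.hom := (quasiSeparated_iff_quasiSeparatedSpace Q.hom).2 inferInstance
  haveI : QuasiCompact q.left := by
    haveI : QuasiCompact (q.left ≫ Q.hom) := by rw [Over.w]; infer_instance
    exact QuasiCompact.of_comp q.left Q.hom
  have sqL : IsPullback (fst G H).left ((G ◁ i) ≫ μ[G]).left q.left q.left := sqQ.map (Over.forget S)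
  refine isSeparated_of_kernelPair (h := Q.hom) sqL ?_
  let sh : G ⊗ G ⟶ G ⊗ G := lift (fst G G) (fst G G * snd G G)
  let sh' : G ⊗ G ⟶ G ⊗ G := lift (fst G G) ((fst G G)⁻¹ * snd G G)
  haveI : IsIso sh := ⟨sh', by
      refine CartesianMonoidalCategory.hom_ext _ _ ?_ ?_ <;>
        simp [sh, sh', MonObj.comp_mul, GrpObj.comp_inv, ← _root_.mul_assoc], by
      refine CartesianMonoidalCategory.hom_ext _ _ ?_ ?_ <;>
        simp [sh, sh', MonObj.comp_mul, GrpObj.comp_inv, ← _root_.mul_assoc]⟩
  haveI : IsIso sh.left := inferInstanceAs (IsIso ((Over.forget S).map sh))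
  haveI : IsClosedImmersion (G ◁ i).left :=
    MorphismProperty.pullbackMap (P := @IsClosedImmersion) (inferInstanceAs (IsClosedImmersion (𝟙 G.left)))
      ‹IsClosedImmersion i.left› (Category.id_comp G.hom).symm (Over.w i).symm
  rw [← MorphismProperty.cancel_right_of_respectsIso @IsClosedImmersion _
    (pullback.congrHom (Over.w q) (Over.w q)).hom]
  have e1 : (G ◁ i) ≫ sh = lift (fst G H) ((G ◁ i) ≫ μ[G]) := by
    refine CartesianMonoidalCategory.hom_ext _ _ ?_ ?_
    · simp [sh]
    · simp only [sh, Category.assoc, lift_snd, Hom.mul_def, lift_fst_snd, Category.comp_id]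
      simp
  have hci : IsClosedImmersion (lift (fst G H) ((G ◁ i) ≫ μ[G])).left := by
    rw [← e1, Over.comp_left]; infer_instance
  refine (congrArg (fun m => IsClosedImmersion m)
    (show _ = (lift (fst G H) ((G ◁ i) ≫ μ[G])).left from ?_)).mpr hci
  apply pullback.hom_ext
  · exact (Category.assoc _ _ _).trans (((congrArg _ (by simp [pullback.congrHom])).trans
      (pullback.lift_fst _ _ _)).trans (congrArg CommaMorphism.left (lift_fst (fst G H) ((G ◁ i) ≫ μ[G]))).symm)
  · exact (Category.assoc _ _ _).trans (((congrArg _ (by simp [pullback.congrHom])).trans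
      (pullback.lift_snd _ _ _)).trans (congrArg CommaMorphism.left (lift_snd (fst G H) ((G ◁ i) ≫ μ[G]))).symm)

end Groth.Agent.AlgGrpLib.HomogQuot
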