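import Groth.Agent.AlgGrpLib.SubGrpMono
import Groth.Agent.SGA3cLib.MultHomLocus
import Groth.Agent.LVFrob.Basic
import Groth.Prelude.Def_Red
import Mathlib.FieldTheory.PurelyInseparable.Exponent

/-!
# Subgroups of a base change along a purely inseparable extension come from the base, up to nilpotents
-/

set_option autoImplicit false
set_option backward.isDefEq.respectTransparency.types false
set_option linter.style.haveILetI false

universe u

open CategoryTheory CategoryTheory.Limits MonoidalCategory CartesianMonoidalCategory MonObj GrpObj AlgebraicGeometry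

noncomputable section

namespace Groth.Agent.AlgGrpLib.InsepSubgroup

variable {k K : Type u} [Field k] [Field K] [Algebra k K]

/-- the structure morphism of `Spec K` -/
abbrev psi (k K : Type u) [Field k] [Field K] [Algebra k K] : Spec (CommRingCat.of K) ⟶ Spec (CommRingCat.of k) :=
  Spec.map (CommRingCat.ofHom (algebraMap k K))

/-- A natural endomorphism of schemes over `k`, trivial on points, factoring through `Spec K` on the base. -/
structure Tw (k K : Type u) [Field k] [Field K] [Algebra k K] where
  φ : Spec (CommRingCat.of k) ⟶ Spec (CommRingCat.of K)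
  E : ∀ (X : Scheme.{u}), (X ⟶ Spec (CommRingCat.of k)) → (X ⟶ X)
  natural : ∀ {X Y : Scheme.{u}} (f : X ⟶ Y) (pX : X ⟶ Spec (CommRingCat.of k)) (pY : Y ⟶ Spec (CommRingCat.of k)),
    E X pX ≫ f = f ≫ E Y pY
  apply_eq : ∀ {X : Scheme.{u}} (pX : X ⟶ Spec (CommRingCat.of k)) (x : X), E X pX x = x
  base : E _ (𝟙 _) = φ ≫ Spec.map (CommRingCat.ofHom (algebraMap k K))
  top : E _ (Spec.map (CommRingCat.ofHom (algebraMap k K))) = Spec.map (CommRingCat.ofHom (algebraMap k K)) ≫ φ

variable (w : Tw k K)

/-- The twisted structure -/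
abbrev tw (T : Over (Spec (CommRingCat.of k))) : Over (Spec (CommRingCat.of K)) := Over.mk (T.hom ≫ w.φ)

/-- The map to the base change. -/
def Φ (T : Over (Spec (CommRingCat.of k))) : tw w T ⟶ Red.bc (psi k K) T :=
  Over.homMk (pullback.lift (w.E T.left T.hom) (T.hom ≫ w.φ) (by
    rw [w.natural T.hom T.hom (𝟙 _), w.base, Category.assoc]))
    (pullback.lift_snd _ _ _)

def twMap {T T' : Over (Spec (CommRingCat.of k))} (f : T' ⟶ T) : tw w T' ⟶ tw w T :=
  Over.homMk f.left (by show f.left ≫ T.hom ≫ w.φ = T'.hom ≫ w.φ; rw [Over.w_assoc])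

theorem Φ_natural {T T' : Over (Spec (CommRingCat.of k))} (f : T' ⟶ T) :
    twMap w f ≫ Φ w T = Φ w T' ≫ (Over.pullback (psi k K)).map f := by
  apply Over.OverMorphism.ext
  apply pullback.hom_ext
  · simp only [Over.comp_left, Category.assoc]
    erw [pullback.lift_fst]
    show f.left ≫ w.E T.left T.hom = pullback.lift _ _ _ ≫ pullback.lift _ _ _ ≫ pullback.fst _ _
    rw [pullback.lift_fst, pullback.lift_fst_assoc, w.natural]
  · simp only [Over.comp_left, Category.assoc]
    show f.left ≫ pullback.lift _ _ _ ≫ pullback.snd _ _ = pullback.lift _ _ _ ≫ pullback.lift _ _ _ ≫ pullback.snd _ _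
    rw [pullback.lift_snd, pullback.lift_snd, pullback.lift_snd, Over.w_assoc]

variable {G : Over (Spec (CommRingCat.of k))} [GrpObj G]

/-- the induced homomorphism on points -/
def pts (T : Over (Spec (CommRingCat.of k))) : (T ⟶ G) →* (tw w T ⟶ Red.bc (psi k K) G) where
  toFun x := Φ w T ≫ (Over.pullback (psi k K)).map x
  map_one' := by rw [Functor.map_one, MonObj.comp_one]
  map_mul' x y := by rw [Functor.map_mul, MonObj.comp_mul]

theorem pts_comp {T T' : Over (Spec (CommRingCat.of k))} (f : T' ⟶ T) (x : T ⟶ G) :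
    pts w T' (f ≫ x) = twMap w f ≫ pts w T x := by
  show Φ w T' ≫ (Over.pullback (psi k K)).map (f ≫ x) = twMap w f ≫ Φ w T ≫ (Over.pullback (psi k K)).map x
  rw [Functor.map_comp, ← Category.assoc, ← Φ_natural, Category.assoc]

variable {H' : Over (Spec (CommRingCat.of K))} [GrpObj H'] (h' : H' ⟶ Red.bc (psi k K) G) [IsMonHom h']
  [IsClosedImmersion h'.left]

include w in
theorem exists_descended :
    ∃ (H : Over (Spec (CommRingCat.of k))) (_ : GrpObj H) (h : H ⟶ G), IsMonHom h ∧ IsClosedImmersion h.left ∧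
      ∃ g : H' ⟶ Red.bc (psi k K) H, g ≫ (Over.pullback (psi k K)).map h = h' ∧ Surjective g.left := by
  let H : Over (Spec (CommRingCat.of k)) := Over.mk (pullback.fst (Φ w G).left h'.left ≫ G.hom)
  let h : H ⟶ G := Over.homMk (pullback.fst (Φ w G).left h'.left)
  haveI : IsClosedImmersion h.left := inferInstanceAs (IsClosedImmersion (pullback.fst _ _))
  haveI : Mono h := Over.mono_of_mono_left h
  haveI : Mono h' := Over.mono_of_mono_left h'
  -- factorisation criterion
  have hfac : ∀ {T : Over (Spec (CommRingCat.of k))} (x : T ⟶ G), (∃ l, l ≫ h = x) ↔ ∃ y, y ≫ h' = pts w T x := by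
    intro T x
    have hx : (pts w T x).left = x.left ≫ (Φ w G).left := by
      have := pts_comp w x (𝟙 G)
      rw [Category.comp_id] at this
      rw [this]
      show (twMap w x ≫ Φ w G ≫ (Over.pullback (psi k K)).map (𝟙 G)).left = _
      rw [CategoryTheory.Functor.map_id, Category.comp_id]
      rfl
    constructor
    · rintro ⟨l, rfl⟩
      refine ⟨Over.homMk (l.left ≫ pullback.snd _ _) ?_, Over.OverMorphism.ext ?_⟩
      · show (l.left ≫ pullback.snd _ _) ≫ H'.hom = T.hom ≫ w.φ
        rw [← Over.w h', Category.assoc, ← pullback.condition_assoc, Over.w (Φ w G), ← Over.w l]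
        simp [H]
      · rw [hx, Over.comp_left]
        show (l.left ≫ pullback.snd _ _) ≫ h'.left = (l.left ≫ pullback.fst _ _) ≫ (Φ w G).left
        rw [Category.assoc, Category.assoc, pullback.condition]
    · rintro ⟨y, hy⟩
      have e : x.left ≫ (Φ w G).left = y.left ≫ h'.left := by rw [← hx, ← hy, Over.comp_left]
      refine ⟨Over.homMk (pullback.lift x.left y.left e) ?_, Over.OverMorphism.ext (pullback.lift_fst _ _ _)⟩
      show pullback.lift x.left y.left e ≫ pullback.fst _ _ ≫ G.hom = _
      rw [pullback.lift_fst_assoc, Over.w]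
  obtain ⟨gH, hgH⟩ : ∃ _ : GrpObj H, IsMonHom h := by
    refine exists_grpObj_of_mono h ((hfac _).2 ⟨1, ?_⟩) ((hfac _).2 ?_) ((hfac _).2 ?_)
    · rw [map_one, MonObj.one_comp]
    · obtain ⟨y1, hy1⟩ := (hfac (fst H H ≫ h)).1 ⟨_, rfl⟩
      obtain ⟨y2, hy2⟩ := (hfac (snd H H ≫ h)).1 ⟨_, rfl⟩
      exact ⟨y1 * y2, by rw [MonObj.mul_comp, hy1, hy2, map_mul]⟩
    · obtain ⟨y, hy⟩ := (hfac h).1 ⟨𝟙 H, Category.id_comp h⟩
      exact ⟨y⁻¹, by rw [GrpObj.inv_comp, hy, map_inv]⟩
  -- the projection of `H'` to `G` lands in `H`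
  let pr : (Red.bc (psi k K) G).left ⟶ G.left := pullback.fst G.hom (psi k K)
  let pK : (Red.bc (psi k K) G).left ⟶ Spec (CommRingCat.of k) := pr ≫ G.hom
  have hpK : pK = (Red.bc (psi k K) G).hom ≫ (psi k K) := pullback.condition
  have hF : pr ≫ (Φ w G).left = w.E (Red.bc (psi k K) G).left pK := by
    apply pullback.hom_ext
    · show (pr ≫ pullback.lift _ _ _) ≫ pullback.fst _ _ = _
      rw [Category.assoc, pullback.lift_fst]
      exact (w.natural pr pK G.hom).symm
    · show (pr ≫ pullback.lift _ _ _) ≫ pullback.snd _ _ = w.E _ _ ≫ (Red.bc (psi k K) G).hom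
      rw [Category.assoc, pullback.lift_snd, w.natural (Red.bc (psi k K) G).hom pK (psi k K), w.top, ← Category.assoc, ← Category.assoc,
        ← hpK]
  have hc : (h'.left ≫ pr) ≫ (Φ w G).left = w.E H'.left (h'.left ≫ pK) ≫ h'.left := by
    rw [Category.assoc, hF]
    exact (w.natural h'.left (h'.left ≫ pK) pK).symm
  let l : H'.left ⟶ H.left := pullback.lift (h'.left ≫ pr) (w.E H'.left (h'.left ≫ pK)) hc
  have hl : l ≫ H.hom = H'.hom ≫ (psi k K) := by
    show l ≫ pullback.fst _ _ ≫ G.hom = _
    rw [pullback.lift_fst_assoc, Category.assoc, show pr ≫ G.hom = (Red.bc (psi k K) G).hom ≫ (psi k K) from hpK, Over.w_assoc]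
  let g : H' ⟶ Red.bc (psi k K) H := Over.homMk (pullback.lift l H'.hom hl) (pullback.lift_snd _ _ _)
  have hg : g ≫ (Over.pullback (psi k K)).map h = h' := by
    apply Over.OverMorphism.ext
    apply pullback.hom_ext
    · show (pullback.lift l H'.hom hl ≫ pullback.lift _ _ _) ≫ pullback.fst _ _ = h'.left ≫ pr
      rw [Category.assoc, pullback.lift_fst, pullback.lift_fst_assoc]
      exact pullback.lift_fst _ _ _
    · show (pullback.lift l H'.hom hl ≫ pullback.lift _ _ _) ≫ pullback.snd _ _ = h'.left ≫ (Red.bc (psi k K) G).hom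
      rw [Category.assoc, pullback.lift_snd, pullback.lift_snd, Over.w]
  refine ⟨H, gH, h, hgH, inferInstance, g, hg, ⟨fun x => ?_⟩⟩
  let hK : (Red.bc (psi k K) H).left ⟶ (Red.bc (psi k K) G).left := ((Over.pullback (psi k K)).map h).left
  haveI : IsClosedImmersion hK :=
    MorphismProperty.of_isPullback (P := @IsClosedImmersion) (SGA3cLib.MultHomLocus.isPullback_map h (psi k K)).flip.flip inferInstance
  obtain ⟨y, hy⟩ : hK x ∈ Set.range h'.left := by
    have e : pr (hK x) = h.left (pullback.fst H.hom (psi k K) x) := by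
      rw [← Scheme.Hom.comp_apply, ← Scheme.Hom.comp_apply]
      exact congrArg (fun m : (Red.bc (psi k K) H).left ⟶ G.left => m x) (pullback.lift_fst _ _ _)
    refine ⟨pullback.snd (Φ w G).left h'.left (pullback.fst H.hom (psi k K) x), ?_⟩
    rw [← w.apply_eq pK (hK x), ← hF, Scheme.Hom.comp_apply, e, ← Scheme.Hom.comp_apply h.left,
      ← Scheme.Hom.comp_apply]
    exact congrArg (fun m : H.left ⟶ (Red.bc (psi k K) G).left => m (pullback.fst H.hom (psi k K) x))
      pullback.condition.symm
  refine ⟨y, hK.isEmbedding.injective ?_⟩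
  rw [← hy, ← Scheme.Hom.comp_apply]
  exact congrArg (fun m : H' ⟶ Red.bc (psi k K) G => (Over.Hom.left m) y) hg

omit w in
theorem exists_tw [Module.Finite k K] [IsPurelyInseparable k K] : Nonempty (Tw k K) := by
  obtain ⟨p, hp⟩ := ExpChar.exists k
  cases hp with
  | zero =>
    haveI : Algebra.IsSeparable k K := inferInstance
    have hb := IsPurelyInseparable.bijective_algebraMap_of_isSeparable k K
    haveI : IsIso (CommRingCat.ofHom (algebraMap k K)) := (ConcreteCategory.isIso_iff_bijective _).2 hb
    exact ⟨{ φ := inv (psi k K), E := fun X _ => 𝟙 X, natural := fun f _ _ => by simp, apply_eq := fun _ _ => rfl,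
             base := by simp, top := by simp }⟩
  | prime hprime =>
    haveI : Fact p.Prime := ⟨hprime⟩
    haveI : ExpChar k p := ExpChar.prime hprime
    haveI : IsPurelyInseparable.HasExponent k K := inferInstance
    let n := IsPurelyInseparable.exponent k K
    let it := IsPurelyInseparable.iterateFrobenius k K p (n := n) le_rfl
    have hX : ∀ {X : Scheme.{u}}, (X ⟶ Spec (CommRingCat.of k)) → FrobSch.IsCharP X p := fun f =>
      FrobSch.IsCharP.of_hom f p
    have hS : ∀ {R : Type u} [Field R] [CharP R p] (θ : R →+* R), (∀ x, θ x = x ^ p ^ n) →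
        LVFrob.FN p (Spec (CommRingCat.of R)) n = Spec.map (CommRingCat.ofHom θ) := by
      intro R _ _ θ hθ
      refine ext_of_isAffine ?_
      ext s
      have h1 := LVFrob.FN_appLE (X := Spec (CommRingCat.of R)) p n ⊤ le_top s
      change ((LVFrob.FN p (Spec (CommRingCat.of R)) n).app ⊤ ≫ (Spec (CommRingCat.of R)).presheaf.map (𝟙 _)) s = _ at h1
      rw [CategoryTheory.Functor.map_id, Category.comp_id] at h1
      refine h1.trans ?_
      apply (Scheme.ΓSpecIso (CommRingCat.of R)).commRingCatIsoToRingEquiv.injective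
      have h2 := congrArg (fun m => m.hom s) (Scheme.ΓSpecIso_naturality (CommRingCat.ofHom θ))
      simp only [CommRingCat.hom_comp, RingHom.comp_apply] at h2
      refine Eq.trans ?_ h2.symm
      rw [map_pow]
      exact (hθ _).symm
    refine ⟨{ φ := Spec.map (CommRingCat.ofHom it)
              E := fun X f => @LVFrob.FN p _ X (hX f) n
              natural := fun {X Y} f pX pY => ?_
              apply_eq := fun {X} pX x => ?_
              base := ?_
              top := ?_ }⟩
    · haveI := hX pX
      haveI := hX pY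
      exact LVFrob.FN_comm p f n
    · haveI := hX pX
      exact LVFrob.FN_apply p n x
    · rw [← Spec.map_comp, ← CommRingCat.ofHom_comp]
      exact hS (it.comp (algebraMap k K)) fun x => IsPurelyInseparable.iterateFrobenius_algebraMap K p le_rfl x
    · haveI : CharP K p := charP_of_injective_algebraMap (algebraMap k K).injective p
      rw [← Spec.map_comp, ← CommRingCat.ofHom_comp]
      exact hS ((algebraMap k K).comp it) fun x => IsPurelyInseparable.algebraMap_iterateFrobenius k p le_rfl x

end Groth.Agent.AlgGrpLib.InsepSubgroup
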