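import Groth.Prelude.Def_W4c2lssmoduliGProp
import Groth.Agent.S4433
import Groth.Agent.CAlgSmall.NormNagata
import Groth.Agent.CAlgH.NagataFiniteType
import Groth.Agent.NormalizationLib.Finite
import Groth.Agent.CurveLib.Completion

/-! # Invariant functions of universally closed equivariant morphisms form a finite module -/

set_option autoImplicit false
set_option backward.isDefEq.respectTransparency.types false

universe u

noncomputable section

open CategoryTheory CategoryTheory.Limits AlgebraicGeometry MonoidalCategory CartesianMonoidalCategory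

namespace Groth.Agent.AlgGrpLib.InvariantsFinite

theorem exists_dvr_of_local {A : Type u} [CommRing A] {L : Type u} [Field L] [Algebra A L]
    [Algebra.EssFiniteType A L] {A₀ : Type u} [CommRing A₀] [IsLocalRing A₀] [IsNoetherianRing A₀] [Algebra A A₀]
    [Algebra A₀ L] [IsScalarTower A A₀ L] (hA₀ : ¬ IsField A₀) (hφ : Function.Injective (algebraMap A₀ L))
    (b : A₀) (hb : b ∈ IsLocalRing.maximalIdeal A₀) {t : L} (hbt : algebraMap A₀ L b = t⁻¹) (ht0 : t ≠ 0) :
    ∃ R : ValuationSubring L, IsDiscreteValuationRing R ∧ (∀ a : A, algebraMap A L a ∈ R) ∧ t ∉ R := by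
  haveI : IsDomain A₀ := hφ.isDomain
  let K := FractionRing A₀
  letI : Algebra K L := (IsFractionRing.lift (K := K) hφ).toAlgebra
  haveI : IsScalarTower A₀ K L :=
    IsScalarTower.of_algebraMap_eq fun a => (IsFractionRing.lift_algebraMap hφ a).symm
  haveI : IsScalarTower A K L := IsScalarTower.of_algebraMap_eq fun a => by
    rw [IsScalarTower.algebraMap_apply A A₀ K, ← IsScalarTower.algebraMap_apply A₀ K L,
      ← IsScalarTower.algebraMap_apply A A₀ L]
  haveI : Algebra.EssFiniteType K L := Algebra.EssFiniteType.of_comp A K L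
  obtain ⟨R, hR, hmem, hlt⟩ := Groth.Agent.S4433.result A₀ hA₀ K L (IntermediateField.fg_top K L)
  refine ⟨R, hR, fun a => ?_, fun htR => ?_⟩
  · rw [IsScalarTower.algebraMap_apply A A₀ L]
    exact hmem _
  · have h1 := hlt b hb
    rw [hbt, map_inv₀] at h1
    exact absurd ((R.valuation_le_one_iff t).2 htR) (not_le.2 ((inv_lt_one₀ (zero_lt_iff.2
      ((Valuation.ne_zero_iff _).2 ht0))).1 h1))

/-- A non-integral element is avoided by some discrete valuation ring. -/
theorem exists_dvr_notMem {A : Type u} [CommRing A] [IsNoetherianRing A] {L : Type u} [Field L] [Algebra A L]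
    [Algebra.EssFiniteType A L] {t : L} (ht : ¬ IsIntegral A t) :
    ∃ R : ValuationSubring L, IsDiscreteValuationRing R ∧ (∀ a : A, algebraMap A L a ∈ R) ∧ t ∉ R := by
  classical
  have ht0 : t ≠ 0 := fun h => ht (h ▸ isIntegral_zero)
  obtain ⟨S, hS⟩ : ∃ S : Subalgebra A L, S = Algebra.adjoin A ({t⁻¹} : Set L) := ⟨_, rfl⟩
  let ti : S := ⟨t⁻¹, hS.symm ▸ Algebra.subset_adjoin rfl⟩
  have hu : ¬ IsUnit ti := by
    rintro ⟨⟨_, v, hv, -⟩, rfl⟩
    have hvt : (v : L) = t := by
      have h := congrArg Subtype.val hv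
      change t⁻¹ * (v : L) = 1 at h
      rw [← mul_one t, ← h, mul_inv_cancel_left₀ ht0]
    obtain ⟨q, hq⟩ := (hS.trans (Algebra.adjoin_singleton_eq_range_aeval A (t⁻¹ : L))).le v.2
    replace hq : Polynomial.aeval (t⁻¹ : L) q = t := hq.trans hvt
    apply ht
    let r : Polynomial A := ∑ i ∈ Finset.range (q.natDegree + 1),
      Polynomial.C (q.coeff i) * Polynomial.X ^ (q.natDegree - i)
    refine ⟨Polynomial.X ^ (q.natDegree + 1) - r,
      Polynomial.monic_X_pow_sub (lt_of_le_of_lt (Polynomial.degree_sum_le _ _) ?_), ?_⟩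
    · rw [Finset.sup_lt_iff (WithBot.bot_lt_coe _)]
      intro i _
      exact lt_of_le_of_lt (Polynomial.degree_C_mul_X_pow_le _ _) (by exact_mod_cast by omega)
    · rw [← Polynomial.aeval_def, map_sub, map_pow, Polynomial.aeval_X, map_sum, sub_eq_zero]
      rw [Polynomial.aeval_eq_sum_range] at hq
      rw [pow_succ]
      nth_rw 2 [← hq]
      rw [Finset.mul_sum]
      refine Finset.sum_congr rfl fun i hi => ?_
      rw [map_mul, Polynomial.aeval_C, map_pow, Polynomial.aeval_X, Algebra.smul_def, inv_pow,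
        pow_sub₀ t ht0 (Nat.lt_succ_iff.1 (Finset.mem_range.1 hi))]
      ring
  obtain ⟨M, hM, hti⟩ := exists_max_ideal_of_mem_nonunits hu
  haveI := hM.isPrime
  haveI : Algebra.FiniteType A S := (Subalgebra.fg_iff_finiteType S).mp ⟨{t⁻¹}, by simp [hS]⟩
  haveI : IsNoetherianRing S := Algebra.FiniteType.isNoetherianRing A S
  let A₀ := Localization.AtPrime M
  have hg : ∀ y : M.primeCompl, IsUnit (S.val.toRingHom y) := fun y =>
    isUnit_iff_ne_zero.2 fun h => y.2 ((show (y : S) = 0 from Subtype.ext h) ▸ M.zero_mem)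
  let φ : A₀ →+* L := IsLocalization.lift hg
  letI : Algebra A₀ L := φ.toAlgebra
  have hφ : Function.Injective (algebraMap A₀ L) := by
    show Function.Injective φ
    exact (IsLocalization.lift_injective_iff hg).2 fun x y => by
      exact ⟨fun h => congrArg (Subtype.val) (IsLocalization.injective A₀ M.primeCompl_le_nonZeroDivisors h),
        fun h => congrArg _ (Subtype.ext h)⟩
  haveI : IsScalarTower A A₀ L := IsScalarTower.of_algebraMap_eq fun a => by
    rw [IsScalarTower.algebraMap_apply A S A₀]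
    exact (IsLocalization.lift_eq hg (algebraMap A S a)).symm
  have hA₀ : ¬ IsField A₀ := fun hf => by
    have h1 : algebraMap S A₀ ti ∈ IsLocalRing.maximalIdeal A₀ :=
      (IsLocalization.AtPrime.to_map_mem_maximal_iff A₀ M ti).2 hti
    rw [IsLocalRing.isField_iff_maximalIdeal_eq] at hf
    rw [hf, Submodule.mem_bot] at h1
    have h2 : φ (algebraMap S A₀ ti) = 0 := by rw [h1, map_zero]
    rw [IsLocalization.lift_eq] at h2
    exact inv_ne_zero ht0 h2
  haveI : IsNoetherianRing A₀ := IsLocalization.isNoetherianRing M.primeCompl A₀ inferInstance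
  exact exists_dvr_of_local hA₀ hφ (algebraMap S A₀ ti)
    ((IsLocalization.AtPrime.to_map_mem_maximal_iff A₀ M ti).2 hti) (IsLocalization.lift_eq hg ti) ht0

theorem fromSpecStalk_comp_hom {R : CommRingCat.{u}} {X : Scheme.{u}} (x : X) (f : X ⟶ Spec R) :
    X.fromSpecStalk x ≫ f =
      Spec.map ((Scheme.ΓSpecIso R).inv ≫ f.appTop ≫ X.presheaf.germ ⊤ x trivial) := by
  refine ext_of_isAffine ?_
  rw [Scheme.Hom.comp_appTop, Scheme.fromSpecStalk_appTop, ← Iso.cancel_iso_inv_left (Scheme.ΓSpecIso R),
    ← Scheme.ΓSpecIso_inv_naturality]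
  simp [Category.assoc]

variable {k : Type u} [Field k] {G Y : Over (Spec (CommRingCat.of k))} [GrpObj G]

theorem exists_finite [LocallyOfFiniteType Y.hom] [IsIntegral Y.left]
    (A : Type u) [CommRing A] [Algebra k A] [Algebra.FiniteType k A] (a : AlgGrp.Action G Y)
    (p : Y ⟶ Over.mk (Spec.map (CommRingCat.ofHom (algebraMap k A))))
    (hp : W4c2lssmoduli.IsGUnivClosed a p) :
    ∃ t : Finset ↑Γ(Y.left, ⊤),
      (∀ s ∈ t, a.act.left.appTop s = (snd G Y).left.appTop s) ∧
      ∀ s : ↑Γ(Y.left, ⊤), a.act.left.appTop s = (snd G Y).left.appTop s →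
        ∃ c : ↑Γ(Y.left, ⊤) → A,
          s = ∑ x ∈ t, ((Scheme.ΓSpecIso (CommRingCat.of A)).inv ≫ p.left.appTop) (c x) * x := by
  classical
  letI : Y.left.Over (Spec (CommRingCat.of k)) := ⟨Y.hom⟩
  letI := Curv2.stalkAlgebra (k := k) Y.left (genericPoint Y.left)
  let L : Type u := Y.left.functionField
  let germ : ↑Γ(Y.left, ⊤) →+* L := (Y.left.presheaf.germ ⊤ (genericPoint Y.left) trivial).hom
  have hgerm : Function.Injective germ := by
    haveI : Nonempty (⊤ : Y.left.Opens) := ⟨⟨genericPoint Y.left, trivial⟩⟩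
    exact Scheme.germToFunctionField_injective Y.left ⊤
  let ψ : A →+* ↑Γ(Y.left, ⊤) := ((Scheme.ΓSpecIso (CommRingCat.of A)).inv ≫ p.left.appTop).hom
  let cA : A →+* L := germ.comp ψ
  let ck : k →+* L :=
    germ.comp ((Scheme.ΓSpecIso (CommRingCat.of k)).inv ≫ Y.hom.appTop).hom
  have hA : Y.left.fromSpecStalk (genericPoint Y.left) ≫ p.left = Spec.map (CommRingCat.ofHom cA) :=
    fromSpecStalk_comp_hom _ p.left
  have hk : Y.left.fromSpecStalk (genericPoint Y.left) ≫ Y.hom = Spec.map (CommRingCat.ofHom ck) :=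
    fromSpecStalk_comp_hom _ Y.hom
  have hck : cA.comp (algebraMap k A) = ck := by
    have h : Spec.map (CommRingCat.ofHom (cA.comp (algebraMap k A))) = Spec.map (CommRingCat.ofHom ck) := by
      rw [← hk, CommRingCat.ofHom_comp, Spec.map_comp, ← hA, Category.assoc]
      exact congrArg (_ ≫ ·) (Over.w p)
    exact congrArg CommRingCat.Hom.hom (Spec.map_injective h)
  letI : Algebra A L := cA.toAlgebra
  haveI : IsScalarTower k A L := IsScalarTower.of_algebraMap_eq fun c => by
    show _ = cA (algebraMap k A c)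
    rw [← RingHom.comp_apply, hck]
    rfl
  haveI : LocallyOfFiniteType (Y.left ↘ Spec (CommRingCat.of k)) := ‹LocallyOfFiniteType Y.hom›
  haveI : Algebra.EssFiniteType k L :=
    IntermediateField.fg_top_iff.1 (CurveLib.functionField_fg Y.left)
  haveI : Algebra.EssFiniteType A L := Algebra.EssFiniteType.of_comp k A L
  haveI : IsNoetherianRing A := Algebra.FiniteType.isNoetherianRing k A
  have hfin : Module.Finite A (integralClosure A L) :=
    Groth.Agent.CAlgSmall.NormNagata.finite_ic_field (CAlgH.isNagata_of_finiteType (NormalizationLib.isNagata_field k) A) L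
  have hint : ∀ s : ↑Γ(Y.left, ⊤), a.act.left.appTop s = (snd G Y).left.appTop s → IsIntegral A (germ s) := by
    intro s hs
    by_contra hni
    obtain ⟨R, hR, hRA, hsR⟩ := exists_dvr_notMem hni
    haveI := hR
    let cR : A →+* R := (algebraMap A L).codRestrict R.toSubring hRA
    let sA : Spec (CommRingCat.of R) ⟶ Spec (CommRingCat.of k) :=
      Spec.map (CommRingCat.ofHom cR) ≫ Spec.map (CommRingCat.ofHom (algebraMap k A))
    have hcR : Spec.map (CommRingCat.ofHom (algebraMap R L)) ≫ Spec.map (CommRingCat.ofHom cR) =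
        Spec.map (CommRingCat.ofHom cA) := by
      rw [← Spec.map_comp]
      rfl
    let g : Over.mk (Spec.map (CommRingCat.ofHom (algebraMap R L)) ≫ sA) ⟶ Y :=
      Over.homMk (Y.left.fromSpecStalk (genericPoint Y.left)) (by
        show _ ≫ Y.hom = Spec.map _ ≫ Spec.map _ ≫ Spec.map _
        rw [reassoc_of% hcR, hk, ← Spec.map_comp, ← CommRingCat.ofHom_comp, hck])
    let h : Over.mk sA ⟶ Over.mk (Spec.map (CommRingCat.ofHom (algebraMap k A))) :=
      Over.homMk (Spec.map (CommRingCat.ofHom cR)) rfl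
    obtain ⟨i, γ, -, hi⟩ := hp.2 R L sA g h (Over.OverMorphism.ext (by
      show Y.left.fromSpecStalk _ ≫ p.left = Spec.map _ ≫ Spec.map _
      rw [hA, hcR]))
    have e1 : g.left.appTop s = (lift γ g ≫ a.act).left.appTop s := by
      rw [Over.comp_left, Scheme.Hom.comp_appTop, CommRingCat.comp_apply, hs, ← CommRingCat.comp_apply,
        ← Scheme.Hom.comp_appTop, ← Over.comp_left, lift_snd]
    rw [← hi, Over.comp_left, Scheme.Hom.comp_appTop] at e1
    apply hsR
    let z := (Scheme.ΓSpecIso (CommRingCat.of R)).hom (i.left.appTop s)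
    have e2 : germ s = algebraMap R L z := by
      have e3 : g.left.appTop s = (Scheme.ΓSpecIso (CommRingCat.of L)).inv (germ s) := by
        show (Y.left.fromSpecStalk _).appTop s = _
        rw [Scheme.fromSpecStalk_appTop]
        rfl
      have e4 : (Spec.map (CommRingCat.ofHom (algebraMap R L))).appTop (i.left.appTop s) =
          (Scheme.ΓSpecIso (CommRingCat.of L)).inv (algebraMap R L z) := by
        rw [show i.left.appTop s = (Scheme.ΓSpecIso (CommRingCat.of R)).inv z from
          ((Scheme.ΓSpecIso (CommRingCat.of R)).hom_inv_id_apply _).symm]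
        exact (congr($(Scheme.ΓSpecIso_inv_naturality (CommRingCat.ofHom (algebraMap R L))) z)).symm
      exact (ConcreteCategory.bijective_of_isIso (Scheme.ΓSpecIso (CommRingCat.of L)).inv).1
        ((e3.symm.trans e1).trans e4)
    rw [e2]
    exact z.2
  -- the module of invariant functions
  letI : Algebra A ↑Γ(Y.left, ⊤) := ψ.toAlgebra
  have hψ : ∀ c : A, a.act.left.appTop (ψ c) = (snd G Y).left.appTop (ψ c) := fun c => by
    show (p.left.appTop ≫ a.act.left.appTop) _ = (p.left.appTop ≫ (snd G Y).left.appTop) _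
    rw [← Scheme.Hom.comp_appTop, ← Scheme.Hom.comp_appTop, ← Over.comp_left, ← Over.comp_left]
    exact congr($(congrArg (fun m => Scheme.Hom.appTop m.left) hp.1) _)
  let M : Submodule A ↑Γ(Y.left, ⊤) :=
    { carrier := {s | a.act.left.appTop s = (snd G Y).left.appTop s}
      add_mem' := fun {x y} hx hy => by
        show _ = _
        rw [map_add, map_add, show a.act.left.appTop x = _ from hx, show a.act.left.appTop y = _ from hy]
      zero_mem' := by simp
      smul_mem' := fun c x hx => by
        show a.act.left.appTop (ψ c * x) = (snd G Y).left.appTop (ψ c * x)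
        rw [map_mul, map_mul, hψ, show a.act.left.appTop x = _ from hx] }
  let θ : M →ₗ[A] integralClosure A L :=
    { toFun := fun s => ⟨germ s.1, hint s.1 s.2⟩
      map_add' := fun x y => Subtype.ext (map_add germ _ _)
      map_smul' := fun c x => Subtype.ext (map_mul germ (ψ c) x.1) }
  haveI : IsNoetherian A (integralClosure A L) := isNoetherian_of_isNoetherianRing_of_finite A _
  have hMfg : M.FG := Module.Finite.iff_fg.1
    (Module.Finite.of_injective θ fun x y h => Subtype.ext (hgerm (congrArg Subtype.val h)))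
  obtain ⟨t, ht⟩ := hMfg
  refine ⟨t, fun s hs => (ht ▸ Submodule.subset_span hs : s ∈ M), fun s hs => ?_⟩
  have hsM : s ∈ Submodule.span A (t : Set ↑Γ(Y.left, ⊤)) := by rw [ht]; exact hs
  obtain ⟨c, -, hc⟩ := Submodule.mem_span_finset.1 hsM
  exact ⟨c, hc.symm⟩

end Groth.Agent.AlgGrpLib.InvariantsFinite
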