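import Groth.Agent.AlgGrpLib.IsogenyProps
import Mathlib.AlgebraicGeometry.Morphisms.Finite

/-!
# Subgroups along isogenies
-/

set_option autoImplicit false
set_option backward.isDefEq.respectTransparency.types false
set_option linter.style.haveILetI false

universe u

open CategoryTheory CategoryTheory.Limits MonoidalCategory CartesianMonoidalCategory MonObj AlgebraicGeometry

noncomputable section

namespace Groth.Agent.AlgGrpLib.IsogenySub

variable {k : Type u} [Field k] [IsAlgClosed k]

/-- Finite surjective homomorphisms of smooth connected groups preserve the dimension. -/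
theorem dim_eq {U V : Over (Spec (CommRingCat.of k))} [GrpObj U] [GrpObj V] [Smooth U.hom] [QuasiCompact U.hom]
    [ConnectedSpace U.left] [Smooth V.hom] [QuasiCompact V.hom] [ConnectedSpace V.left] (p : U ⟶ V) [IsFinite p.left]
    [Surjective p.left] : topologicalKrullDim U.left = topologicalKrullDim V.left := by
  haveI := IsogenyProps.irreducibleSpace_of_pt U η[U]
  haveI := IsogenyProps.irreducibleSpace_of_pt V η[V]
  haveI : LocallyOfFiniteType (p.left ≫ V.hom) := by rw [Over.w p]; infer_instance
  exact AbVarLib.topologicalKrullDim_eq_of_lqf V.hom p.left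

variable {G H : Over (Spec (CommRingCat.of k))} [GrpObj G] [GrpObj H] [LocallyOfFiniteType G.hom] [QuasiCompact G.hom]
  [LocallyOfFiniteType H.hom] [QuasiCompact H.hom] (f : G ⟶ H) [IsMonHom f] [IsFinite f.left]

include f in
/-- The image of a smooth connected subgroup. -/
theorem exists_image_sub {U : Over (Spec (CommRingCat.of k))} [GrpObj U] (i : U ⟶ G) [IsMonHom i]
    [IsClosedImmersion i.left] [Smooth U.hom] [ConnectedSpace U.left] :
    ∃ (V : Over (Spec (CommRingCat.of k))) (_ : GrpObj V) (j : V ⟶ H) (g : U ⟶ V),
      IsMonHom j ∧ IsClosedImmersion j.left ∧ Smooth V.hom ∧ QuasiCompact V.hom ∧ ConnectedSpace V.left ∧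
      IsMonHom g ∧ Surjective g.left ∧ Flat g.left ∧ IsFinite g.left ∧
      topologicalKrullDim U.left = topologicalKrullDim V.left := by
  haveI : QuasiCompact U.hom := by rw [← Over.w i]; infer_instance
  obtain ⟨V, gV, j, g, hj, hg, hjc, hgj, hgs, hgf, hV, -, hVq⟩ := ImageSubgroup.exists_image (i ≫ f)
  letI := gV
  haveI := hj
  haveI := hg
  haveI := hjc
  haveI := hgs
  haveI := hV
  haveI := hVq
  haveI : ConnectedSpace V.left := g.left.surjective.connectedSpace g.left.continuous
  haveI : IsFinite g.left := by
    have h1 : IsFinite (g.left ≫ j.left) := by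
      rw [← Over.comp_left, hgj, Over.comp_left]; infer_instance
    exact MorphismProperty.of_postcomp (W := @IsFinite) (W' := @IsSeparated) g.left j.left inferInstance h1
  exact ⟨V, gV, j, g, hj, hjc, hV, hVq, inferInstance, hg, hgs, hgf, inferInstance, dim_eq g⟩

/-- The connected reduced preimage of a smooth connected subgroup. -/
theorem exists_preimage_sub [Surjective f.left] {V : Over (Spec (CommRingCat.of k))} [GrpObj V] (j : V ⟶ H)
    [IsMonHom j] [IsClosedImmersion j.left] [Smooth V.hom] [ConnectedSpace V.left] :
    ∃ (U : Over (Spec (CommRingCat.of k))) (_ : GrpObj U) (i : U ⟶ G) (p : U ⟶ V),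
      IsMonHom i ∧ IsClosedImmersion i.left ∧ Smooth U.hom ∧ QuasiCompact U.hom ∧ ConnectedSpace U.left ∧
      IsMonHom p ∧ Surjective p.left ∧ Flat p.left ∧ IsFinite p.left ∧
      topologicalKrullDim U.left = topologicalKrullDim V.left := by
  haveI : QuasiCompact V.hom := by rw [← Over.w j]; infer_instance
  haveI : Mono j := Over.mono_of_mono_left j
  obtain ⟨gW, hW1, hW2⟩ := GrpQ26.exists_grpObj_preimage f j
  letI := gW
  haveI := hW1
  haveI := hW2
  let W := pullback j f
  have hsq : IsPullback (pullback.fst j f).left (pullback.snd j f).left j.left f.left :=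
    (IsPullback.of_hasPullback j f).map (Over.forget _)
  haveI : IsFinite (pullback.fst j f).left := MorphismProperty.of_isPullback hsq.flip (inferInstance : IsFinite f.left)
  haveI : Surjective (pullback.fst j f).left :=
    MorphismProperty.of_isPullback hsq.flip (inferInstance : Surjective f.left)
  haveI : IsClosedImmersion (pullback.snd j f).left :=
    MorphismProperty.of_isPullback hsq (inferInstance : IsClosedImmersion j.left)
  haveI : LocallyOfFiniteType W.hom := by rw [← Over.w (pullback.snd j f)]; infer_instance
  haveI : QuasiCompact W.hom := by rw [← Over.w (pullback.snd j f)]; infer_instance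
  obtain ⟨R, gR, r, hr, hrc, hR, hrs, -⟩ := AbelianComplement.exists_smooth_reduction W
  letI := gR
  haveI := hr
  haveI := hrc
  haveI := hR
  haveI := hrs
  haveI : QuasiCompact R.hom := by rw [← Over.w r]; infer_instance
  obtain ⟨U, gU, u, hu, huc, huo, hU, hUc, -⟩ :=
    AbelianComplement.exists_component (G := R) (𝟙 R) (fun T g x => ⟨g * x * g⁻¹, by simp⟩)
  letI := gU
  haveI := hu
  haveI := huc
  haveI := huo
  haveI := hU
  haveI := hUc
  haveI : QuasiCompact U.hom := by rw [← Over.w u]; infer_instance
  let q : R ⟶ V := r ≫ pullback.fst j f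
  haveI : IsFinite q.left := inferInstanceAs (IsFinite (r.left ≫ (pullback.fst j f).left))
  haveI : Surjective q.left := inferInstanceAs (Surjective (r.left ≫ (pullback.fst j f).left))
  haveI : IsSeparated R.hom := SGA3xLib.isSeparated_of_grpObj R
  haveI : IsSeparated V.hom := SGA3xLib.isSeparated_of_grpObj V
  haveI : LocallyOfFinitePresentation R.hom := inferInstance
  haveI : LocallyOfFinitePresentation V.hom := inferInstance
  haveI : GeometricallyReduced V.hom := by
    haveI : IsReduced V.left := AbSchLib.isReduced_of_smooth V.hom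
    exact AbVarLib.geometricallyReduced_of_perfectField V.hom
  haveI : Flat q.left := (Groth.Agent.S7800.result R V q).1
  haveI : LocallyOfFinitePresentation q.left := by
    have : LocallyOfFinitePresentation (q.left ≫ V.hom) := by rw [Over.w q]; infer_instance
    exact Groth.Agent.H8Lim.lfp_cancel_right q.left V.hom
  let p : U ⟶ V := u ≫ q
  haveI : IsFinite p.left := inferInstanceAs (IsFinite (u.left ≫ q.left))
  haveI : Flat p.left := inferInstanceAs (Flat (u.left ≫ q.left))
  haveI : Surjective p.left := by
    haveI : LocallyOfFinitePresentation (u.left ≫ q.left) := inferInstance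
    have hopen : IsOpen (Set.range p.left) := (u.left ≫ q.left).isOpenMap.isOpen_range
    have hclosed : IsClosed (Set.range p.left) := p.left.isClosedMap.isClosed_range
    have hne : (Set.range p.left).Nonempty :=
      ⟨_, η[U].left (IsLocalRing.closedPoint k), rfl⟩
    rcases isClopen_iff.1 ⟨hclosed, hopen⟩ with h | h
    · exact absurd h hne.ne_empty
    · exact ⟨fun y => by
        show y ∈ Set.range p.left
        rw [h]; trivial⟩
  haveI : IsMonHom (r ≫ pullback.fst j f) := inferInstance
  haveI : IsMonHom p := inferInstanceAs (IsMonHom (u ≫ r ≫ pullback.fst j f))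
  refine ⟨U, gU, u ≫ r ≫ pullback.snd j f, p, inferInstance, ?_, hU, inferInstance, hUc, inferInstance,
    inferInstance, inferInstance, inferInstance, dim_eq p⟩
  exact inferInstanceAs (IsClosedImmersion (u.left ≫ r.left ≫ (pullback.snd j f).left))

end Groth.Agent.AlgGrpLib.IsogenySub
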