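import Groth.Prelude.Def_GLinSh
import Groth.Prelude.Def_Red2
import Groth.Agent.AlgGrpLib.ActionShear
import Groth.Agent.AlgGrpLib.UnitsOnProducts
import Groth.Agent.SGA3cLib.DiagPoints

/-! A group without characters admits at most one linearisation. -/

set_option autoImplicit false
set_option backward.isDefEq.respectTransparency.types false

universe u

open CategoryTheory Limits MonoidalCategory CartesianMonoidalCategory MonObj AlgebraicGeometry Opposite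
open TopologicalSpace Groth.Agent.AlgGrpLib

namespace Groth.Agent.AlgGrpLib.LinLiftUnique

variable {k : Type u} [Field k]

local notation "Pts " Z:max => (𝟙_ (Over (Spec (CommRingCat.of k))) ⟶ Z)

theorem subsingleton_unit :
    Subsingleton ↥(𝟙_ (Over (Spec (CommRingCat.of k)))).left :=
  inferInstanceAs (Subsingleton (PrimeSpectrum k))

/-- A rational point lies in an open as soon as some point does. -/
theorem le_preimage {Z : Over (Spec (CommRingCat.of k))} (p : Pts Z) {U : Z.left.Opens}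
    (t : (𝟙_ (Over (Spec (CommRingCat.of k)))).left) (h : p.left t ∈ U) : ⊤ ≤ p.left ⁻¹ᵁ U := fun s _ => by
  haveI := subsingleton_unit (k := k)
  rw [Subsingleton.elim s t]
  exact h

/-- The value of a function at a rational point. -/
noncomputable def val {Z : Over (Spec (CommRingCat.of k))} (p : Pts Z) (U : Z.left.Opens)
    (e : ⊤ ≤ p.left ⁻¹ᵁ U) : Γ(Z.left, U) →+* k :=
  (Scheme.ΓSpecIso (CommRingCat.of k)).hom.hom.comp (p.left.appLE U ⊤ e).hom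

theorem val_res {Z : Over (Spec (CommRingCat.of k))} (p : Pts Z) {U W : Z.left.Opens} (h : W ≤ U)
    (e : ⊤ ≤ p.left ⁻¹ᵁ W) (s : Γ(Z.left, U)) :
    val p W e (Z.left.presheaf.map (homOfLE h).op s) = val p U (e.trans (p.left.preimage_mono h)) s := by
  refine congrArg (Scheme.ΓSpecIso (CommRingCat.of k)).hom.hom ?_
  exact congrArg (fun m : Γ(Z.left, U) ⟶ _ => m s) (p.left.map_appLE e (homOfLE h).op)

theorem val_comp {Z W : Over (Spec (CommRingCat.of k))} (p : Pts Z) (f : Z ⟶ W) (U : W.left.Opens)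
    (O : Z.left.Opens) (e : ⊤ ≤ p.left ⁻¹ᵁ O) (h : O ≤ f.left ⁻¹ᵁ U) (q : Pts W) (hq : p ≫ f = q)
    (e' : ⊤ ≤ q.left ⁻¹ᵁ U) (s : Γ(W.left, U)) :
    val q U e' s = val p O e (f.left.appLE U O h s) := by
  subst hq
  refine congrArg (Scheme.ΓSpecIso (CommRingCat.of k)).hom.hom ?_
  exact (congrArg (fun m : Γ(W.left, U) ⟶ _ => m s) (Scheme.Hom.appLE_comp_appLE p.left f.left U O ⊤ h e)).symm

theorem left_eq_specMap {Z : Over (Spec (CommRingCat.of k))} (p : Pts Z) {U : Z.left.Opens} (hU : IsAffineOpen U)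
    (e : ⊤ ≤ p.left ⁻¹ᵁ U) : p.left = Spec.map (CommRingCat.ofHom (val p U e)) ≫ hU.fromSpec := by
  let pl : Spec (CommRingCat.of k) ⟶ Z.left := p.left
  have e' : (⊤ : (Spec (CommRingCat.of k)).Opens) ≤ pl ⁻¹ᵁ U := e
  have h := hU.SpecMap_appLE_fromSpec pl (isAffineOpen_top (Spec (CommRingCat.of k))) e'
  show pl = _
  rw [show CommRingCat.ofHom (val p U e) = pl.appLE U ⊤ e' ≫ (Scheme.ΓSpecIso (CommRingCat.of k)).hom from rfl,
    Spec.map_comp, Category.assoc, h]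
  rw [IsAffineOpen.fromSpec_top, Scheme.isoSpec_Spec_inv, ← Category.assoc, ← Spec.map_comp, Iso.inv_hom_id,
    Spec.map_id]
  exact (Category.id_comp _).symm

variable [IsAlgClosed k]

theorem exists_closed_pt {Z : Over (Spec (CommRingCat.of k))} [LocallyOfFiniteType Z.hom] {S : Set Z.left}
    (hS : IsLocallyClosed S) (hne : S.Nonempty) : ∃ p : Pts Z, ∀ t, p.left t ∈ S := by
  haveI : JacobsonSpace Z.left := LocallyOfFiniteType.jacobsonSpace Z.hom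
  obtain ⟨x, hxS, hx⟩ := nonempty_inter_closedPoints hne hS
  refine ⟨Over.homMk (pointOfClosedPoint Z.hom x hx) (pointOfClosedPoint_comp Z.hom x hx), fun t => ?_⟩
  rw [show (Over.homMk (pointOfClosedPoint Z.hom x hx) (pointOfClosedPoint_comp Z.hom x hx) : Pts Z).left t = x by
    simp]
  exact hxS

/-- Functions on a reduced variety are determined by their values. -/
theorem sec_ext {Z : Over (Spec (CommRingCat.of k))} [LocallyOfFiniteType Z.hom] [IsReduced Z.left]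
    {U : Z.left.Opens} {s s' : Γ(Z.left, U)} (h : ∀ (p : Pts Z) (e : ⊤ ≤ p.left ⁻¹ᵁ U), val p U e s = val p U e s') :
    s = s' := by
  rw [← sub_eq_zero, ← AlgebraicGeometry.basicOpen_eq_bot_iff]
  by_contra hne
  obtain ⟨p, hp⟩ := exists_closed_pt (k := k) (Z := Z) (Z.left.basicOpen (s - s')).isOpen.isLocallyClosed
    (Opens.ne_bot_iff_nonempty _ |>.1 hne)
  have e : ⊤ ≤ p.left ⁻¹ᵁ U := fun t _ => Z.left.basicOpen_le _ (hp t)
  have h0 : p.left.appLE U ⊤ e (s - s') = 0 := by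
    apply (Scheme.ΓSpecIso (CommRingCat.of k)).commRingCatIsoToRingEquiv.injective
    rw [map_zero]
    show val p U e (s - s') = 0
    rw [map_sub, h p e, sub_self]
  have hb := Scheme.basicOpen_appLE p.left ⊤ U e (s - s')
  rw [h0, Scheme.basicOpen_zero] at hb
  obtain ⟨t⟩ : Nonempty ↥(𝟙_ (Over (Spec (CommRingCat.of k)))).left := inferInstanceAs (Nonempty (PrimeSpectrum k))
  have : t ∈ (⊥ : (𝟙_ (Over (Spec (CommRingCat.of k)))).left.Opens) := hb ▸ ⟨trivial, hp t⟩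
  exact this

theorem isUnit_of_val {Z : Over (Spec (CommRingCat.of k))} [LocallyOfFiniteType Z.hom]
    {U : Z.left.Opens} {s : Γ(Z.left, U)} (h : ∀ (p : Pts Z) (e : ⊤ ≤ p.left ⁻¹ᵁ U), val p U e s ≠ 0) :
    IsUnit s := by
  have hU : Z.left.basicOpen s = U := by
    refine le_antisymm (Z.left.basicOpen_le _) fun x hx => ?_
    by_contra hxb
    obtain ⟨p, hp⟩ := exists_closed_pt (k := k) (Z := Z)
      (U.isOpen.isLocallyClosed.inter (Z.left.basicOpen s).isOpen.isClosed_compl.isLocallyClosed) ⟨x, hx, hxb⟩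
    have e : ⊤ ≤ p.left ⁻¹ᵁ U := fun t _ => (hp t).1
    obtain ⟨t⟩ : Nonempty ↥(𝟙_ (Over (Spec (CommRingCat.of k)))).left := inferInstanceAs (Nonempty (PrimeSpectrum k))
    have hu : IsUnit (p.left.appLE U ⊤ e s) := by
      have := (isUnit_iff_ne_zero.2 (h p e)).map (Scheme.ΓSpecIso (CommRingCat.of k)).inv.hom
      have e2 : (Scheme.ΓSpecIso (CommRingCat.of k)).inv.hom (val p U e s) = p.left.appLE U ⊤ e s := by
        show ((Scheme.ΓSpecIso (CommRingCat.of k)).hom ≫ (Scheme.ΓSpecIso (CommRingCat.of k)).inv) _ = _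
        rw [Iso.hom_inv_id]
        rfl
      rwa [e2] at this
    have hb := Scheme.basicOpen_appLE p.left ⊤ U e s
    rw [Scheme.basicOpen_of_isUnit _ hu] at hb
    exact (hp t).2 (hb.le (trivial : t ∈ (⊤ : (𝟙_ (Over (Spec (CommRingCat.of k)))).left.Opens))).2
  refine Z.left.toRingedSpace.isUnit_of_isUnit_germ U s fun x hx => ?_
  exact (Z.left.mem_basicOpen s x hx).1 (hU.symm ▸ hx)

variable {G X V : Over (Spec (CommRingCat.of k))} [GrpObj G] {a : AlgGrp.Action G X} {π : V ⟶ X}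

omit [IsAlgClosed k] in
theorem lift_comp_π (Φ : AlgGrp.Action G V) (hπ : Φ.act ≫ π = (G ◁ π) ≫ a.act) {T : Over (Spec (CommRingCat.of k))}
    (g : T ⟶ G) (v : T ⟶ V) :
    (CartesianMonoidalCategory.lift g v ≫ Φ.act) ≫ π = CartesianMonoidalCategory.lift g (v ≫ π) ≫ a.act := by
  rw [Category.assoc, hπ, ← Category.assoc, lift_whiskerLeft]

omit [IsAlgClosed k] in
/-- Evaluation of the linearity equation at a rational point. -/
theorem val_lift (A : GLinSh.LinAtlas π) (Φ : AlgGrp.Action G V) (hπ : Φ.act ≫ π = (G ◁ π) ≫ a.act)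
    (U U' : X.left.Opens) (y : Γ(V.left, π.left ⁻¹ᵁ U)) (y' : Γ(V.left, π.left ⁻¹ᵁ U'))
    (c : Γ((G ⊗ X).left, a.act.left ⁻¹ᵁ U' ⊓ (snd G X).left ⁻¹ᵁ U))
    (hc : Φ.act.left.appLE (π.left ⁻¹ᵁ U') (GLinSh.liftOpen a π U U') (GLinSh.liftOpen_le_act a π Φ hπ) y' =
      (G ◁ π).left.appLE _ (GLinSh.liftOpen a π U U') (GLinSh.liftOpen_le_base a π) c *
        (snd G V).left.appLE (π.left ⁻¹ᵁ U) (GLinSh.liftOpen a π U U') (GLinSh.liftOpen_le_snd a π) y)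
    (g : Pts G) (v : Pts V) (x : Pts X) (hv : v ≫ π = x) (e : ⊤ ≤ v.left ⁻¹ᵁ (π.left ⁻¹ᵁ U))
    (w : Pts V) (hw : CartesianMonoidalCategory.lift g v ≫ Φ.act = w) (e' : ⊤ ≤ w.left ⁻¹ᵁ (π.left ⁻¹ᵁ U'))
    (ec : ⊤ ≤ (CartesianMonoidalCategory.lift g x).left ⁻¹ᵁ (a.act.left ⁻¹ᵁ U' ⊓ (snd G X).left ⁻¹ᵁ U)) :
    val w _ e' y' = val (CartesianMonoidalCategory.lift g x) _ ec c * val v _ e y := by
  have hgx : CartesianMonoidalCategory.lift g v ≫ (G ◁ π) = CartesianMonoidalCategory.lift g x := by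
    rw [lift_whiskerLeft, hv]
  have eO : ⊤ ≤ (CartesianMonoidalCategory.lift g v).left ⁻¹ᵁ GLinSh.liftOpen a π U U' := fun t ht => by
    refine ⟨?_, ?_⟩
    · show ((G ◁ π) ≫ a.act).left _ ∈ U'
      rw [← hπ]
      have : (w.left t : V.left) ∈ π.left ⁻¹ᵁ U' := e' ht
      rw [← hw] at this
      exact this
    · show ((G ◁ π) ≫ snd G X).left _ ∈ U
      rw [whiskerLeft_snd]
      have : (v.left t : V.left) ∈ π.left ⁻¹ᵁ U := e ht
      rw [show v = CartesianMonoidalCategory.lift g v ≫ snd G V from (lift_snd g v).symm] at this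
      exact this
  rw [val_comp _ Φ.act _ _ eO (GLinSh.liftOpen_le_act a π Φ hπ) w hw e' y', hc, map_mul,
    ← val_comp _ (G ◁ π) _ _ eO (GLinSh.liftOpen_le_base a π) _ hgx ec c,
    ← val_comp _ (snd G V) _ _ eO (GLinSh.liftOpen_le_snd a π) v (lift_snd g v) e y]

omit [IsAlgClosed k] in
/-- A point over `x` where a given coordinate takes the value one. -/
theorem exists_pt_one (A : GLinSh.LinAtlas π) (U : X.left.Opens) (y : Γ(V.left, π.left ⁻¹ᵁ U))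
    (hy : y ∈ A.chart U) (x : Pts X) (e : ⊤ ≤ x.left ⁻¹ᵁ U) :
    ∃ (v : Pts V) (e' : ⊤ ≤ v.left ⁻¹ᵁ (π.left ⁻¹ᵁ U)), v ≫ π = x ∧ val v _ e' y = 1 := by
  obtain ⟨t⟩ : Nonempty ↥(𝟙_ (Over (Spec (CommRingCat.of k)))).left := inferInstanceAs (Nonempty (PrimeSpectrum k))
  obtain ⟨_, ⟨W, hW, rfl⟩, hxW, hWU⟩ := X.left.isBasis_affineOpens.exists_subset_of_mem_open
    (show x.left t ∈ (U : Set X.left) from e trivial) U.isOpen
  replace hWU : W ≤ U := hWU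
  haveI := A.affine
  have hW' : IsAffineOpen (π.left ⁻¹ᵁ W) := hW.preimage π.left
  have eW := le_preimage x t hxW
  let E := RingEquiv.ofBijective _ (A.coord U y hy W hW hWU)
  let χ : Γ(V.left, π.left ⁻¹ᵁ W) →+* k :=
    (Polynomial.eval₂RingHom (val x W eW) 1).comp E.symm.toRingHom
  have hχ : ∀ P, χ (E P) = Polynomial.eval₂ (val x W eW) 1 P := fun P => by simp [χ]
  let vl : Spec (CommRingCat.of k) ⟶ V.left := Spec.map (CommRingCat.ofHom χ) ≫ hW'.fromSpec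
  have hvl : vl ≫ π.left = x.left := by
    rw [left_eq_specMap x hW eW, Category.assoc, ← hW.SpecMap_appLE_fromSpec π.left hW' le_rfl,
      ← Category.assoc, ← Spec.map_comp]
    congr 2
    refine CommRingCat.hom_ext (RingHom.ext fun r => ?_)
    show χ (π.left.appLE W (π.left ⁻¹ᵁ W) le_rfl r) = val x W eW r
    rw [← Scheme.Hom.app_eq_appLE,
      show π.left.app W r = E (Polynomial.C r) from (Polynomial.eval₂_C _ _).symm, hχ, Polynomial.eval₂_C]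
  let v : Pts V := Over.homMk vl (by
    rw [← Over.w π, ← Category.assoc, hvl]
    exact Over.w x)
  have hv : v ≫ π = x := Over.OverMorphism.ext hvl
  have eV : ⊤ ≤ v.left ⁻¹ᵁ (π.left ⁻¹ᵁ W) := fun s hs => by
    show π.left (v.left s) ∈ W
    rw [← Scheme.Hom.comp_apply, ← Over.comp_left, hv]
    exact eW hs
  refine ⟨v, eV.trans (v.left.preimage_mono (π.left.preimage_mono hWU)), hv, ?_⟩
  rw [← val_res v (π.left.preimage_mono hWU) eV]
  have hval : val v _ eV = χ := by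
    have h := (left_eq_specMap v hW' eV).symm
    exact congrArg CommRingCat.Hom.hom (Spec.map_injective ((cancel_mono _).1 h))
  rw [hval, show V.left.presheaf.map (homOfLE (π.left.preimage_mono hWU)).op y = E Polynomial.X from
    (Polynomial.eval₂_X _ _).symm, hχ, Polynomial.eval₂_X]

omit [IsAlgClosed k] in
/-- Changing the target coordinate multiplies the values over a fixed point by a fixed scalar. -/
theorem val_change (A : GLinSh.LinAtlas π) (U U' : X.left.Opens) (y : Γ(V.left, π.left ⁻¹ᵁ U))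
    (y' : Γ(V.left, π.left ⁻¹ᵁ U')) (hy : y ∈ A.chart U) (hy' : y' ∈ A.chart U') (z : Pts X)
    (e : ⊤ ≤ z.left ⁻¹ᵁ U) (e' : ⊤ ≤ z.left ⁻¹ᵁ U') :
    ∃ κ : k, ∀ (w : Pts V) (_ : w ≫ π = z) (ew : ⊤ ≤ w.left ⁻¹ᵁ (π.left ⁻¹ᵁ U))
      (ew' : ⊤ ≤ w.left ⁻¹ᵁ (π.left ⁻¹ᵁ U')), val w _ ew' y' = κ * val w _ ew y := by
  obtain ⟨c, -, hc⟩ := A.linear U U' y y' hy hy'
  refine ⟨val z (U ⊓ U') (fun s hs => ⟨e hs, e' hs⟩) c, fun w hw ew ew' => ?_⟩
  have eI : ⊤ ≤ w.left ⁻¹ᵁ (π.left ⁻¹ᵁ (U ⊓ U')) := fun s hs => ⟨ew hs, ew' hs⟩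
  have h := congrArg (val w _ eI) hc
  rw [map_mul, val_res, val_res] at h
  rw [h, val_comp w π (U ⊓ U') (π.left ⁻¹ᵁ (U ⊓ U')) eI le_rfl z hw (fun s hs => ⟨e hs, e' hs⟩) c,
    ← Scheme.Hom.app_eq_appLE]

omit [IsAlgClosed k] in
/-- Translates of a point where a coordinate is non-zero have non-zero coordinates. -/
theorem val_ne_zero (A : GLinSh.LinAtlas π) (Φ : AlgGrp.Action G V) (hπ : Φ.act ≫ π = (G ◁ π) ≫ a.act)
    (hl : GLinSh.IsLinearLift a π Φ A.chart hπ) (U U' : X.left.Opens) (y : Γ(V.left, π.left ⁻¹ᵁ U))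
    (y' : Γ(V.left, π.left ⁻¹ᵁ U')) (hy : y ∈ A.chart U) (hy' : y' ∈ A.chart U')
    (g : Pts G) (v : Pts V) (e : ⊤ ≤ v.left ⁻¹ᵁ (π.left ⁻¹ᵁ U)) (hv : val v _ e y ≠ 0)
    (w : Pts V) (hw : CartesianMonoidalCategory.lift g v ≫ Φ.act = w) (e' : ⊤ ≤ w.left ⁻¹ᵁ (π.left ⁻¹ᵁ U')) :
    val w _ e' y' ≠ 0 := by
  obtain ⟨c, hc⟩ := hl U' U y' y hy' hy
  have hback : CartesianMonoidalCategory.lift g⁻¹ w ≫ Φ.act = v := by
    rw [← hw, act_act, inv_mul_cancel, one_act']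
  have hx : CartesianMonoidalCategory.lift g⁻¹ (w ≫ π) ≫ a.act = v ≫ π := by
    rw [← lift_comp_π Φ hπ, hback]
  have ec : ⊤ ≤ (CartesianMonoidalCategory.lift g⁻¹ (w ≫ π)).left ⁻¹ᵁ
      (a.act.left ⁻¹ᵁ U ⊓ (snd G X).left ⁻¹ᵁ U') := fun t ht => by
    refine ⟨?_, ?_⟩
    · show (CartesianMonoidalCategory.lift g⁻¹ (w ≫ π) ≫ a.act).left t ∈ U
      rw [hx]
      exact e ht
    · show (CartesianMonoidalCategory.lift g⁻¹ (w ≫ π) ≫ snd G X).left t ∈ U'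
      rw [lift_snd]
      exact e' ht
  intro h0
  apply hv
  rw [val_lift A Φ hπ U' U y' y c hc g⁻¹ w _ rfl e' v hback e ec, h0, mul_zero]

variable [Smooth G.hom] [QuasiCompact G.hom] [ConnectedSpace ↥G.left]
  (hχ : ∀ (χ : G ⟶ Red.Gm (Spec (CommRingCat.of k))) [IsMonHom χ], χ = 1)
  {Φ₁ Φ₂ : AlgGrp.Action G V}

include hχ in
/-- A unit with value one at the origin is trivial when there are no characters. -/
theorem unit_eq_one (h : Γ(G.left, ⊤)) (hu : IsUnit h) (hone : η[G].left.appTop h = 1) : h = 1 := by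
  obtain ⟨χ, hχh⟩ := SGA3cLib.exists_gmFn (S := Spec (CommRingCat.of k)) (X := G) hu
  haveI : IsMonHom χ := by
    constructor
    · apply SGA3cLib.gmFn_injective
      rw [SGA3cLib.gmFn_comp, hχh, hone,
        show η[Red.Gm (Spec (CommRingCat.of k))] = (1 : Pts (Red.Gm (Spec (CommRingCat.of k)))) by
          rw [Hom.one_def, toUnit_unique (toUnit _) (𝟙 _), Category.id_comp], SGA3cLib.gmFn_one]
    · apply SGA3cLib.gmFn_injective
      rw [SGA3cLib.gmFn_comp, hχh, comul_unit_eq_mul G h hu hone,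
        show (χ ⊗ₘ χ) ≫ μ[Red.Gm (Spec (CommRingCat.of k))] = (fst G G ≫ χ) * (snd G G ≫ χ) by
          rw [Hom.mul_def]; congr 1,
        SGA3cLib.gmFn_mul, SGA3cLib.gmFn_comp, SGA3cLib.gmFn_comp, hχh]
  rw [← hχh, hχ χ, SGA3cLib.gmFn_one]

include hχ in
/-- Two families of non-vanishing functions with coherent ratios and the same value at the origin agree. -/
theorem ratio_eq_one (N : Pts G → G.left.Opens) (hN : ∀ r : Pts G, ⊤ ≤ r.left ⁻¹ᵁ N r)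
    (s₁ s₂ : ∀ p, Γ(G.left, N p))
    (hne₁ : ∀ (p r : Pts G) (er : ⊤ ≤ r.left ⁻¹ᵁ N p), val r (N p) er (s₁ p) ≠ 0)
    (hne₂ : ∀ (p r : Pts G) (er : ⊤ ≤ r.left ⁻¹ᵁ N p), val r (N p) er (s₂ p) ≠ 0)
    (hindep : ∀ (p p' r : Pts G) (er : ⊤ ≤ r.left ⁻¹ᵁ N p) (er' : ⊤ ≤ r.left ⁻¹ᵁ N p'),
      val r (N p') er' (s₂ p') * val r (N p) er (s₁ p) = val r (N p) er (s₂ p) * val r (N p') er' (s₁ p'))
    (h1 : val η[G] (N η[G]) (hN _) (s₁ η[G]) = val η[G] (N η[G]) (hN _) (s₂ η[G])) :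
    ∀ r, val r (N r) (hN r) (s₁ r) = val r (N r) (hN r) (s₂ r) := by
  haveI : IsReduced G.left := WeilLib.isReduced_of_smooth G.hom
  obtain ⟨t⟩ : Nonempty ↥(𝟙_ (Over (Spec (CommRingCat.of k)))).left := inferInstanceAs (Nonempty (PrimeSpectrum k))
  choose w hw using fun p => (isUnit_of_val (Z := G) (U := N p) (hne₁ p)).exists_left_inv
  let sf := fun p => s₂ p * w p
  have hsf : ∀ (p r : Pts G) (er : ⊤ ≤ r.left ⁻¹ᵁ N p),
      val r (N p) er (sf p) * val r (N p) er (s₁ p) = val r (N p) er (s₂ p) := by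
    intro p r er
    have h2 : s₂ p * w p * s₁ p = s₂ p := by rw [_root_.mul_assoc, hw p, _root_.mul_one]
    exact ((val r (N p) er).map_mul (s₂ p * w p) (s₁ p)).symm.trans (congrArg (val r (N p) er) h2)
  have hcompat : TopCat.Presheaf.IsCompatible G.left.sheaf.obj N sf := by
    intro p p'
    refine sec_ext (Z := G) fun r er => ?_
    have er₁ : ⊤ ≤ r.left ⁻¹ᵁ N p := er.trans (r.left.preimage_mono inf_le_left)
    have er₂ : ⊤ ≤ r.left ⁻¹ᵁ N p' := er.trans (r.left.preimage_mono inf_le_right)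
    refine (val_res r inf_le_left er (sf p)).trans (Eq.trans ?_ (val_res r inf_le_right er (sf p')).symm)
    apply mul_right_cancel₀ (mul_ne_zero (hne₁ p r er₁) (hne₁ p' r er₂))
    linear_combination (val r (N p') er₂ (s₁ p')) * hsf p r er₁ - (val r (N p) er₁ (s₁ p)) * hsf p' r er₂
      - hindep p p' r er₁ er₂
  have hcover : (⊤ : G.left.Opens) ≤ iSup N := by
    intro z _
    by_contra hz
    obtain ⟨p, hp⟩ := exists_closed_pt (k := k) (Z := G) (iSup N).isOpen.isClosed_compl.isLocallyClosed ⟨z, hz⟩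
    exact hp t (Opens.mem_iSup.2 ⟨p, hN p trivial⟩)
  obtain ⟨h, hh, -⟩ := G.left.sheaf.existsUnique_gluing' N ⊤ (fun p => homOfLE le_top) hcover sf hcompat
  have htop : ∀ r : Pts G, ⊤ ≤ r.left ⁻¹ᵁ (⊤ : G.left.Opens) := fun r _ _ => trivial
  have hval : ∀ r : Pts G, val r ⊤ (htop r) h = val r (N r) (hN r) (sf r) := fun r => by
    rw [← hh r]
    exact (val_res r le_top (hN r) h).symm
  have hu : IsUnit h := isUnit_of_val fun r _ h0 => by
    have := hsf r r (hN r)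
    rw [← hval, h0, zero_mul] at this
    exact hne₂ r r (hN r) this.symm
  have hone : η[G].left.appTop h = 1 := by
    apply (Scheme.ΓSpecIso (CommRingCat.of k)).commRingCatIsoToRingEquiv.injective
    rw [map_one]
    have e0 : val η[G] ⊤ (htop η[G]) h = 1 := by
      have := hsf η[G] η[G] (hN _)
      rw [← hval, h1] at this
      exact (mul_left_eq_self₀.1 this).resolve_right (hne₂ _ _ _)
    exact e0
  have hh1 := unit_eq_one hχ h hu hone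
  intro r
  have := hsf r r (hN r)
  rw [← hval, hh1, map_one, _root_.one_mul] at this
  exact this

include hχ in
/-- The two lifts agree on the values of coordinates. -/
theorem val_eq (A : GLinSh.LinAtlas π) (h₁ : Φ₁.act ≫ π = (G ◁ π) ≫ a.act) (h₂ : Φ₂.act ≫ π = (G ◁ π) ≫ a.act)
    (hl₁ : GLinSh.IsLinearLift a π Φ₁ A.chart h₁) (hl₂ : GLinSh.IsLinearLift a π Φ₂ A.chart h₂)
    (U U' : X.left.Opens) (y : Γ(V.left, π.left ⁻¹ᵁ U)) (y' : Γ(V.left, π.left ⁻¹ᵁ U'))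
    (hy : y ∈ A.chart U) (hy' : y' ∈ A.chart U')
    (g : Pts G) (v : Pts V) (e : ⊤ ≤ v.left ⁻¹ᵁ (π.left ⁻¹ᵁ U)) (hv : val v _ e y ≠ 0)
    (e₁ : ⊤ ≤ (CartesianMonoidalCategory.lift g v ≫ Φ₁.act).left ⁻¹ᵁ (π.left ⁻¹ᵁ U'))
    (e₂ : ⊤ ≤ (CartesianMonoidalCategory.lift g v ≫ Φ₂.act).left ⁻¹ᵁ (π.left ⁻¹ᵁ U')) :
    val (CartesianMonoidalCategory.lift g v ≫ Φ₁.act) _ e₁ y' =
      val (CartesianMonoidalCategory.lift g v ≫ Φ₂.act) _ e₂ y' := by
  obtain ⟨t⟩ : Nonempty ↥(𝟙_ (Over (Spec (CommRingCat.of k)))).left := inferInstanceAs (Nonempty (PrimeSpectrum k))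
  -- orbit maps of `v`
  obtain ⟨o, q₁, q₂, hq₁, hq₂, hqπ₁, hqπ₂⟩ : ∃ (o : G ⟶ X) (q₁ q₂ : G ⟶ V),
      (∀ p : Pts G, p ≫ q₁ = CartesianMonoidalCategory.lift p v ≫ Φ₁.act) ∧
      (∀ p : Pts G, p ≫ q₂ = CartesianMonoidalCategory.lift p v ≫ Φ₂.act) ∧ q₁ ≫ π = o ∧ q₂ ≫ π = o := by
    refine ⟨CartesianMonoidalCategory.lift (𝟙 G) (toUnit G ≫ v ≫ π) ≫ a.act,
      CartesianMonoidalCategory.lift (𝟙 G) (toUnit G ≫ v) ≫ Φ₁.act,
      CartesianMonoidalCategory.lift (𝟙 G) (toUnit G ≫ v) ≫ Φ₂.act, fun p => ?_, fun p => ?_, ?_, ?_⟩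
    · rw [← Category.assoc, comp_lift, Category.comp_id, ← Category.assoc, toUnit_unique (p ≫ toUnit G) (𝟙 _),
        Category.id_comp]
    · rw [← Category.assoc, comp_lift, Category.comp_id, ← Category.assoc, toUnit_unique (p ≫ toUnit G) (𝟙 _),
        Category.id_comp]
    · rw [lift_comp_π Φ₁ h₁, Category.assoc]
    · rw [lift_comp_π Φ₂ h₂, Category.assoc]
  -- coordinates around each translate of the base point
  choose Us hUs ys hys using fun p : Pts G => A.cover ((p ≫ o).left t)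
  have hN : ∀ r : Pts G, ⊤ ≤ r.left ⁻¹ᵁ (o.left ⁻¹ᵁ Us r) := fun r => le_preimage r t (hUs r)
  have hle₁ : ∀ p, o.left ⁻¹ᵁ Us p ≤ q₁.left ⁻¹ᵁ (π.left ⁻¹ᵁ Us p) := fun p s hs => by
    show (q₁ ≫ π).left s ∈ Us p
    rw [hqπ₁]; exact hs
  have hle₂ : ∀ p, o.left ⁻¹ᵁ Us p ≤ q₂.left ⁻¹ᵁ (π.left ⁻¹ᵁ Us p) := fun p s hs => by
    show (q₂ ≫ π).left s ∈ Us p
    rw [hqπ₂]; exact hs
  have eq₁ : ∀ (p r : Pts G), ⊤ ≤ r.left ⁻¹ᵁ (o.left ⁻¹ᵁ Us p) →
      ⊤ ≤ (CartesianMonoidalCategory.lift r v ≫ Φ₁.act).left ⁻¹ᵁ (π.left ⁻¹ᵁ Us p) := fun p r er s hs => by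
    rw [← hq₁]; exact hle₁ p (er hs)
  have eq₂ : ∀ (p r : Pts G), ⊤ ≤ r.left ⁻¹ᵁ (o.left ⁻¹ᵁ Us p) →
      ⊤ ≤ (CartesianMonoidalCategory.lift r v ≫ Φ₂.act).left ⁻¹ᵁ (π.left ⁻¹ᵁ Us p) := fun p r er s hs => by
    rw [← hq₂]; exact hle₂ p (er hs)
  have hs₁ : ∀ (p r : Pts G) er, val r _ er (q₁.left.appLE (π.left ⁻¹ᵁ Us p) _ (hle₁ p) (ys p)) =
      val _ _ (eq₁ p r er) (ys p) := fun p r er =>
    (val_comp r q₁ _ _ er (hle₁ p) _ (hq₁ r) (eq₁ p r er) (ys p)).symm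
  have hs₂ : ∀ (p r : Pts G) er, val r _ er (q₂.left.appLE (π.left ⁻¹ᵁ Us p) _ (hle₂ p) (ys p)) =
      val _ _ (eq₂ p r er) (ys p) := fun p r er =>
    (val_comp r q₂ _ _ er (hle₂ p) _ (hq₂ r) (eq₂ p r er) (ys p)).symm
  -- the ratio is independent of the coordinate
  have hindep : ∀ (r : Pts G) (W W' : X.left.Opens) (z : Γ(V.left, π.left ⁻¹ᵁ W)) (z' : Γ(V.left, π.left ⁻¹ᵁ W'))
      (_ : z ∈ A.chart W) (_ : z' ∈ A.chart W') (a₁ : ⊤ ≤ (CartesianMonoidalCategory.lift r v ≫ Φ₁.act).left ⁻¹ᵁ (π.left ⁻¹ᵁ W))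
      (a₂ : ⊤ ≤ (CartesianMonoidalCategory.lift r v ≫ Φ₂.act).left ⁻¹ᵁ (π.left ⁻¹ᵁ W))
      (b₁ : ⊤ ≤ (CartesianMonoidalCategory.lift r v ≫ Φ₁.act).left ⁻¹ᵁ (π.left ⁻¹ᵁ W'))
      (b₂ : ⊤ ≤ (CartesianMonoidalCategory.lift r v ≫ Φ₂.act).left ⁻¹ᵁ (π.left ⁻¹ᵁ W')),
      val _ _ b₂ z' * val _ _ a₁ z = val _ _ a₂ z * val _ _ b₁ z' := by
    intro r W W' z z' hz hz' a₁ a₂ b₁ b₂
    obtain ⟨κ, hκ⟩ := val_change A W W' z z' hz hz' ((CartesianMonoidalCategory.lift r v ≫ Φ₁.act) ≫ π)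
      (fun s hs => a₁ hs) (fun s hs => b₁ hs)
    rw [hκ _ rfl a₁ b₁, hκ _ (by rw [lift_comp_π Φ₂ h₂, lift_comp_π Φ₁ h₁]) a₂ b₂]
    ring
  have hone : ∀ Φ : AlgGrp.Action G V, CartesianMonoidalCategory.lift η[G] v ≫ Φ.act = v := fun Φ => by
    rw [show (η[G] : Pts G) = 1 by rw [Hom.one_def, toUnit_unique (toUnit _) (𝟙 _), Category.id_comp], one_act']
  have hpt : ∀ (W : X.left.Opens) (z : Γ(V.left, π.left ⁻¹ᵁ W)) (p p' : Pts V)
      (ep : ⊤ ≤ p.left ⁻¹ᵁ (π.left ⁻¹ᵁ W)) (ep' : ⊤ ≤ p'.left ⁻¹ᵁ (π.left ⁻¹ᵁ W)), p = p' →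
      val p _ ep z = val p' _ ep' z := by
    rintro W z p p' ep ep' rfl; rfl
  have key := ratio_eq_one hχ (fun r => o.left ⁻¹ᵁ Us r) hN
    (fun p => q₁.left.appLE (π.left ⁻¹ᵁ Us p) _ (hle₁ p) (ys p))
    (fun p => q₂.left.appLE (π.left ⁻¹ᵁ Us p) _ (hle₂ p) (ys p))
    (fun p r er => by rw [hs₁]; exact val_ne_zero A Φ₁ h₁ hl₁ U (Us p) y (ys p) hy (hys p) r v e hv _ rfl _)
    (fun p r er => by rw [hs₂]; exact val_ne_zero A Φ₂ h₂ hl₂ U (Us p) y (ys p) hy (hys p) r v e hv _ rfl _)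
    (fun p p' r er er' => by rw [hs₁, hs₁, hs₂, hs₂]; exact hindep r _ _ _ _ (hys p) (hys p') _ _ _ _)
    (by rw [hs₁, hs₂]; exact hpt _ _ _ _ _ _ ((hone Φ₁).trans (hone Φ₂).symm)) g
  rw [hs₁, hs₂] at key
  have := hindep g _ _ _ _ (hys g) hy' (eq₁ g g (hN g)) (eq₂ g g (hN g)) e₁ e₂
  rw [← key] at this
  refine mul_left_cancel₀ (val_ne_zero A Φ₁ h₁ hl₁ U _ y _ hy (hys g) g v e hv _ rfl (eq₁ g g (hN g))) ?_
  linear_combination -this

include hχ in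
/-- **At most one linearisation** for a group without characters. -/
theorem act_eq [LocallyOfFiniteType X.hom] [IsReduced X.left]
    (A : GLinSh.LinAtlas π) (h₁ : Φ₁.act ≫ π = (G ◁ π) ≫ a.act) (h₂ : Φ₂.act ≫ π = (G ◁ π) ≫ a.act)
    (hl₁ : GLinSh.IsLinearLift a π Φ₁ A.chart h₁) (hl₂ : GLinSh.IsLinearLift a π Φ₂ A.chart h₂) :
    Φ₁.act = Φ₂.act := by
  haveI : IsReduced G.left := WeilLib.isReduced_of_smooth G.hom
  haveI : IsReduced (G ⊗ X).left := isReduced_tensor G X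
  haveI : LocallyOfFiniteType (G ⊗ X).hom :=
    inferInstanceAs (LocallyOfFiniteType (pullback.fst G.hom X.hom ≫ G.hom))
  haveI := A.affine
  apply Over.OverMorphism.ext
  have key : ∀ z : ↥(G ⊗ V).left, ∃ O : (G ⊗ V).left.Opens, z ∈ O ∧ O.ι ≫ Φ₁.act.left = O.ι ≫ Φ₂.act.left := by
    intro z
    obtain ⟨U, hzU, y, hy⟩ := A.cover (((G ◁ π) ≫ snd G X).left z)
    obtain ⟨U', hzU', y', hy'⟩ := A.cover (((G ◁ π) ≫ a.act).left z)
    obtain ⟨_, ⟨W, hW, rfl⟩, hzW, hWU⟩ := X.left.isBasis_affineOpens.exists_subset_of_mem_open hzU' U'.isOpen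
    replace hWU : W ≤ U' := hWU
    obtain ⟨c₁, hc₁⟩ := hl₁ U U' y y' hy hy'
    obtain ⟨c₂, hc₂⟩ := hl₂ U U' y y' hy hy'
    have hcc : c₁ = c₂ := by
      refine sec_ext (Z := G ⊗ X) fun p ep => ?_
      obtain ⟨t⟩ : Nonempty ↥(𝟙_ (Over (Spec (CommRingCat.of k)))).left := inferInstanceAs (Nonempty (PrimeSpectrum k))
      obtain ⟨g, x, rfl⟩ : ∃ g x, p = CartesianMonoidalCategory.lift g x :=
        ⟨p ≫ fst G X, p ≫ snd G X, by rw [← comp_lift, lift_fst_snd, Category.comp_id]⟩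
      have exU : ⊤ ≤ x.left ⁻¹ᵁ U := fun s hs => by
        show x.left s ∈ U
        rw [← lift_snd g x, Over.comp_left]
        exact (ep hs).2
      obtain ⟨v, ev, hv, hv1⟩ := exists_pt_one A U y hy x exU
      have ew : ∀ (Φ : AlgGrp.Action G V) (_ : Φ.act ≫ π = (G ◁ π) ≫ a.act),
          ⊤ ≤ (CartesianMonoidalCategory.lift g v ≫ Φ.act).left ⁻¹ᵁ (π.left ⁻¹ᵁ U') := fun Φ hΦ s hs => by
        show ((CartesianMonoidalCategory.lift g v ≫ Φ.act) ≫ π).left s ∈ U'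
        rw [lift_comp_π Φ hΦ, hv]
        exact (ep hs).1
      have k1 := val_lift A Φ₁ h₁ U U' y y' c₁ hc₁ g v x hv ev _ rfl (ew Φ₁ h₁) ep
      have k2 := val_lift A Φ₂ h₂ U U' y y' c₂ hc₂ g v x hv ev _ rfl (ew Φ₂ h₂) ep
      rw [hv1, _root_.mul_one] at k1 k2
      rw [← k1, ← k2]
      exact val_eq hχ A h₁ h₂ hl₁ hl₂ U U' y y' hy hy' g v ev (hv1 ▸ one_ne_zero) _ _
    let O : (G ⊗ V).left.Opens := GLinSh.liftOpen a π U U' ⊓ ((G ◁ π) ≫ a.act).left ⁻¹ᵁ W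
    have hO₁ : O ≤ Φ₁.act.left ⁻¹ᵁ (π.left ⁻¹ᵁ W) := fun s hs => by
      show (Φ₁.act ≫ π).left s ∈ W
      rw [h₁]; exact hs.2
    have hO₂ : O ≤ Φ₂.act.left ⁻¹ᵁ (π.left ⁻¹ᵁ W) := fun s hs => by
      show (Φ₂.act ≫ π).left s ∈ W
      rw [h₂]; exact hs.2
    refine ⟨O, ⟨⟨hzU', hzU⟩, hzW⟩, ?_⟩
    have hW' : IsAffineOpen (π.left ⁻¹ᵁ W) := hW.preimage π.left
    have he : Φ₁.act.left.appLE (π.left ⁻¹ᵁ W) O hO₁ = Φ₂.act.left.appLE (π.left ⁻¹ᵁ W) O hO₂ := by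
      refine CommRingCat.hom_ext (RingHom.ext fun s => ?_)
      obtain ⟨P, rfl⟩ := (A.coord U' y' hy' W hW hWU).2 s
      rw [Polynomial.coe_eval₂RingHom, Polynomial.hom_eval₂, Polynomial.hom_eval₂]
      congr 1
      · refine RingHom.ext fun r => ?_
        show (π.left.app W ≫ Φ₁.act.left.appLE (π.left ⁻¹ᵁ W) O hO₁) r =
          (π.left.app W ≫ Φ₂.act.left.appLE (π.left ⁻¹ᵁ W) O hO₂) r
        rw [← Scheme.Hom.comp_appLE, ← Scheme.Hom.comp_appLE]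
        simp only [← Over.comp_left, h₁, h₂]
      · have r1 : ∀ (Φ : AlgGrp.Action G V) (hΦ : Φ.act ≫ π = (G ◁ π) ≫ a.act)
            (hO : O ≤ Φ.act.left ⁻¹ᵁ (π.left ⁻¹ᵁ W)),
            Φ.act.left.appLE (π.left ⁻¹ᵁ W) O hO (GLinSh.res π hWU y') =
              (G ⊗ V).left.presheaf.map (homOfLE (inf_le_left : O ≤ GLinSh.liftOpen a π U U')).op
                (Φ.act.left.appLE (π.left ⁻¹ᵁ U') (GLinSh.liftOpen a π U U')
                  (GLinSh.liftOpen_le_act a π Φ hΦ) y') := by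
          intro Φ hΦ hO
          rw [← CommRingCat.comp_apply, ← CommRingCat.comp_apply, Scheme.Hom.map_appLE, Scheme.Hom.appLE_map]
        show Φ₁.act.left.appLE (π.left ⁻¹ᵁ W) O hO₁ (GLinSh.res π hWU y') =
          Φ₂.act.left.appLE (π.left ⁻¹ᵁ W) O hO₂ (GLinSh.res π hWU y')
        rw [r1 Φ₁ h₁, r1 Φ₂ h₂, hc₁, hc₂, hcc]
    have e : ∀ (f : (G ⊗ V).left ⟶ V.left) (hf : O ≤ f ⁻¹ᵁ (π.left ⁻¹ᵁ W)),
        O.toSpecΓ ≫ Spec.map (f.appLE _ O hf) ≫ hW'.fromSpec = O.ι ≫ f := fun f hf => by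
      rw [Scheme.Opens.toSpecΓ_SpecMap_appLE_assoc, hW'.toSpecΓ_fromSpec, Scheme.Hom.resLE_comp_ι]
    rw [← e _ hO₁, ← e _ hO₂, he]
  choose O hzO hO using key
  refine Scheme.Cover.hom_ext (Scheme.openCoverOfIsOpenCover (G ⊗ V).left O ?_) _ _ hO
  rw [IsOpenCover, eq_top_iff]
  exact fun z _ => Opens.mem_iSup.2 ⟨z, hzO z⟩

end Groth.Agent.AlgGrpLib.LinLiftUnique
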