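import Groth.Agent.AlgGrpLib.AbelianComplement
import Groth.Agent.AlgGrpLib.PointsDense

/-!
The largest smooth connected affine normal subgroup of a normal subgroup and its dimension.
-/

set_option autoImplicit false
set_option backward.isDefEq.respectTransparency.types false

universe u

open CategoryTheory CategoryTheory.Limits MonoidalCategory CartesianMonoidalCategory MonObj GrpObj AlgebraicGeometry

namespace Groth.Agent.AlgGrpLib.LinearPartInter

open Groth.Agent.AlgGrpLib

variable {k : Type u} [Field k] [IsAlgClosed k]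

/-- An open subgroup of an algebraic group over an algebraically closed field has the same dimension. -/
theorem dim_openSubgroup {C R : Over (Spec (CommRingCat.of k))} [GrpObj C] [GrpObj R] [LocallyOfFiniteType R.hom]
    (u : C ⟶ R) [IsMonHom u] [IsOpenImmersion u.left] :
    topologicalKrullDim ↥C.left = topologicalKrullDim ↥R.left := by
  rw [DimLib.topologicalKrullDim_eq_krullDim, DimLib.topologicalKrullDim_eq_krullDim]
  have hind := u.left.isOpenEmbedding.isInducing
  refine le_antisymm (Order.krullDim_le_of_strictMono u.left ?_) ?_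
  · refine fun a b h => ⟨?_, fun h' => h.2 ?_⟩
    · exact Scheme.le_iff_specializes.2 ((Scheme.le_iff_specializes.1 h.1).map u.left.continuous)
    · exact Scheme.le_iff_specializes.2 (hind.specializes_iff.1 (Scheme.le_iff_specializes.1 h'))
  · refine iSup_le fun s => ?_
    haveI := LocallyOfFiniteType.jacobsonSpace R.hom
    obtain ⟨x, hx, hxc⟩ := nonempty_inter_closedPoints (Z := closure ({s.head} : Set R.left))
      ⟨s.head, subset_closure rfl⟩ isClosed_closure.isLocallyClosed
    let e : R.left := η[R].left (IsLocalRing.closedPoint k)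
    have he : IsClosed ({e} : Set R.left) := by
      haveI : IsSeparated R.hom := Groth.Agent.SGA3xLib.isSeparated_of_grpObj R
      haveI : IsClosedImmersion η[R].left := isClosedImmersion_of_comp_eq_id R.hom η[R].left (Over.w η[R])
      have h := η[R].left.isClosedEmbedding.isClosed_range
      have e0 : Set.range η[R].left = {e} := Set.eq_singleton_iff_unique_mem.2 ⟨⟨_, rfl⟩, by
        rintro _ ⟨z, rfl⟩
        exact congrArg η[R].left (Subsingleton.elim (α := PrimeSpectrum k) _ _)⟩
      rwa [e0] at h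
    obtain ⟨θ, -, -, hθ⟩ := AbVarLib.exists_translate (𝟙 R) x e hxc he
    have hmem : ∀ i, θ.hom (s i) ∈ Set.range u.left := fun i => by
      have h1 : s i ⤳ x := (Scheme.le_iff_specializes.1 (s.monotone (Fin.zero_le i))).trans
        (specializes_iff_mem_closure.2 hx)
      refine ((h1.map θ.hom.continuous).mem_open u.left.isOpenEmbedding.isOpen_range ?_)
      rw [hθ]
      exact ⟨η[C].left (IsLocalRing.closedPoint k), by rw [← Scheme.Hom.comp_apply, ← Over.comp_left, IsMonHom.one_hom]⟩
    choose c hc using hmem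
    have hθi := θ.hom.homeomorph.isInducing
    refine le_iSup_of_le (⟨s.length, c, fun i => ⟨?_, fun h' => (s.step i).2 ?_⟩⟩ : LTSeries ↥C.left) le_rfl
    · refine hind.specializes_iff.1 ?_
      rw [hc, hc]
      exact (Scheme.le_iff_specializes.1 (s.step i).1).map θ.hom.continuous
    · have h'' := (show _ ⤳ _ from h').map u.left.continuous
      rw [hc, hc] at h''
      exact Scheme.le_iff_specializes.2 (hθi.specializes_iff.1 h'')

/-- The linear part of a normal subgroup. -/
theorem main {G : Over (Spec (CommRingCat.of k))} [GrpObj G] [Smooth G.hom] [QuasiCompact G.hom]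
    {K : Over (Spec (CommRingCat.of k))} [GrpObj K] [QuasiCompact K.hom] [LocallyOfFiniteType K.hom]
    (j : K ⟶ G) [IsMonHom j] [IsClosedImmersion j.left] (hK : AlgGrp.IsNormalHom j)
    (N : Over (Spec (CommRingCat.of k))) [GrpObj N] (i : N ⟶ G) [IsMonHom i] [IsClosedImmersion i.left]
    [Smooth N.hom] [ConnectedSpace ↥N.left] [IsAffine N.left] (hN : AlgGrp.IsNormalHom i)
    (hNmax : (∀ (N' : Over (Spec (CommRingCat.of k))) [GrpObj N'] (i' : N' ⟶ G) [IsMonHom i'] [IsClosedImmersion i'.left]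
      [Smooth N'.hom] [ConnectedSpace ↥N'.left] [IsAffine N'.left], AlgGrp.IsNormalHom i' → ∃ f : N' ⟶ N, f ≫ i = i'))
    (NK : Over (Spec (CommRingCat.of k))) [GrpObj NK] (iK : NK ⟶ K) [IsMonHom iK] [IsClosedImmersion iK.left]
    [Smooth NK.hom] [ConnectedSpace ↥NK.left] [IsAffine NK.left] (hNK : AlgGrp.IsNormalHom iK)
    (hNKmax : (∀ (N' : Over (Spec (CommRingCat.of k))) [GrpObj N'] (i' : N' ⟶ K) [IsMonHom i'] [IsClosedImmersion i'.left]
      [Smooth N'.hom] [ConnectedSpace ↥N'.left] [IsAffine N'.left], AlgGrp.IsNormalHom i' → ∃ f : N' ⟶ NK, f ≫ iK = i')) :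
    (∃ g : NK ⟶ N, g ≫ i = iK ≫ j) ∧
      topologicalKrullDim ↥NK.left = topologicalKrullDim ↥(pullback j.left i.left) := by
  haveI : Mono j := Over.mono_of_mono_left j
  haveI : Mono i := Over.mono_of_mono_left i
  haveI : Mono iK := Over.mono_of_mono_left iK
  -- conjugation by rational points preserves the linear part
  have hconj : ∀ g₀ : 𝟙_ (Over (Spec (CommRingCat.of k))) ⟶ G, ∃ f : NK ⟶ NK, f ≫ iK ≫ j =
      (toUnit NK ≫ g₀) * (iK ≫ j) * (toUnit NK ≫ g₀)⁻¹ := fun g₀ => by
    obtain ⟨θ, hθ⟩ := hK K (toUnit K ≫ g₀) (𝟙 K)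
    obtain ⟨θ', hθ'⟩ := hK K (toUnit K ≫ g₀⁻¹) (𝟙 K)
    rw [Category.id_comp] at hθ hθ'
    have hpt : ∀ {T : Over (Spec (CommRingCat.of k))} (x : T ⟶ K),
        x ≫ θ ≫ j = (toUnit T ≫ g₀) * (x ≫ j) * (toUnit T ≫ g₀)⁻¹ := fun {T} x => by
      rw [← hθ, MonObj.comp_mul, MonObj.comp_mul, GrpObj.comp_inv, ← Category.assoc,
        toUnit_unique (x ≫ toUnit K) (toUnit T)]
    have hpt' : ∀ {T : Over (Spec (CommRingCat.of k))} (x : T ⟶ K),
        x ≫ θ' ≫ j = (toUnit T ≫ g₀)⁻¹ * (x ≫ j) * (toUnit T ≫ g₀) := fun {T} x => by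
      rw [← hθ', GrpObj.comp_inv (toUnit K) g₀, _root_.inv_inv, MonObj.comp_mul, MonObj.comp_mul, GrpObj.comp_inv,
        ← Category.assoc, toUnit_unique (x ≫ toUnit K) (toUnit T)]
    haveI : IsMonHom θ := SGA3cLib.BCPoints.isMonHom_of_mul θ fun T a b => by
      rw [← cancel_mono j, MonObj.mul_comp _ _ j, Category.assoc, Category.assoc, Category.assoc, hpt, hpt, hpt,
        MonObj.mul_comp a b j]
      simp [_root_.mul_assoc]
    haveI : IsIso θ := ⟨θ', by
      refine ⟨?_, ?_⟩
      · rw [← cancel_mono j, Category.assoc, hpt', hθ.symm, Category.id_comp]; simp [_root_.mul_assoc]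
      · rw [← cancel_mono j, Category.assoc, hpt, hθ'.symm, Category.id_comp, GrpObj.comp_inv]
        simp [_root_.mul_assoc]⟩
    haveI : IsIso θ.left := inferInstanceAs (IsIso ((Over.forget _).map θ))
    haveI : IsClosedImmersion (iK ≫ θ).left := by rw [Over.comp_left]; infer_instance
    obtain ⟨f, hf⟩ := hNKmax NK (iK ≫ θ) fun T x n => by
      obtain ⟨n', hn'⟩ := hNK T (x ≫ inv θ) n
      refine ⟨n', ?_⟩
      rw [← Category.assoc n', ← hn', MonObj.mul_comp _ _ θ, MonObj.mul_comp _ _ θ, GrpObj.inv_comp _ θ,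
        Category.assoc x, IsIso.inv_hom_id, Category.comp_id, Category.assoc n]
    exact ⟨f, by rw [← Category.assoc, hf, Category.assoc, hpt]⟩
  -- the linear part is normal in the group
  have hNKG : AlgGrp.IsNormalHom (iK ≫ j) := fun T g n => by
    obtain ⟨c, hc⟩ := hK (G ⊗ NK) (fst G NK) (snd G NK ≫ iK)
    haveI : Smooth (G ⊗ NK).hom := inferInstanceAs (Smooth (pullback.fst G.hom NK.hom ≫ G.hom))
    haveI : IsReduced (G ⊗ NK).left := AbSchLib.isReduced_of_smooth (G ⊗ NK).hom
    let e : 𝟙_ (Over (Spec (CommRingCat.of k))) ≅ PointsDense.spK k k :=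
      Over.isoMk (Iso.refl _) (by
        show 𝟙 _ ≫ Spec.map (CommRingCat.ofHom (algebraMap k k)) = 𝟙 _
        rw [Category.id_comp, show CommRingCat.ofHom (algebraMap k k) = 𝟙 (CommRingCat.of k) from rfl, Spec.map_id])
    obtain ⟨l, hl⟩ := PointsDense.exists_factor_of_points_algClosed k k c iK fun x => by
      obtain ⟨f, hf⟩ := hconj (e.hom ≫ x ≫ fst G NK)
      refine ⟨x ≫ snd G NK ≫ f, ?_⟩
      have ht : x ≫ snd G NK ≫ toUnit NK ≫ e.hom ≫ x ≫ fst G NK = x ≫ fst G NK := by
        rw [← Category.assoc (snd G NK), ← Category.assoc x, toUnit_unique (x ≫ snd G NK ≫ toUnit NK) e.inv,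
          ← Category.assoc e.inv, e.inv_hom_id, Category.id_comp]
      rw [← cancel_mono j]
      simp only [Category.assoc]
      rw [hf, ← hc]
      simp only [MonObj.comp_mul, GrpObj.comp_inv, Category.assoc, ht]
    refine ⟨lift g n ≫ l, ?_⟩
    have h := congrArg (lift g n ≫ ·) hc
    simp only [MonObj.comp_mul, GrpObj.comp_inv, lift_fst, Category.assoc, lift_snd_assoc] at h
    rw [h, ← hl]
    simp only [Category.assoc]
  haveI : IsClosedImmersion (iK ≫ j).left := by rw [Over.comp_left]; infer_instance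
  obtain ⟨g, hg⟩ := hNmax NK (iK ≫ j) hNKG
  refine ⟨⟨g, hg⟩, ?_⟩
  let W : Over (Spec (CommRingCat.of k)) := pullback j i
  let w₁ : W ⟶ K := pullback.fst j i
  let w₂ : W ⟶ N := pullback.snd j i
  have hsqW := (IsPullback.of_hasPullback j i).map (Over.forget (Spec (CommRingCat.of k)))
  haveI : IsClosedImmersion w₁.left := MorphismProperty.of_isPullback hsqW.flip ‹IsClosedImmersion i.left›
  haveI : IsClosedImmersion w₂.left := MorphismProperty.of_isPullback hsqW ‹IsClosedImmersion j.left›
  haveI : Mono w₁ := Over.mono_of_mono_left w₁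
  have hwc : w₁ ≫ j = w₂ ≫ i := pullback.condition
  obtain ⟨gW, hw₁⟩ : ∃ _ : GrpObj W, IsMonHom w₁ := by
    refine exists_grpObj_of_mono w₁ ⟨pullback.lift 1 1 (by rw [MonObj.one_comp, MonObj.one_comp]), pullback.lift_fst _ _ _⟩
      ⟨pullback.lift ((fst W W ≫ w₁) * (snd W W ≫ w₁)) ((fst W W ≫ w₂) * (snd W W ≫ w₂)) ?_, pullback.lift_fst _ _ _⟩
      ⟨pullback.lift w₁⁻¹ w₂⁻¹ ?_, pullback.lift_fst _ _ _⟩
    · simp only [MonObj.mul_comp, Category.assoc, hwc]
    · rw [GrpObj.inv_comp _ j, GrpObj.inv_comp _ i, hwc]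
  letI := gW
  haveI := hw₁
  haveI : IsClosedImmersion (w₁ ≫ j).left := by rw [Over.comp_left]; infer_instance
  have hWn : AlgGrp.IsNormalHom (w₁ ≫ j) := fun T g x => by
    obtain ⟨a, ha⟩ := hK T g (x ≫ w₁)
    obtain ⟨b, hb⟩ := hN T g (x ≫ w₂)
    simp only [Category.assoc] at ha hb
    rw [← hwc] at hb
    exact ⟨pullback.lift a b (ha.symm.trans hb), ha.trans (by rw [← Category.assoc, pullback.lift_fst])⟩
  haveI : LocallyOfFiniteType W.hom := by rw [← Over.w w₁]; infer_instance
  haveI : QuasiCompact W.hom := by rw [← Over.w w₁]; infer_instance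
  haveI : IsAffine W.left := isAffine_of_isAffineHom w₂.left
  obtain ⟨R, gR, r, hr, hrc, hRs, hrsur, hfac⟩ := AbelianComplement.exists_smooth_reduction W
  letI := gR
  haveI := hr
  haveI := hrc
  haveI := hRs
  haveI : QuasiCompact R.hom := by rw [← Over.w r]; infer_instance
  haveI : Mono r := Over.mono_of_mono_left r
  haveI : IsClosedImmersion (r ≫ w₁ ≫ j).left := by rw [Over.comp_left]; infer_instance
  haveI : Mono (r ≫ w₁ ≫ j) := Over.mono_of_mono_left _
  obtain ⟨C, gC, u, hu, huc, huo, hC, hCc, hCn⟩ := AbelianComplement.exists_component (r ≫ w₁ ≫ j)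
    (AbelianComplement.isNormalHom_reduction (w₁ ≫ j) hWn r hfac)
  letI := gC
  haveI := hu
  haveI := huc
  haveI := huo
  haveI := hC
  haveI := hCc
  let c₁ : C ⟶ K := u ≫ r ≫ w₁
  haveI : IsClosedImmersion c₁.left := by
    show IsClosedImmersion (u ≫ r ≫ w₁).left
    rw [Over.comp_left, Over.comp_left]; infer_instance
  haveI : IsAffine C.left := by
    haveI : IsAffineHom (u ≫ r).left := by rw [Over.comp_left]; infer_instance
    exact isAffine_of_isAffineHom (u ≫ r).left
  obtain ⟨f, hf⟩ := hNKmax C c₁ fun T x n => by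
    obtain ⟨n', hn'⟩ := hCn T (x ≫ j) n
    refine ⟨n', ?_⟩
    rw [← cancel_mono j, MonObj.mul_comp _ _ j, MonObj.mul_comp _ _ j, GrpObj.inv_comp _ j]
    simpa [c₁, Category.assoc] using hn'
  let v : NK ⟶ W := pullback.lift iK g hg.symm
  obtain ⟨v', hv'⟩ := by
    haveI : IsReduced NK.left := AbSchLib.isReduced_of_smooth NK.hom
    exact hfac NK v
  have h1 : f ≫ v' = u := by
    rw [← cancel_mono r, Category.assoc, hv', ← cancel_mono w₁, Category.assoc,
      show v ≫ w₁ = iK from pullback.lift_fst _ _ _, hf, Category.assoc]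
  haveI : IsClosedImmersion v'.left := by
    haveI : IsClosedImmersion (v'.left ≫ (r ≫ w₁).left) := by
      rw [← Over.comp_left, ← Category.assoc, hv', show v ≫ w₁ = iK from pullback.lift_fst _ _ _]
      infer_instance
    exact IsClosedImmersion.of_comp v'.left (r ≫ w₁).left
  haveI : IsClosedImmersion f.left := by
    haveI : IsClosedImmersion (f.left ≫ v'.left) := by rw [← Over.comp_left, h1]; infer_instance
    exact IsClosedImmersion.of_comp f.left v'.left
  have hdle : topologicalKrullDim ↥NK.left ≤ topologicalKrullDim ↥R.left :=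
    v'.left.isClosedEmbedding.isInducing.topologicalKrullDim_le
  have hdge : topologicalKrullDim ↥C.left ≤ topologicalKrullDim ↥NK.left :=
    f.left.isClosedEmbedding.isInducing.topologicalKrullDim_le
  rw [dim_openSubgroup u] at hdge
  rw [le_antisymm hdle hdge]
  have e := hsqW.isoPullback
  exact (IsHomeomorph.topologicalKrullDim_eq _ (r.left.isClosedEmbedding.isEmbedding.toHomeomorphOfSurjective
    hrsur.surj).isHomeomorph).trans (IsHomeomorph.topologicalKrullDim_eq _ e.hom.homeomorph.isHomeomorph)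

end Groth.Agent.AlgGrpLib.LinearPartInter
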