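import Groth.Agent.FppfTriv8.Descent
import Groth.Agent.AlgGrpLib.UnitsOnProducts
import Groth.Agent.ThetaLib.Normalized
import Groth.Agent.AbVarLib.AlgClosedIntegral
import Groth.Agent.SGA3cLib.Irreducible
import Groth.Prelude.Def_AlgGrp

/-!
# Linearisation of `σ^* L ≅ p₂^* L` and descent along a principal bundle

For a connected group and an integral variety, an isomorphism `p₂^* L ≅ σ^* L` normalised along the unit satisfies
the cocycle identity (Rosenlicht), hence `L` descends along a principal bundle.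
-/

set_option autoImplicit false
set_option linter.style.haveILetI false
set_option backward.isDefEq.respectTransparency.types false
set_option maxHeartbeats 1600000

universe u

open CategoryTheory CategoryTheory.Limits MonoidalCategory CartesianMonoidalCategory MonObj AlgebraicGeometry
open Pseudofunctor Bicategory
open Groth.Agent.RigDesc27
open Groth.Agent.ThetaLib (modObj)
open AlgGrp

namespace Groth.Agent.AlgGrpLib.LinearisationDescent

variable {k : Type u} [Field k] [IsAlgClosed k]

theorem act_mul' {G X : Over (Spec (CommRingCat.of k))} [GrpObj G] (a : AlgGrp.Action G X)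
    {T : Over (Spec (CommRingCat.of k))} (p q : T ⟶ G) (x : T ⟶ X) :
    lift (p * q) x ≫ a.act = lift p (lift q x ≫ a.act) ≫ a.act := by
  have h := congrArg (lift (lift p q) x ≫ ·) a.mul_act
  simp only [lift_whiskerRight_assoc, lift_lift_associator_hom_assoc, lift_whiskerLeft_assoc] at h
  rw [Hom.mul_def]
  exact h

theorem act_one' {G X : Over (Spec (CommRingCat.of k))} [GrpObj G] (a : AlgGrp.Action G X)
    {T : Over (Spec (CommRingCat.of k))} (x : T ⟶ X) : lift 1 x ≫ a.act = x := by
  have h := congrArg (lift (toUnit T) x ≫ ·) a.one_act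
  simp only [lift_whiskerRight_assoc] at h
  rw [Hom.one_def]
  exact h.trans (by simp)

/-- An invertible module with `p₂^* L ≅ σ^* L` descends along a principal bundle. -/
theorem exists_descent (G X Y : Over (Spec (CommRingCat.of k))) [GrpObj G] [Smooth G.hom] [QuasiCompact G.hom]
    [ConnectedSpace ↥G.left] [IsIntegral X.left] [LocallyOfFiniteType X.hom] [QuasiCompact X.hom]
    [LocallyOfFiniteType Y.hom] (a : AlgGrp.Action G X) (f : X ⟶ Y) [Flat f.left] [Surjective f.left]
    (hsq : IsPullback a.act.left (snd G X).left f.left f.left)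
    (L : X.left.Modules) (hL : PicF.IsInvertible L)
    (φ : (Scheme.Modules.pullback (snd G X).left).obj L ≅ (Scheme.Modules.pullback a.act.left).obj L) :
    ∃ N : Y.left.Modules, PicF.IsInvertible N ∧ Nonempty ((Scheme.Modules.pullback f.left).obj N ≅ L) := by
  classical
  haveI : IsReduced G.left := WeilLib.isReduced_of_smooth G.hom
  haveI : IrreducibleSpace G.left := Groth.Agent.SGA3cLib.irreducibleSpace_of_connected G
  haveI : IsIntegral G.left := isIntegral_of_irreducibleSpace_of_isReduced _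
  haveI : GeometricallyIntegral X.hom := AbVarLib.geometricallyIntegral_of_isAlgClosed X.hom
  haveI : IsLocallyNoetherian G.left := LocallyOfFiniteType.isLocallyNoetherian G.hom
  haveI : IsIntegral (G ⊗ X).left := inferInstanceAs (IsIntegral (pullback G.hom X.hom))
  haveI : LocallyOfFiniteType (G ⊗ X).hom :=
    inferInstanceAs (LocallyOfFiniteType (pullback.fst G.hom X.hom ≫ G.hom))
  haveI : QuasiCompact (G ⊗ X).hom := inferInstanceAs (QuasiCompact (pullback.fst G.hom X.hom ≫ G.hom))
  haveI : IsLocallyNoetherian Y.left := LocallyOfFiniteType.isLocallyNoetherian Y.hom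
  haveI : LocallyOfFiniteType (f.left ≫ Y.hom) := by rw [Over.w f]; infer_instance
  haveI : LocallyOfFiniteType f.left := locallyOfFiniteType_of_comp f.left Y.hom
  haveI : LocallyOfFinitePresentation f.left := inferInstance
  let pX : G ⊗ X ⟶ X := snd G X
  let sec : X ⟶ G ⊗ X := lift 1 (𝟙 X)
  have hsecσ : sec ≫ a.act = 𝟙 X := act_one' a (𝟙 X)
  have hsecp : sec ≫ pX = 𝟙 X := lift_snd _ _
  -- the cartesian lift of `sec` and the normalised comparison
  obtain ⟨e, heb, he⟩ := ThetaLib.exists_lift_of_fiber (cart L pX.left) (𝟙 (modObj L)) sec.left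
    (congrArg CommaMorphism.left hsecp).symm
  haveI hei : IsIso e.fiber := ThetaLib.isIso_fiber_of_comp _ (cart L pX.left) (by
    rw [he]; exact ThetaLib.isIso_fiber (Iso.refl _))
  let Φ₀ : dom L pX.left ⟶ modObj L := vert φ.hom ≫ cart L a.act.left
  have hΦ₀b : Φ₀.base = a.act.left := Category.id_comp _
  haveI : IsIso Φ₀.fiber := by
    haveI := isIso_vert_fiber φ
    exact @ThetaLib.isIso_comp_fiber _ _ ThetaGrp.modPF.{u} _ _ _ (vert φ.hom) (cart L a.act.left)
      (isIso_vert_fiber φ) (isIso_cart_fiber L a.act.left)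
  have hb0 : (e ≫ Φ₀).base = 𝟙 X.left := by
    rw [CoGrothendieck.categoryStruct_comp_base, heb, hΦ₀b]
    exact congrArg CommaMorphism.left hsecσ
  obtain ⟨r, hr⟩ := ThetaLib.exists_eq_scal (a := modObj L) hL (e ≫ Φ₀) hb0
  haveI : IsIso (e ≫ Φ₀).fiber := ThetaLib.isIso_comp_fiber _ _
  obtain ⟨χ, hχb, hχ⟩ := ThetaLib.exists_lift_of_fiber (e ≫ Φ₀) (𝟙 (modObj L)) (𝟙 X.left)
    (by rw [hb0]; exact (Category.id_comp _).symm)
  obtain ⟨r', rfl⟩ := ThetaLib.exists_eq_scal (a := modObj L) hL χ hχb
  have hrr : r * r' = 1 := by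
    refine ThetaLib.scal_injective (a := modObj L) hL ?_
    rw [← ThetaLib.scal_mul, ← hr, hχ, ThetaLib.scal_one]
  let Φ : dom L pX.left ⟶ modObj L := ThetaLib.scal (dom L pX.left) (pX.left.appTop r') ≫ Φ₀
  have hΦb : Φ.base = a.act.left := (Category.id_comp _).trans hΦ₀b
  haveI hΦi : IsIso Φ.fiber := by
    haveI : IsIso (ThetaLib.scal (dom L pX.left) (pX.left.appTop r')).fiber :=
      ThetaLib.isIso_fiber ⟨ThetaLib.scal (dom L pX.left) (pX.left.appTop r'),
        ThetaLib.scal (dom L pX.left) (pX.left.appTop r),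
        by rw [ThetaLib.scal_mul, ← map_mul, hrr, map_one, ThetaLib.scal_one],
        by rw [ThetaLib.scal_mul, ← map_mul, mul_comm, hrr, map_one, ThetaLib.scal_one]⟩
    exact ThetaLib.isIso_comp_fiber _ _
  have heΦ : e ≫ Φ = 𝟙 _ := by
    show e ≫ ThetaLib.scal _ _ ≫ Φ₀ = _
    rw [← Category.assoc, ThetaLib.comp_scal, Category.assoc, hr, ThetaLib.scal_mul, heb]
    rw [show sec.left.appTop (pX.left.appTop r') = r' by
      rw [← AlgGrpLib.appTop_comp, hsecp]; rfl]
    rw [hrr, ThetaLib.scal_one]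
  have uniq : ∀ {o : CoGrothendieck ThetaGrp.modPF.{u}} (χ χ' : o ⟶ dom L pX.left),
      χ.base = χ'.base → χ ≫ cart L pX.left = χ' ≫ cart L pX.left → χ = χ' :=
    fun χ χ' h h' => ThetaLib.hom_ext_of_fiber (cart L pX.left) h h'
  -- the universal triple
  let W := G ⊗ (G ⊗ X)
  let x₁ : W ⟶ X := snd G (G ⊗ X) ≫ pX
  let a12 : W ⟶ G ⊗ X := snd G (G ⊗ X)
  let a23 : W ⟶ G ⊗ X := G ◁ a.act
  let a13 : W ⟶ G ⊗ X := lift (fst G (G ⊗ X) * (snd G (G ⊗ X) ≫ fst G X)) x₁
  have h12 : a12 ≫ pX = x₁ := rfl
  have h13 : a13 ≫ pX = x₁ := lift_snd _ _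
  have h23 : a23 ≫ pX = a12 ≫ a.act := whiskerLeft_snd _ _
  have h33 : a23 ≫ a.act = a13 ≫ a.act := by
    show (G ◁ a.act) ≫ a.act = lift _ _ ≫ a.act
    rw [act_mul', show G ◁ a.act = lift (fst G (G ⊗ X)) (snd G (G ⊗ X) ≫ a.act) from
      hom_ext _ _ (by simp) (by simp)]
    rw [show snd G (G ⊗ X) ≫ a.act = lift (snd G (G ⊗ X) ≫ fst G X) x₁ ≫ a.act by
      rw [← comp_lift, lift_fst_snd, Category.comp_id]]
  obtain ⟨k12, hk12b, hk12⟩ := ThetaLib.exists_lift_of_fiber (cart L pX.left) (cart L x₁.left) a12.left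
    (congrArg CommaMorphism.left h12).symm
  obtain ⟨k13, hk13b, hk13⟩ := ThetaLib.exists_lift_of_fiber (cart L pX.left) (cart L x₁.left) a13.left
    (congrArg CommaMorphism.left h13).symm
  obtain ⟨k23, hk23b, hk23⟩ := ThetaLib.exists_lift_of_fiber (cart L pX.left) (k12 ≫ Φ) a23.left (by
    rw [CoGrothendieck.categoryStruct_comp_base, hk12b, hΦb]
    exact (congrArg CommaMorphism.left h23).symm)
  haveI : IsIso k12.fiber := ThetaLib.isIso_fiber_of_comp _ (cart L pX.left) (by rw [hk12]; infer_instance)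
  haveI : IsIso k13.fiber := ThetaLib.isIso_fiber_of_comp _ (cart L pX.left) (by rw [hk13]; infer_instance)
  haveI : IsIso k23.fiber := ThetaLib.isIso_fiber_of_comp _ (cart L pX.left) (by
    rw [hk23]; exact ThetaLib.isIso_comp_fiber _ _)
  haveI : IsIso (k23 ≫ Φ).fiber := ThetaLib.isIso_comp_fiber _ _
  haveI : IsIso (k13 ≫ Φ).fiber := ThetaLib.isIso_comp_fiber _ _
  have hb33 : (k23 ≫ Φ).base = (k13 ≫ Φ).base := by
    refine Eq.trans (congrArg₂ (fun x y => x ≫ y) hk23b hΦb) (Eq.trans ?_ (congrArg₂ (fun x y => x ≫ y) hk13b hΦb).symm)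
    exact congrArg CommaMorphism.left h33
  have hM : PicF.IsInvertible (dom L x₁.left).fiber := PicLoc.isInvertible_pullback x₁.left hL
  obtain ⟨v, hvb, hv⟩ := ThetaLib.exists_lift_of_fiber (k13 ≫ Φ) (k23 ≫ Φ) (𝟙 _)
    (hb33.trans (Category.id_comp _).symm)
  obtain ⟨c, rfl⟩ := ThetaLib.exists_eq_scal hM v hvb
  obtain ⟨v', hv'b, hv'⟩ := ThetaLib.exists_lift_of_fiber (k23 ≫ Φ) (k13 ≫ Φ) (𝟙 _)
    (hb33.symm.trans (Category.id_comp _).symm)
  obtain ⟨c', rfl⟩ := ThetaLib.exists_eq_scal hM v' hv'b
  have hcu : IsUnit c := IsUnit.of_mul_eq_one c' (by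
    refine ThetaLib.scal_injective hM (ThetaLib.hom_ext_of_fiber (k13 ≫ Φ) rfl ?_)
    rw [← ThetaLib.scal_mul, Category.assoc, hv, hv', ThetaLib.scal_one, Category.id_comp])
  have haxis : ∀ {T : Over (Spec (CommRingCat.of k))} (t : T ⟶ W),
      (t ≫ fst G (G ⊗ X) = 1 ∨ t ≫ snd G (G ⊗ X) ≫ fst G X = 1) → t.left.appTop c = 1 := by
    intro T t ht
    obtain ⟨q, hqb, hq⟩ := ThetaLib.exists_lift_of_fiber (cart L x₁.left) (cart L (t ≫ x₁).left) t.left rfl
    haveI : IsIso q.fiber := ThetaLib.isIso_fiber_of_comp _ (cart L x₁.left) (by rw [hq]; infer_instance)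
    have hqe : q ≫ k23 ≫ Φ = q ≫ k13 ≫ Φ := by
      rcases ht with ht | ht
      · have e13 : t ≫ a13 = t ≫ a12 := hom_ext _ _
          (by
            show (t ≫ lift _ _) ≫ fst G X = (t ≫ snd G (G ⊗ X)) ≫ fst G X
            rw [Category.assoc, lift_fst, MonObj.comp_mul, ht, _root_.one_mul, Category.assoc])
          (by rw [Category.assoc, Category.assoc]; exact congrArg (t ≫ ·) (h13.trans h12.symm))
        have e23 : t ≫ a23 = (t ≫ a12 ≫ a.act) ≫ sec := hom_ext _ _
          (by
            show (t ≫ G ◁ a.act) ≫ fst G X = _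
            rw [Category.assoc, whiskerLeft_fst, ht, Category.assoc, lift_fst, MonObj.comp_one])
          (by
            rw [Category.assoc, Category.assoc, show snd G X = pX from rfl, h23, hsecp, Category.comp_id])
        have i13 : q ≫ k13 = q ≫ k12 := uniq _ _
          (by
            rw [CoGrothendieck.categoryStruct_comp_base, CoGrothendieck.categoryStruct_comp_base, hqb, hk13b, hk12b]
            exact congrArg CommaMorphism.left e13)
          (by rw [Category.assoc, Category.assoc, hk13, hk12])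
        have i23 : q ≫ k23 = (q ≫ k12 ≫ Φ) ≫ e := uniq _ _
          (by
            simp only [CoGrothendieck.categoryStruct_comp_base, hqb, hk23b, hk12b, hΦb, heb]
            exact congrArg CommaMorphism.left e23)
          (by rw [Category.assoc, hk23, Category.assoc (q ≫ k12 ≫ Φ), he, Category.comp_id])
        rw [← Category.assoc q k13, i13, ← Category.assoc q k23, i23, Category.assoc, heΦ, Category.comp_id,
          Category.assoc]
      · have e12 : t ≫ a12 = (t ≫ x₁) ≫ sec := hom_ext _ _
          (by rw [Category.assoc, Category.assoc (t ≫ x₁), lift_fst, MonObj.comp_one]; exact ht)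
          (by rw [Category.assoc, Category.assoc (t ≫ x₁), lift_snd, Category.comp_id])
        have i12 : q ≫ k12 = cart L (t ≫ x₁).left ≫ e := uniq _ _
          (by
            simp only [CoGrothendieck.categoryStruct_comp_base, hqb, hk12b, heb]
            exact congrArg CommaMorphism.left e12)
          (by rw [Category.assoc, Category.assoc, hk12, hq, he, Category.comp_id])
        have hσ12 : t ≫ a12 ≫ a.act = t ≫ x₁ := by
          rw [← Category.assoc, e12, Category.assoc, hsecσ, Category.comp_id]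
        have e23 : t ≫ a23 = t ≫ a13 := hom_ext _ _
          (by
            show (t ≫ G ◁ a.act) ≫ fst G X = (t ≫ lift _ _) ≫ fst G X
            rw [Category.assoc, whiskerLeft_fst, Category.assoc, lift_fst, MonObj.comp_mul, ht, _root_.mul_one])
          (by
            rw [Category.assoc, Category.assoc, show snd G X = pX from rfl, h23, hσ12, h13])
        have i23 : q ≫ k23 = q ≫ k13 := uniq _ _
          (by
            simp only [CoGrothendieck.categoryStruct_comp_base, hqb, hk23b, hk13b]
            exact congrArg CommaMorphism.left e23)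
          (by
            rw [Category.assoc, Category.assoc, hk23, hk13, ← Category.assoc q k12 Φ, i12, Category.assoc, heΦ,
              Category.comp_id, hq])
        rw [← Category.assoc q k23 Φ, i23, Category.assoc]
    haveI : IsIso (q ≫ k13 ≫ Φ).fiber := ThetaLib.isIso_comp_fiber _ _
    refine ThetaLib.scal_injective (a := dom L (t ≫ x₁).left) (r := t.left.appTop c) (r' := 1)
      (PicLoc.isInvertible_pullback (t ≫ x₁).left hL)
      (ThetaLib.hom_ext_of_fiber (q ≫ k13 ≫ Φ) ((ThetaLib.scal_base _ _).trans (ThetaLib.scal_base _ _).symm) ?_)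
    rw [ThetaLib.scal_one, Category.id_comp, ← hqb,
      ← Category.assoc _ q (k13 ≫ Φ), ← ThetaLib.comp_scal q c, Category.assoc, hv]
    exact hqe
  obtain ⟨x₀⟩ := AlgGrpLib.exists_point (X := X)
  have hc1 : c = 1 := by
    refine AlgGrpLib.unit_eq_of_axes η[G] (lift (1 : 𝟙_ _ ⟶ G) x₀) hcu isUnit_one ?_ ?_
    · rw [map_one]
      exact haxis _ (Or.inr (by rw [lift_snd_assoc, Category.assoc, lift_fst, MonObj.comp_one]))
    · rw [map_one]
      exact haxis _ (Or.inl (by rw [lift_fst, Hom.one_def]))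
  rw [hc1, ThetaLib.scal_one, Category.id_comp] at hv
  -- the family
  have hj : ∀ ⦃T : Scheme.{u}⦄ (f₁ f₂ : T ⟶ X.left) (h : f₁ ≫ f.left = f₂ ≫ f.left),
      ∃ j : dom L f₁ ⟶ dom L pX.left, j.base = hsq.lift f₂ f₁ h.symm ∧ j ≫ cart L pX.left = cart L f₁ :=
    fun T f₁ f₂ h => ThetaLib.exists_lift_of_fiber (cart L pX.left) (cart L f₁) _ (hsq.lift_snd _ _ _).symm
  choose j hjb hjc using hj
  obtain ⟨N, hN, mu, hmub, hmui, -⟩ := FppfTriv8.exists_descent f.left hL (fun T f₁ f₂ h => j f₁ f₂ h ≫ Φ)
    (fun T f₁ f₂ h => by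
      rw [CoGrothendieck.categoryStruct_comp_base, hjb, hΦb]
      exact hsq.lift_fst _ _ _)
    (fun T T' g f₁ f₂ h h' => by
      rw [← Category.assoc]
      refine congrArg (· ≫ Φ) (uniq _ _ ?_ ?_)
      · rw [CoGrothendieck.categoryStruct_comp_base, hjb, hjb]
        apply hsq.hom_ext
        · rw [Category.assoc, hsq.lift_fst, hsq.lift_fst]
        · rw [Category.assoc, hsq.lift_snd, hsq.lift_snd]
      · exact (Category.assoc _ _ _).trans ((congrArg (ThetaLib.pullMap (F := ThetaGrp.modPF.{u}) L f₁ g ≫ ·)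
          (hjc f₁ f₂ h)).trans ((ThetaLib.pullMap_comp_cart (F := ThetaGrp.modPF.{u}) L f₁ g).trans (hjc _ _ h').symm)))
    (fun T p h => by
      rw [show j p p h = cart L p ≫ e from uniq _ _
        (by
          rw [CoGrothendieck.categoryStruct_comp_base, hjb, heb]
          show _ = p ≫ sec.left
          apply hsq.hom_ext
          · rw [hsq.lift_fst, Category.assoc, ← Over.comp_left, hsecσ]; exact (Category.comp_id _).symm
          · rw [hsq.lift_snd, Category.assoc, ← Over.comp_left, hsecp]; exact (Category.comp_id _).symm)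
        (by rw [Category.assoc, hjc, he, Category.comp_id]), Category.assoc, heΦ, Category.comp_id])
    (fun T f₁ f₂ f₃ h₁₂ h₂₃ h₁₃ ψ hψ => by
      set s12 := hsq.lift f₂ f₁ h₁₂.symm with hs12
      set s23 := hsq.lift f₃ f₂ h₂₃.symm with hs23
      let w : T ⟶ W.left := pullback.lift (s23 ≫ (fst G X).left) s12 (by
        have hXf : ∀ p : T ⟶ X.left, p ≫ X.hom = (p ≫ f.left) ≫ Y.hom := fun p => by
          rw [Category.assoc, Over.w f]
        have e1 : (fst G X).left ≫ G.hom = pX.left ≫ X.hom := (Over.w (fst G X)).trans (Over.w pX).symm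
        rw [Category.assoc, e1, ← Category.assoc, hsq.lift_snd, ← Over.w pX, ← Category.assoc, hsq.lift_snd,
          hXf, hXf, h₁₂])
      have hw12 : w ≫ a12.left = s12 := pullback.lift_snd _ _ _
      have hw23 : w ≫ a23.left = s23 := by
        apply pullback.hom_ext
        · show (w ≫ a23.left) ≫ (fst G X).left = s23 ≫ (fst G X).left
          rw [Category.assoc, ← Over.comp_left, show a23 ≫ fst G X = fst G (G ⊗ X) from whiskerLeft_fst _ _]
          exact pullback.lift_fst _ _ _
        · show (w ≫ a23.left) ≫ (snd G X).left = s23 ≫ (snd G X).left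
          rw [Category.assoc, ← Over.comp_left, show a23 ≫ snd G X = a12 ≫ a.act from h23, Over.comp_left,
            ← Category.assoc, hw12, hsq.lift_fst, hsq.lift_snd]
      have hwx : w ≫ x₁.left = f₁ := by
        rw [← h12, Over.comp_left, ← Category.assoc, hw12]; exact hsq.lift_snd _ _ _
      have hw13 : w ≫ a13.left = hsq.lift f₃ f₁ h₁₃.symm := by
        apply hsq.hom_ext
        · rw [Category.assoc, ← Over.comp_left, ← h33, Over.comp_left, ← Category.assoc, hw23, hsq.lift_fst,
            hsq.lift_fst]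
        · rw [Category.assoc, ← Over.comp_left, show a13 ≫ snd G X = x₁ from h13, hwx, hsq.lift_snd]
      obtain ⟨q, hqb, hq⟩ := ThetaLib.exists_lift_of_fiber (cart L x₁.left) (cart L f₁) w hwx.symm
      have i12 : q ≫ k12 = j f₁ f₂ h₁₂ := uniq _ _
        (by rw [CoGrothendieck.categoryStruct_comp_base, hqb, hk12b, hjb]; exact hw12)
        (by rw [Category.assoc, hk12, hq, hjc])
      have i13 : q ≫ k13 = j f₁ f₃ h₁₃ := uniq _ _
        (by rw [CoGrothendieck.categoryStruct_comp_base, hqb, hk13b, hjb]; exact hw13)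
        (by rw [Category.assoc, hk13, hq, hjc])
      have i23 : q ≫ k23 = vert ψ ≫ j f₂ f₃ h₂₃ := uniq _ _
        (by
          rw [CoGrothendieck.categoryStruct_comp_base, CoGrothendieck.categoryStruct_comp_base, hqb, hk23b, hjb]
          exact hw23.trans (Category.id_comp _).symm)
        (by rw [Category.assoc, hk23, Category.assoc, hjc, ← Category.assoc, i12]; exact hψ.symm)
      rw [← Category.assoc, ← i23, Category.assoc, ← hv, ← Category.assoc, i13])
  obtain ⟨b, α⟩ := mu
  subst hmub
  haveI : IsIso α := hmui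
  exact ⟨N, hN, ⟨(asIso α).symm⟩⟩

end Groth.Agent.AlgGrpLib.LinearisationDescent
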