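import Mathlib.RingTheory.PicardGroup
import Mathlib.RingTheory.Localization.LocalizationLocalization
import Mathlib.RingTheory.UniqueFactorizationDomain.Basic
import Mathlib.RingTheory.Ideal.MinimalPrime.Noetherian
import Mathlib.RingTheory.Polynomial.Quotient
import Mathlib.RingTheory.MvPolynomial.Localization
import Mathlib.RingTheory.Polynomial.UniqueFactorization

/-!
# Picard groups of locally factorial Noetherian domains

Classes are products of classes of invertible primes.
-/

set_option autoImplicit false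
set_option linter.style.haveILetI false

universe u

open TensorProduct

noncomputable section

namespace Groth.Agent.AlgGrpLib.LocFactorial

variable {R : Type u} [CommRing R]

/-- A divisor of a principal ideal generated by a non-zero element. -/
def Inv (I : Ideal R) : Prop := ∃ (J : Ideal R) (a : R), a ≠ 0 ∧ I * J = Ideal.span {a}

theorem inv_span {a : R} (ha : a ≠ 0) : Inv (Ideal.span {a}) := ⟨⊤, a, ha, Ideal.mul_top _⟩

theorem Inv.map {S : Type u} [CommRing S] (φ : R →+* S) (hφ : Function.Injective φ) {I : Ideal R} (h : Inv I) :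
    Inv (I.map φ) := by
  obtain ⟨J, a, ha, hIJ⟩ := h
  refine ⟨J.map φ, φ a, fun h0 => ha (hφ (h0.trans (map_zero φ).symm)), ?_⟩
  rw [← Ideal.map_mul, hIJ, Ideal.map_span, Set.image_singleton]

/-- An ideal membership is local. -/
theorem mem_of_forall_maximal {I : Ideal R} {a : R} (h : ∀ m : Ideal R, m.IsMaximal → ∃ t ∉ m, t * a ∈ I) :
    a ∈ I := by
  by_contra ha
  let C : Ideal R :=
    { carrier := {t | t * a ∈ I}
      add_mem' := fun {s t} hs ht => by
        show (s + t) * a ∈ I
        rw [add_mul]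
        exact I.add_mem hs ht
      zero_mem' := by simp
      smul_mem' := fun c t ht => by
        show c * t * a ∈ I
        rw [mul_assoc]
        exact I.mul_mem_left c ht }
  have hC : C ≠ ⊤ := fun htop => ha (by
    have h1 : (1 : R) ∈ C := htop ▸ Submodule.mem_top
    change (1 : R) * a ∈ I at h1
    rwa [one_mul] at h1)
  obtain ⟨m, hm, hle⟩ := Ideal.exists_le_maximal C hC
  obtain ⟨t, htm, ht⟩ := h m hm
  exact htm (hle ht)

variable (R) in
/-- All local rings are factorial. -/
def LocUFD [IsDomain R] : Prop :=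
  ∀ (m : Ideal R) [m.IsPrime], UniqueFactorizationMonoid (Localization.AtPrime m)

variable [IsDomain R]

theorem Inv.cancel {I A B : Ideal R} (h : Inv I) (hAB : I * A = I * B) : A = B := by
  obtain ⟨J, a, ha, hIJ⟩ := h
  refine (Ideal.span_singleton_mul_right_inj ha).1 ?_
  rw [← hIJ, mul_comm I J, mul_assoc, mul_assoc, hAB]

theorem Inv.mul {I I' : Ideal R} (h : Inv I) (h' : Inv I') : Inv (I * I') := by
  obtain ⟨J, a, ha, hIJ⟩ := h
  obtain ⟨J', a', ha', hIJ'⟩ := h'
  refine ⟨J * J', a * a', mul_ne_zero ha ha', ?_⟩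
  rw [mul_mul_mul_comm, hIJ, hIJ', Ideal.span_singleton_mul_span_singleton]

/-- An invertible ideal is locally generated by one element. -/
theorem Inv.exists_local {I : Ideal R} (h : Inv I) (m : Ideal R) [hm : m.IsPrime] :
    ∃ i ∈ I, ∃ c ∉ m, ∀ y ∈ I, c * y ∈ Ideal.span {i} := by
  obtain ⟨J, a, ha, hIJ⟩ := h
  by_contra hcon
  push Not at hcon
  have hbad : ∀ z ∈ I * J, ∃ c ∈ m, z = a * c := by
    intro z hz
    induction hz using Submodule.mul_induction_on' with
    | mem_mul_mem i hi j hj =>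
      obtain ⟨c, hc⟩ := Ideal.mem_span_singleton'.1 (hIJ ▸ Ideal.mul_mem_mul hi hj)
      refine ⟨c, ?_, by rw [← hc, mul_comm]⟩
      by_contra hcm
      obtain ⟨y, hy, hy'⟩ := hcon i hi c hcm
      refine hy' (Ideal.mem_span_singleton'.2 ?_)
      obtain ⟨d, hd⟩ := Ideal.mem_span_singleton'.1 (hIJ ▸ Ideal.mul_mem_mul hy hj)
      refine ⟨d, mul_left_cancel₀ ha ?_⟩
      linear_combination i * hd - y * hc
    | add x _ y _ hx hy =>
      obtain ⟨c, hc, rfl⟩ := hx
      obtain ⟨d, hd, rfl⟩ := hy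
      exact ⟨c + d, m.add_mem hc hd, (mul_add a c d).symm⟩
  obtain ⟨c, hc, hac⟩ := hbad a (hIJ ▸ Ideal.mem_span_singleton_self a)
  have h1 : c = 1 := mul_left_cancel₀ ha (hac.symm.trans (mul_one a).symm)
  exact hm.ne_top ((Ideal.eq_top_iff_one m).2 (h1 ▸ hc))

theorem Inv.ne_bot {I : Ideal R} (h : Inv I) : I ≠ ⊥ := by
  rintro rfl
  obtain ⟨J, a, ha, hIJ⟩ := h
  rw [Ideal.bot_mul, eq_comm, Ideal.span_singleton_eq_bot] at hIJ
  exact ha hIJ

theorem Inv.not_prime_lt {Q Q' : Ideal R} (hQ : Inv Q) (hQp : Q.IsPrime) (hQ' : Inv Q') (hQ'p : Q'.IsPrime)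
    (hle : Q' ≤ Q) : Q' = Q := by
  by_contra hne
  obtain ⟨J, a, ha, hIJ⟩ := hQ
  -- `Q' = Q I'` with `I' = J Q' / a`
  let I' : Ideal R :=
    { carrier := {c | a * c ∈ Q' * J}
      add_mem' := fun {s t} hs ht => by
        show a * (s + t) ∈ Q' * J
        rw [mul_add]
        exact Ideal.add_mem _ hs ht
      zero_mem' := by simp
      smul_mem' := fun c t ht => by
        show a * (c * t) ∈ Q' * J
        rw [mul_left_comm]
        exact Ideal.mul_mem_left _ c ht }
  have hI' : Q * I' = Q' := by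
    refine (Ideal.span_singleton_mul_right_inj ha).1 ?_
    have h1 : Ideal.span {a} * I' = Q' * J := by
      refine le_antisymm ?_ fun z hz => ?_
      · rw [Ideal.span_singleton_mul_le_iff]
        exact fun c hc => hc
      · obtain ⟨c, rfl⟩ := Ideal.mem_span_singleton'.1 (hIJ ▸ Ideal.mul_mono_left hle hz)
        rw [mul_comm c a] at hz ⊢
        exact Ideal.mul_mem_mul (Ideal.mem_span_singleton_self a) hz
    rw [mul_left_comm, h1, ← hIJ]
    ring
  have h2 : I' ≤ Q' := by
    rcases (Ideal.IsPrime.mul_le hQ'p).1 hI'.le with h | h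
    · exact absurd (le_antisymm hle h) hne
    · exact h
  have h3 : Q' * ⊤ = Q' * Q := by
    rw [Ideal.mul_top]
    refine le_antisymm ?_ Ideal.mul_le_left
    calc Q' = Q * I' := hI'.symm
      _ ≤ Q * Q' := Ideal.mul_mono_right h2
      _ = Q' * Q := mul_comm _ _
  exact hQp.ne_top (hQ'.cancel h3).symm

variable (hR : LocUFD R)
include hR

/-- A minimal prime over an invertible ideal is invertible. -/
theorem inv_of_minimal [IsNoetherianRing R] {I : Ideal R} (hI : Inv I) {Q : Ideal R} (hQ : Q ∈ I.minimalPrimes) :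
    Inv Q := by
  classical
  haveI : Q.IsPrime := hQ.1.1
  obtain ⟨a, haI, ha⟩ := Submodule.exists_mem_ne_zero_of_ne_bot hI.ne_bot
  have haQ : a ∈ Q := hQ.1.2 haI
  -- locally generated by one element
  have hloc : ∀ m : Ideal R, m.IsMaximal → ∃ q ∈ Q, ∃ t ∉ m, ∀ x ∈ Q, t * x ∈ Ideal.span {q} := by
    intro m hm
    by_cases hQm : Q ≤ m
    swap
    · obtain ⟨q, hq, hqm⟩ := SetLike.not_le_iff_exists.1 hQm
      exact ⟨q, hq, q, hqm, fun x _ => Ideal.mem_span_singleton'.2 ⟨x, mul_comm x q⟩⟩
    haveI := hm.isPrime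
    haveI := hR m
    let S := Localization.AtPrime m
    obtain ⟨i, hi, c, hcm, hc⟩ := hI.exists_local m
    let P : Ideal S := Q.map (algebraMap R S)
    have hdisj : Disjoint (m.primeCompl : Set R) Q := Set.disjoint_left.2 fun x hx hxQ => hx (hQm hxQ)
    haveI : P.IsPrime := IsLocalization.isPrime_of_isPrime_disjoint m.primeCompl S Q ‹_› hdisj
    have hcomap : P.comap (algebraMap R S) = Q :=
      IsLocalization.under_map_of_isPrime_disjoint m.primeCompl S ‹_› hdisj
    have hiP : algebraMap R S i ∈ P := Ideal.mem_map_of_mem _ (hQ.1.2 hi)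
    have hi0 : i ≠ 0 := by
      rintro rfl
      obtain ⟨d, hd⟩ := Ideal.mem_span_singleton'.1 (hc a haI)
      rw [mul_zero, eq_comm, mul_eq_zero] at hd
      rcases hd with hd | hd
      · exact hcm (hd ▸ m.zero_mem)
      · exact ha hd
    have hiS : algebraMap R S i ≠ 0 := fun h0 =>
      hi0 (IsLocalization.injective S m.primeCompl_le_nonZeroDivisors (h0.trans (map_zero _).symm))
    have hPbot : P ≠ ⊥ := fun h0 => hiS (by rwa [h0, Ideal.mem_bot] at hiP)
    -- a prime element of `P` dividing the generator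
    obtain ⟨f, hf⟩ := UniqueFactorizationMonoid.exists_prime_factors (algebraMap R S i) hiS
    obtain ⟨w, hw⟩ := hf.2
    have hprod : f.prod ∈ P := by
      rcases (‹P.IsPrime›).mem_or_mem (show f.prod * w ∈ P by rw [hw]; exact hiP) with h | h
      · exact h
      · exact absurd (P.eq_top_of_isUnit_mem h w.isUnit) (‹P.IsPrime›).ne_top
    obtain ⟨p, hpf, hpP⟩ : ∃ p ∈ f, p ∈ P := by
      have : ∀ g : Multiset S, g.prod ∈ P → ∃ p ∈ g, p ∈ P := fun g => by
        induction g using Multiset.induction_on with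
        | empty => intro h; exact absurd ((Ideal.eq_top_iff_one P).2 h) (‹P.IsPrime›).ne_top
        | cons x g ihg =>
          intro h
          rw [Multiset.prod_cons] at h
          rcases (‹P.IsPrime›).mem_or_mem h with h | h
          · exact ⟨x, Multiset.mem_cons_self _ _, h⟩
          · obtain ⟨p, hp, hpP⟩ := ihg h
            exact ⟨p, Multiset.mem_cons_of_mem hp, hpP⟩
      exact this f hprod
    have hp := hf.1 p hpf
    haveI hPp : (Ideal.span {p}).IsPrime := (Ideal.span_singleton_prime hp.ne_zero).2 hp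
    have hip : algebraMap R S i ∈ Ideal.span {p} :=
      Ideal.mem_span_singleton.2 ((Multiset.dvd_prod hpf).trans ⟨w, hw.symm⟩)
    have hle : Ideal.span {p} ≤ P := (Ideal.span_singleton_le_iff_mem P).2 hpP
    have hPeq : P = Ideal.span {p} := by
      refine le_antisymm ?_ hle
      have hI' : I ≤ (Ideal.span {p}).comap (algebraMap R S) := fun y hy => by
        obtain ⟨d, hd⟩ := Ideal.mem_span_singleton'.1 (hc y hy)
        have h1 : algebraMap R S c * algebraMap R S y ∈ Ideal.span {p} := by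
          rw [← map_mul, ← hd, map_mul]
          exact Ideal.mul_mem_left _ _ hip
        exact (hPp.mem_or_mem h1).resolve_left fun h => hp.not_unit (isUnit_of_dvd_unit
          (Ideal.mem_span_singleton.1 h) (IsLocalization.map_units S (⟨c, hcm⟩ : m.primeCompl)))
      have h2 : Q ≤ (Ideal.span {p}).comap (algebraMap R S) := by
        refine hQ.2 ⟨Ideal.IsPrime.comap _, hI'⟩ ?_
        rw [← hcomap]
        exact Ideal.comap_mono hle
      exact Ideal.map_le_iff_le_comap.2 h2
    obtain ⟨⟨q, s⟩, hqs⟩ := IsLocalization.surj m.primeCompl p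
    have hq : q ∈ Q := by
      rw [← hcomap, Ideal.mem_comap, ← hqs]
      exact P.mul_mem_right _ hpP
    refine ⟨q, hq, ?_⟩
    obtain ⟨G, hG⟩ := (IsNoetherian.noetherian Q : Q.FG)
    have hgen : ∀ x ∈ Q, ∃ t ∉ m, t * x ∈ Ideal.span {q} := by
      intro x hx
      have hx' : algebraMap R S x ∈ P := Ideal.mem_map_of_mem _ hx
      rw [hPeq] at hx'
      obtain ⟨z, hz⟩ := Ideal.mem_span_singleton'.1 hx'
      obtain ⟨⟨z', s'⟩, hz'⟩ := IsLocalization.surj m.primeCompl z
      refine ⟨(s : R) * s', (m.primeCompl.mul_mem s.2 s'.2), Ideal.mem_span_singleton'.2 ⟨z', ?_⟩⟩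
      refine IsLocalization.injective S m.primeCompl_le_nonZeroDivisors ?_
      dsimp only at hqs hz'
      simp only [map_mul]
      rw [← hz', ← hqs, ← hz]
      ring
    choose! t ht htx using hgen
    refine ⟨∏ g ∈ G, t g, fun hmem => ?_, fun x hx => ?_⟩
    · obtain ⟨g, hg, hgm⟩ := Ideal.IsPrime.prod_mem_iff.1 hmem
      exact ht g (hG ▸ Submodule.subset_span hg) hgm
    · rw [← hG] at hx
      induction hx using Submodule.span_induction with
      | mem g hg =>
        rw [← Finset.prod_erase_mul G t hg, mul_assoc]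
        exact Ideal.mul_mem_left _ _ (htx g (hG ▸ Submodule.subset_span hg))
      | zero => simp
      | add x y _ _ hx hy => rw [mul_add]; exact Ideal.add_mem _ hx hy
      | smul r x _ hx =>
        rw [smul_eq_mul, mul_left_comm]
        exact Ideal.mul_mem_left _ _ hx
  let J : Ideal R :=
    { carrier := {c | ∀ x ∈ Q, c * x ∈ Ideal.span {a}}
      add_mem' := fun {s t} hs ht x hx => by
        rw [add_mul]
        exact Ideal.add_mem _ (hs x hx) (ht x hx)
      zero_mem' := fun x _ => by simp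
      smul_mem' := fun c t ht x hx => by
        rw [smul_eq_mul, mul_assoc]
        exact Ideal.mul_mem_left _ c (ht x hx) }
  refine ⟨J, a, ha, le_antisymm (Ideal.mul_le.2 fun x hx c hc => by rw [mul_comm]; exact hc x hx) ?_⟩
  rw [Ideal.span_singleton_le_iff_mem]
  refine mem_of_forall_maximal fun m hm => ?_
  obtain ⟨q, hq, t, htm, hts⟩ := hloc m hm
  refine ⟨t, htm, ?_⟩
  obtain ⟨c, hc⟩ := Ideal.mem_span_singleton'.1 (hts a haQ)
  rw [← hc, mul_comm c q]
  refine Ideal.mul_mem_mul hq fun x hx => ?_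
  obtain ⟨y, hy⟩ := Ideal.mem_span_singleton'.1 (hts x hx)
  have ht0 : t ≠ 0 := fun h => htm (h ▸ m.zero_mem)
  refine Ideal.mem_span_singleton'.2 ⟨y, mul_left_cancel₀ ht0 ?_⟩
  linear_combination (-y) * hc + c * hy

omit hR

theorem Inv.invertible {I : Ideal R} (h : Inv I) : Module.Invertible R I := by
  classical
  obtain ⟨J, a, ha, hIJ⟩ := h
  let μ : I ⊗[R] J →ₗ[R] R :=
    TensorProduct.lift (((LinearMap.mul R R).comp I.subtype).compl₂ J.subtype)
  have hμ : ∀ z, μ z ∈ Ideal.span {a} := fun z => by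
    induction z using TensorProduct.induction_on with
    | zero => rw [map_zero]; exact Ideal.zero_mem _
    | add x y hx hy => rw [map_add]; exact Ideal.add_mem _ hx hy
    | tmul x y => rw [← hIJ]; exact Ideal.mul_mem_mul x.2 y.2
  have hsurj : ∃ z, μ z = a := by
    have h1 : ∀ x ∈ I * J, ∃ z, μ z = x := fun x hx => by
      induction hx using Submodule.mul_induction_on' with
      | mem_mul_mem i hi j hj => exact ⟨⟨i, hi⟩ ⊗ₜ ⟨j, hj⟩, rfl⟩
      | add x _ y _ hx hy =>
        obtain ⟨p, rfl⟩ := hx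
        obtain ⟨q, rfl⟩ := hy
        exact ⟨p + q, map_add _ _ _⟩
    exact h1 a (hIJ ▸ Ideal.mem_span_singleton_self a)
  obtain ⟨z₀, hz₀⟩ := hsurj
  obtain ⟨n, i, j, rfl⟩ := TensorProduct.exists_sum_tmul_eq z₀
  have hsum : ∑ l, (i l : R) * (j l : R) = a := by
    rw [← hz₀, map_sum]
    rfl
  -- injectivity through a dual basis
  have hinj : Function.Injective μ := by
    rw [injective_iff_map_eq_zero]
    intro z hz
    obtain ⟨N, y, w, rfl⟩ := TensorProduct.exists_sum_tmul_eq z
    have hd : ∀ l r, ∃ c : R, (j l : R) * (y r : R) = c * a := fun l r => by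
      obtain ⟨c, hc⟩ := Ideal.mem_span_singleton'.1 (hIJ ▸ Ideal.mul_mem_mul (y r).2 (j l).2)
      exact ⟨c, by rw [hc]; ring⟩
    choose c hc using hd
    have hy : ∀ r, y r = ∑ l, c l r • i l := fun r => by
      refine Subtype.ext (mul_left_cancel₀ ha ?_)
      rw [AddSubmonoidClass.coe_finsetSum, Finset.mul_sum]
      calc a * (y r : R) = ∑ l, (i l : R) * ((j l : R) * (y r : R)) := by
            rw [← hsum, Finset.sum_mul]
            exact Finset.sum_congr rfl fun l _ => mul_assoc _ _ _
        _ = ∑ l, a * ((c l r • i l : I) : R) := Finset.sum_congr rfl fun l _ => by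
            rw [hc, SetLike.val_smul, smul_eq_mul]
            ring
    simp_rw [hy, TensorProduct.sum_tmul, TensorProduct.smul_tmul]
    rw [Finset.sum_comm]
    simp_rw [← TensorProduct.tmul_sum]
    refine Finset.sum_eq_zero fun l _ => ?_
    have hz' : ∑ r, (y r : R) * (w r : R) = 0 := by
      rw [map_sum] at hz
      exact hz
    have : ∑ r, c l r • w r = 0 := by
      refine Subtype.ext (mul_left_cancel₀ ha ?_)
      rw [AddSubmonoidClass.coe_finsetSum, ZeroMemClass.coe_zero, mul_zero, Finset.mul_sum]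
      calc ∑ r, a * ((c l r • w r : J) : R) = ∑ r, (j l : R) * ((y r : R) * (w r : R)) :=
            Finset.sum_congr rfl fun r _ => by
              rw [← mul_assoc, hc, SetLike.val_smul, smul_eq_mul]
              ring
        _ = 0 := by rw [← Finset.mul_sum, hz', mul_zero]
    rw [this, TensorProduct.tmul_zero]
  let e₁ := LinearEquiv.ofBijective
    (μ.codRestrict (Ideal.span {a}) hμ : I ⊗[R] J →ₗ[R] Ideal.span {a}) ⟨fun x y hxy => hinj (congrArg Subtype.val hxy),
      fun x => by
        obtain ⟨d, hd⟩ := Ideal.mem_span_singleton'.1 x.2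
        exact ⟨d • (∑ l, i l ⊗ₜ[R] j l), Subtype.ext (by
          rw [LinearMap.codRestrict_apply, map_smul, hz₀]
          exact hd)⟩⟩
  let e₂ : R ≃ₗ[R] Ideal.span {a} := LinearEquiv.toSpanNonzeroSingleton R R a ha
  exact .left (e₁.trans e₂.symm)

open scoped Classical in
/-- The class of an invertible ideal. -/
def cls (I : Ideal R) : CommRing.Pic R :=
  if h : Inv I then (haveI := h.invertible; CommRing.Pic.mk R I) else 1

theorem cls_def {I : Ideal R} (h : Inv I) : haveI := h.invertible; cls I = CommRing.Pic.mk R I := by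
  rw [cls, dif_pos h]

theorem cls_span {a : R} (ha : a ≠ 0) : cls (Ideal.span {a}) = 1 := by
  haveI := (inv_span ha).invertible
  rw [cls_def (inv_span ha), CommRing.Pic.mk_eq_one_iff]
  exact ⟨(LinearEquiv.toSpanNonzeroSingleton R R a ha).symm⟩

theorem cls_top : cls (⊤ : Ideal R) = 1 := by
  rw [← Ideal.span_singleton_one]
  exact cls_span one_ne_zero

theorem cls_mul {I I' : Ideal R} (h : Inv I) (h' : Inv I') : cls (I * I') = cls I * cls I' := by
  haveI := h.invertible
  haveI := h'.invertible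
  haveI := (h.mul h').invertible
  rw [cls_def h, cls_def h', cls_def (h.mul h'), ← CommRing.Pic.mk_tensor, CommRing.Pic.mk_eq_mk_iff]
  let f : I ⊗[R] I' →ₗ[R] (I * I' : Ideal R) :=
    TensorProduct.lift (LinearMap.mk₂ R (fun x y => (⟨x.1 * y.1, Ideal.mul_mem_mul x.2 y.2⟩ : (I * I' : Ideal R)))
      (fun a b c => Subtype.ext (add_mul _ _ _)) (fun r a b => Subtype.ext (mul_assoc _ _ _))
      (fun a b c => Subtype.ext (mul_add _ _ _)) fun r a b => Subtype.ext (mul_left_comm _ _ _))
  refine ⟨(LinearEquiv.ofBijective f (Module.Invertible.bijective_of_surjective ?_)).symm⟩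
  rintro ⟨x, hx⟩
  induction hx using Submodule.mul_induction_on' with
  | mem_mul_mem i hi j hj => exact ⟨⟨i, hi⟩ ⊗ₜ ⟨j, hj⟩, rfl⟩
  | add x _ y _ hx hy =>
    obtain ⟨p, hp⟩ := hx
    obtain ⟨q, hq⟩ := hy
    exact ⟨p + q, by rw [map_add, hp, hq]; rfl⟩

theorem mapRingHom_cls {S : Type u} [CommRing S] [IsDomain S] (φ : R →+* S) (hφ : Function.Injective φ)
    {I : Ideal R} (h : Inv I) : CommRing.Pic.mapRingHom φ (cls I) = cls (I.map φ) := by
  algebraize [φ]
  haveI := h.invertible
  haveI := (h.map φ hφ).invertible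
  rw [cls_def h, cls_def (h.map φ hφ)]
  show CommRing.Pic.mapAlgebra R S _ = _
  rw [CommRing.Pic.mapAlgebra_apply, CommRing.Pic.mk_eq_mk_iff]
  let f : S ⊗[R] I →ₗ[S] (I.map φ : Ideal S) :=
    TensorProduct.AlgebraTensorModule.lift
      ((LinearMap.lsmul S (I.map φ : Ideal S)).flip.restrictScalars R ∘ₗ
        ({ toFun := fun x => ⟨φ x.1, Ideal.mem_map_of_mem φ x.2⟩
           map_add' := fun x y => Subtype.ext (map_add φ _ _)
           map_smul' := fun r x => Subtype.ext (by
             show φ (r * x.1) = r • φ x.1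
             rw [map_mul, Algebra.smul_def]
             rfl) } : I →ₗ[R] (I.map φ : Ideal S))).flip
  have hf : Function.Surjective f := by
    rintro ⟨x, hx⟩
    induction hx using Submodule.span_induction with
    | mem z hz =>
      obtain ⟨r, hr, rfl⟩ := hz
      exact ⟨1 ⊗ₜ ⟨r, hr⟩, Subtype.ext (one_mul _)⟩
    | zero => exact ⟨0, map_zero _⟩
    | add x y _ _ hx hy =>
      obtain ⟨p, hp⟩ := hx
      obtain ⟨q, hq⟩ := hy
      exact ⟨p + q, by rw [map_add, hp, hq]; rfl⟩
    | smul s x _ hx =>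
      obtain ⟨p, hp⟩ := hx
      exact ⟨s • p, by rw [map_smul, hp]; rfl⟩
  exact ⟨(TensorProduct.AlgebraTensorModule.congr (LinearEquiv.refl S S) (CommRing.Pic.mk.linearEquiv R I)).trans
    (LinearEquiv.ofBijective f (Module.Invertible.bijective_of_surjective hf))⟩

/-- Every class is the class of an invertible ideal. -/
theorem exists_cls (c : CommRing.Pic R) : ∃ I : Ideal R, Inv I ∧ cls I = c := by
  let M : Type u := c
  have hswap : ∀ (f g : Module.Dual R M) (x y : M), f x * g y = f y * g x := fun f g x y => by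
    have h := congrArg (fun z => TensorProduct.lid R R (TensorProduct.map f g z))
      (Module.Invertible.tmul_comm (R := R) (M := M) (m₁ := x) (m₂ := y))
    simpa using h
  obtain ⟨z, hz⟩ := (Module.Invertible.linearEquiv R M).surjective 1
  obtain ⟨n, g, m, rfl⟩ := TensorProduct.exists_sum_tmul_eq z
  have hgm : ∑ l, g l (m l) = 1 := by
    rw [map_sum] at hz
    simpa [Module.Invertible.linearEquiv, contractLeft_apply] using hz
  obtain ⟨l₀, hl₀⟩ : ∃ l, g l (m l) ≠ 0 := by
    by_contra hcon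
    push Not at hcon
    rw [Finset.sum_eq_zero fun l _ => hcon l] at hgm
    exact zero_ne_one hgm
  let f := g l₀
  let a := f (m l₀)
  have hfinj : Function.Injective f := by
    rw [injective_iff_map_eq_zero]
    intro x hx
    have h1 : ∀ φ : Module.Dual R M, φ x = 0 := fun φ => by
      have h := hswap f φ (m l₀) x
      rw [hx, zero_mul] at h
      exact (mul_eq_zero.1 h).resolve_left hl₀
    exact (Module.forall_dual_apply_eq_zero_iff R x).1 h1
  let J : Ideal R :=
    { carrier := {s | ∃ φ : Module.Dual R M, φ (m l₀) = s}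
      add_mem' := fun {s t} hs ht => by
        obtain ⟨p, rfl⟩ := hs
        obtain ⟨q, rfl⟩ := ht
        exact ⟨p + q, rfl⟩
      zero_mem' := ⟨0, rfl⟩
      smul_mem' := fun r s hs => by
        obtain ⟨p, rfl⟩ := hs
        exact ⟨r • p, rfl⟩ }
  let I : Ideal R := LinearMap.range f
  have hIJ : I * J = Ideal.span {a} := by
    refine le_antisymm (Ideal.mul_le.2 ?_) ?_
    · rintro _ ⟨x, rfl⟩ _ ⟨φ, rfl⟩
      exact Ideal.mem_span_singleton'.2 ⟨φ x, (mul_comm _ _).trans (hswap f φ x (m l₀)).symm⟩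
    · rw [Ideal.span_singleton_le_iff_mem,
        show a = ∑ l, f (m l) * g l (m l₀) from by
          rw [← mul_one a, ← hgm, Finset.mul_sum]
          exact Finset.sum_congr rfl fun l _ => (hswap f (g l) (m l) (m l₀)).symm]
      exact sum_mem fun l _ => Ideal.mul_mem_mul ⟨_, rfl⟩ ⟨g l, rfl⟩
  have hI : Inv I := ⟨J, a, hl₀, hIJ⟩
  haveI := hI.invertible
  refine ⟨I, hI, ?_⟩
  rw [cls_def hI, CommRing.Pic.mk_eq_iff]
  exact ⟨(LinearEquiv.ofInjective f hfinj).symm⟩

include hR

/-- Classes are products of classes of invertible primes above the ideal. -/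
theorem cls_mem_closure [IsNoetherianRing R] (I : Ideal R) (hI : Inv I) :
    cls I ∈ Subgroup.closure (cls '' {Q : Ideal R | Q.IsPrime ∧ Inv Q ∧ I ≤ Q}) := by
  induction I using WellFoundedGT.induction with
  | ind I ih =>
  by_cases htop : I = ⊤
  · subst htop
    rw [cls_top]
    exact one_mem _
  obtain ⟨m, hm, hIm⟩ := Ideal.exists_le_maximal I htop
  obtain ⟨Q, hQ, -⟩ := Ideal.exists_minimalPrimes_le (J := m) hIm
  have hQi := inv_of_minimal hR hI hQ
  haveI : Q.IsPrime := hQ.1.1
  obtain ⟨J, b, hb, hQJ⟩ := id hQi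
  let I' : Ideal R :=
    { carrier := {c | b * c ∈ I * J}
      add_mem' := fun {s t} hs ht => by
        show b * (s + t) ∈ I * J
        rw [mul_add]
        exact Ideal.add_mem _ hs ht
      zero_mem' := by simp
      smul_mem' := fun c t ht => by
        show b * (c * t) ∈ I * J
        rw [mul_left_comm]
        exact Ideal.mul_mem_left _ c ht }
  have hmul : Ideal.span {b} * I' = I * J := by
    refine le_antisymm ?_ fun z hz => ?_
    · rw [Ideal.span_singleton_mul_le_iff]
      exact fun c hc => hc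
    · obtain ⟨c, rfl⟩ := Ideal.mem_span_singleton'.1 (hQJ ▸ Ideal.mul_mono_left hQ.1.2 hz)
      rw [mul_comm c b] at hz ⊢
      exact Ideal.mul_mem_mul (Ideal.mem_span_singleton_self b) hz
  have hI' : Q * I' = I := by
    refine (Ideal.span_singleton_mul_right_inj hb).1 ?_
    rw [mul_left_comm, hmul, ← hQJ]
    ring
  obtain ⟨JI, a, ha, hIJI⟩ := id hI
  have hI'inv : Inv I' := ⟨Q * JI, a, ha, by rw [← mul_assoc, mul_comm I' Q, hI', hIJI]⟩
  have hle : I ≤ I' := fun c hc => by
    have hbJ : b ∈ J := (Ideal.mul_le_right (I := Q) (J := J)) (hQJ ▸ Ideal.mem_span_singleton_self b)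
    show b * c ∈ I * J
    rw [mul_comm b c]
    exact Ideal.mul_mem_mul hc hbJ
  have hlt : I < I' := lt_of_le_of_ne hle fun heq => by
    refine hQ.1.1.ne_top (hI.cancel (A := Q) (B := ⊤) ?_)
    rw [Ideal.mul_top, mul_comm]
    conv_lhs => rw [heq, hI']
  have h := ih I' hlt hI'inv
  rw [← hI', cls_mul hQi hI'inv]
  refine mul_mem (Subgroup.subset_closure ⟨Q, ⟨hQ.1.1, hQi, ?_⟩, rfl⟩) (Subgroup.closure_mono ?_ h)
  · rw [hI']
    exact hQ.1.2
  · rintro _ ⟨P, ⟨hP, hPi, hle'⟩, rfl⟩
    exact ⟨P, ⟨hP, hPi, by rw [hI']; exact hle.trans hle'⟩, rfl⟩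

/-- The kernel of localisation is generated by the primes meeting the denominators. -/
theorem ker_le_closure [IsNoetherianRing R] (M : Submonoid R) (hM : M ≤ nonZeroDivisors R) {T : Type u} [CommRing T]
    [IsDomain T] [Algebra R T] [IsLocalization M T] {c : CommRing.Pic R}
    (hc : CommRing.Pic.mapRingHom (algebraMap R T) c = 1) :
    c ∈ Subgroup.closure (cls '' {Q : Ideal R | Q.IsPrime ∧ Inv Q ∧ ∃ s ∈ M, s ∈ Q}) := by
  classical
  obtain ⟨I, hI, rfl⟩ := exists_cls c
  have hinj : Function.Injective (algebraMap R T) := IsLocalization.injective T hM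
  rw [mapRingHom_cls _ hinj hI] at hc
  haveI := (hI.map _ hinj).invertible
  rw [cls_def (hI.map _ hinj), CommRing.Pic.mk_eq_one_iff] at hc
  obtain ⟨e⟩ := hc
  have hspan : I.map (algebraMap R T) = Ideal.span {(e.symm 1 : T)} := by
    refine le_antisymm (fun x hx => Ideal.mem_span_singleton'.2 ⟨e ⟨x, hx⟩, ?_⟩)
      ((Ideal.span_singleton_le_iff_mem _).2 (e.symm 1).2)
    have h := congrArg Subtype.val (e.symm_apply_apply ⟨x, hx⟩)
    rw [show e ⟨x, hx⟩ = e ⟨x, hx⟩ • (1 : T) from (mul_one _).symm, map_smul] at h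
    exact h
  obtain ⟨⟨x, s⟩, hxs⟩ := (IsLocalization.mem_map_algebraMap_iff M T).1 (e.symm 1).2
  dsimp only at hxs
  have hx0 : (x : R) ≠ 0 := fun h0 => by
    rw [h0, map_zero, mul_eq_zero] at hxs
    rcases hxs with h | h
    · exact (hI.map _ hinj).ne_bot (by rw [hspan, h, Ideal.span_singleton_eq_bot])
    · exact nonZeroDivisors.coe_ne_zero ⟨_, hM s.2⟩ (hinj (h.trans (map_zero _).symm))
  -- clear denominators
  obtain ⟨G, hG⟩ := (IsNoetherian.noetherian I : I.FG)
  have hgen : ∀ y ∈ I, ∃ t ∈ M, t * y ∈ Ideal.span {(x : R)} := by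
    intro y hy
    obtain ⟨z, hz⟩ := Ideal.mem_span_singleton'.1 (hspan ▸ Ideal.mem_map_of_mem (algebraMap R T) hy)
    obtain ⟨⟨z', s'⟩, hz'⟩ := IsLocalization.surj M z
    refine ⟨(s : R) * s', M.mul_mem s.2 s'.2, Ideal.mem_span_singleton'.2 ⟨z', hinj ?_⟩⟩
    dsimp only at hz'
    rw [map_mul, map_mul, map_mul, ← hz', ← hxs, ← hz]
    ring
  choose! t ht htx using hgen
  let σ := ∏ g ∈ G, t g
  have hσM : σ ∈ M := prod_mem fun g hg => ht g (hG ▸ Submodule.subset_span hg)
  have hσ : ∀ y ∈ I, σ * y ∈ Ideal.span {(x : R)} := by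
    intro y hy
    rw [← hG] at hy
    induction hy using Submodule.span_induction with
    | mem g hg =>
      rw [show σ = _ from (Finset.prod_erase_mul G t hg).symm, mul_assoc]
      exact Ideal.mul_mem_left _ _ (htx g (hG ▸ Submodule.subset_span hg))
    | zero => simp
    | add a b _ _ ha hb => rw [mul_add]; exact Ideal.add_mem _ ha hb
    | smul r a _ ha =>
      rw [smul_eq_mul, mul_left_comm]
      exact Ideal.mul_mem_left _ _ ha
  let I' : Ideal R :=
    { carrier := {d | (x : R) * d ∈ Ideal.span {σ} * I}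
      add_mem' := fun {a b} ha hb => by
        show (x : R) * (a + b) ∈ Ideal.span {σ} * I
        rw [mul_add]
        exact Ideal.add_mem _ ha hb
      zero_mem' := by simp
      smul_mem' := fun r a ha => by
        show (x : R) * (r * a) ∈ Ideal.span {σ} * I
        rw [mul_left_comm]
        exact Ideal.mul_mem_left _ r ha }
  have hmul : Ideal.span {(x : R)} * I' = Ideal.span {σ} * I := by
    refine le_antisymm ?_ fun z hz => ?_
    · rw [Ideal.span_singleton_mul_le_iff]
      exact fun d hd => hd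
    · obtain ⟨y, hy, rfl⟩ := Ideal.mem_span_singleton_mul.1 hz
      obtain ⟨d, hd⟩ := Ideal.mem_span_singleton'.1 (hσ y hy)
      rw [← hd, mul_comm d]
      refine Ideal.mul_mem_mul (Ideal.mem_span_singleton_self _) ?_
      show (x : R) * d ∈ Ideal.span {σ} * I
      rw [mul_comm (x : R) d, hd]
      exact hz
  have hσ0 : σ ≠ 0 := nonZeroDivisors.coe_ne_zero ⟨σ, hM hσM⟩
  obtain ⟨J, a, ha, hIJ⟩ := id hI
  have hI'inv : Inv I' := ⟨Ideal.span {(x : R)} * J, σ * a, mul_ne_zero hσ0 ha, by
    rw [← mul_assoc, mul_comm I' _, hmul, mul_assoc, hIJ, Ideal.span_singleton_mul_span_singleton]⟩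
  have hcls : cls I = cls I' := by
    have h := congrArg cls hmul
    rwa [cls_mul (inv_span hx0) hI'inv, cls_mul (inv_span hσ0) hI, cls_span hx0, cls_span hσ0, one_mul, one_mul,
      eq_comm] at h
  have hσI' : σ ∈ I' := by
    show (x : R) * σ ∈ Ideal.span {σ} * I
    rw [mul_comm (x : R) σ]
    exact Ideal.mul_mem_mul (Ideal.mem_span_singleton_self _) x.2
  rw [hcls]
  refine Subgroup.closure_mono ?_ (cls_mem_closure hR I' hI'inv)
  rintro _ ⟨P, ⟨hP, hPi, hle⟩, rfl⟩
  exact ⟨P, ⟨hP, hPi, σ, hσM, hle hσI'⟩, rfl⟩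

/-- An invertible prime containing an element is minimal over it. -/
theorem mem_minimalPrimes [IsNoetherianRing R] {Q : Ideal R} (hQp : Q.IsPrime) (hQ : Inv Q) {f : R} (hf : f ∈ Q)
    (hf0 : f ≠ 0) : Q ∈ (Ideal.span {f}).minimalPrimes := by
  obtain ⟨P, hP, hPQ⟩ := Ideal.exists_minimalPrimes_le (J := Q) ((Ideal.span_singleton_le_iff_mem _).2 hf)
  have := hQ.not_prime_lt hQp (inv_of_minimal hR (inv_span hf0) hP) hP.1.1 hPQ
  rwa [← this]

/-- Finitely many invertible primes contain a non-zero element. -/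
theorem finite_setOf_mem [IsNoetherianRing R] {f : R} (hf0 : f ≠ 0) :
    {Q : Ideal R | Q.IsPrime ∧ Inv Q ∧ f ∈ Q}.Finite :=
  (Ideal.finite_minimalPrimes_of_isNoetherianRing R (Ideal.span {f})).subset
    fun _ h => mem_minimalPrimes hR h.1 h.2.1 h.2.2 hf0

omit hR

/-- Localisations are locally factorial. -/
theorem locUFD_of_isLocalization (hR : LocUFD R) (M : Submonoid R) {T : Type u} [CommRing T] [IsDomain T]
    [Algebra R T] [IsLocalization M T] : LocUFD T := by
  intro m _
  haveI := hR (m.comap (algebraMap R T))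
  haveI := IsLocalization.isLocalization_isLocalization_atPrime_isLocalization M (Localization.AtPrime m) m
  exact (IsLocalization.algEquiv (m.comap (algebraMap R T)).primeCompl
    (Localization.AtPrime (m.comap (algebraMap R T))) (Localization.AtPrime m)).toRingEquiv.toMulEquiv.uniqueFactorizationMonoid
      inferInstance

/-- Restriction to a localisation is surjective on classes. -/
theorem mapRingHom_surjective [IsNoetherianRing R] (hR : LocUFD R) (M : Submonoid R) (hM : M ≤ nonZeroDivisors R)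
    {T : Type u} [CommRing T] [IsDomain T] [Algebra R T] [IsLocalization M T] :
    Function.Surjective (CommRing.Pic.mapRingHom (algebraMap R T)) := by
  haveI : IsNoetherianRing T := IsLocalization.isNoetherianRing M T inferInstance
  have hinj : Function.Injective (algebraMap R T) := IsLocalization.injective T hM
  intro c
  obtain ⟨I, hI, rfl⟩ := exists_cls c
  have hmem := cls_mem_closure (locUFD_of_isLocalization hR M) I hI
  suffices Subgroup.closure (cls '' {Q : Ideal T | Q.IsPrime ∧ Inv Q ∧ I ≤ Q}) ≤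
      (CommRing.Pic.mapRingHom (algebraMap R T)).range from this hmem
  rw [Subgroup.closure_le]
  rintro _ ⟨Q, ⟨hQp, hQ, -⟩, rfl⟩
  obtain ⟨a, haQ, ha⟩ := Submodule.exists_mem_ne_zero_of_ne_bot hQ.ne_bot
  obtain ⟨⟨b, s⟩, hbs⟩ := IsLocalization.surj M a
  dsimp only at hbs
  have hb0 : b ≠ 0 := fun h => by
    rw [h, map_zero, mul_eq_zero] at hbs
    rcases hbs with h | h
    · exact ha h
    · exact nonZeroDivisors.coe_ne_zero ⟨_, hM s.2⟩ (hinj (h.trans (map_zero _).symm))
  have hbQ : b ∈ Q.comap (algebraMap R T) := by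
    rw [Ideal.mem_comap, ← hbs]
    exact Q.mul_mem_right _ haQ
  haveI := hQp
  obtain ⟨P, hP, hPQ⟩ := Ideal.exists_minimalPrimes_le (J := Q.comap (algebraMap R T))
    ((Ideal.span_singleton_le_iff_mem _).2 hbQ)
  have hPi := inv_of_minimal hR (inv_span hb0) hP
  haveI : P.IsPrime := hP.1.1
  have hdisj : Disjoint (M : Set R) P := Set.disjoint_left.2 fun x hx hxP =>
    hQp.ne_top (Q.eq_top_of_isUnit_mem (hPQ hxP) (IsLocalization.map_units T (⟨x, hx⟩ : M)))
  have hmap : P.map (algebraMap R T) = Q :=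
    hQ.not_prime_lt hQp (hPi.map _ hinj) (IsLocalization.isPrime_of_isPrime_disjoint M T P ‹_› hdisj)
      (Ideal.map_le_iff_le_comap.2 hPQ)
  exact ⟨cls P, by rw [mapRingHom_cls _ hinj hPi, hmap]⟩

/-- Classes on polynomial rings are extended. -/
theorem mapRingHom_C_surjective [IsNoetherianRing R] (hR : LocUFD R) (n : ℕ)
    (hP : LocUFD (MvPolynomial (Fin n) R)) :
    Function.Surjective (CommRing.Pic.mapRingHom (MvPolynomial.C : R →+* MvPolynomial (Fin n) R)) := by
  let K := FractionRing R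
  let T := MvPolynomial (Fin n) R
  letI : Algebra T (MvPolynomial (Fin n) K) := MvPolynomial.algebraMvPolynomial
  let M : Submonoid T := (nonZeroDivisors R).map (MvPolynomial.C (σ := Fin n))
  haveI : IsLocalization M (MvPolynomial (Fin n) K) := MvPolynomial.isLocalization (nonZeroDivisors R) K
  have hM : M ≤ nonZeroDivisors T := by
    rintro _ ⟨r, hr, rfl⟩
    exact mem_nonZeroDivisors_of_ne_zero fun h =>
      nonZeroDivisors.coe_ne_zero ⟨r, hr⟩ (MvPolynomial.C_injective _ _ (h.trans (map_zero _).symm))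
  have hinj : Function.Injective (MvPolynomial.C : R →+* T) := MvPolynomial.C_injective _ _
  intro c
  have hmem := ker_le_closure hP M hM (T := MvPolynomial (Fin n) K) (c := c) (Subsingleton.elim _ _)
  suffices Subgroup.closure (cls '' {Q : Ideal T | Q.IsPrime ∧ Inv Q ∧ ∃ s ∈ M, s ∈ Q}) ≤
      (CommRing.Pic.mapRingHom (MvPolynomial.C : R →+* T)).range from this hmem
  rw [Subgroup.closure_le]
  rintro _ ⟨Q, ⟨hQp, hQ, _, ⟨r, hr, rfl⟩, hrQ⟩, rfl⟩
  haveI := hQp
  obtain ⟨P, hPm, hPQ⟩ := Ideal.exists_minimalPrimes_le (J := Q.comap MvPolynomial.C)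
    ((Ideal.span_singleton_le_iff_mem _).2 (Ideal.mem_comap.2 hrQ))
  have hPi := inv_of_minimal hR (inv_span (nonZeroDivisors.coe_ne_zero ⟨r, hr⟩)) hPm
  haveI : P.IsPrime := hPm.1.1
  have hprime : (P.map (MvPolynomial.C : R →+* T)).IsPrime := by
    rw [← Ideal.Quotient.isDomain_iff_prime]
    exact (MvPolynomial.quotientEquivQuotientMvPolynomial P).toRingEquiv.toMulEquiv.symm.isDomain _
  have hmap : P.map (MvPolynomial.C : R →+* T) = Q :=
    hQ.not_prime_lt hQp (hPi.map _ hinj) hprime (Ideal.map_le_iff_le_comap.2 hPQ)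
  exact ⟨cls P, by rw [mapRingHom_cls _ hinj hPi, hmap]⟩

end Groth.Agent.AlgGrpLib.LocFactorial
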