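import Groth.Agent.AlgGrpLib.ActionShear
import Groth.Agent.S5430
import Mathlib.GroupTheory.SemidirectProduct
import Mathlib.CategoryTheory.Monoidal.Cartesian.Grp

/-! Actions of connected groups on groups of multiplicative type are trivial. -/

universe u

set_option autoImplicit false
set_option backward.isDefEq.respectTransparency.types false
set_option maxHeartbeats 800000

open CategoryTheory CategoryTheory.Limits MonoidalCategory CartesianMonoidalCategory MonObj GrpObj AlgebraicGeometry
open Opposite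

namespace Groth.Agent.AlgGrpLib.MultTypeAct

section
variable {S : Scheme.{u}} {G H : Over S} [GrpObj G] [GrpObj H] (a : AlgGrp.Action G H)

/-- Compatibility of an action with the group law. -/
def IsGrpAction : Prop :=
  ∀ (T : Over S) (g : T ⟶ G) (h h' : T ⟶ H),
    lift g (h * h') ≫ a.act = (lift g h ≫ a.act) * (lift g h' ≫ a.act)

variable {a}

/-- the action on points -/
noncomputable def autHom (ha : IsGrpAction a) (T : Over S) : (T ⟶ G) →* MulAut (T ⟶ H) where
  toFun g :=
    { toFun := fun h => lift g h ≫ a.act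
      invFun := fun h => lift g⁻¹ h ≫ a.act
      left_inv := fun h => by
        show lift g⁻¹ (lift g h ≫ a.act) ≫ a.act = h
        rw [act_act, inv_mul_cancel, one_act']
      right_inv := fun h => by
        show lift g (lift g⁻¹ h ≫ a.act) ≫ a.act = h
        rw [act_act, mul_inv_cancel, one_act']
      map_mul' := ha T g }
  map_one' := MulEquiv.ext fun h => one_act' a h
  map_mul' g g' := MulEquiv.ext fun h => (act_act a g g' h).symm

theorem autHom_apply (ha : IsGrpAction a) {T : Over S} (g : T ⟶ G) (h : T ⟶ H) :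
    autHom ha T g h = lift g h ≫ a.act := rfl

/-- the functor of points of the semidirect product -/
noncomputable def sdFunctor (ha : IsGrpAction a) : (Over S)ᵒᵖ ⥤ GrpCat.{u} where
  obj T := GrpCat.of ((T.unop ⟶ H) ⋊[autHom ha T.unop] (T.unop ⟶ G))
  map {T T'} f := GrpCat.ofHom
    { toFun := fun x => ⟨f.unop ≫ x.left, f.unop ≫ x.right⟩
      map_one' := SemidirectProduct.ext (MonObj.comp_one f.unop) (MonObj.comp_one f.unop)
      map_mul' := fun x y => SemidirectProduct.ext
        (by
          show f.unop ≫ (x.left * (lift x.right y.left ≫ a.act)) =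
            (f.unop ≫ x.left) * (lift (f.unop ≫ x.right) (f.unop ≫ y.left) ≫ a.act)
          rw [MonObj.comp_mul, ← comp_lift, Category.assoc])
        (MonObj.comp_mul f.unop _ _) }
  map_id T := by ext x <;> simp
  map_comp f g := by ext x <;> simp

/-- the underlying object of the semidirect product (a synonym, so that the product group law is not used) -/
noncomputable def sdObj (H G : Over S) : Over S := H ⊗ G

/-- first projection -/
noncomputable def π₁ (H G : Over S) : sdObj H G ⟶ H := fst H G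

/-- second projection -/
noncomputable def π₂ (H G : Over S) : sdObj H G ⟶ G := snd H G

/-- pairing -/
noncomputable def pair {T H G : Over S} (x : T ⟶ H) (y : T ⟶ G) : T ⟶ sdObj H G := lift x y

@[simp] theorem pair_π₁ {T H G : Over S} (x : T ⟶ H) (y : T ⟶ G) : pair x y ≫ π₁ H G = x := lift_fst _ _

@[simp] theorem pair_π₂ {T H G : Over S} (x : T ⟶ H) (y : T ⟶ G) : pair x y ≫ π₂ H G = y := lift_snd _ _

theorem pair_ext {T H G : Over S} {p q : T ⟶ sdObj H G} (h1 : p ≫ π₁ H G = q ≫ π₁ H G)
    (h2 : p ≫ π₂ H G = q ≫ π₂ H G) : p = q := CartesianMonoidalCategory.hom_ext (X := H) (Y := G) p q h1 h2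

theorem comp_pair {T' T H G : Over S} (f : T' ⟶ T) (x : T ⟶ H) (y : T ⟶ G) :
    f ≫ pair x y = pair (f ≫ x) (f ≫ y) := comp_lift f x y

/-- the semidirect product structure -/
noncomputable def sdRep (ha : IsGrpAction a) : (sdFunctor ha ⋙ forget _).RepresentableBy (sdObj H G) where
  homEquiv {T} :=
    { toFun := fun p => ⟨p ≫ π₁ H G, p ≫ π₂ H G⟩
      invFun := fun x => pair x.left x.right
      left_inv := fun p => pair_ext (pair_π₁ _ _) (pair_π₂ _ _)
      right_inv := fun x => SemidirectProduct.ext (pair_π₁ _ _) (pair_π₂ _ _) }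
  homEquiv_comp f p := by
    refine SemidirectProduct.ext ?_ ?_ <;> exact (Category.assoc _ _ _)

/-- the semidirect product group -/
noncomputable def sdGrp (ha : IsGrpAction a) : GrpObj (sdObj H G) :=
  GrpObj.ofRepresentableBy _ (sdFunctor ha) (sdRep ha)

theorem homEquiv_mul {C : Type*} [Category C] [CartesianMonoidalCategory C] {X : C} (F : Cᵒᵖ ⥤ GrpCat.{u})
    (α : (F ⋙ forget _).RepresentableBy X) {T : C} (x y : T ⟶ X) :
    letI := GrpObj.ofRepresentableBy X F α
    α.homEquiv' (x * y) = α.homEquiv' x * α.homEquiv' y := by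
  letI := GrpObj.ofRepresentableBy X F α
  rw [Hom.mul_def]
  show α.homEquiv' (lift x y ≫ α.homEquiv'.symm (α.homEquiv' (fst X X) * α.homEquiv' (snd X X))) = _
  rw [α.homEquiv'_comp, Equiv.apply_symm_apply, map_mul, ← α.homEquiv'_comp, ← α.homEquiv'_comp, lift_fst, lift_snd]

theorem sd_mul (ha : IsGrpAction a) {T : Over S} (x y : T ⟶ sdObj H G) :
    letI := sdGrp ha
    x * y = pair ((x ≫ π₁ H G) * (lift (x ≫ π₂ H G) (y ≫ π₁ H G) ≫ a.act)) ((x ≫ π₂ H G) * (y ≫ π₂ H G)) := by
  letI := sdGrp ha
  have h := homEquiv_mul (sdFunctor ha) (sdRep ha) x y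
  let P := fun q : T ⟶ sdObj H G => (⟨q ≫ π₁ H G, q ≫ π₂ H G⟩ : (T ⟶ H) ⋊[autHom ha T] (T ⟶ G))
  have e : ∀ q : T ⟶ sdObj H G, (sdRep ha).homEquiv' q = P q := fun q => rfl
  have h' : P (x * y) = P x * P y := by
    have h3 := h
    rw [e, e, e] at h3
    exact h3
  refine pair_ext ?_ ?_
  · rw [pair_π₁]; exact congrArg SemidirectProduct.left h'
  · rw [pair_π₂]; exact congrArg SemidirectProduct.right h'

theorem isMonHom_of_map_mul {A B : Over S} [GrpObj A] [GrpObj B] (f : A ⟶ B)
    (h : ∀ {T : Over S} (x y : T ⟶ A), (x * y) ≫ f = (x ≫ f) * (y ≫ f)) : IsMonHom f := by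
  have h1 : (1 : 𝟙_ (Over S) ⟶ A) ≫ f = 1 :=
    mul_left_cancel (a := (1 : 𝟙_ (Over S) ⟶ A) ≫ f) (by rw [← h, _root_.one_mul, _root_.mul_one])
  refine ⟨?_, ?_⟩
  · simpa [Hom.one_def, toUnit_unique (toUnit (𝟙_ (Over S))) (𝟙 _)] using h1
  · have := h (fst A A) (snd A A)
    rw [Hom.mul_def, Hom.mul_def, lift_fst_snd, Category.id_comp] at this
    rw [this]
    congr 1

theorem fixes_of_extension [ConnectedSpace G.left] [Subsingleton S] [Flat H.hom] [QuasiCompact H.hom]
    (ha : IsGrpAction a) (hH : SGA3x.IsMultTypeFT H) {T : Over S} (g : T ⟶ G) (h : T ⟶ H) :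
    lift g h ≫ a.act = h := by
  letI := sdGrp ha
  haveI : IsMonHom (π₂ H G) := isMonHom_of_map_mul _ fun x y => by rw [sd_mul ha, pair_π₂]
  haveI : IsMonHom (pair (𝟙 H) (1 : H ⟶ G)) := isMonHom_of_map_mul _ fun x y => by
    rw [sd_mul ha, comp_pair, comp_pair, comp_pair]
    simp only [Category.comp_id, MonObj.comp_one, pair_π₁, pair_π₂, one_act', _root_.one_mul]
  haveI : Surjective H.hom :=
    ⟨fun s => ⟨(η[H] : 𝟙_ (Over S) ⟶ H).left.base s, Subsingleton.elim _ _⟩⟩
  haveI : Surjective (π₂ H G).left := inferInstanceAs (Surjective (pullback.snd H.hom G.hom))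
  haveI : Flat (π₂ H G).left := inferInstanceAs (Flat (pullback.snd H.hom G.hom))
  haveI : QuasiCompact (π₂ H G).left := inferInstanceAs (QuasiCompact (pullback.snd H.hom G.hom))
  have hker : AlgGrp.IsKernel (pair (𝟙 H) (1 : H ⟶ G)) (π₂ H G) := by
    refine IsPullback.of_isLimit' ⟨by rw [pair_π₂, Hom.one_def]⟩ (PullbackCone.IsLimit.mk _
      (fun s => s.fst ≫ π₁ H G) (fun s => ?_) (fun s => toUnit_unique _ _) (fun s m h1 _ => ?_))
    · refine pair_ext (by simp) ?_
      rw [Category.assoc, pair_π₂, MonObj.comp_one, s.condition, Hom.one_def,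
        toUnit_unique s.snd (toUnit _)]
    · rw [← h1, Category.assoc, pair_π₁, Category.comp_id]
  have hU : ∀ s : S, _root_.IsConnected (G.hom.base ⁻¹' {s}) := fun s => by
    rw [show G.hom.base ⁻¹' {s} = Set.univ from Set.eq_univ_of_forall fun x => Subsingleton.elim _ _]
    exact isConnected_univ
  have key := S5430.result S (sdObj H G) H G (π₂ H G) (pair (𝟙 H) (1 : H ⟶ G)) hker hH hU T h (pair 1 g)
  rw [comp_pair, Category.comp_id, MonObj.comp_one, sd_mul ha, sd_mul ha] at key
  have k1 := congrArg (· ≫ π₁ H G) key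
  simp only [pair_π₁, pair_π₂, one_act', _root_.mul_one, _root_.one_mul] at k1
  exact k1.symm

end

end Groth.Agent.AlgGrpLib.MultTypeAct
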