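import Groth.Agent.AlgGrpLib.BorelFixed
import Groth.Agent.AlgGrpLib.GrassAction
import Groth.Agent.AlgGrpLib.GroupLikeOrder
import Groth.Agent.UnipStruct.VecGroup
import Groth.Agent.GrassLib.PluckerOver
import Groth.Agent.RelVALib.ChowPn

/-!
# Integral groups without a torus are unipotent

Induction on closed subgroups: a simple representation has a stable line, read off from a closed
orbit on the Grassmannian of lines, whose stabiliser is smaller.
-/

set_option autoImplicit false
set_option backward.isDefEq.respectTransparency.types false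
set_option maxHeartbeats 800000
set_option linter.style.haveILetI false

universe u

open CategoryTheory CategoryTheory.Limits MonoidalCategory CartesianMonoidalCategory MonObj AlgebraicGeometry
open HopfRep Groth.Agent.HopfQuot Groth.Agent.GrassLib Groth.Agent.GrpQLib
open WithConv Matrix
open scoped TensorProduct

namespace Groth.Agent.AlgGrpLib.NoTorus

section Orbit

open CoactBr Groth.Agent.SGA3cLib HopfLib.SpPoints
open OrbitLC (swapHom)
open BorelFixed (exists_flat_cover)

variable {k : Type u} [Field k] [IsAlgClosed k]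

/-- Invariant functions of a stabiliser with closed proper orbit are constant. -/
theorem eq_const_of_invariant {G X : Over (Spec (CommRingCat.of k))} [GrpObj G] [Smooth G.hom] [QuasiCompact G.hom]
    [ConnectedSpace G.left] [IsProper X.hom] (a : AlgGrp.Action G X)
    (x : 𝟙_ (Over (Spec (CommRingCat.of k))) ⟶ X) (hx : IsClosed (Set.range (a.orbitMap x).left.base))
    {A : Type u} [CommRing A] [HopfAlgebra k A] (e : sp k A ≅ G) [IsMonHom e.hom] (I : Ideal A)
    (hfix : ∀ {W : Over (Spec (CommRingCat.of k))} (f : W ⟶ sp k A),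
      lift (f ≫ e.hom) (toUnit W ≫ x) ≫ a.act = toUnit W ≫ x → ∀ z ∈ I, theta f.left z = 0)
    (F : A) (hF : Algebra.TensorProduct.map (AlgHom.id k A) (Ideal.Quotient.mkₐ k I)
      (CoalgebraStruct.comul (R := k) F) = F ⊗ₜ 1) :
    ∃ c : k, F = algebraMap k A c := by
  haveI : IsMonHom e.inv := inferInstance
  -- the orbit
  haveI : CompactSpace X.left := QuasiCompact.compactSpace_of_compactSpace X.hom
  obtain ⟨O, i, hi, hred, hrange⟩ :=
    OrbitDimFormula.exists_reduced_immersion (X := X) (C := Set.range (a.orbitMap x).left.base) hx.isLocallyClosed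
  haveI := hi
  haveI := hred
  haveI : Mono i := Over.mono_of_mono_left i
  haveI : IsClosedImmersion i.left := IsClosedImmersion.of_isPreimmersion i.left (hrange ▸ hx)
  haveI : IsProper O.hom := by rw [← Over.w i]; infer_instance
  obtain ⟨W, m, Ψ, σ, hflat, hsurj, hqc, hΨ, hσ⟩ := exists_flat_cover a x i hrange
  haveI := hflat
  haveI := hsurj
  haveI := hqc
  haveI : ConnectedSpace O.left :=
    Function.Surjective.connectedSpace (f := (σ ≫ Ψ).left.base) (fun o => by
      obtain ⟨g, hg⟩ : i.left.base o ∈ Set.range (a.orbitMap x).left.base := hrange ▸ ⟨o, rfl⟩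
      refine ⟨g, i.left.isEmbedding.injective ?_⟩
      have e2 : σ ≫ Ψ ≫ i = a.orbitMap x := by rw [hΨ, reassoc_of% hσ]
      exact (congrArg (fun φ => φ.left.base g) e2).trans hg) (σ ≫ Ψ).left.continuous
  let f : W ⟶ sp k A := m ≫ e.inv
  let s : Γ(W.left, ⊤) := theta f.left F
  have hs : (pullback.fst Ψ.left Ψ.left).appTop s = (pullback.snd Ψ.left Ψ.left).appTop s := by
    let R : Over (Spec (CommRingCat.of k)) := Over.mk (pullback.fst Ψ.left Ψ.left ≫ W.hom)
    let p : R ⟶ W := Over.homMk (pullback.fst Ψ.left Ψ.left)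
    let q : R ⟶ W := Over.homMk (pullback.snd Ψ.left Ψ.left) (by
      show pullback.snd Ψ.left Ψ.left ≫ W.hom = pullback.fst Ψ.left Ψ.left ≫ W.hom
      rw [← Over.w Ψ, pullback.condition_assoc])
    have hpq : p ≫ Ψ = q ≫ Ψ := Over.OverMorphism.ext pullback.condition
    let g : R ⟶ G := p ≫ m
    let g' : R ⟶ G := q ≫ m
    have hgx : g ≫ a.orbitMap x = g' ≫ a.orbitMap x := by
      simp only [g, g', Category.assoc, ← hΨ, reassoc_of% hpq]
    let h : R ⟶ G := g⁻¹ * g'
    have hh : lift h (toUnit R ≫ x) ≫ a.act = toUnit R ≫ x := by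
      have hor : ∀ y : R ⟶ G, lift y (toUnit R ≫ x) ≫ a.act = y ≫ a.orbitMap x := fun y => by
        simp only [AlgGrp.Action.orbitMap, ← Category.assoc, comp_lift]
        congr 2 <;> simp
      rw [TorusFreeOrbit.act_mul, hor g', ← hgx, ← hor g, ← TorusFreeOrbit.act_mul, inv_mul_cancel,
        TorusFreeOrbit.act_one]
    -- factor through the global sections
    letI : Algebra k Γ(R.left, ⊤) := (theta R.hom).toAlgebra
    let c : R ⟶ sp k Γ(R.left, ⊤) := Over.homMk R.left.toSpecΓ (toSpecΓ_SpecMap_theta R.hom)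
    let φ : (R ⟶ sp k A) → (A →ₐ[k] Γ(R.left, ⊤)) := fun y =>
      { theta y.left with
        commutes' := fun r => by
          show theta y.left (algebraMap k A r) = theta R.hom r
          have hw : y.left ≫ Spec.map (CommRingCat.ofHom (algebraMap k A)) = R.hom := Over.w y
          rw [← hw]
          show _ = y.left.appTop (theta (Spec.map (CommRingCat.ofHom (algebraMap k A))) r)
          rw [theta_SpecMap]
          rfl }
    have hfac : ∀ y : R ⟶ sp k A, c ≫ pt (φ y) = y := fun y =>
      Over.OverMorphism.ext (toSpecΓ_SpecMap_theta y.left)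
    have hθ : ∀ (ψ : A →ₐ[k] Γ(R.left, ⊤)) (z : A), theta (c ≫ pt ψ).left z = ψ z := fun ψ z =>
      appTop_toSpecΓ_SpecMap (CommRingCat.ofHom ψ.toRingHom) z
    have key : g' ≫ e.inv = c ≫ (pt (φ (g ≫ e.inv)) * pt (φ (h ≫ e.inv))) := by
      rw [MonObj.comp_mul, hfac, hfac, ← MonObj.mul_comp, mul_inv_cancel_left]
    have hkill : ∀ z ∈ I, φ (h ≫ e.inv) z = 0 :=
      hfix (h ≫ e.inv) (by simpa using hh)
    let hbar : A ⧸ I →ₐ[k] Γ(R.left, ⊤) := Ideal.Quotient.liftₐ I (φ (h ≫ e.inv)) hkill
    have hFq : theta (g' ≫ e.inv).left F = theta (g ≫ e.inv).left F := by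
      rw [key, pt_mul_pt, hθ]
      have hl : ∀ t : A ⊗[k] A,
          Algebra.TensorProduct.lift (φ (g ≫ e.inv)) (φ (h ≫ e.inv)) (fun _ _ => .all _ _) t =
            Algebra.TensorProduct.lift (φ (g ≫ e.inv)) hbar (fun _ _ => .all _ _)
              (Algebra.TensorProduct.map (AlgHom.id k A) (Ideal.Quotient.mkₐ k I) t) := by
        intro t
        induction t using TensorProduct.induction_on with
        | zero => simp
        | add p q hp hq => simp only [map_add, hp, hq]
        | tmul p q =>
          simp only [Algebra.TensorProduct.lift_tmul, Algebra.TensorProduct.map_tmul, AlgHom.id_apply]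
          rfl
      rw [AlgHom.comp_apply, hl, Bialgebra.comulAlgHom_apply, hF, Algebra.TensorProduct.lift_tmul, map_one,
        _root_.mul_one]
      rfl
    have e1 : theta (g ≫ e.inv).left F = (pullback.fst Ψ.left Ψ.left).appTop s := by
      simp only [g, Category.assoc]
      rfl
    have e2 : theta (g' ≫ e.inv).left F = (pullback.snd Ψ.left Ψ.left).appTop s := by
      simp only [g', Category.assoc]
      rfl
    rw [← e1, ← e2, hFq]
  obtain ⟨t, ht⟩ : s ∈ Set.range Ψ.left.appTop :=
    (TorsorQuot.appTop_injective_range Ψ.left _ _ (IsPullback.of_hasPullback Ψ.left Ψ.left)).2.ge hs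
  obtain ⟨c, rfl⟩ := AbSchLib.surjective_appTop_of_isAlgClosed k O.hom t
  obtain ⟨c, rfl⟩ := (ConcreteCategory.bijective_of_isIso (Scheme.ΓSpecIso (CommRingCat.of k)).inv).2 c
  refine ⟨c, ?_⟩
  let τ : sp k A ⟶ W := e.hom ≫ σ
  have hτ : τ ≫ f = 𝟙 _ := by simp [τ, f, reassoc_of% hσ]
  apply (ConcreteCategory.bijective_of_isIso (Scheme.ΓSpecIso (CommRingCat.of A)).inv).1
  have h1 : τ.left.appTop s = (Scheme.ΓSpecIso (CommRingCat.of A)).inv F := by
    have : τ.left.appTop s = theta (τ ≫ f).left F := rfl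
    rw [this, hτ]
    rfl
  rw [← h1, ← ht]
  have hw : τ.left ≫ Ψ.left ≫ O.hom = Spec.map (CommRingCat.ofHom (algebraMap k A)) := by
    rw [Over.w Ψ, Over.w τ]; rfl
  have h2 : τ.left.appTop (Ψ.left.appTop (theta O.hom c)) =
      theta (τ.left ≫ Ψ.left ≫ O.hom) c := rfl
  refine h2.trans ?_
  rw [hw]
  exact theta_SpecMap (CommRingCat.ofHom (algebraMap k A)) c

end Orbit

section Line

open GrassAction
open Groth.Agent.SGA3cLib (theta theta_SpecMap)

variable {k : Type u} [Field k] [IsAlgClosed k] {C : Type u} [CommRing C] [HopfAlgebra k C]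
  [Algebra.FiniteType k C] [IsDomain C]

/-- A representation has a line with closed orbit. -/
theorem exists_stable_line {n : ℕ} (hn : 0 < n) {a : Fin n → Fin n → C} (ha : IsCorep (k := k) a) :
    ∃ v : Fin n → k, v ≠ 0 ∧ ∃ I : Ideal C, ∃ _ : I.IsHopfIdeal k, ∃ g : C ⧸ I,
      (∀ l, Ideal.Quotient.mk I (∑ t, a l t * algebraMap k C (v t)) = g * algebraMap k (C ⧸ I) (v l)) ∧
      ∀ F : C, Algebra.TensorProduct.map (AlgHom.id k C) (Ideal.Quotient.mkₐ k I)
        (CoalgebraStruct.comul (R := k) F) = F ⊗ₜ 1 → ∃ c : k, F = algebraMap k C c := by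
  classical
  let q := n - 1
  let X := GrOver n q k
  let G := spec (k := k) C
  obtain ⟨act, hact⟩ := exists_action (q := q) ha
  obtain ⟨c₀, hc₀, hc₀'⟩ := exists_closedImmersion_GrOver (R := k) (n := n) (q := q) (Nat.sub_le n 1)
  haveI : IsProper X.hom := RelVALib.IsPnClosed.isProper ⟨_, c₀, hc₀, hc₀'⟩
  -- a point
  let K₀ : CommAlgCat.{u} k := CommAlgCat.of k k
  haveI : Nonempty X.left := by
    let L : Submodule k (Fin n → k) := Submodule.span k {Pi.single (⟨0, hn⟩ : Fin n) (1 : k)}
    let L' : Submodule k (k ⊗[k] (Fin n → k)) := L.comap (kappa (R := k) k n).toLinearMap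
    let eq := Submodule.Quotient.equiv L' L (kappa (R := k) k n)
      (Submodule.map_comap_eq_of_surjective (kappa (R := k) k n).surjective _)
    have hfr : Module.finrank k ((k ⊗[k] (Fin n → k)) ⧸ L') = q := by
      rw [eq.finrank_eq]
      have h := L.finrank_quotient_add_finrank
      have hne : (Pi.single (⟨0, hn⟩ : Fin n) (1 : k) : Fin n → k) ≠ 0 := by simp
      rw [finrank_span_singleton (K := k) hne, Module.finrank_fin_fun] at h
      omega
    let N : Module.Grassmannian K₀ (K₀ ⊗[k] (Fin n → k)) q :=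
      { toSubmodule := L'
        finite_quotient := Module.Finite.equiv eq.symm
        projective_quotient := Module.Projective.of_free
        rankAtStalk_eq := fun p => (congrFun (Module.rankAtStalk_eq_finrank_of_free (R := k)
          (M := (k ⊗[k] (Fin n → k)) ⧸ L')) p).trans hfr }
    exact ⟨((repFree n q k K₀).symm N).left (IsLocalRing.closedPoint k)⟩
  haveI : IsReduced G.left := inferInstanceAs (IsReduced (Spec (CommRingCat.of C)))
  haveI : LocallyOfFiniteType G.hom :=
    (HasRingHomProperty.Spec_iff (P := @LocallyOfFiniteType)).2 (RingHom.finiteType_algebraMap.2 ‹_›)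
  haveI : Smooth G.hom := UnipStruct.smooth_of_isReduced G
  haveI : IsAffine G.left := inferInstanceAs (IsAffine (Spec (CommRingCat.of C)))
  haveI : CompactSpace G.left := inferInstanceAs (CompactSpace ↥(Spec (CommRingCat.of C)))
  haveI : QuasiCompact G.hom := (quasiCompact_iff_compactSpace G.hom).2 inferInstance
  haveI : ConnectedSpace G.left := inferInstanceAs (ConnectedSpace (PrimeSpectrum C))
  obtain ⟨x, hx⟩ := OrbitDim.exists_isClosed_orbit act
  -- the line
  let x₀ : GrassLib.pt K₀ ⟶ X := toUnit _ ≫ x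
  let N₀ := repFree n q k K₀ x₀
  have hN₀ : Module.finrank k (crd (R := k) N₀) = 1 := by
    haveI : Module.Free k ((k ⊗[k] (Fin n → k)) ⧸ N₀.toSubmodule) := Module.Free.of_divisionRing k _
    haveI : Module.Finite k ((k ⊗[k] (Fin n → k)) ⧸ N₀.toSubmodule) := N₀.finite_quotient
    have h1 := (congrFun (Module.rankAtStalk_eq_finrank_of_free (R := k)
      (M := (k ⊗[k] (Fin n → k)) ⧸ N₀.toSubmodule)) (IsLocalRing.closedPoint k)).symm.trans
        (N₀.rankAtStalk_eq (IsLocalRing.closedPoint k))
    have h2 := N₀.toSubmodule.finrank_quotient_add_finrank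
    have h3 : Module.finrank k (k ⊗[k] (Fin n → k)) = n := by
      rw [(kappa (R := k) k n).finrank_eq, Module.finrank_fin_fun]
    have h4 : Module.finrank k (crd (R := k) N₀) = Module.finrank k N₀.toSubmodule :=
      ((Submodule.equivMapOfInjective _ (kappa (R := k) k n).injective N₀.toSubmodule).finrank_eq).symm
    rw [h4]
    have h1' : Module.finrank k ((k ⊗[k] (Fin n → k)) ⧸ N₀.toSubmodule) = n - 1 := h1
    have h2' : Module.finrank k ((k ⊗[k] (Fin n → k)) ⧸ N₀.toSubmodule) + Module.finrank k N₀.toSubmodule = n :=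
      h2.trans h3
    omega
  obtain ⟨⟨v, hv⟩, hv0, hspan⟩ := finrank_eq_one_iff'.1 hN₀
  have hcrd : crd (R := k) N₀ = Submodule.span k {v} := by
    refine le_antisymm (fun w hw => ?_) (Submodule.span_le.2 (Set.singleton_subset_iff.2 hv))
    obtain ⟨c, hc⟩ := hspan ⟨w, hw⟩
    exact Submodule.mem_span_singleton.2 ⟨c, congrArg Subtype.val hc⟩
  have hline : ∀ T : CommAlgCat.{u} k, crd (repFree n q k T (toUnit _ ≫ x)) =
      Submodule.span T {fun j => algebraMap k T (v j)} := by
    intro T
    let φ : K₀ ⟶ T := CommAlgCat.ofHom (Algebra.ofId k T)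
    let h₀ : GrassLib.pt T ⟶ GrassLib.pt K₀ := Over.homMk (Spec.map (CommRingCat.ofHom φ.hom.toRingHom)) (by
      show Spec.map _ ≫ Spec.map _ = Spec.map _
      rw [← Spec.map_comp, ← CommRingCat.ofHom_comp]
      exact congrArg (fun r => Spec.map (CommRingCat.ofHom r)) φ.hom.comp_algebraMap)
    have hT : toUnit (GrassLib.pt T) ≫ x = h₀ ≫ x₀ := by
      simp only [x₀, ← Category.assoc]
      exact congrArg (· ≫ x) (toUnit_unique _ _)
    rw [hT, repFree_natural K₀ T φ x₀ (h₀ ≫ x₀) rfl]
    refine (crd_map φ N₀).trans ?_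
    rw [show crd (R := K₀) N₀ = Submodule.span k {v} from hcrd]
    refine le_antisymm (Submodule.span_le.2 ?_) (Submodule.span_mono ?_)
    · rintro _ ⟨w, hw, rfl⟩
      obtain ⟨c, rfl⟩ := Submodule.mem_span_singleton.1 hw
      refine Submodule.mem_span_singleton.2 ⟨algebraMap k T c, ?_⟩
      funext j
      exact (map_mul (algebraMap k T) c (v j)).symm
    · rintro _ rfl
      exact ⟨v, Submodule.mem_span_singleton_self v, rfl⟩
  -- the stabiliser
  let o : G ⟶ X := act.orbitMap x
  let o' : G ⟶ X := toUnit _ ≫ x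
  obtain ⟨I, hI⟩ := TorusFreeOrbit.exists_equalizer_ideal (A := CommRingCat.of C)
    (h := Spec.map (CommRingCat.ofHom (algebraMap k C))) o o'
  have hfix : ∀ {W : Over (Spec (CommRingCat.of k))} (f : W ⟶ G),
      lift f (toUnit W ≫ x) ≫ act.act = toUnit W ≫ x ↔ ∀ z ∈ I, theta f.left z = 0 := by
    intro W f
    have h1 : lift f (toUnit W ≫ x) ≫ act.act = f ≫ o := by
      simp only [o, AlgGrp.Action.orbitMap, ← Category.assoc, comp_lift]
      congr 2
      exact congrArg (· ≫ x) (toUnit_unique _ _)
    have h2 : toUnit W ≫ x = f ≫ o' := by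
      simp only [o', ← Category.assoc]
      exact congrArg (· ≫ x) (toUnit_unique _ _)
    rw [h1, h2]
    exact hI W f
  have halg : ∀ (T : CommAlgCat.{u} k) (w : Pt k C T),
      lift (ptSpec (T := T) w) (toUnit _ ≫ x) ≫ act.act = toUnit (GrassLib.pt T) ≫ x ↔ ∀ z ∈ I, w.ofConv z = 0 := by
    intro T w
    refine (hfix (W := GrassLib.pt T) (ptSpec (T := T) w)).trans (forall₂_congr fun z _ => ?_)
    have e : theta (ptSpec (k := k) (T := T) w).left z = (Scheme.ΓSpecIso (CommRingCat.of T)).inv (w.ofConv z) :=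
      theta_SpecMap (CommRingCat.ofHom w.ofConv.toRingHom) z
    exact ⟨fun h => (ConcreteCategory.bijective_of_isIso (Scheme.ΓSpecIso (CommRingCat.of T)).inv).1
      ((e.symm.trans h).trans (map_zero (Scheme.ΓSpecIso (CommRingCat.of T)).inv.hom).symm),
      fun h => e.trans (h ▸ map_zero (Scheme.ΓSpecIso (CommRingCat.of T)).inv.hom)⟩
  have hfix' : ∀ (T : CommAlgCat.{u} k) (w : Pt k C T),
      move ha w (repFree n q k T (toUnit _ ≫ x)) = repFree n q k T (toUnit _ ≫ x) ↔ ∀ z ∈ I, w.ofConv z = 0 := by
    intro T w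
    refine Iff.trans (Iff.trans (Iff.of_eq (congrArg (· = _) ?_)) (repFree n q k T).injective.eq_iff) (halg T w)
    refine ((hact T (ptSpec (T := T) w) _).trans ?_).symm
    exact congrArg (fun g => move ha g _) (ptOf_ptSpec w)
  let Sub : ∀ (R : Type u) [CommRing R] [Algebra k R], Subgroup (Pt k C R) := fun R _ _ =>
    { carrier := {w | move ha w (repFree n q k (CommAlgCat.of k R) (toUnit _ ≫ x)) =
        repFree n q k (CommAlgCat.of k R) (toUnit _ ≫ x)}
      one_mem' := move_one ha _
      mul_mem' := fun {w w'} hw hw' => by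
        show move ha _ _ = _
        rw [move_mul, hw', hw]
      inv_mem' := fun {w} hw => by
        show move ha _ _ = _
        conv_lhs => rw [← hw, ← move_mul, inv_mul_cancel]
        exact move_one ha _ }
  have hIH : I.IsHopfIdeal k := DynLib.isHopfIdeal_of_subgroup I Sub fun R _ _ w =>
    (hfix' (CommAlgCat.of k R) (toConv w)).symm
  -- the character of the stabiliser on the line
  let B : CommAlgCat.{u} k := CommAlgCat.of k (C ⧸ I)
  let π : Pt k C B := toConv (Ideal.Quotient.mkₐ k I)
  let vB : Fin n → B := fun j => algebraMap k B (v j)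
  have hmem : mat a π *ᵥ vB ∈ Submodule.span B {vB} := by
    have h := congrArg crd ((hfix' B π).2 fun z hz => Ideal.Quotient.eq_zero_iff_mem.2 hz)
    rw [crd_move, hline B] at h
    rw [← h]
    exact Submodule.mem_map_of_mem (Submodule.mem_span_singleton_self vB)
  obtain ⟨g, hg⟩ := Submodule.mem_span_singleton.1 hmem
  refine ⟨v, fun h => hv0 (Subtype.ext h), I, hIH, g, fun l => ?_, fun F hF => ?_⟩
  · have h := congrFun hg l
    refine Eq.trans ?_ h.symm
    simp only [map_sum, map_mul, Matrix.mulVec, dotProduct, mat, Matrix.of_apply]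
    rfl
  · haveI : IsMonHom (Iso.refl G).hom := inferInstanceAs (IsMonHom (𝟙 G))
    exact eq_const_of_invariant act x hx (Iso.refl G) I
      (fun f hf => (hfix f).1
      ((congrArg (fun g => lift g (toUnit _ ≫ x) ≫ act.act) (Category.comp_id f)).symm.trans hf)) F hF

end Line

section Main

open GrassAction
open Coalgebra (comul counit)

variable {k : Type u} [Field k] [IsAlgClosed k]

theorem isTrigonalizable_of_forall_quotient {C : Type u} [CommRing C] [HopfAlgebra k C] [Algebra.FiniteType k C]
    [IsDomain C]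
    (h : ∀ (D : Type u) (_ : CommRing D) (_ : HopfAlgebra k D) (π : C →ₐc[k] D), IsDomain D →
      Function.Surjective π → ¬ Function.Injective π → IsUnipotent k D) :
    IsTrigonalizable k C := by
  classical
  intro V _ _ _ hfin hs
  have := hs.1
  let n := Module.finrank k V
  let b := Module.finBasis k V
  let a : Fin n → Fin n → C := fun s t => HopfLib.cf (A := C) (b.coord s) (b t)
  have ha : IsCorep (k := k) a := isCorep_basis b
  obtain ⟨v, hv, I, hI, g, hg, hconst⟩ := exists_stable_line (Module.finrank_pos (R := k) (M := V)) ha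
  let F : Fin n → C := fun l => ∑ t, a l t * algebraMap k C (v t)
  have hεF : ∀ l, counit (R := k) (F l) = v l := fun l => by
    simp only [F, map_sum, Bialgebra.counit_mul, Bialgebra.counit_algebraMap, ha.1, ite_mul, _root_.one_mul,
      zero_mul, Finset.sum_ite_eq, Finset.mem_univ, if_true]
  have hΔF : ∀ l, comul (R := k) (F l) = ∑ j, a l j ⊗ₜ[k] F j := fun l => by
    simp only [F, map_sum, Bialgebra.comul_mul, Bialgebra.comul_algebraMap, ha.2, Finset.sum_mul,
      TensorProduct.tmul_sum]
    rw [Finset.sum_comm]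
    refine Finset.sum_congr rfl fun j _ => Finset.sum_congr rfl fun t _ => ?_
    rw [Algebra.TensorProduct.algebraMap_apply', Algebra.TensorProduct.tmul_mul_tmul, _root_.mul_one]
  -- an eigenvector
  obtain ⟨χ, hχ⟩ : ∃ χ : C, ∀ l, F l = χ * algebraMap k C (v l) := by
    by_cases hbot : I = ⊥
    · obtain ⟨χ, rfl⟩ := Ideal.Quotient.mk_surjective g
      refine ⟨χ, fun l => sub_eq_zero.1 ((Submodule.mem_bot C).1 ?_)⟩
      rw [← hbot, ← Ideal.Quotient.eq]
      exact (hg l).trans (map_mul (Ideal.Quotient.mk I) χ _).symm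
    haveI := hI
    haveI : Algebra.FiniteType k (C ⧸ I) :=
      Algebra.FiniteType.of_surjective (Ideal.Quotient.mkₐ k I) Ideal.Quotient.mk_surjective
    let π : C →ₐc[k] C ⧸ I := Bialgebra.Quotient.mkBialgHom (R := k) I
    obtain ⟨i, hi⟩ : ∃ i, v i ≠ 0 := Function.ne_iff.1 hv
    have hg' : ∀ l, π (F l) = g * algebraMap k (C ⧸ I) (v l) := hg
    have hΔπ : ∀ l, Algebra.TensorProduct.map (AlgHom.id k C) (π : C →ₐ[k] C ⧸ I) (comul (R := k) (F l)) = F l ⊗ₜ g := by
      intro l
      rw [hΔF, map_sum]
      simp only [Algebra.TensorProduct.map_tmul, AlgHom.id_apply]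
      rw [show F l = ∑ j, a l j * algebraMap k C (v j) from rfl, TensorProduct.sum_tmul]
      refine Finset.sum_congr rfl fun j _ => ?_
      rw [show (π : C →ₐ[k] C ⧸ I) (F j) = g * algebraMap k (C ⧸ I) (v j) from hg' j, mul_comm g,
        ← Algebra.smul_def, mul_comm (a l j), ← Algebra.smul_def, TensorProduct.tmul_smul, TensorProduct.smul_tmul']
    have hgl : IsGroupLikeElem k g := by
      have hu : g = (v i)⁻¹ • π (F i) := by
        rw [hg', mul_comm, ← Algebra.smul_def, smul_smul, inv_mul_cancel₀ hi, one_smul]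
      refine ⟨?_, ?_⟩
      · rw [hu, map_smul, CoalgHomClass.counit_comp_apply, hεF, smul_eq_mul, inv_mul_cancel₀ hi]
      · conv_lhs => rw [hu]
        rw [map_smul, ← CoalgHomClass.map_comp_comul_apply, show TensorProduct.map (π : C →ₗ[k] C ⧸ I)
          (π : C →ₗ[k] C ⧸ I) (comul (R := k) (F i)) = (v i) • (g ⊗ₜ[k] g) from ?_, smul_smul, inv_mul_cancel₀ hi,
          one_smul]
        have e : ∀ z : C ⊗[k] C, TensorProduct.map (π : C →ₗ[k] C ⧸ I) (π : C →ₗ[k] C ⧸ I) z =
            Algebra.TensorProduct.map (π : C →ₐ[k] C ⧸ I) (AlgHom.id k (C ⧸ I))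
              (Algebra.TensorProduct.map (AlgHom.id k C) (π : C →ₐ[k] C ⧸ I) z) := fun z => by
          induction z using TensorProduct.induction_on with
          | zero => simp
          | add p q hp hq => simp only [map_add, hp, hq]
          | tmul p q => rfl
        rw [e, hΔπ, Algebra.TensorProduct.map_tmul, AlgHom.id_apply,
          show (π : C →ₐ[k] C ⧸ I) (F i) = g * algebraMap k (C ⧸ I) (v i) from hg' i, mul_comm, ← Algebra.smul_def,
          TensorProduct.smul_tmul']
    obtain ⟨P, hP, hPp, hfinord⟩ := GroupLikeOrder.exists_component (k := k) (B := C ⧸ I)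
    haveI := hP
    haveI := hPp
    let ρ : C →ₐc[k] (C ⧸ I) ⧸ P := (Bialgebra.Quotient.mkBialgHom (R := k) P).comp π
    have hUD : IsUnipotent k ((C ⧸ I) ⧸ P) := by
      refine h _ _ _ ρ inferInstance (Ideal.Quotient.mk_surjective.comp Ideal.Quotient.mk_surjective) fun hinj => ?_
      obtain ⟨z, hz, hz0⟩ := Submodule.exists_mem_ne_zero_of_ne_bot hbot
      refine hz0 (hinj ?_)
      rw [map_zero]
      show Ideal.Quotient.mk P (Ideal.Quotient.mk I z) = 0
      rw [Ideal.Quotient.eq_zero_iff_mem.2 hz, map_zero]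
    have hgP : g - 1 ∈ P := by
      have hgl' : IsGroupLikeElem k (Ideal.Quotient.mk P g) := hgl.map (Bialgebra.Quotient.mkBialgHom (R := k) P)
      obtain ⟨r, hr⟩ := isUnipotent_iff_forall_mem_socFil.1 hUD (Ideal.Quotient.mk P g)
      exact Ideal.Quotient.eq.1 ((UnipStruct.eq_one_of_mem_socFil hgl' hr).trans (map_one _).symm)
    obtain ⟨M, hM, hgM⟩ := hfinord g hgl hgP
    refine ⟨1, fun l => ?_⟩
    rw [_root_.one_mul]
    obtain ⟨c, hc⟩ := hconst (F l ^ M) (by
      rw [Bialgebra.comul_pow, map_pow]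
      exact (congrArg (· ^ M) (hΔπ l)).trans (by rw [Algebra.TensorProduct.tmul_pow, hgM]))
    have halg : IsIntegral k (F l) := IsIntegral.of_pow hM (hc ▸ isIntegral_algebraMap)
    obtain ⟨d, hd⟩ := minpoly.mem_range_of_degree_eq_one k (F l)
      (IsAlgClosed.degree_eq_one_of_irreducible k (minpoly.irreducible halg))
    have := hεF l
    rw [← hd, Bialgebra.counit_algebraMap] at this
    rw [← hd, this]
  let w : V := ∑ l, v l • b l
  have hw : w ≠ 0 := fun h0 => hv (funext fun l => by
    have := congrArg (fun z => b.repr z l) h0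
    simpa [w, Finsupp.single_apply] using this)
  have hcoact : Comod.coact (k := k) (A := C) w = w ⊗ₜ χ := by
    have hb : ∀ t, Comod.coact (k := k) (A := C) (b t) = ∑ l, b l ⊗ₜ[k] a l t := by
      intro t
      simp only [a, HopfLib.cf_apply]
      generalize Comod.coact (k := k) (A := C) (b t) = z
      induction z using TensorProduct.induction_on with
      | zero => simp
      | add p r hp hr => simp only [map_add, TensorProduct.tmul_add, Finset.sum_add_distrib, ← hp, ← hr]
      | tmul p y =>
        simp only [HopfLib.sliceL_tmul, TensorProduct.tmul_smul]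
        conv_lhs => rw [← b.sum_repr p]
        rw [TensorProduct.sum_tmul]
        simp [TensorProduct.smul_tmul']
    simp only [w, map_sum, map_smul, hb, Finset.smul_sum, TensorProduct.sum_tmul]
    rw [Finset.sum_comm]
    refine Finset.sum_congr rfl fun l _ => ?_
    rw [← TensorProduct.smul_tmul', ← TensorProduct.tmul_smul, Algebra.smul_def, mul_comm, ← hχ, TensorProduct.tmul_sum]
    refine Finset.sum_congr rfl fun t _ => ?_
    rw [mul_comm, ← Algebra.smul_def, TensorProduct.tmul_smul]
  have hsub : IsSubcomod (k := k) (A := C) (Submodule.span k {w}) := by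
    intro y hy
    obtain ⟨c, rfl⟩ := Submodule.mem_span_singleton.1 hy
    refine ⟨c • ((⟨w, Submodule.mem_span_singleton_self w⟩ : Submodule.span k {w}) ⊗ₜ χ), ?_⟩
    rw [map_smul, map_smul, LinearMap.rTensor_tmul, hcoact]
    rfl
  rcases hs.2 _ hsub with h0 | h0
  · exact absurd ((Submodule.span_singleton_eq_bot).1 h0) hw
  · rw [← finrank_top k V, ← h0, finrank_span_singleton hw]

/-- An integral group without a quotient onto the Laurent algebra is unipotent. -/
theorem isUnipotent_of_no_laurent {A : Type u} [CommRing A] [HopfAlgebra k A] [Algebra.FiniteType k A] [IsDomain A]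
    (hT : ∀ θ : A →ₐc[k] MonoidAlgebra k (Multiplicative ℤ), ¬ Function.Surjective θ) :
    IsUnipotent k A := by
  haveI : IsNoetherianRing A := Algebra.FiniteType.isNoetherianRing k A
  suffices key : ∀ P : Ideal A, ∀ (D : Type u) (_ : CommRing D) (_ : HopfAlgebra k D) (π : A →ₐc[k] D),
      RingHom.ker (π : A →+* D) = P → IsDomain D → Function.Surjective π → IsUnipotent k D from
    key _ A _ _ (BialgHom.id k A) rfl inferInstance Function.surjective_id
  intro P
  induction P using WellFoundedGT.induction with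
  | ind P ih =>
  intro D _ _ π hP hD hπ
  haveI := hD
  haveI : Algebra.FiniteType k D := Algebra.FiniteType.of_surjective (π : A →ₐ[k] D) hπ
  refine GroupLikeOrder.isUnipotent_of_isTrigonalizable ?_ fun θ hθ => hT (θ.comp π) (hθ.comp hπ)
  refine isTrigonalizable_of_forall_quotient fun E _ _ ρ hE hρ hρi => ?_
  refine ih _ ?_ E _ _ (ρ.comp π) rfl hE (hρ.comp hπ)
  refine lt_of_le_of_ne (fun z hz => ?_) fun heq => hρi ?_
  · rw [← hP] at hz
    show ρ (π z) = 0
    rw [show π z = 0 from hz, map_zero]
  · rw [injective_iff_map_eq_zero]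
    intro d hd
    obtain ⟨z, rfl⟩ := hπ d
    have hz : z ∈ RingHom.ker ((ρ.comp π : A →ₐc[k] E) : A →+* E) := hd
    rw [← heq, ← hP] at hz
    exact hz

end Main

end Groth.Agent.AlgGrpLib.NoTorus
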