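import Groth.Agent.AlgGrpLib.ExactSeqBasics
import Groth.Agent.DimLib.Zero
import Groth.Prelude.Def_AGF
import Mathlib.AlgebraicGeometry.PullbackCarrier
import Mathlib.AlgebraicGeometry.Morphisms.UniversallyOpen

/-! Quotients by subgroups with open support are finite. -/

set_option autoImplicit false
set_option backward.isDefEq.respectTransparency.types false

universe u

open CategoryTheory CategoryTheory.Limits MonoidalCategory CartesianMonoidalCategory MonObj AlgebraicGeometry

namespace Groth.Agent.AlgGrpLib.OpenKernelQuot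

variable {k : Type u} [Field k]

/-- A scheme over a field whose diagonal has open image is discrete. -/
theorem discreteTopology_of_diagonal_open (X : Over (Spec (CommRingCat.of k)))
    (h : IsOpen (Set.range (lift (𝟙 X) (𝟙 X)).left)) : DiscreteTopology X.left := by
  refine discreteTopology_iff_isOpen_singleton.2 fun x => ?_
  let K : Over (Spec (CommRingCat.of k)) := Over.mk (X.left.fromSpecResidueField x ≫ X.hom)
  let xK : K ⟶ X := Over.homMk (X.left.fromSpecResidueField x)
  let Δ : X ⟶ X ⊗ X := lift (𝟙 X) (𝟙 X)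
  let m : X ⊗ K ⟶ X ⊗ X := lift (fst X K) (snd X K ≫ xK)
  haveI : UniversallyOpen K.hom := inferInstance
  haveI : UniversallyOpen (fst X K).left :=
    MorphismProperty.pullback_fst (P := @UniversallyOpen) X.hom K.hom inferInstance
  have hopen : IsOpen ((fst X K).left '' (m.left ⁻¹' Set.range Δ.left)) :=
    (fst X K).left.isOpenMap _ (h.preimage m.left.continuous)
  suffices (fst X K).left '' (m.left ⁻¹' Set.range Δ.left) = {x} from this ▸ hopen
  have hxK : ∀ y, xK.left y = x := fun y => (X.left.range_fromSpecResidueField x).le ⟨y, rfl⟩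
  refine Set.Subset.antisymm ?_ ?_
  · rintro _ ⟨y, ⟨w, hw⟩, rfl⟩
    have h1 : (fst X K).left y = w := by
      have : (fst X X).left (m.left y) = (fst X X).left (Δ.left w) := by rw [hw]
      rw [← Scheme.Hom.comp_apply, ← Scheme.Hom.comp_apply, ← Over.comp_left, ← Over.comp_left, lift_fst, lift_fst] at this
      exact this
    have h2 : xK.left ((snd X K).left y) = w := by
      have : (snd X X).left (m.left y) = (snd X X).left (Δ.left w) := by rw [hw]
      rw [← Scheme.Hom.comp_apply, ← Scheme.Hom.comp_apply, ← Over.comp_left, ← Over.comp_left, lift_snd, lift_snd] at this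
      exact this
    rw [h1, ← h2]
    exact hxK _
  · rintro y (hy : y = x)
    rw [hy]
    obtain ⟨t⟩ : Nonempty K.left := ⟨(IsLocalRing.closedPoint (X.left.residueField x) : PrimeSpectrum _)⟩
    refine ⟨(lift xK (𝟙 K)).left t, ⟨xK.left t, ?_⟩, ?_⟩
    · have hcomm : xK ≫ Δ = lift xK (𝟙 K) ≫ m := by
        apply CartesianMonoidalCategory.hom_ext <;> simp [Δ, m]
      rw [← Scheme.Hom.comp_apply, ← Scheme.Hom.comp_apply, ← Over.comp_left, ← Over.comp_left, hcomm]
    · rw [← Scheme.Hom.comp_apply, ← Over.comp_left, lift_fst]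
      exact hxK t

theorem isFinite_of_open_range {G H X : Over (Spec (CommRingCat.of k))} [GrpObj G] [GrpObj H]
    [LocallyOfFiniteType G.hom] [QuasiCompact G.hom] (i : H ⟶ G) (hopen : IsOpen (Set.range i.left))
    (a : AlgGrp.Action G X) (o : 𝟙_ _ ⟶ X) (hq : AGF.IsQuotient i X a o) : IsFinite X.hom := by
  obtain ⟨hl, hf, hs, hsq⟩ := hq
  let π := a.orbitMap o
  haveI := hl
  haveI := hf
  haveI := hs
  haveI := ExactSeqBasics.locallyOfFinitePresentation_left π
  haveI : LocallyOfFiniteType (X ⊗ X).hom :=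
    inferInstanceAs (LocallyOfFiniteType (pullback.fst X.hom X.hom ≫ X.hom))
  haveI : LocallyOfFiniteType (G ⊗ G).hom :=
    inferInstanceAs (LocallyOfFiniteType (pullback.fst G.hom G.hom ≫ G.hom))
  let Δ : X ⟶ X ⊗ X := lift (𝟙 X) (𝟙 X)
  let sh : G ⊗ G ⟶ G ⊗ G := lift (fst G G) μ[G]
  have hμ : μ[G] = fst G G * snd G G := by simp [Hom.mul_def]
  haveI : IsIso sh := ⟨lift (fst G G) ((fst G G)⁻¹ * snd G G),
    CartesianMonoidalCategory.hom_ext _ _ (by simp [sh]) (by simp [sh, hμ, MonObj.comp_mul, GrpObj.comp_inv]),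
    CartesianMonoidalCategory.hom_ext _ _ (by simp [sh]) (by simp [sh, hμ, MonObj.comp_mul, GrpObj.comp_inv])⟩
  haveI : IsIso sh.left := inferInstanceAs (IsIso ((Over.forget _).map sh))
  have hO : IsOpen (Set.range ((G ◁ i) ≫ sh).left) := by
    have hcoe : Set.range ((G ◁ i) ≫ sh).left = sh.left '' Set.range (G ◁ i).left := by
      rw [← Set.range_comp]; rfl
    rw [hcoe]
    refine sh.left.isOpenEmbedding.isOpenMap _ ?_
    rw [Over.whiskerLeft_left, Scheme.Pullback.range_map]
    refine IsOpen.inter ?_ (hopen.preimage (pullback.snd G.hom G.hom).continuous)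
    have : Set.range (𝟙 G.left : G.left ⟶ G.left) = Set.univ := Set.range_eq_univ.2 fun y => ⟨y, rfl⟩
    rw [this]
    exact isOpen_univ
  have hpre : (π ⊗ₘ π).left ⁻¹' Set.range Δ.left = Set.range ((G ◁ i) ≫ sh).left := by
    refine Set.Subset.antisymm (fun z hz => ?_) ?_
    · let P := pullback (π ⊗ₘ π) Δ
      obtain ⟨w, hw⟩ : z ∈ Set.range (pullback.fst (π ⊗ₘ π) Δ).left := by
        obtain ⟨y, hy⟩ := hz
        have hm := (IsPullback.of_hasPullback (π ⊗ₘ π) Δ).map (Over.forget _)
        obtain ⟨w, hw1, -⟩ := Scheme.Pullback.exists_preimage_pullback z y hy.symm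
        exact ⟨hm.isoPullback.inv w, by
          rw [← hw1]
          exact congrArg (fun φ : pullback _ _ ⟶ (G ⊗ G).left => φ w) hm.isoPullback_inv_fst⟩
      let pf := pullback.fst (π ⊗ₘ π) Δ
      have e1 := congrArg (· ≫ fst X X) (pullback.condition (f := π ⊗ₘ π) (g := Δ))
      have e2 := congrArg (· ≫ snd X X) (pullback.condition (f := π ⊗ₘ π) (g := Δ))
      simp only [Δ, Category.assoc, tensorHom_fst, tensorHom_snd, lift_fst, lift_snd, Category.comp_id] at e1 e2
      have hc : (pf ≫ fst G G) ≫ π = (pf ≫ snd G G) ≫ π := by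
        rw [Category.assoc, Category.assoc]; exact e1.trans e2.symm
      let c := hsq.lift (pf ≫ fst G G) (pf ≫ snd G G) hc
      have hcs : c ≫ (G ◁ i) ≫ sh = pf := by
        apply CartesianMonoidalCategory.hom_ext
        · simp [sh, c]
        · simp only [sh, Category.assoc, lift_snd]
          exact hsq.lift_snd _ _ hc
      refine ⟨c.left w, ?_⟩
      rw [← Scheme.Hom.comp_apply, ← Over.comp_left, hcs]
      exact hw
    · rintro _ ⟨w, rfl⟩
      refine ⟨(fst G H ≫ π).left w, ?_⟩
      have hcomm : (fst G H ≫ π) ≫ Δ = ((G ◁ i) ≫ sh) ≫ (π ⊗ₘ π) := by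
        apply CartesianMonoidalCategory.hom_ext
        · simp [Δ, sh]
        · simp only [Δ, sh, Category.assoc, lift_snd, tensorHom_snd, Category.comp_id, lift_snd_assoc]
          rw [← Category.assoc (G ◁ i)]
          exact hsq.w
      rw [← Scheme.Hom.comp_apply, ← Scheme.Hom.comp_apply, ← Over.comp_left, ← Over.comp_left, hcomm]
  haveI : Surjective (π ⊗ₘ π).left := by
    rw [Over.tensorHom_left]
    exact MorphismProperty.pullbackMap (P := @Surjective.{u}) hs hs (Over.w π).symm (Over.w π).symm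
  have hΔ : IsOpen (Set.range Δ.left) := by
    haveI : Flat (π ⊗ₘ π).left := by
      rw [Over.tensorHom_left]
      exact MorphismProperty.pullbackMap (P := @Flat.{u}) hf hf (Over.w π).symm (Over.w π).symm
    haveI := ExactSeqBasics.locallyOfFinitePresentation_left (π ⊗ₘ π)
    rw [← Set.image_preimage_eq (Set.range Δ.left) (π ⊗ₘ π).left.surjective, hpre]
    exact (π ⊗ₘ π).left.isOpenMap _ hO
  haveI := discreteTopology_of_diagonal_open X hΔ
  haveI : CompactSpace G.left := QuasiCompact.compactSpace_of_compactSpace G.hom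
  haveI : CompactSpace X.left := π.left.surjective.compactSpace π.left.continuous
  haveI : Finite X.left := finite_of_compact_of_discrete
  haveI : QuasiCompact X.hom := (quasiCompact_iff_compactSpace (f := X.hom)).2 inferInstance
  exact DimLib.isFinite_of_finite X.hom

/-- A connected reduced subgroup lies in every subgroup with finite quotient. -/
theorem exists_lift_of_isFinite {G G₀ H X : Over (Spec (CommRingCat.of k))} [GrpObj G] [GrpObj G₀] [GrpObj H]
    [IsReduced G₀.left] [PreconnectedSpace G₀.left] (r : G₀ ⟶ G) [IsMonHom r] (h : H ⟶ G) [IsMonHom h]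
    (a : AlgGrp.Action G X) (o : 𝟙_ _ ⟶ X) (hq : AGF.IsQuotient h X a o) [IsFinite X.hom] :
    ∃ g : G₀ ⟶ H, g ≫ h = r := by
  obtain ⟨-, -, -, hsq⟩ := hq
  let π := a.orbitMap o
  have hηπ : η[G] ≫ π = o := by
    have h3 : lift η[G] o = (λ_ (𝟙_ _)).inv ≫ (𝟙_ _ ◁ o) ≫ (η[G] ▷ X) := by
      apply CartesianMonoidalCategory.hom_ext <;> simp [toUnit_unique (toUnit (𝟙_ (Over (Spec (CommRingCat.of k))))) (𝟙 _)]
    simp only [π, AlgGrp.Action.orbitMap, comp_lift_assoc, Category.id_comp, Category.comp_id]
    rw [← Category.assoc η[G] (toUnit G), toUnit_unique (η[G] ≫ toUnit G) (𝟙 _), Category.id_comp]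
    rw [h3]
    simp only [Category.assoc, a.one_act]
    simp
  let e₀ := η[G₀].left (IsLocalRing.closedPoint k)
  haveI : IsClosedImmersion o.left := isClosedImmersion_of_comp_eq_id X.hom o.left (Over.w o)
  haveI : DiscreteTopology X.left := by
    have h := (locallyQuasiFinite_iff_isDiscrete_preimage_singleton (f := X.hom)).1 inferInstance (IsLocalRing.closedPoint k)
    have huniv : X.hom ⁻¹' {IsLocalRing.closedPoint k} = Set.univ :=
      Set.eq_univ_of_forall fun x => Subsingleton.elim (α := PrimeSpectrum k) _ _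
    refine isDiscrete_univ_iff.1 ?_
    convert h using 1
    exact huniv.symm
  let s := pullback.snd o.left (r ≫ π).left
  haveI : Surjective s := by
    refine ⟨fun z => ?_⟩
    have hz : (r ≫ π).left z = (r ≫ π).left e₀ :=
      PreconnectedSpace.constant inferInstance (r ≫ π).left.continuous
    have he : (r ≫ π).left e₀ = o.left (IsLocalRing.closedPoint k) := by
      show (r ≫ π).left (η[G₀].left _) = _
      rw [← Scheme.Hom.comp_apply, ← Over.comp_left, IsMonHom.one_hom_assoc, hηπ]
    rw [← Set.mem_range, Scheme.Pullback.range_snd]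
    exact ⟨_, (hz.trans he).symm⟩
  haveI : IsClosedImmersion s := MorphismProperty.pullback_snd (P := @IsClosedImmersion) _ _ ‹IsClosedImmersion o.left›
  haveI := isIso_of_isClosedImmersion_of_surjective s
  have hr : r ≫ π = toUnit G₀ ≫ o := by
    refine Over.OverMorphism.ext ?_
    have h1 : (r ≫ π).left = (inv s ≫ pullback.fst o.left (r ≫ π).left) ≫ o.left := by
      rw [Category.assoc, pullback.condition, IsIso.inv_hom_id_assoc]
    refine h1.trans ?_
    show _ = (toUnit G₀).left ≫ o.left
    congr 1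
    have h2 := congrArg (· ≫ X.hom) h1
    simp only [Over.w, Category.assoc] at h2
    have hid : (𝟙_ (Over (Spec (CommRingCat.of k)))).hom = 𝟙 _ := rfl
    have h4 : (toUnit G₀).left = G₀.hom := by simpa using (Over.w (toUnit G₀))
    rw [h4]
    rw [hid, Category.comp_id] at h2
    exact h2.symm
  have hw : (1 : G₀ ⟶ G) ≫ π = r ≫ π := by
    rw [hr, Hom.one_def, Category.assoc, hηπ]
  let c := hsq.lift 1 r hw
  refine ⟨c ≫ snd G H, ?_⟩
  have h1 : c ≫ fst G H = 1 := hsq.lift_fst _ _ hw
  have h2 : c ≫ (G ◁ h) ≫ μ[G] = r := hsq.lift_snd _ _ hw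
  rw [show (G ◁ h) ≫ μ[G] = fst G H * (snd G H ≫ h) from by rw [Hom.mul_def]; congr 1, MonObj.comp_mul,
    h1, _root_.one_mul] at h2
  rw [Category.assoc]
  exact h2

end Groth.Agent.AlgGrpLib.OpenKernelQuot
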