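import Groth.Agent.EGA43.Chevalley.Crit
import Groth.Agent.EGA43.Chevalley.GenDim
import Groth.Agent.EGA43.FiniteCrit.NormalBase
import Groth.Agent.EGA43.FibDepth.TensorTrd
import Groth.Agent.EGA43.FibDepth.Points
import Groth.Agent.FlatMorThick.Topological

/-!
# A morphism to a normal base whose self product is universally open over a factor is universally open
-/

set_option autoImplicit false
set_option backward.isDefEq.respectTransparency false
set_option linter.style.haveILetI false

universe u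

open CategoryTheory CategoryTheory.Limits AlgebraicGeometry TopologicalSpace TensorProduct

namespace Groth.Agent.AlgGrpLib.OrbitOpen

open Groth.Agent EGA43.FibDepth FlatMorWeight

theorem trd_le_of_universallyOpen_tensor {A B : Type u} [CommRing A] [CommRing B] [IsDomain B]
    [Algebra A B] [Algebra.FiniteType A B]
    (ho : UniversallyOpen (Spec.map (CommRingCat.ofHom (algebraMap B (B ⊗[A] B)))))
    (Q : PrimeSpectrum B) :
    ∃ r : PrimeSpectrum B, r.asIdeal.comap (algebraMap A B) = (⊥ : Ideal B).comap (algebraMap A B) ∧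
      trd A Q ≤ trd A r := by
  let m : B ⊗[A] B →ₐ[A] B := Algebra.TensorProduct.lmul' A
  let q₀ : PrimeSpectrum (B ⊗[A] B) := PrimeSpectrum.comap m.toRingHom Q
  let inR := (Algebra.TensorProduct.includeRight (R := A) (A := B) (B := B)).toRingHom
  have hR : PrimeSpectrum.comap inR q₀ = Q := by
    refine PrimeSpectrum.ext ?_
    show Ideal.comap inR (Ideal.comap m.toRingHom Q.asIdeal) = _
    rw [Ideal.comap_comap]
    convert Ideal.comap_id Q.asIdeal
    ext b
    simp [inR, m]
  obtain ⟨r', -, -, -, h1⟩ := exists_lift_trd (A' := B) q₀ Q (le_of_eq (congrArg PrimeSpectrum.asIdeal hR.symm))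
    (congrArg (PrimeSpectrum.comap (algebraMap A B)) hR.symm)
  obtain ⟨P, -, hP, h2⟩ := EGA43.Chevalley.exists_generization_trd_le ho (⊥ : Ideal B) r' bot_le
  refine ⟨PrimeSpectrum.comap inR P, ?_, h1.trans (h2.trans (trd_tensor_le P))⟩
  rw [← hP]
  show Ideal.comap (algebraMap A B) (Ideal.comap inR P.asIdeal) = _
  rw [Ideal.comap_comap, Ideal.comap_comap]
  congr 1
  ext a
  show inR (algebraMap A B a) = algebraMap B (B ⊗[A] B) (algebraMap A B a)
  simp [inR, Algebra.TensorProduct.algebraMap_apply, Algebra.TensorProduct.includeRight_apply,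
    Algebra.algebraMap_eq_smul_one, TensorProduct.smul_tmul, ← Algebra.TensorProduct.one_def]

theorem isGeomUnibranch_stalk {Y : Scheme.{u}} [IsIntegral Y]
    (hY : ∀ U : Y.affineOpens, IsIntegrallyClosed Γ(Y, U)) (y : Y) :
    CAlg2.IsGeomUnibranch (Y.presheaf.stalk y) := by
  obtain ⟨V, hV, hyV, -⟩ := exists_isAffineOpen_mem_and_subset (x := y) (U := ⊤) (Set.mem_univ _)
  haveI : Nonempty V := ⟨⟨y, hyV⟩⟩
  haveI : IsIntegrallyClosed Γ(Y, V) := hY ⟨V, hV⟩
  have h := EGA43.FiniteCrit.isGeomUnibranch_stalk_spec Γ(Y, V) (hV.primeIdealOf ⟨y, hyV⟩)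
  have h' : CAlg2.IsGeomUnibranch (Y.presheaf.stalk (hV.fromSpec (hV.primeIdealOf ⟨y, hyV⟩))) :=
    EGA43.Unibranch.isGeomUnibranch_of_ringEquiv
      (asIso (hV.fromSpec.stalkMap (hV.primeIdealOf ⟨y, hyV⟩))).symm.commRingCatIsoToRingEquiv h
  rwa [hV.fromSpec_primeIdealOf] at h'

variable {X Y : Scheme.{u}} [IsIntegral X] (f : X ⟶ Y) [LocallyOfFiniteType f]

theorem universallyOpen_specMap_includeLeft [UniversallyOpen (pullback.fst f f)] {V : Y.Opens}
    (hV : IsAffineOpen V) {U : X.Opens} (hU : IsAffineOpen U) (e : U ≤ f ⁻¹ᵁ V) :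
    letI := (f.appLE V U e).hom.toAlgebra
    UniversallyOpen (Spec.map (CommRingCat.ofHom
      (algebraMap Γ(X, U) (Γ(X, U) ⊗[Γ(Y, V)] Γ(X, U))))) := by
  let _ := (f.appLE V U e).hom.toAlgebra
  let s := Spec.map (CommRingCat.ofHom (algebraMap Γ(Y, V) Γ(X, U)))
  have hs : s ≫ hV.fromSpec = hU.fromSpec ≫ f := IsAffineOpen.SpecMap_appLE_fromSpec f hV hU e
  let j : pullback s s ⟶ pullback f f :=
    pullback.map s s f f hU.fromSpec hU.fromSpec hV.fromSpec hs hs
  haveI : IsOpenImmersion j := by dsimp only [j]; infer_instance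
  have hj : pullback.fst s s ≫ hU.fromSpec = j ≫ pullback.fst f f := by simp [j]
  haveI : UniversallyOpen (pullback.fst s s) :=
    FlatMorThick.of_comp_mono @UniversallyOpen _ hU.fromSpec (by rw [hj]; infer_instance)
  show UniversallyOpen (Spec.map (CommRingCat.ofHom
    (Algebra.TensorProduct.includeLeftRingHom : _ →+* Γ(X, U) ⊗[Γ(Y, V)] Γ(X, U))))
  rw [← pullbackSpecIso_inv_fst]
  infer_instance

theorem trdegHom_le_generic [UniversallyOpen (pullback.fst f f)] (z : X) :
    DimLib.trdegHom (f.residueFieldMap z).hom ≤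
      DimLib.trdegHom (f.residueFieldMap (genericPoint X)).hom := by
  obtain ⟨V, hV, hzV, -⟩ := exists_isAffineOpen_mem_and_subset (x := f z) (U := ⊤) (Set.mem_univ _)
  obtain ⟨U, hU, hzU, e'⟩ := exists_isAffineOpen_mem_and_subset (x := z) (U := f ⁻¹ᵁ V) hzV
  have e : U ≤ f ⁻¹ᵁ V := e'
  haveI : Nonempty U := ⟨⟨z, hzU⟩⟩
  have hξU : genericPoint X ∈ U := (genericPoint_specializes z).mem_open U.isOpen hzU
  have ho := universallyOpen_specMap_includeLeft f hV hU e
  algebraize [(f.appLE V U e).hom]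
  haveI : Algebra.FiniteType Γ(Y, V) Γ(X, U) := f.finiteType_appLE hV hU e
  obtain ⟨r, hr, hle⟩ := trd_le_of_universallyOpen_tensor ho (hU.primeIdealOf ⟨z, hzU⟩)
  have hw : hU.fromSpec r ∈ U := hU.range_fromSpec.le ⟨r, rfl⟩
  have hq : hU.primeIdealOf ⟨_, hw⟩ = r :=
    hU.fromSpec.isOpenEmbedding.injective (hU.fromSpec_primeIdealOf ⟨_, hw⟩)
  rw [trdegHom_residueFieldMap f hV hU e hzU]
  refine hle.trans ?_
  rw [← hq, ← trdegHom_residueFieldMap f hV hU e hw]
  refine EGA43.Chevalley.trdegHom_le_of_specializes f (genericPoint_specializes _) ?_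
  have hξ : (hU.primeIdealOf ⟨_, hξU⟩).asIdeal ≤ r.asIdeal := by
    rw [← hq]
    exact (primeIdealOf_le_iff hU ⟨_, hξU⟩ ⟨_, hw⟩).2 (genericPoint_specializes _)
  have h : (hU.primeIdealOf ⟨_, hξU⟩).asIdeal.comap (algebraMap Γ(Y, V) Γ(X, U)) =
      (hU.primeIdealOf ⟨_, hw⟩).asIdeal.comap (algebraMap Γ(Y, V) Γ(X, U)) := by
    rw [hq]
    exact le_antisymm (Ideal.comap_mono hξ) (hr.le.trans (Ideal.comap_mono bot_le))
  have hc : ∀ w (hw : w ∈ U), (hU.primeIdealOf ⟨w, hw⟩).asIdeal.comap (algebraMap Γ(Y, V) Γ(X, U)) =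
      (hV.primeIdealOf ⟨f w, e hw⟩).asIdeal := fun w hw =>
    EGA43.FibDepth.comap_primeIdealOf f hV hU e hw
  rw [hc _ hξU, hc _ hw] at h
  have h4 := congrArg hV.fromSpec (PrimeSpectrum.ext h)
  rwa [hV.fromSpec_primeIdealOf, hV.fromSpec_primeIdealOf] at h4

/-- If `X ×_Y X → X` is universally open, `Y` normal and `X → Y` dominant, then `X → Y` is universally open. -/
theorem universallyOpen [IsIntegral Y] [IsLocallyNoetherian Y] [IsDominant f]
    (hY : ∀ U : Y.affineOpens, IsIntegrallyClosed Γ(Y, U)) [UniversallyOpen (pullback.fst f f)] :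
    UniversallyOpen f := by
  refine EGA43.Chevalley.universallyOpen_of_forall f fun x => ?_
  have hmax : IsMaximalPt (f (genericPoint X)) := by
    have : f (genericPoint X) = genericPoint Y :=
      (((genericPoint_spec X).image f.continuous).eq (by
        rw [Set.image_univ, f.denseRange.closure_range]; exact genericPoint_spec Y))
    rw [this]
    exact fun z hz => (hz.antisymm (genericPoint_specializes z)).eq
  refine EGA43.Chevalley.isUnivOpenAt_of_trdegHom f (genericPoint_specializes x) hmax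
    (isGeomUnibranch_stalk hY _) fun x' _ _ _ => trdegHom_le_generic f x'

end Groth.Agent.AlgGrpLib.OrbitOpen
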