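import Groth.Prelude.Def_W4bk4git07Quot
import Groth.Agent.AlgGrpLib.OrbitSmooth
import Groth.Agent.AlgGrpLib.AbelianComplement
import Groth.Agent.SGA3xLib.SepFibre
import Mathlib.AlgebraicGeometry.Morphisms.FlatDescent
import Mathlib.AlgebraicGeometry.Morphisms.Proper

/-!
# Proper orbit maps: the orbit is closed and the stabilizer is proper
-/

set_option autoImplicit false
set_option backward.isDefEq.respectTransparency.types false

universe u

open CategoryTheory Limits MonoidalCategory CartesianMonoidalCategory MonObj GrpObj AlgebraicGeometry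
open Groth.Agent.SGA3cLib Groth.Agent.AlgGrpLib.OrbitLC

namespace Groth.Agent.AlgGrpLib.OrbitProper

variable {K : Type u} [Field K] {R X : Over (Spec (CommRingCat.of K))} [GrpObj R]

/-- For a smooth group, closed orbit and proper stabilizer imply a universally closed orbit map. -/
theorem universallyClosed_orbitMap [Smooth R.hom] [QuasiCompact R.hom] [LocallyOfFiniteType X.hom]
    (a : AlgGrp.Action R X) (x : 𝟙_ (Over (Spec (CommRingCat.of K))) ⟶ X)
    (hcl : IsClosed (Set.range (a.orbitMap x).left.base))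
    (hstab : UniversallyClosed (pullback.fst (a.orbitMap x).left x.left ≫ R.hom)) :
    UniversallyClosed (a.orbitMap x).left := by
  haveI : IsReduced R.left := AbSchLib.isReduced_of_smooth R.hom
  let I := Scheme.IdealSheafData.vanishingIdeal (X := X.left) ⟨_, hcl⟩
  let O : Over (Spec (CommRingCat.of K)) := Over.mk (I.subschemeι ≫ X.hom)
  let i : O ⟶ X := Over.homMk I.subschemeι
  haveI : IsClosedImmersion i.left := inferInstanceAs (IsClosedImmersion I.subschemeι)
  haveI : IsReduced O.left := Props12.isReduced_subscheme_vanishingIdeal _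
  have hO : Set.range i.left.base = Set.range (a.orbitMap x).left.base := by
    show Set.range I.subschemeι.base = _
    rw [Scheme.IdealSheafData.range_subschemeι]
    simp [I, Scheme.IdealSheafData.coe_support_vanishingIdeal]
  obtain ⟨g0', hg0'⟩ := RedSepLib.exists_lift_of_range_subset (a.orbitMap x).left i.left hO.ge
  let g0 : R ⟶ O := Over.homMk g0' (by rw [← Over.w i, ← Category.assoc, hg0', Over.w])
  have hg0 : g0 ≫ i = a.orbitMap x := Over.OverMorphism.ext hg0'
  haveI : Mono i := Over.mono_of_mono_left i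
  haveI hOlft : LocallyOfFiniteType O.hom := by
    show LocallyOfFiniteType (I.subschemeι ≫ X.hom); infer_instance
  haveI : IsLocallyNoetherian O.left := LocallyOfFiniteType.isLocallyNoetherian O.hom
  haveI hg0s : Surjective g0.left := ⟨fun o => by
    obtain ⟨g, hg⟩ : i.left.base o ∈ Set.range (a.orbitMap x).left.base := hO ▸ ⟨o, rfl⟩
    refine ⟨g, i.left.isEmbedding.injective ?_⟩
    rw [← hg, ← hg0]
    rfl⟩
  haveI : LocallyOfFiniteType (g0.left ≫ O.hom) := by rw [Over.w]; infer_instance
  haveI : LocallyOfFiniteType g0.left := locallyOfFiniteType_of_comp _ O.hom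
  haveI : QuasiCompact (g0.left ≫ O.hom) := by rw [Over.w]; infer_instance
  haveI : QuasiCompact g0.left := QuasiCompact.of_comp _ O.hom
  obtain ⟨V, hVd, hVflat, -⟩ := FlatMorGeneric.exists_dense_flat_lfp g0.left
  let W : Over (Spec (CommRingCat.of K)) := Over.mk ((g0.left ⁻¹ᵁ V).ι ≫ R.hom)
  let jW : W ⟶ R := Over.homMk (g0.left ⁻¹ᵁ V).ι rfl
  haveI : Flat (jW ≫ g0).left := by
    change Flat ((g0.left ⁻¹ᵁ V).ι ≫ g0.left)
    rw [← morphismRestrict_ι]
    infer_instance
  haveI : IsReduced (R ⊗ O).left := by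
    haveI : Smooth (snd R O).left :=
      MorphismProperty.pullback_snd (P := @Smooth) R.hom O.hom inferInstance
    exact AbSchLib.isReduced_of_smooth (snd R O).left
  have hact : ∀ p : ↥(R ⊗ O).left, ((R ◁ i) ≫ a.act).left.base p ∈ Set.range i.left.base := by
    intro p
    rw [hO]
    refine act_mem_range_orbitMap a x ?_
    rw [← hO]
    change ((R ◁ i) ≫ snd R X).left.base p ∈ _
    rw [whiskerLeft_snd]
    exact ⟨_, rfl⟩
  obtain ⟨act', hact'⟩ := RedSepLib.exists_lift_of_range_subset ((R ◁ i) ≫ a.act).left i.left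
    (by rintro _ ⟨p, rfl⟩; exact hact p)
  let b : R ⊗ O ⟶ O := Over.homMk act' (by rw [← Over.w i, ← Category.assoc, hact', Over.w])
  have hb : b ≫ i = (R ◁ i) ≫ a.act := Over.OverMorphism.ext hact'
  let τ : R ⊗ O ⟶ R ⊗ O := lift (fst R O)⁻¹ b
  have hτi : τ ≫ (R ◁ i) = (R ◁ i) ≫ swapHom a := by
    apply CartesianMonoidalCategory.hom_ext
    · simp only [Category.assoc, whiskerLeft_fst, τ, lift_fst, swapHom, GrpObj.comp_inv]
    · simp only [Category.assoc, whiskerLeft_snd, τ, lift_snd_assoc, hb, swapHom_snd]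
  haveI : Mono (R ◁ i) := ⟨fun u v h => by
    apply CartesianMonoidalCategory.hom_ext
    · simpa using congrArg (fun φ => φ ≫ fst R X) h
    · rw [← cancel_mono i]
      simpa using congrArg (fun φ => φ ≫ snd R X) h⟩
  have hττ : τ ≫ τ = 𝟙 _ := by
    rw [← cancel_mono (R ◁ i), Category.assoc, hτi, ← Category.assoc, hτi, Category.assoc,
      swapHom_swapHom, Category.comp_id, Category.id_comp]
  haveI : IsIso τ := ⟨τ, hττ, hττ⟩
  haveI : IsIso τ.left := inferInstanceAs (IsIso ((Over.forget _).map τ))
  let m' : R ⊗ W ⟶ R := fst R W * (snd R W ≫ jW)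
  let Ψ : R ⊗ W ⟶ O := (R ◁ (jW ≫ g0)) ≫ τ ≫ snd R O
  have hΨ : Ψ = m' ≫ g0 := by
    rw [← cancel_mono i]
    simp only [Ψ, τ, Category.assoc, lift_snd_assoc, hb]
    rw [← Category.assoc]
    have e1 : (R ◁ (jW ≫ g0)) ≫ (R ◁ i) = lift (fst R W) (snd R W ≫ jW ≫ a.orbitMap x) := by
      apply CartesianMonoidalCategory.hom_ext <;> simp [hg0]
    rw [e1, hg0]
    change smulPt a (fst R W) (snd R W ≫ jW ≫ a.orbitMap x) = _
    rw [orbitMap_eq_smulPt, comp_smulPt, comp_smulPt, comp_smulPt, ← mul_smulPt]
    simp [m']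
  haveI : Flat (R ◁ (jW ≫ g0)).left := by
    rw [Over.whiskerLeft_left]
    exact MorphismProperty.pullbackMap (P := @Flat) inferInstance inferInstance (by simp) (by simp)
  haveI : Flat (snd R O).left := MorphismProperty.pullback_snd (P := @Flat) R.hom O.hom inferInstance
  haveI hΨflat : Flat Ψ.left := by
    simp only [Ψ, Over.comp_left]
    infer_instance
  haveI : QuasiCompact (g0.left ⁻¹ᵁ V).ι := by
    haveI : IsLocallyNoetherian R.left := LocallyOfFiniteType.isLocallyNoetherian R.hom
    infer_instance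
  haveI : QuasiCompact W.hom := by
    show QuasiCompact ((g0.left ⁻¹ᵁ V).ι ≫ R.hom)
    infer_instance
  haveI : QuasiCompact (R ⊗ W).hom := by
    change QuasiCompact (pullback.fst R.hom W.hom ≫ R.hom)
    infer_instance
  haveI : QuasiCompact (Ψ.left ≫ O.hom) := by rw [Over.w]; infer_instance
  haveI hΨqc : QuasiCompact Ψ.left := QuasiCompact.of_comp _ O.hom
  haveI hm's : Surjective m'.left := ⟨fun g1 => by
    obtain ⟨v, hv⟩ := hVd.nonempty_iff.2 ⟨g0.left.base g1⟩
    obtain ⟨g2, rfl⟩ := g0.left.surjective v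
    obtain ⟨w0, hw0⟩ : g2 ∈ Set.range (g0.left ⁻¹ᵁ V).ι := by rw [Scheme.Opens.range_ι]; exact hv
    obtain ⟨q, hq1, hq2⟩ := exists_point_over R W g1 w0
    let w : R ⊗ W ⟶ R ⊗ W := lift (fst R W * (snd R W ≫ jW)⁻¹) (snd R W)
    refine ⟨w.left.base q, ?_⟩
    have e : w ≫ m' = fst R W := by simp [w, m', MonObj.comp_mul]
    exact (congrArg (fun φ => φ.left.base q) e).trans hq1⟩
  haveI hΨs : Surjective Ψ.left := by rw [hΨ, Over.comp_left]; infer_instance
  -- the fibre square of `g0`
  let SR : Over (Spec (CommRingCat.of K)) := Over.mk (pullback.fst (a.orbitMap x).left x.left ≫ R.hom)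
  let ιS : SR ⟶ R := Over.homMk (pullback.fst (a.orbitMap x).left x.left)
  haveI : UniversallyClosed SR.hom := hstab
  haveI : Mono x.left := (IsSplitMono.mk' (SplitMono.mk X.hom (Over.w x))).mono
  haveI : Mono ιS := by
    haveI : Mono ιS.left := inferInstanceAs (Mono (pullback.fst (a.orbitMap x).left x.left))
    exact Over.mono_of_mono_left ιS
  have hι : ιS ≫ a.orbitMap x = toUnit SR ≫ x := by
    apply Over.OverMorphism.ext
    rw [Over.comp_left, Over.comp_left]
    refine (pullback.condition).trans ?_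
    congr 1
    exact (Category.comp_id _).symm.trans ((Over.w (toUnit SR)).trans (by
      show pullback.fst (a.orbitMap x).left x.left ≫ R.hom = _
      rw [← Over.w (a.orbitMap x), pullback.condition_assoc, Over.w x]
      exact Category.comp_id _)) |>.symm
  have hlift : ∀ {T : Over (Spec (CommRingCat.of K))} (t : T ⟶ R), smulPt a t (toUnit T ≫ x) = toUnit T ≫ x →
      ∃ t' : T ⟶ SR, t' ≫ ιS = t := by
    intro T t ht
    have h' : t ≫ a.orbitMap x = toUnit T ≫ x := by
      rw [orbitMap_eq_smulPt, comp_smulPt]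
      simpa using ht
    refine ⟨Over.homMk (pullback.lift t.left (toUnit T).left (congrArg CommaMorphism.left h')) ?_, ?_⟩
    · show pullback.lift _ _ _ ≫ pullback.fst _ _ ≫ R.hom = T.hom
      rw [pullback.lift_fst_assoc]
      exact Over.w t
    · ext1
      exact pullback.lift_fst _ _ _
  let P : Over (Spec (CommRingCat.of K)) := Over.mk (pullback.fst g0.left g0.left ≫ R.hom)
  let p1 : P ⟶ R := Over.homMk (pullback.fst g0.left g0.left)
  let p2 : P ⟶ R := Over.homMk (pullback.snd g0.left g0.left) (by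
    show pullback.snd _ _ ≫ R.hom = pullback.fst _ _ ≫ R.hom
    rw [← Over.w g0, pullback.condition_assoc])
  have hp : p1 ≫ g0 = p2 ≫ g0 := Over.OverMorphism.ext pullback.condition
  have hf : ∀ {T : Over (Spec (CommRingCat.of K))} (t : T ⟶ R), t ≫ g0 ≫ i = smulPt a t (toUnit T ≫ x) := by
    intro T t
    rw [hg0, orbitMap_eq_smulPt, comp_smulPt]
    simp
  obtain ⟨s, hs⟩ := hlift (p1⁻¹ * p2) (by
    rw [mul_smulPt, ← hf p2, ← reassoc_of% hp, hf p1, inv_smulPt])
  let φ : P ⟶ R ⊗ SR := lift p1 s
  let u2 : R ⊗ SR ⟶ R := fst R SR * (snd R SR ≫ ιS)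
  have hu : fst R SR ≫ g0 = u2 ≫ g0 := by
    rw [← cancel_mono i, Category.assoc, Category.assoc, hf, hf]
    simp only [u2]
    rw [mul_smulPt]
    congr 1
    rw [← hf, hg0, Category.assoc, hι, ← Category.assoc]
    congr 1
    exact toUnit_unique _ _
  let ψ' : R ⊗ SR ⟶ P := Over.homMk (pullback.lift (fst R SR).left u2.left (congrArg CommaMorphism.left hu)) (by
    show pullback.lift _ _ _ ≫ pullback.fst _ _ ≫ R.hom = _
    rw [pullback.lift_fst_assoc]
    exact Over.w _)
  have hψ1 : ψ' ≫ p1 = fst R SR := Over.OverMorphism.ext (pullback.lift_fst _ _ _)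
  have hψ2 : ψ' ≫ p2 = u2 := Over.OverMorphism.ext (pullback.lift_snd _ _ _)
  have h1 : φ ≫ ψ' = 𝟙 P := by
    apply Over.OverMorphism.ext
    apply pullback.hom_ext
    · exact congrArg CommaMorphism.left (show (φ ≫ ψ') ≫ p1 = 𝟙 P ≫ p1 by
        rw [Category.assoc, hψ1, Category.id_comp, lift_fst])
    · exact congrArg CommaMorphism.left (show (φ ≫ ψ') ≫ p2 = 𝟙 P ≫ p2 by
        rw [Category.assoc, hψ2, Category.id_comp]
        simp [u2, φ, MonObj.comp_mul, hs])
  have h2 : ψ' ≫ φ = 𝟙 _ := by
    apply CartesianMonoidalCategory.hom_ext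
    · rw [Category.assoc, lift_fst, hψ1, Category.id_comp]
    · rw [Category.assoc, lift_snd, Category.id_comp, ← cancel_mono ιS, Category.assoc, hs,
        MonObj.comp_mul, GrpObj.comp_inv, hψ1, hψ2]
      simp [u2]
  haveI : IsIso φ := ⟨ψ', h1, h2⟩
  haveI : IsIso φ.left := inferInstanceAs (IsIso ((Over.forget _).map φ))
  haveI : UniversallyClosed (fst R SR).left :=
    MorphismProperty.pullback_fst (P := @UniversallyClosed) R.hom SR.hom inferInstance
  have huc1 : UniversallyClosed (pullback.fst g0.left g0.left) := by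
    have e : (φ ≫ fst R SR).left = pullback.fst g0.left g0.left := by rw [lift_fst]; rfl
    rw [← e, Over.comp_left]; infer_instance
  have huc2 : UniversallyClosed (pullback.snd g0.left g0.left) := by
    rw [← pullbackSymmetry_hom_comp_fst]; infer_instance
  have huc3 : UniversallyClosed (pullback.snd g0.left Ψ.left) := by
    have : UniversallyClosed (pullback.snd g0.left (m'.left ≫ g0.left)) := by
      rw [← pullbackLeftPullbackSndIso_inv_snd_snd]
      haveI : UniversallyClosed (pullback.snd (pullback.snd g0.left g0.left) m'.left) :=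
        MorphismProperty.pullback_snd (P := @UniversallyClosed) _ _ huc2
      infer_instance
    rw [hΨ, Over.comp_left]
    exact this
  haveI : UniversallyClosed g0.left :=
    MorphismProperty.of_pullback_snd_of_descendsAlong (P := @UniversallyClosed)
      (Q := @Surjective ⊓ @Flat ⊓ @QuasiCompact) ⟨⟨hΨs, hΨflat⟩, hΨqc⟩ huc3
  rw [← hg0, Over.comp_left]
  infer_instance

/-- The orbit map is proper iff the orbit is closed and the stabilizer is proper. -/
theorem isProper_orbitMap_iff {k : Type u} [Field k] [IsAlgClosed k] {G X : Over (Spec (CommRingCat.of k))}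
    [GrpObj G] [LocallyOfFiniteType G.hom] [QuasiCompact G.hom] [LocallyOfFiniteType X.hom]
    (a : AlgGrp.Action G X) (x : 𝟙_ (Over (Spec (CommRingCat.of k))) ⟶ X) :
    IsProper (a.orbitMap x).left ↔
      IsClosed (Set.range (a.orbitMap x).left.base) ∧ IsProper (pullback.snd (a.orbitMap x).left x.left) := by
  refine ⟨fun h => ⟨(a.orbitMap x).left.isClosedMap.isClosed_range, inferInstance⟩, ?_⟩
  rintro ⟨hcl, hst⟩
  haveI := SGA3xLib.isSeparated_of_grpObj G
  obtain ⟨R, _, r, _, _, _, hrs, -⟩ := AbelianComplement.exists_smooth_reduction G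
  haveI : QuasiCompact R.hom := by rw [← Over.w r]; infer_instance
  let a' : AlgGrp.Action R X :=
    { act := (r ▷ X) ≫ a.act
      one_act := by rw [← Category.assoc, ← MonoidalCategory.comp_whiskerRight, IsMonHom.one_hom, a.one_act]
      mul_act := by
        have hL : (μ[R] ▷ X) ≫ (r ▷ X) ≫ a.act =
            smulPt a ((fst (R ⊗ R) X ≫ fst R R ≫ r) * (fst (R ⊗ R) X ≫ snd R R ≫ r)) (snd (R ⊗ R) X) := by
          rw [smulPt, ← Category.assoc]
          congr 1
          apply CartesianMonoidalCategory.hom_ext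
          · simp [Hom.mul_def, IsMonHom.mul_hom]
            rw [← comp_lift_assoc]
            congr 1
          · simp
        rw [hL, mul_smulPt]
        have h2 : (α_ R R X).hom ≫ (R ◁ ((r ▷ X) ≫ a.act)) =
            lift (fst (R ⊗ R) X ≫ fst R R) (smulPt a (fst (R ⊗ R) X ≫ snd R R ≫ r) (snd (R ⊗ R) X)) := by
          apply CartesianMonoidalCategory.hom_ext
          · simp
          · simp only [Category.assoc, whiskerLeft_snd, lift_snd, smulPt]
            rw [← Category.assoc, ← Category.assoc]
            congr 1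
            apply CartesianMonoidalCategory.hom_ext <;> simp
        refine Eq.trans ?_ (((Category.assoc _ _ _).symm.trans (congrArg (fun φ => φ ≫ (r ▷ X) ≫ a.act) h2)).symm)
        simp [smulPt, lift_whiskerRight_assoc] }
  have ho : a'.orbitMap x = r ≫ a.orbitMap x := by
    show smulPt a' (𝟙 R) _ = r ≫ smulPt a (𝟙 G) _
    rw [comp_smulPt, smulPt, smulPt]
    simp [a']
  have hrange : Set.range (a'.orbitMap x).left.base = Set.range (a.orbitMap x).left.base := by
    rw [ho, Over.comp_left]
    ext y
    refine ⟨fun ⟨g, hg⟩ => ⟨r.left.base g, by rw [← hg]; rfl⟩, fun ⟨g, hg⟩ => ?_⟩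
    obtain ⟨g', rfl⟩ := r.left.surjective g
    exact ⟨g', hg⟩
  have hstab : UniversallyClosed (pullback.fst (a'.orbitMap x).left x.left ≫ R.hom) := by
    have e1 : pullback.fst (a'.orbitMap x).left x.left ≫ R.hom =
        pullback.snd (a'.orbitMap x).left x.left := by
      rw [← Over.w (a'.orbitMap x), pullback.condition_assoc, Over.w x]
      exact Category.comp_id _
    rw [e1]
    let c := pullback.map (a'.orbitMap x).left x.left (a.orbitMap x).left x.left r.left (𝟙 _) (𝟙 _)
      (by simp [ho]) (by simp)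
    haveI : IsClosedImmersion c :=
      MorphismProperty.pullbackMap (P := @IsClosedImmersion) inferInstance inferInstance
        (by simp [ho]) (by simp)
    have e2 : c ≫ pullback.snd (a.orbitMap x).left x.left = pullback.snd (a'.orbitMap x).left x.left :=
      (pullback.lift_snd _ _ _).trans (Category.comp_id _)
    rw [← e2]
    infer_instance
  have huc := universallyClosed_orbitMap a' x (hrange ▸ hcl) hstab
  rw [ho, Over.comp_left] at huc
  haveI : UniversallyClosed (a.orbitMap x).left := UniversallyClosed.of_comp_surjective r.left _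
  haveI : IsSeparated ((a.orbitMap x).left ≫ X.hom) := by rw [Over.w]; infer_instance
  haveI : IsSeparated (a.orbitMap x).left := IsSeparated.of_comp _ X.hom
  haveI : LocallyOfFiniteType ((a.orbitMap x).left ≫ X.hom) := by rw [Over.w]; infer_instance
  haveI : LocallyOfFiniteType (a.orbitMap x).left := locallyOfFiniteType_of_comp _ X.hom
  exact {}

end Groth.Agent.AlgGrpLib.OrbitProper
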