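import Groth.Prelude.Def_W4bk4git07Quot
import Groth.Agent.AlgGrpLib.OrbitOpen
import Groth.Agent.AbVarLib.PerfectReduced
import Groth.Agent.CAlgMisc2.Normal
import Mathlib.AlgebraicGeometry.FunctionField

/-!
# One orbit in each geometric fibre over a normal base in characteristic zero
-/

set_option autoImplicit false
set_option backward.isDefEq.respectTransparency false
set_option linter.style.haveILetI false

universe u

open CategoryTheory CategoryTheory.Limits AlgebraicGeometry TopologicalSpace MonoidalCategory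
  CartesianMonoidalCategory TensorProduct

namespace Groth.Agent.AlgGrpLib.OrbitQuot

open Groth.Agent

/-- In characteristic zero an element equalised by all pairs of embeddings agreeing on `K` is in `K`. -/
theorem mem_range_of_forall_embeddings {K L : Type u} [Field K] [CharZero K] [Field L] [Algebra K L] (a : L)
    (h : ∀ (Ω : Type u) [Field Ω] [IsAlgClosed Ω] (σ₁ σ₂ : L →+* Ω),
      σ₁.comp (algebraMap K L) = σ₂.comp (algebraMap K L) → σ₁ a = σ₂ a) :
    a ∈ (algebraMap K L).range := by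
  haveI : IsReduced (L ⊗[K] L) := AbVarLib.isReduced_field_tensor_perfect K L L
  let inL := (Algebra.TensorProduct.includeLeft : L →ₐ[K] L ⊗[K] L)
  let inR := (Algebra.TensorProduct.includeRight : L →ₐ[K] L ⊗[K] L)
  have hz : inL a - inR a = 0 := IsNilpotent.eq_zero (nilpotent_iff_mem_prime.2 fun P hP => by
    let χ : L ⊗[K] L →+* AlgebraicClosure P.ResidueField :=
      (algebraMap P.ResidueField (AlgebraicClosure P.ResidueField)).comp (algebraMap (L ⊗[K] L) P.ResidueField)
    have he : χ (inL a) = χ (inR a) := h _ (χ.comp inL.toRingHom) (χ.comp inR.toRingHom)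
      (RingHom.ext fun c => congrArg χ ((inL.commutes c).trans (inR.commutes c).symm))
    rw [← Ideal.algebraMap_residueField_eq_zero]
    apply (algebraMap P.ResidueField (AlgebraicClosure P.ResidueField)).injective
    rw [map_zero]
    show χ (inL a - inR a) = 0
    rw [map_sub, he, sub_self])
  by_contra ha
  obtain ⟨φ, hφa, hφ1⟩ := Submodule.exists_dual_map_eq_bot_of_notMem (p := Submodule.span K ({1} : Set L))
    (fun h1 => ha (by
      obtain ⟨c, hc⟩ := Submodule.mem_span_singleton.1 h1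
      exact ⟨c, by rw [Algebra.algebraMap_eq_smul_one]; exact hc⟩)) inferInstance
  have h1 : φ 1 = 0 := by
    rw [Submodule.eq_bot_iff] at hφ1
    exact hφ1 _ ⟨1, Submodule.mem_span_singleton_self 1, rfl⟩
  have hz' := congrArg (fun z => TensorProduct.lid K L (TensorProduct.map φ LinearMap.id z)) hz
  simp [inL, inR, h1] at hz'
  exact hφa hz'

theorem exists_algClosed_hom (K : Type u) [Field K] :
    ∃ (Ω : Type u) (_ : Field Ω) (_ : IsAlgClosed Ω), Nonempty (K →+* Ω) :=
  ⟨AlgebraicClosure K, inferInstance, inferInstance, ⟨algebraMap _ _⟩⟩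

theorem exists_geometricPoint (P : Scheme.{u}) (w : P) :
    ∃ (Ω : Type u) (_ : Field Ω) (_ : IsAlgClosed Ω) (c : Spec (CommRingCat.of Ω) ⟶ P)
      (p : Spec (CommRingCat.of Ω)), c p = w := by
  obtain ⟨Ω, iF, iA, ⟨σ⟩⟩ := exists_algClosed_hom (P.residueField w)
  refine ⟨Ω, iF, iA, Spec.map (CommRingCat.ofHom σ) ≫ P.fromSpecResidueField w,
    (⊥ : PrimeSpectrum Ω), ?_⟩
  rw [Scheme.Hom.comp_apply]
  exact Scheme.fromSpecResidueField_apply _ _

section Scheme

variable {X Y : Scheme.{u}} [IsIntegral X] [IsIntegral Y] (f : X ⟶ Y)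

theorem apply_genericPoint [IsDominant f] : f (genericPoint X) = genericPoint Y :=
  ((genericPoint_spec X).image f.continuous).eq (by
    rw [Set.image_univ, f.denseRange.closure_range]; exact genericPoint_spec Y)

/-- The map of function fields of a dominant morphism. -/
noncomputable def ffMap [IsDominant f] : Y.functionField ⟶ X.functionField :=
  (Y.presheaf.stalkCongr (.of_eq (apply_genericPoint f))).inv ≫ f.stalkMap (genericPoint X)

theorem ffMap_germ [IsDominant f] (V : Y.Opens) [Nonempty V] (hV : genericPoint X ∈ f ⁻¹ᵁ V) (r : Γ(Y, V)) :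
    ffMap f (Y.germToFunctionField V r) =
      X.presheaf.germ (f ⁻¹ᵁ V) (genericPoint X) hV (f.app V r) := by
  have h : Y.germToFunctionField V ≫ ffMap f =
      f.app V ≫ X.presheaf.germ (f ⁻¹ᵁ V) (genericPoint X) hV := by
    rw [ffMap, Scheme.germToFunctionField, TopCat.Presheaf.stalkCongr_inv,
      TopCat.Presheaf.germ_stalkSpecializes_assoc, Scheme.Hom.germ_stalkMap]
  exact ConcreteCategory.congr_hom h r

omit [IsIntegral X] in
theorem app_injective_of_surjective (hs : Function.Surjective f.base) (U : Y.Opens) :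
    Function.Injective (f.app U) := by
  intro s t h
  rw [← sub_eq_zero]
  have h0 : f.app U (s - t) = 0 := by rw [map_sub, h, sub_self]
  rw [← basicOpen_eq_bot_iff, eq_bot_iff]
  intro y hy
  obtain ⟨x, rfl⟩ := hs y
  have hx : x ∈ f ⁻¹ᵁ Y.basicOpen (s - t) := hy
  rw [Scheme.preimage_basicOpen, h0, Scheme.basicOpen_zero] at hx
  exact hx

/-- Over a normal Noetherian affine open, a section upstairs in the function field below comes from below. -/
theorem exists_section_of_affine [IsDominant f] [IsLocallyNoetherian Y] (hs : Function.Surjective f.base)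
    {V : Y.Opens} [Nonempty V] (hV : IsAffineOpen V) [IsIntegrallyClosed Γ(Y, V)]
    (hξ : genericPoint X ∈ f ⁻¹ᵁ V) (g : Γ(X, f ⁻¹ᵁ V)) (b : Y.functionField)
    (hb : ffMap f b = X.presheaf.germ _ (genericPoint X) hξ g) : ∃ s, f.app V s = g := by
  let A := Γ(Y, V)
  haveI : IsNoetherianRing A := IsLocallyNoetherian.component_noetherian ⟨V, hV⟩
  haveI := functionField_isFractionRing_of_isAffineOpen Y V hV
  let e : FractionRing A ≃ₐ[A] Y.functionField := FractionRing.algEquiv A _
  haveI : Nonempty (f ⁻¹ᵁ V : X.Opens) := ⟨⟨_, hξ⟩⟩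
  have hinj : Function.Injective (X.presheaf.germ _ (genericPoint X) hξ) :=
    germ_injective_of_isIntegral _ _ hξ
  suffices e.symm b ∈ Set.range (algebraMap A (FractionRing A)) by
    obtain ⟨r, hr⟩ := this
    refine ⟨r, hinj ?_⟩
    have hr' : Y.germToFunctionField V r = b := by
      have := congrArg e hr
      rwa [e.commutes, AlgEquiv.apply_symm_apply] at this
    rw [← ffMap_germ f V hξ r, hr', hb]
  refine CAlgMisc2.mem_range_of_forall_height_one _ fun p _ hp => ?_
  obtain ⟨a, c, hc, hac⟩ := IsFractionRing.div_surjective A (e.symm b)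
  have hc0 : algebraMap A (FractionRing A) c ≠ 0 :=
    IsFractionRing.to_map_ne_zero_of_mem_nonZeroDivisors hc
  haveI : IsDomain (Localization.AtPrime p) :=
    IsLocalization.isDomain_localization p.primeCompl_le_nonZeroDivisors
  haveI : IsIntegrallyClosed (Localization.AtPrime p) :=
    isIntegrallyClosed_of_isLocalization (Localization.AtPrime p) p.primeCompl p.primeCompl_le_nonZeroDivisors
  haveI : Ring.KrullDimLE 1 (Localization.AtPrime p) := (Ring.krullDimLE_iff).2 (by
    rw [IsLocalization.AtPrime.ringKrullDim_eq_height p, hp]; exact le_rfl)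
  haveI : IsNoetherianRing (Localization.AtPrime p) :=
    IsLocalization.isNoetherianRing p.primeCompl _ inferInstance
  haveI : Ring.DimensionLEOne (Localization.AtPrime p) := ⟨fun {P} hP0 hP =>
    (Ring.krullDimLE_one_iff.1 inferInstance P hP).resolve_left fun h => hP0 (by
      rwa [IsDomain.minimalPrimes_eq_singleton_bot, Set.mem_singleton_iff] at h)⟩
  haveI : IsDedekindRing (Localization.AtPrime p) := { }
  haveI : IsDedekindDomain (Localization.AtPrime p) := { }
  haveI : ValuationRing (Localization.AtPrime p) :=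
    ((tfae_of_isNoetherianRing_of_isLocalRing_of_isDomain (Localization.AtPrime p)).out 2 1).mp
      ‹IsDedekindDomain (Localization.AtPrime p)›
  have key : ∀ u v : A, algebraMap A (Localization.AtPrime p) u ∣ algebraMap A _ v →
      ∃ (w t : A), t ∉ p ∧ u * w = v * t := by
    rintro u v ⟨q, hq⟩
    obtain ⟨w, t, rfl⟩ := IsLocalization.exists_mk'_eq p.primeCompl q
    refine ⟨w, t, t.2, IsLocalization.injective (Localization.AtPrime p) p.primeCompl_le_nonZeroDivisors ?_⟩
    rw [map_mul, map_mul, hq, mul_assoc, IsLocalization.mk'_spec]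
  rcases ValuationRing.dvd_total (algebraMap A (Localization.AtPrime p) c) (algebraMap A _ a) with h | h
  · obtain ⟨w, t, ht, hwt⟩ := key c a h
    refine ⟨w, t, ht, ?_⟩
    rw [← hac, div_mul_eq_mul_div, div_eq_iff hc0, ← map_mul, ← map_mul, mul_comm w c, hwt]
  · obtain ⟨w, t, ht, hwt⟩ := key a c h
    have h2 : e.symm b * algebraMap A (FractionRing A) w = algebraMap A (FractionRing A) t := by
      rw [← hac, div_mul_eq_mul_div, div_eq_iff hc0, ← map_mul, ← map_mul, hwt, mul_comm]
    by_cases hw : w ∈ p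
    · exfalso
      have h3 := congrArg e h2
      rw [map_mul, e.commutes, e.commutes, AlgEquiv.apply_symm_apply] at h3
      have h4 : g * f.app V w = f.app V t := hinj (by
        rw [map_mul, ← hb, ← ffMap_germ f V hξ w, ← ffMap_germ f V hξ t, ← map_mul]
        exact congrArg (ffMap f) h3)
      obtain ⟨x, hx⟩ := hs (hV.fromSpec ⟨p, inferInstance⟩)
      have hb' : ∀ r : A, x ∈ X.basicOpen (f.app V r) ↔ r ∉ p := fun r => by
        rw [← Scheme.preimage_basicOpen]
        show f.base x ∈ Y.basicOpen r ↔ _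
        rw [hx]
        show (⟨p, inferInstance⟩ : PrimeSpectrum A) ∈ hV.fromSpec ⁻¹ᵁ Y.basicOpen r ↔ _
        rw [hV.fromSpec_preimage_basicOpen]
        rfl
      have hxt := (hb' t).2 ht
      rw [← h4, Scheme.basicOpen_mul] at hxt
      exact (hb' w).1 hxt.2 hw
    · exact ⟨t, w, hw, h2⟩

/-- A section upstairs in the function field below comes from below. -/
theorem exists_section [IsDominant f] [IsLocallyNoetherian Y] (hs : Function.Surjective f.base)
    (hY : ∀ V : Y.affineOpens, IsIntegrallyClosed Γ(Y, V))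
    {U : Y.Opens} (hξ : genericPoint X ∈ f ⁻¹ᵁ U) (g : Γ(X, f ⁻¹ᵁ U)) (b : Y.functionField)
    (hb : ffMap f b = X.presheaf.germ _ (genericPoint X) hξ g) : ∃ s, f.app U s = g := by
  let ι := {V : Y.Opens // IsAffineOpen V ∧ Nonempty V ∧ V ≤ U}
  have hcov : U ≤ iSup (fun V : ι => V.1) := fun y hy => by
    obtain ⟨V, hV, hyV, hVU⟩ := exists_isAffineOpen_mem_and_subset (x := y) (U := U) hy
    exact Opens.mem_iSup.2 ⟨⟨V, hV, ⟨⟨y, hyV⟩⟩, hVU⟩, hyV⟩
  have h0 : ∀ V : ι, ∃ s, f.app V.1 s =
      X.presheaf.map (homOfLE (f.preimage_mono V.2.2.2)).op g := fun V => by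
    haveI := V.2.2.1
    haveI := hY ⟨V.1, V.2.1⟩
    have hV : genericPoint X ∈ f ⁻¹ᵁ V.1 := by
      show f (genericPoint X) ∈ V.1
      rw [apply_genericPoint f]
      exact ((genericPoint_spec Y).mem_open_set_iff V.1.isOpen).2 (by
        obtain ⟨⟨y, hy⟩⟩ := V.2.2.1; exact ⟨y, Set.mem_univ _, hy⟩)
    refine exists_section_of_affine f hs V.2.1 hV _ b ?_
    rw [TopCat.Presheaf.germ_res_apply]
    exact hb
  choose s hs' using h0
  have hnat : ∀ {V W : Y.Opens} (i : W ⟶ V) (r : Γ(Y, V)), f.app W (Y.presheaf.map i.op r) =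
      X.presheaf.map (homOfLE (f.preimage_mono i.le)).op (f.app V r) := fun i r =>
    ConcreteCategory.congr_hom (f.naturality i.op) r
  have hcompat : TopCat.Presheaf.IsCompatible Y.presheaf (fun V : ι => V.1) s := fun V W => by
    refine app_injective_of_surjective f hs _ ?_
    rw [hnat, hnat, hs', hs', ← CommRingCat.comp_apply, ← CommRingCat.comp_apply,
      ← Functor.map_comp, ← Functor.map_comp]
    rfl
  obtain ⟨r, hr, -⟩ := Y.sheaf.existsUnique_gluing' (fun V : ι => V.1) U (fun V => homOfLE V.2.2.2)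
    hcov s hcompat
  refine ⟨r, X.sheaf.eq_of_locally_eq' (fun V : ι => f ⁻¹ᵁ V.1) (f ⁻¹ᵁ U)
    (fun V => homOfLE (f.preimage_mono V.2.2.2)) (fun x hx => ?_) _ _ fun V => ?_⟩
  · obtain ⟨V, hV⟩ := Opens.mem_iSup.1 (hcov (show f x ∈ U from hx))
    exact Opens.mem_iSup.2 ⟨V, hV⟩
  · refine (hnat (homOfLE V.2.2.2) r).symm.trans ?_
    exact (congrArg (f.app V.1) (hr V)).trans (hs' V)

theorem appLE_specMap_fromSpecStalk {Ω : Type u} [CommRing Ω] {W : X.Opens} {x : X} (hx : x ∈ W)
    (σ : X.presheaf.stalk x ⟶ CommRingCat.of Ω) (e : ⊤ ≤ (Spec.map σ ≫ X.fromSpecStalk x) ⁻¹ᵁ W)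
    (g : Γ(X, W)) :
    (Spec.map σ ≫ X.fromSpecStalk x).appLE W ⊤ e g =
      (Scheme.ΓSpecIso (CommRingCat.of Ω)).inv (σ (X.presheaf.germ W x hx g)) := by
  have h : (Spec.map σ ≫ X.fromSpecStalk x).appLE W ⊤ e =
      X.presheaf.germ W x hx ≫ σ ≫ (Scheme.ΓSpecIso (CommRingCat.of Ω)).inv := by
    rw [Scheme.ΓSpecIso_inv_naturality, Scheme.Hom.comp_appLE, Scheme.fromSpecStalk_app hx]
    simp only [Category.assoc, Scheme.Hom.map_appLE, Scheme.Hom.appLE]
    simp [Scheme.Hom.appTop, ← Functor.map_comp]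
    rfl
  exact ConcreteCategory.congr_hom h g

end Scheme

section Action

variable {S : Scheme.{u}} {G X Y : Over S} [GrpObj G] (a : AlgGrp.Action G X) (φ : X ⟶ Y)
  (hii : ∀ (Ω : Type u) [Field Ω] [IsAlgClosed Ω] (T : Over S) (_ : T.left ≅ Spec (CommRingCat.of Ω))
      (x₁ x₂ : T ⟶ X), x₁ ≫ φ = x₂ ≫ φ → ∃ g : T ⟶ G, lift g x₂ ≫ a.act = x₁)

include hii

theorem exists_lift_psiY (hi : GIT.IsInvariant a φ) (Ω : Type u) [Field Ω] [IsAlgClosed Ω]
    (c : Spec (CommRingCat.of Ω) ⟶ Limits.pullback φ.left φ.left) :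
    ∃ d, d ≫ GIT.PsiY a φ hi = c := by
  let T : Over S := Over.mk (c ≫ pullback.fst φ.left φ.left ≫ X.hom)
  have hw2 : (c ≫ pullback.snd φ.left φ.left) ≫ X.hom = T.hom := by
    show _ = c ≫ pullback.fst φ.left φ.left ≫ X.hom
    rw [← Over.w φ, Category.assoc, ← pullback.condition_assoc]
  let x₁ : T ⟶ X := Over.homMk (c ≫ pullback.fst φ.left φ.left) (Category.assoc _ _ _)
  let x₂ : T ⟶ X := Over.homMk (c ≫ pullback.snd φ.left φ.left) hw2
  obtain ⟨g, hg⟩ := hii Ω T (Iso.refl _) x₁ x₂ (Over.OverMorphism.ext (by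
    show (c ≫ pullback.fst φ.left φ.left) ≫ φ.left = (c ≫ pullback.snd φ.left φ.left) ≫ φ.left
    rw [Category.assoc, pullback.condition, Category.assoc]))
  refine ⟨(lift g x₂).left, ?_⟩
  apply pullback.hom_ext
  · rw [Category.assoc, GIT.PsiY, pullback.lift_fst, ← Over.comp_left, hg]; rfl
  · rw [Category.assoc, GIT.PsiY, pullback.lift_snd, ← Over.comp_left, lift_snd]; rfl

theorem surjective_psiY (hi : GIT.IsInvariant a φ) : Function.Surjective (GIT.PsiY a φ hi).base := by
  intro w
  obtain ⟨Ω, _, _, c, p, hc⟩ := exists_geometricPoint (Limits.pullback φ.left φ.left) w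
  obtain ⟨d, hd⟩ := exists_lift_psiY a φ hii hi Ω c
  refine ⟨d p, ?_⟩
  show GIT.PsiY a φ hi (d p) = w
  rw [← Scheme.Hom.comp_apply, hd, hc]

theorem universallyOpen_fst [UniversallyOpen G.hom] (hi : GIT.IsInvariant a φ) :
    UniversallyOpen (pullback.fst φ.left φ.left) := by
  haveI : UniversallyOpen (snd G X).left :=
    inferInstanceAs (UniversallyOpen (pullback.snd G.hom X.hom))
  haveI : Surjective (GIT.PsiY a φ hi) := ⟨surjective_psiY a φ hii hi⟩
  haveI : UniversallyOpen (GIT.PsiY a φ hi ≫ pullback.snd φ.left φ.left) := by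
    rw [GIT.PsiY, pullback.lift_snd]; infer_instance
  haveI := FlatMorThick.universallyOpen_of_comp_surjective (GIT.PsiY a φ hi) (pullback.snd φ.left φ.left)
  rw [← pullbackSymmetry_hom_comp_snd]
  infer_instance

theorem exists_eq_app [IsIntegral X.left] [IsIntegral Y.left] [IsLocallyNoetherian Y.left]
    [CharZero Y.left.functionField] [IsDominant φ.left]
    (hY : ∀ U : Y.left.affineOpens, IsIntegrallyClosed Γ(Y.left, U))
    (hs : Function.Surjective φ.left.base) (U : Y.left.Opens) (f : Γ(X.left, φ.left ⁻¹ᵁ U))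
    (hf : GIT.IsInvSection a φ U f) : ∃ s, φ.left.app U s = f := by
  by_cases hU : (φ.left ⁻¹ᵁ U : X.left.Opens) = ⊥
  · refine ⟨0, ?_⟩
    have : Subsingleton Γ(X.left, φ.left ⁻¹ᵁ U) := by
      rw [hU]
      exact CommRingCat.subsingleton_of_isTerminal X.left.sheaf.isTerminalOfEmpty
    exact Subsingleton.elim _ _
  have hξ : genericPoint X.left ∈ φ.left ⁻¹ᵁ U := by
    refine ((genericPoint_spec X.left).mem_open_set_iff (φ.left ⁻¹ᵁ U).isOpen).2 ?_
    rw [Set.univ_inter]
    exact (Opens.ne_bot_iff_nonempty _).1 hU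
  let _ := (ffMap φ.left).hom.toAlgebra
  obtain ⟨b, hb⟩ := mem_range_of_forall_embeddings (K := Y.left.functionField)
    (X.left.presheaf.germ _ _ hξ f) fun Ω _ _ σ₁ σ₂ hσ => by
      let s₁ : X.left.functionField ⟶ CommRingCat.of Ω := CommRingCat.ofHom σ₁
      let s₂ : X.left.functionField ⟶ CommRingCat.of Ω := CommRingCat.ofHom σ₂
      let p₁ := Spec.map s₁ ≫ X.left.fromSpecStalk (genericPoint X.left)
      let p₂ := Spec.map s₂ ≫ X.left.fromSpecStalk (genericPoint X.left)
      have hs12 : φ.left.stalkMap (genericPoint X.left) ≫ s₁ = φ.left.stalkMap _ ≫ s₂ := by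
        rw [← cancel_epi (Y.left.presheaf.stalkCongr (.of_eq (apply_genericPoint φ.left))).inv,
          ← Category.assoc, ← Category.assoc]
        exact CommRingCat.hom_ext hσ
      have hp : p₁ ≫ φ.left = p₂ ≫ φ.left := by
        simp only [p₁, p₂, Category.assoc, ← Scheme.SpecMap_stalkMap_fromSpecStalk, ← Spec.map_comp_assoc, hs12]
      let T : Over S := Over.mk (p₁ ≫ X.hom)
      let x₁ : T ⟶ X := Over.homMk p₁ rfl
      let x₂ : T ⟶ X := Over.homMk p₂ (by
        show p₂ ≫ X.hom = p₁ ≫ X.hom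
        rw [← Over.w φ, ← Category.assoc, ← hp, Category.assoc])
      obtain ⟨g, hg⟩ := hii Ω T (Iso.refl _) x₁ x₂ (Over.OverMorphism.ext hp)
      let q := lift g x₂
      have hq1 : q.left ≫ a.act.left = p₁ := by rw [← Over.comp_left, hg]; rfl
      have hq2 : q.left ≫ (snd G X).left = p₂ := by rw [← Over.comp_left, lift_snd]; rfl
      have hmem : ∀ (s : X.left.functionField ⟶ CommRingCat.of Ω),
          ⊤ ≤ (Spec.map s ≫ X.left.fromSpecStalk (genericPoint X.left)) ⁻¹ᵁ (φ.left ⁻¹ᵁ U) := fun s t _ => by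
        show X.left.fromSpecStalk _ (Spec.map s t) ∈ φ.left ⁻¹ᵁ U
        have h : X.left.fromSpecStalk (genericPoint X.left) (Spec.map s t) ⤳ genericPoint X.left :=
          (Scheme.range_fromSpecStalk (X := X.left)).le ⟨_, rfl⟩
        rwa [h.antisymm (genericPoint_specializes _) |>.eq]
      have he1 : ⊤ ≤ (q.left ≫ a.act.left) ⁻¹ᵁ (φ.left ⁻¹ᵁ U) := hq1 ▸ hmem s₁
      have he2 : ⊤ ≤ (q.left ≫ (snd G X).left) ⁻¹ᵁ (φ.left ⁻¹ᵁ U) := hq2 ▸ hmem s₂
      have hle : ⊤ ≤ q.left ⁻¹ᵁ (a.act.left ⁻¹ᵁ (φ.left ⁻¹ᵁ U) ⊓ (snd G X).left ⁻¹ᵁ (φ.left ⁻¹ᵁ U)) :=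
        fun t ht => ⟨he1 ht, he2 ht⟩
      have key := congrArg (q.left.appLE _ ⊤ hle) hf
      rw [← CommRingCat.comp_apply, ← CommRingCat.comp_apply, Scheme.Hom.appLE_comp_appLE,
        Scheme.Hom.appLE_comp_appLE] at key
      have hcg : ∀ (p p' : T.left ⟶ X.left) (hpp : p = p') e, p.appLE (φ.left ⁻¹ᵁ U) ⊤ e =
          p'.appLE (φ.left ⁻¹ᵁ U) ⊤ (hpp ▸ e) := by rintro p p' rfl e; rfl
      rw [hcg _ _ hq1, hcg _ _ hq2] at key
      exact (Scheme.ΓSpecIso (CommRingCat.of Ω)).symm.commRingCatIsoToRingEquiv.injective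
        ((appLE_specMap_fromSpecStalk hξ s₁ (hmem s₁) f).symm.trans
          (key.trans (appLE_specMap_fromSpecStalk hξ s₂ (hmem s₂) f)))
  exact exists_section φ.left hs hY hξ f b hb

theorem main [UniversallyOpen G.hom] [IsIntegral X.left] [IsIntegral Y.left] [IsLocallyNoetherian Y.left]
    [CharZero Y.left.functionField] [IsDominant φ.left] [LocallyOfFiniteType φ.left]
    (hY : ∀ U : Y.left.affineOpens, IsIntegrallyClosed Γ(Y.left, U)) (hi : GIT.IsInvariant a φ) :
    UniversallyOpen φ.left ∧ (Surjective φ.left → GIT.IsGeomQuot a φ) := by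
  haveI := universallyOpen_fst a φ hii hi
  haveI hopen : UniversallyOpen φ.left := OrbitOpen.universallyOpen φ.left hY
  refine ⟨hopen, fun hs => ⟨hi, hs.surj, surjective_psiY a φ hii hi, fun X' Y' i₁ i₂ f' H => ?_,
    fun U => ⟨app_injective_of_surjective _ hs.surj U, Set.ext fun f => ⟨?_, fun hf =>
      exists_eq_app a φ hii hY hs.surj U f hf⟩⟩⟩⟩
  · haveI : UniversallyOpen f' := MorphismProperty.of_isPullback H.flip hopen
    haveI : Surjective f' := MorphismProperty.of_isPullback H.flip hs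
    exact f'.isOpenMap.isQuotientMap f'.continuous f'.surjective
  · rintro ⟨s, rfl⟩
    show GIT.IsInvSection a φ U _
    unfold GIT.IsInvSection
    rw [← CommRingCat.comp_apply, ← CommRingCat.comp_apply, Scheme.Hom.app_eq_appLE,
      Scheme.Hom.appLE_comp_appLE, Scheme.Hom.appLE_comp_appLE]
    simp only [hi.left]

end Action

end Groth.Agent.AlgGrpLib.OrbitQuot
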