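import Groth.Agent.AlgGrpLib.PicProdTriv
import Groth.Agent.AlgGrpLib.RatGroup
import Groth.Agent.PicNormal23.Product
import Groth.Agent.S16118

/-!
# The difference `σ^* c - p₂^* c` comes from the group

For a connected linear group acting on a normal variety, `σ^* c = p₁^* (α_x^* c) * p₂^* c`.
-/

set_option autoImplicit false
set_option linter.style.haveILetI false
set_option backward.isDefEq.respectTransparency.types false

universe u

open CategoryTheory CategoryTheory.Limits MonoidalCategory CartesianMonoidalCategory MonObj GrpObj AlgebraicGeometry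
open AlgGrp Groth.Agent.PicLib

namespace Groth.Agent.AlgGrpLib.PicActionDiff

variable {k : Type u} [Field k]

theorem pull_const {T X : Over (Spec (CommRingCat.of k))} (x : 𝟙_ (Over (Spec (CommRingCat.of k))) ⟶ X)
    (c : PicM X.left) : PicM.pull (toUnit T ≫ x).left c = 1 := by
  rw [Over.comp_left, ← PicM.pull_pull]
  exact (congrArg (PicM.pull (toUnit T).left) (PicM.eq_one_of_field k (PicM.pull x.left c))).trans (map_one _)

/-- `σ^* c = p₁^* (α_x^* c) * p₂^* c`. -/
theorem act_pull_eq [IsAlgClosed k] (G X : Over (Spec (CommRingCat.of k))) [GrpObj G] [IsAffine G.left]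
    [Smooth G.hom] [ConnectedSpace ↥G.left] [IsIntegral X.left] [IsSeparated X.hom] [LocallyOfFiniteType X.hom]
    [QuasiCompact X.hom] (hX : Pi1.IsNormalScheme X.left) (a : AlgGrp.Action G X)
    (x : 𝟙_ (Over (Spec (CommRingCat.of k))) ⟶ X) (c : PicM X.left) :
    PicM.pull a.act.left c =
      PicM.pull (fst G X).left (PicM.pull (a.orbitMap x).left c) * PicM.pull (snd G X).left c := by
  classical
  haveI : IrreducibleSpace G.left := Groth.Agent.SGA3cLib.irreducibleSpace_of_connected G
  haveI : IsReduced G.left := WeilLib.isReduced_of_smooth G.hom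
  haveI : IsIntegral G.left := isIntegral_of_irreducibleSpace_of_isReduced _
  haveI : IsNoetherian X.left :=
    { toIsLocallyNoetherian := LocallyOfFiniteType.isLocallyNoetherian X.hom
      toCompactSpace := QuasiCompact.compactSpace_of_compactSpace X.hom }
  obtain ⟨d, hd⟩ := PicM.exists_mul_eq_one
    (PicM.pull (fst G X).left (PicM.pull (a.orbitMap x).left c) * PicM.pull (snd G X).left c)
  refine PicM.eq_of_mul_inv hd ?_
  obtain ⟨W, aW, n, b, ha, hb, hWne⟩ := RatGroup.rat_group G
  haveI := ha; haveI := hWne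
  obtain ⟨bb, hbb⟩ : ∃ bb : W.left ⟶ 𝔸(ULift.{u} (Fin n); Spec (CommRingCat.of k)), bb = b.left := ⟨b.left, rfl⟩
  haveI : IsOpenImmersion bb := by rw [hbb]; exact hb
  have hb' : bb ≫ (𝔸(ULift.{u} (Fin n); Spec (CommRingCat.of k)) ↘ Spec (CommRingCat.of k)) = W.hom :=
    hbb ▸ Over.w b
  haveI : LocallyOfFiniteType W.hom := by rw [← Over.w aW]; infer_instance
  obtain ⟨w₀⟩ : Nonempty (𝟙_ (Over (Spec (CommRingCat.of k))) ⟶ W) := by
    haveI : JacobsonSpace W.left := LocallyOfFiniteType.jacobsonSpace W.hom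
    obtain ⟨z, -, hz⟩ := nonempty_inter_closedPoints (Z := (Set.univ : Set W.left)) Set.univ_nonempty
      isOpen_univ.isLocallyClosed
    exact ⟨Over.homMk (pointOfClosedPoint W.hom z hz) (pointOfClosedPoint_comp W.hom z hz)⟩
  refine PicProdTriv.eq_one_of_open G X hX x aW.left.opensRange ?_ _ ?_ ?_
  · obtain ⟨w⟩ := hWne
    exact ⟨_, w, rfl⟩
  · set D := PicM.pull a.act.left c * d with hD
    let Φ : X ⊗ W ⟶ G ⊗ X := lift (snd X W ≫ aW) (fst X W)
    suffices h : PicM.pull Φ.left D = 1 by
      let P' : Over (Spec (CommRingCat.of k)) :=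
        Over.mk (((fst G X).left ⁻¹ᵁ aW.left.opensRange).ι ≫ (G ⊗ X).hom)
      let ι' : P' ⟶ G ⊗ X := Over.homMk ((fst G X).left ⁻¹ᵁ aW.left.opensRange).ι rfl
      let w : P' ⟶ W := Over.homMk (IsOpenImmersion.lift aW.left (ι' ≫ fst G X).left (by
          rintro _ ⟨s, rfl⟩; exact s.2))
        (by rw [← Over.w aW, ← Category.assoc, IsOpenImmersion.lift_fac]; exact Over.w (ι' ≫ fst G X))
      have hw : w ≫ aW = ι' ≫ fst G X := Over.OverMorphism.ext (IsOpenImmersion.lift_fac _ _ _)
      have hι : lift (ι' ≫ snd G X) w ≫ Φ = ι' := by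
        apply hom_ext
        · simp only [Φ, Category.assoc, lift_fst, lift_snd_assoc, hw]
        · simp only [Φ, Category.assoc, lift_snd, lift_fst]
      show PicM.pull ι'.left D = 1
      rw [← hι, Over.comp_left, ← PicM.pull_pull, h, map_one]
    -- all slices are trivial
    have hslice : ∀ v : 𝟙_ (Over (Spec (CommRingCat.of k))) ⟶ W,
        PicM.pull (lift (𝟙 X) (toUnit X ≫ v) ≫ Φ).left D = 1 := by
      intro v
      have e : lift (𝟙 X) (toUnit X ≫ v) ≫ Φ = lift (toUnit X ≫ v ≫ aW) (𝟙 X) := by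
        simp only [Φ, comp_lift, lift_snd_assoc, lift_fst, Category.assoc]
      rw [e, hD, map_mul]
      have hd' := congrArg (PicM.pull (lift (toUnit X ≫ v ≫ aW) (𝟙 X)).left) hd
      rw [map_mul, map_mul, map_one, PicM.pull_pull, PicM.pull_pull, PicM.pull_pull, ← Over.comp_left,
        ← Over.comp_left, ← Over.comp_left, lift_snd, lift_fst] at hd'
      rw [show ((toUnit X ≫ v ≫ aW) ≫ a.orbitMap x) = toUnit X ≫ (v ≫ aW ≫ a.orbitMap x) by
        simp only [Category.assoc], pull_const, _root_.one_mul] at hd'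
      rw [show PicM.pull (𝟙 X : X ⟶ X).left c = c from PicM.pull_id c] at hd'
      have h18 : PicM.pull (lift (toUnit X ≫ v ≫ aW) (𝟙 X) ≫ a.act).left c = c := by
        obtain ⟨L, hL, rfl⟩ := PicM.exists_eq_of c
        rw [PicM.pull_of, PicM.of_eq_iff]
        exact Groth.Agent.S16118.result k G X hX a (v ≫ aW) L hL
      rw [PicM.pull_pull, ← Over.comp_left, h18]
      exact hd'
    let e : pullback X.hom (bb ≫ (𝔸(ULift.{u} (Fin n); Spec (CommRingCat.of k)) ↘ Spec (CommRingCat.of k))) ≅
        (X ⊗ W).left := pullback.congrHom rfl hb'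
    obtain ⟨c₀, ⟨hc₀i, hc₀⟩, -⟩ := Groth.Agent.PicNormal23.existsUnique_pullCl_eq bb w₀.left
      ((congrArg (w₀.left ≫ ·) hb').trans (Over.w w₀)) X.hom hX (PicM.pull e.hom (PicM.pull Φ.left D)).val
      (PicM.pull e.hom (PicM.pull Φ.left D)).prop
    have hc : PicM.pull (pullback.fst _ _) (⟨c₀, hc₀i⟩ : PicM X.left) = PicM.pull e.hom (PicM.pull Φ.left D) :=
      PicM.ext hc₀
    have h2 : ((lift (𝟙 X) (toUnit X ≫ w₀)).left ≫ e.inv) ≫ pullback.fst X.hom
        (bb ≫ (𝔸(ULift.{u} (Fin n); Spec (CommRingCat.of k)) ↘ Spec (CommRingCat.of k))) = 𝟙 X.left := by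
      rw [Category.assoc, show e.inv ≫ pullback.fst _ _ = (fst X W).left by
        rw [Iso.inv_comp_eq]
        show _ = (pullback.congrHom rfl hb').hom ≫ pullback.fst X.hom W.hom
        rw [pullback.congrHom_hom]
        exact ((pullback.lift_fst _ _ _).trans (Category.comp_id _)).symm]
      exact congrArg CommaMorphism.left (lift_fst (𝟙 X) (toUnit X ≫ w₀))
    have h3 := congrArg (PicM.pull ((lift (𝟙 X) (toUnit X ≫ w₀)).left ≫ e.inv)) hc
    rw [PicM.pull_pull, h2, PicM.pull_id, PicM.pull_pull, Category.assoc, Iso.inv_hom_id, Category.comp_id,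
      PicM.pull_pull, ← Over.comp_left, hslice] at h3
    rw [h3, map_one] at hc
    have h4 := congrArg (PicM.pull e.inv) hc.symm
    rwa [PicM.pull_pull, Iso.inv_hom_id, PicM.pull_id, map_one] at h4
  · have hd' := congrArg (PicM.pull (lift (𝟙 G) (toUnit G ≫ x)).left) hd
    rw [map_mul, map_mul, map_one, PicM.pull_pull, PicM.pull_pull, PicM.pull_pull, ← Over.comp_left,
      ← Over.comp_left, ← Over.comp_left, lift_snd, lift_fst, Category.id_comp, pull_const,
      _root_.mul_one] at hd'
    rw [map_mul, PicM.pull_pull, ← Over.comp_left]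
    exact hd'

end Groth.Agent.AlgGrpLib.PicActionDiff
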