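import Groth.Agent.AlgGrpLib.PicTorsionDet
import Groth.Agent.VarietyLib.SmoothStalk
import Groth.Agent.S2821
import Mathlib.GroupTheory.FiniteAbelian.Basic
import Mathlib.RingTheory.TensorProduct.MvPolynomial
import Mathlib.RingTheory.Localization.BaseChange
import Mathlib.RingTheory.Smooth.Basic

/-!
# The Picard group of an affine group with a rational open is finite
-/

set_option autoImplicit false
set_option backward.isDefEq.respectTransparency.types false
set_option maxHeartbeats 800000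
set_option linter.style.haveILetI false

universe u

open TensorProduct
open Groth.Agent.AlgGrpLib.LocFactorial

noncomputable section

namespace Groth.Agent.AlgGrpLib.PicFinite

variable {k : Type u} [Field k]

instance smooth_mvPolynomial (R : Type u) [CommRing R] (n : ℕ) : Algebra.Smooth R (MvPolynomial (Fin n) R) :=
  { formallySmooth := inferInstance, finitePresentation := inferInstance }

theorem locUFD_of_smooth (B : Type u) [CommRing B] [IsDomain B] [Algebra k B] [Algebra.Smooth k B] : LocUFD B := by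
  intro p _
  haveI := VarietyLib.isRegularLocalRing_of_smooth k B p
  exact (S2821.result (Localization.AtPrime p)).2

variable [IsAlgClosed k] {A : Type u} [CommRing A] [Algebra k A] [IsDomain A] [Algebra.Smooth k A]

/-- Classes on the product with an open of affine space come from the first factor. -/
theorem surjective_left {n : ℕ} (B : Type u) [CommRing B] [Algebra k B] [Algebra (MvPolynomial (Fin n) k) B]
    [IsScalarTower k (MvPolynomial (Fin n) k) B] (h : MvPolynomial (Fin n) k) (hh : h ≠ 0)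
    [IsLocalization.Away h B] [IsDomain (A ⊗[k] B)] :
    Function.Surjective (CommRing.Pic.mapRingHom
      ((Algebra.TensorProduct.includeLeft : A →ₐ[k] A ⊗[k] B) : A →+* A ⊗[k] B)) := by
  let P := MvPolynomial (Fin n) k
  haveI : Algebra.FiniteType k A := inferInstance
  haveI : IsNoetherianRing A := Algebra.FiniteType.isNoetherianRing k A
  haveI : IsDomain (A ⊗[k] P) := (MvPolynomial.algebraTensorAlgEquiv k A).toRingEquiv.toMulEquiv.isDomain _
  haveI : Algebra.Smooth k (MvPolynomial (Fin n) A) := Algebra.Smooth.comp k A _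
  have hA := locUFD_of_smooth (k := k) A
  have hP := locUFD_of_smooth (k := k) (MvPolynomial (Fin n) A)
  haveI : Algebra.Smooth k (A ⊗[k] P) := Algebra.Smooth.comp k A _
  have hAP := locUFD_of_smooth (k := k) (A ⊗[k] P)
  haveI : IsNoetherianRing (A ⊗[k] P) := isNoetherianRing_of_ringEquiv _ (MvPolynomial.algebraTensorAlgEquiv k A).symm.toRingEquiv
  let φ : A ⊗[k] P →ₐ[k] A ⊗[k] B := Algebra.TensorProduct.map (AlgHom.id k A) (IsScalarTower.toAlgHom k P B)
  letI : Algebra (A ⊗[k] P) (A ⊗[k] B) := φ.toRingHom.toAlgebra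
  haveI : IsScalarTower A (A ⊗[k] P) (A ⊗[k] B) := .of_algebraMap_eq fun a => by
    show a ⊗ₜ[k] (1 : B) = φ (a ⊗ₜ 1)
    simp [φ]
  haveI : IsLocalization ((Submonoid.powers h).map (Algebra.TensorProduct.includeRight (R := k) (A := A)))
      (A ⊗[k] B) :=
    IsLocalization.tensorProduct_tensorProduct_right k A (Submonoid.powers h) B (RingHom.ext fun p => by
      show φ ((1 : A) ⊗ₜ p) = _
      simp [φ, P])
  have hM : (Submonoid.powers h).map (Algebra.TensorProduct.includeRight (R := k) (A := A)) ≤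
      nonZeroDivisors (A ⊗[k] P) := by
    rintro _ ⟨_, ⟨r, rfl⟩, rfl⟩
    refine mem_nonZeroDivisors_of_ne_zero ?_
    intro h0
    exact pow_ne_zero r hh (Algebra.TensorProduct.includeRight_injective
      (FaithfulSMul.algebraMap_injective k A) (h0.trans (map_zero _).symm))
  intro c
  obtain ⟨c₁, rfl⟩ := mapRingHom_surjective hAP _ hM (T := A ⊗[k] B) c
  let e := MvPolynomial.algebraTensorAlgEquiv (σ := Fin n) k A
  obtain ⟨c₀, hc₀⟩ := mapRingHom_C_surjective hA n hP (CommRing.Pic.mapRingHom (e : A ⊗[k] P →+* MvPolynomial (Fin n) A) c₁)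
  refine ⟨c₀, ?_⟩
  have h1 : CommRing.Pic.mapRingHom (e.symm : MvPolynomial (Fin n) A →+* A ⊗[k] P)
      (CommRing.Pic.mapRingHom (e : A ⊗[k] P →+* MvPolynomial (Fin n) A) c₁) = c₁ := by
    rw [CommRing.Pic.mapRingHom_mapRingHom,
      show (e.symm : MvPolynomial (Fin n) A →+* A ⊗[k] P).comp (e : A ⊗[k] P →+* _) = RingHom.id _ from
        RingHom.ext fun x => e.symm_apply_apply x, CommRing.Pic.mapRingHom_id_apply]
  rw [← h1, ← hc₀, CommRing.Pic.mapRingHom_mapRingHom, CommRing.Pic.mapRingHom_mapRingHom]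
  refine congrArg (fun θ => CommRing.Pic.mapRingHom θ c₀) (RingHom.ext fun a => ?_)
  show a ⊗ₜ[k] (1 : B) = φ (e.symm (algebraMap A (MvPolynomial (Fin n) A) a))
  rw [AlgEquiv.commutes]
  simp [φ]

end Groth.Agent.AlgGrpLib.PicFinite

namespace Groth.Agent.AlgGrpLib.PicFinite

variable {k : Type u} [Field k] [IsAlgClosed k] {A : Type u} [CommRing A] [HopfAlgebra k A] [IsDomain A]
  [Algebra.Smooth k A]

theorem finite_pic {n : ℕ} {f : A} (hf : f ≠ 0) (B : Type u) [CommRing B] [Algebra A B] [Algebra k B]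
    [IsScalarTower k A B] [IsLocalization.Away f B] [Algebra (MvPolynomial (Fin n) k) B]
    [IsScalarTower k (MvPolynomial (Fin n) k) B] (h : MvPolynomial (Fin n) k) (hh : h ≠ 0)
    [IsLocalization.Away h B] : Finite (CommRing.Pic A) := by
  let P := MvPolynomial (Fin n) k
  haveI : Algebra.FiniteType k A := inferInstance
  haveI : IsNoetherianRing A := Algebra.FiniteType.isNoetherianRing k A
  have hA := locUFD_of_smooth (k := k) A
  have hpow : Submonoid.powers f ≤ nonZeroDivisors A := powers_le_nonZeroDivisors_of_noZeroDivisors hf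
  haveI : IsDomain B := IsLocalization.isDomain_of_le_nonZeroDivisors _ hpow
  have hhpow : Submonoid.powers h ≤ nonZeroDivisors P := powers_le_nonZeroDivisors_of_noZeroDivisors hh
  haveI : Subsingleton (CommRing.Pic B) :=
    (mapRingHom_surjective (locUFD_of_smooth (k := k) P) (Submonoid.powers h) hhpow (T := B)).subsingleton
  -- finitely generated
  let S₀ : Set (Ideal A) := {Q | Q.IsPrime ∧ Inv Q ∧ f ∈ Q}
  have hS₀ : S₀.Finite := finite_setOf_mem hA hf
  have hgen : ∀ c : CommRing.Pic A, c ∈ Subgroup.closure (cls '' S₀) := fun c => by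
    refine Subgroup.closure_mono ?_ (ker_le_closure hA (Submonoid.powers f) hpow (T := B) (c := c) (Subsingleton.elim _ _))
    rintro _ ⟨Q, ⟨hQp, hQ, _, ⟨r, rfl⟩, hr⟩, rfl⟩
    exact ⟨Q, ⟨hQp, hQ, hQp.mem_of_pow_mem r hr⟩, rfl⟩
  -- compatibility with multiplication
  haveI : IsDomain (A ⊗[k] A) := VarietyLib.isDomain_tensor_of_isAlgClosed k _ _
  haveI : Algebra.Smooth k (A ⊗[k] A) := Algebra.Smooth.comp k A _
  haveI : IsNoetherianRing (A ⊗[k] A) := Algebra.FiniteType.isNoetherianRing k _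
  have hAA := locUFD_of_smooth (k := k) (A ⊗[k] A)
  let φ : A ⊗[k] A →ₐ[k] A ⊗[k] B := Algebra.TensorProduct.map (AlgHom.id k A) (IsScalarTower.toAlgHom k A B)
  letI : Algebra (A ⊗[k] A) (A ⊗[k] B) := φ.toRingHom.toAlgebra
  haveI : IsScalarTower A (A ⊗[k] A) (A ⊗[k] B) := .of_algebraMap_eq fun a => by
    show a ⊗ₜ[k] (1 : B) = φ (a ⊗ₜ 1)
    simp [φ]
  haveI : IsLocalization ((Submonoid.powers f).map (Algebra.TensorProduct.includeRight (R := k) (A := A)))
      (A ⊗[k] B) :=
    IsLocalization.tensorProduct_tensorProduct_right k A (Submonoid.powers f) B (RingHom.ext fun p => by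
      show φ ((1 : A) ⊗ₜ p) = _
      simp [φ, P])
  have hr : Function.Injective (Algebra.TensorProduct.includeRight : A →ₐ[k] A ⊗[k] A) :=
    Algebra.TensorProduct.includeRight_injective (FaithfulSMul.algebraMap_injective k A)
  have hM : (Submonoid.powers f).map (Algebra.TensorProduct.includeRight (R := k) (A := A)) ≤
      nonZeroDivisors (A ⊗[k] A) := by
    rintro _ ⟨_, ⟨r, rfl⟩, rfl⟩
    exact mem_nonZeroDivisors_of_ne_zero fun h0 => pow_ne_zero r hf (hr (h0.trans (map_zero _).symm))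
  haveI : IsDomain (A ⊗[k] B) := IsLocalization.isDomain_of_le_nonZeroDivisors _ hM
  let i₁ : A →+* A ⊗[k] A := ((Algebra.TensorProduct.includeLeft : A →ₐ[k] A ⊗[k] A) : A →+* A ⊗[k] A)
  let i₂ : A →+* A ⊗[k] A := ((Algebra.TensorProduct.includeRight : A →ₐ[k] A ⊗[k] A) : A →+* A ⊗[k] A)
  let Δ : A →+* A ⊗[k] A := (Bialgebra.comulAlgHom k A : A →+* A ⊗[k] A)
  have hsplit : ∀ c : CommRing.Pic (A ⊗[k] A), ∃ N D : CommRing.Pic A,
      c = CommRing.Pic.mapRingHom i₁ N * CommRing.Pic.mapRingHom i₂ D := by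
    intro c
    obtain ⟨N, hN⟩ := surjective_left (A := A) B h hh (CommRing.Pic.mapRingHom (algebraMap (A ⊗[k] A) (A ⊗[k] B)) c)
    have hker : CommRing.Pic.mapRingHom (algebraMap (A ⊗[k] A) (A ⊗[k] B)) ((CommRing.Pic.mapRingHom i₁ N)⁻¹ * c) = 1 := by
      rw [map_mul, map_inv, CommRing.Pic.mapRingHom_mapRingHom, inv_mul_eq_one, ← hN]
      refine congrArg (fun θ => CommRing.Pic.mapRingHom θ N) (RingHom.ext fun a => ?_)
      show φ (a ⊗ₜ 1) = a ⊗ₜ[k] (1 : B)
      simp [φ]
    have hmem := ker_le_closure hAA _ hM (T := A ⊗[k] B) hker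
    suffices Subgroup.closure (cls '' {Q : Ideal (A ⊗[k] A) | Q.IsPrime ∧ Inv Q ∧
        ∃ s ∈ (Submonoid.powers f).map (Algebra.TensorProduct.includeRight (R := k) (A := A)), s ∈ Q}) ≤
        (CommRing.Pic.mapRingHom i₂).range by
      obtain ⟨D, hD⟩ := this hmem
      exact ⟨N, D, by rw [hD, mul_inv_cancel_left]⟩
    rw [Subgroup.closure_le]
    rintro _ ⟨Q, ⟨hQp, hQ, _, ⟨_, ⟨r, rfl⟩, rfl⟩, hrQ⟩, rfl⟩
    have hfQ : i₂ f ∈ Q := hQp.mem_of_pow_mem r (by rwa [map_pow] at hrQ)
    haveI := hQp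
    obtain ⟨P', hP', hPQ⟩ := Ideal.exists_minimalPrimes_le (J := Q.comap i₂)
      ((Ideal.span_singleton_le_iff_mem _).2 (Ideal.mem_comap.2 hfQ))
    have hPi := inv_of_minimal hA (inv_span hf) hP'
    haveI : P'.IsPrime := hP'.1.1
    haveI : IsDomain (A ⊗[k] (A ⧸ P')) := VarietyLib.isDomain_tensor_of_isAlgClosed k _ _
    have hprime : (P'.map i₂).IsPrime := by
      have h1 : RingHom.ker (Algebra.TensorProduct.map (AlgHom.id k A) (Ideal.Quotient.mkₐ k P')) = P'.map i₂ := by
        rw [Algebra.TensorProduct.lTensor_ker (Ideal.Quotient.mkₐ k P') Ideal.Quotient.mk_surjective]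
        exact congrArg (Ideal.map i₂) (Ideal.Quotient.mkₐ_ker k P')
      exact h1 ▸ RingHom.ker_isPrime _
    have hmap : P'.map i₂ = Q :=
      hQ.not_prime_lt hQp (hPi.map i₂ hr) hprime (Ideal.map_le_iff_le_comap.2 hPQ)
    exact ⟨cls P', by rw [mapRingHom_cls i₂ hr hPi, hmap]⟩
  have htors : ∀ c : CommRing.Pic A, IsOfFinOrder c := by
    intro c
    obtain ⟨N, D, hND⟩ := hsplit (CommRing.Pic.mapRingHom Δ c)
    let εL : A ⊗[k] A →ₐ[k] A := Algebra.TensorProduct.lift
      ((Algebra.ofId k A).comp (Bialgebra.counitAlgHom k A)) (AlgHom.id k A) fun _ _ => .all _ _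
    let εR : A ⊗[k] A →ₐ[k] A := Algebra.TensorProduct.lift (AlgHom.id k A)
      ((Algebra.ofId k A).comp (Bialgebra.counitAlgHom k A)) fun _ _ => .all _ _
    have hconst : ∀ x : CommRing.Pic A, CommRing.Pic.mapRingHom
        ((algebraMap k A).comp (Bialgebra.counitAlgHom k A : A →+* k)) x = 1 := fun x => by
      rw [← CommRing.Pic.mapRingHom_mapRingHom, Subsingleton.elim (CommRing.Pic.mapRingHom _ x) 1, map_one]
    have hD : c = D := by
      have h0 := congrArg (CommRing.Pic.mapRingHom (εL : A ⊗[k] A →+* A)) hND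
      rw [map_mul, CommRing.Pic.mapRingHom_mapRingHom, CommRing.Pic.mapRingHom_mapRingHom,
        CommRing.Pic.mapRingHom_mapRingHom,
        show (εL : A ⊗[k] A →+* A).comp Δ = RingHom.id A from RingHom.ext (PicTorsion.counit_left (k := k)),
        show (εL : A ⊗[k] A →+* A).comp i₁ = (algebraMap k A).comp (Bialgebra.counitAlgHom k A : A →+* k) from
          RingHom.ext fun a => by simp [εL, i₁],
        show (εL : A ⊗[k] A →+* A).comp i₂ = RingHom.id A from RingHom.ext fun a => by simp [εL, i₂],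
        CommRing.Pic.mapRingHom_id_apply, hconst, CommRing.Pic.mapRingHom_id_apply, one_mul] at h0
      exact h0
    have hN : c = N := by
      have h0 := congrArg (CommRing.Pic.mapRingHom (εR : A ⊗[k] A →+* A)) hND
      rw [map_mul, CommRing.Pic.mapRingHom_mapRingHom, CommRing.Pic.mapRingHom_mapRingHom,
        CommRing.Pic.mapRingHom_mapRingHom,
        show (εR : A ⊗[k] A →+* A).comp Δ = RingHom.id A from RingHom.ext (PicTorsion.counit_right (k := k)),
        show (εR : A ⊗[k] A →+* A).comp i₁ = RingHom.id A from RingHom.ext fun a => by simp [εR, i₁],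
        show (εR : A ⊗[k] A →+* A).comp i₂ = (algebraMap k A).comp (Bialgebra.counitAlgHom k A : A →+* k) from
          RingHom.ext fun a => by simp [εR, i₂],
        CommRing.Pic.mapRingHom_id_apply, hconst, CommRing.Pic.mapRingHom_id_apply, mul_one] at h0
      exact h0
    subst hD hN
    obtain ⟨I, hI, rfl⟩ := exists_cls c
    obtain ⟨d, hd, hd'⟩ := PicTorsionDet.exists_pow_eq_one (k := k) hI hND
    exact isOfFinOrder_iff_pow_eq_one.2 ⟨d, hd, hd'⟩
  haveI : Group.FG (CommRing.Pic A) :=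
    Group.fg_iff.2 ⟨cls '' S₀, top_unique fun c _ => hgen c, hS₀.image _⟩
  exact CommGroup.finite_of_fg_isMulTorsion _ htors

end Groth.Agent.AlgGrpLib.PicFinite
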