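import Groth.Agent.AlgGrpLib.PicFinite
import Groth.Agent.AlgGrpLib.RatGroup
import Groth.Agent.UPLib.SecKernel
import Groth.Prelude.Def_PicLoc

/-!
# Finiteness of the Picard group of a connected linear group

The dictionary between invertible sheaves and invertible modules, and the algebraic rational chart.
-/

set_option autoImplicit false
set_option backward.isDefEq.respectTransparency.types false
set_option maxHeartbeats 800000
set_option linter.style.haveILetI false
set_option synthInstance.maxHeartbeats 400000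

universe u

open CategoryTheory CategoryTheory.Limits AlgebraicGeometry TopologicalSpace Opposite
open Groth.Agent.Coherent Groth.Agent.PicLib Groth.Agent.AmpleLib
open Groth.Agent.AlgGrpLib.LocFactorial

noncomputable section

namespace Groth.Agent.AlgGrpLib.PicFiniteScheme

theorem invertible_of_genAt {R : Type u} [CommRing R] [IsDomain R] [IsNoetherianRing R] {M : Type u} [AddCommGroup M]
    [Module R M] (h : ∀ p : PrimeSpectrum R, ∃ (f : R) (t : M), f ∉ p.asIdeal ∧ UPLib.GenAt (Submonoid.powers f) t) :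
    Module.Invertible R M := by
  classical
  haveI := (UPLib.projective_of_genAt h).1
  obtain ⟨f₀, t₀, hf₀, ht₀⟩ := h ⟨⊥, Ideal.isPrime_bot⟩
  have hf₀' : f₀ ≠ 0 := fun h0 => hf₀ (by simp [h0])
  have ht0 : t₀ ≠ 0 := fun h0 => by
    obtain ⟨_, ⟨n, rfl⟩, hs⟩ := ht₀.inj 1 (by rw [h0, smul_zero])
    exact pow_ne_zero n hf₀' (by simpa using hs)
  obtain ⟨φ, hφ⟩ := Module.Projective.exists_dual_ne_zero R ht0
  have hφinj : Function.Injective φ := by
    rw [injective_iff_map_eq_zero]
    intro x hx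
    obtain ⟨_, ⟨n, rfl⟩, a, hxa⟩ := ht₀.surj x
    have ha : a = 0 := by
      have h1 := congrArg φ hxa
      rw [map_smul, map_smul, hx, smul_zero, smul_eq_mul] at h1
      exact (mul_eq_zero.1 h1.symm).resolve_right hφ
    rw [ha, zero_smul] at hxa
    by_contra hx0
    obtain ⟨ψ, hψ⟩ := Module.Projective.exists_dual_ne_zero R hx0
    have h1 := congrArg ψ hxa
    rw [map_smul, map_zero, smul_eq_mul] at h1
    exact hψ ((mul_eq_zero.1 h1).resolve_left (pow_ne_zero n hf₀'))
  let I : Ideal R := LinearMap.range φ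
  let a := φ t₀
  let J : Ideal R :=
    { carrier := {c | ∀ x ∈ I, c * x ∈ Ideal.span {a}}
      add_mem' := fun {s t} hs ht x hx => by
        rw [add_mul]
        exact Ideal.add_mem _ (hs x hx) (ht x hx)
      zero_mem' := fun x _ => by simp
      smul_mem' := fun c t ht x hx => by
        rw [smul_eq_mul, mul_assoc]
        exact Ideal.mul_mem_left _ c (ht x hx) }
  have hI : LocFactorial.Inv I := by
    refine ⟨J, a, hφ, le_antisymm (Ideal.mul_le.2 fun x hx c hc => by rw [mul_comm]; exact hc x hx) ?_⟩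
    rw [Ideal.span_singleton_le_iff_mem]
    refine mem_of_forall_maximal fun m hm => ?_
    obtain ⟨f, t, hfm, ht⟩ := h ⟨m, hm.isPrime⟩
    have hpow : ∀ n : ℕ, f ^ n ∉ m := fun n hn => hfm (hm.isPrime.mem_of_pow_mem n hn)
    obtain ⟨G, hG⟩ := (IsNoetherian.noetherian I : I.FG)
    have hgen : ∀ x ∈ I, ∃ s ∉ m, s * x ∈ Ideal.span {φ t} := by
      rintro _ ⟨x, rfl⟩
      obtain ⟨_, ⟨n, rfl⟩, b, hb⟩ := ht.surj x
      refine ⟨f ^ n, hpow n, Ideal.mem_span_singleton'.2 ⟨b, ?_⟩⟩
      rw [← smul_eq_mul, ← map_smul, ← hb, map_smul, smul_eq_mul]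
    choose! s hs hsx using hgen
    obtain ⟨_, ⟨n, rfl⟩, c, hc⟩ := ht.surj t₀
    refine ⟨(∏ g ∈ G, s g) * f ^ n, fun hmem => ?_, ?_⟩
    · rcases hm.isPrime.mem_or_mem hmem with hm' | hm'
      · haveI := hm.isPrime
        obtain ⟨g, hg, hgm⟩ := Ideal.IsPrime.prod_mem_iff.1 hm'
        exact hs g (hG ▸ Submodule.subset_span hg) hgm
      · exact hpow n hm'
    · have hfa : f ^ n * a = c * φ t := by
        show f ^ n • φ t₀ = c • φ t
        rw [← map_smul, hc, map_smul]
      rw [mul_assoc, hfa, ← mul_assoc, mul_comm I J]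
      refine Ideal.mul_mem_mul (?_ : ∀ x ∈ I, _) ⟨t, rfl⟩
      intro x hx
      have hx' : (∏ g ∈ G, s g) * x ∈ Ideal.span {φ t} := by
        rw [← hG] at hx
        induction hx using Submodule.span_induction with
        | mem g hg =>
          rw [← Finset.prod_erase_mul G s hg, mul_assoc]
          exact Ideal.mul_mem_left _ _ (hsx g (hG ▸ Submodule.subset_span hg))
        | zero => simp
        | add x y _ _ hx hy => rw [mul_add]; exact Ideal.add_mem _ hx hy
        | smul r x _ hx =>
          rw [smul_eq_mul, mul_left_comm]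
          exact Ideal.mul_mem_left _ _ hx
      obtain ⟨d, hd⟩ := Ideal.mem_span_singleton'.1 hx'
      exact Ideal.mem_span_singleton'.2 ⟨d * f ^ n, by linear_combination d * hfa + c * hd⟩
  haveI := hI.invertible
  exact .congr (LinearEquiv.ofInjective φ hφinj).symm

/-- Invertible sheaves on the spectrum of a Noetherian domain are invertible modules. -/
theorem invertible_sections {R : CommRingCat.{u}} [IsDomain R] [IsNoetherianRing R] {L : (Spec R).Modules}
    (hL : PicF.IsInvertible L) : Module.Invertible R Γ(L, ⊤) := by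
  haveI := AmpleLib.isQCoh_of_isInvertible hL
  refine invertible_of_genAt fun p => ?_
  obtain ⟨U, hpU, e, he⟩ := exists_isGen hL p
  obtain ⟨_, ⟨f, rfl⟩, hpf, hle⟩ := Opens.isBasis_iff_nbhd.1 PrimeSpectrum.isBasis_basic_opens hpU
  obtain ⟨n, t, ht⟩ := spec_exists_pow_smul L f (resM L hle e)
  refine ⟨f, t, hpf, UPLib.genAt_of_le_glocus t f ((le_glocus_iff t _).2 ?_)⟩
  rw [ht, ← algebraMap_smul Γ(Spec R, specBasicOpen f) (f ^ n) (resM L hle e)]
  exact (isGen_smul_iff (by rw [map_pow]; exact (IsLocalization.Away.algebraMap_isUnit f).pow n)).2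
    (IsGen.restrict he hle)

/-- There are finitely many classes of invertible sheaves when the Picard group of the ring is finite. -/
theorem finite_picSet {R : CommRingCat.{u}} [IsDomain R] [IsNoetherianRing R] [Finite (CommRing.Pic R)] :
    Finite (PicLoc.PicSet (Spec R)) := by
  have hex : ∀ c : PicLoc.PicSet (Spec R), ∃ L, PicF.cl L = c.1 ∧ PicF.IsInvertible L := fun c => c.2
  choose L hL hLi using hex
  haveI := fun c => invertible_sections (hLi c)
  refine Finite.of_injective (fun c => CommRing.Pic.mk R Γ(L c, ⊤)) fun c c' h => Subtype.ext ?_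
  obtain ⟨e⟩ := CommRing.Pic.mk_eq_mk_iff.1 h
  haveI := AmpleLib.isQCoh_of_isInvertible (hLi c)
  haveI := AmpleLib.isQCoh_of_isInvertible (hLi c')
  obtain ⟨τ, -⟩ := UPLib.exists_hom_of_linearEquiv e
  rw [← hL c, ← hL c']
  exact Quot.sound ⟨τ⟩

theorem finite_picSet_of_iso {X Y : Scheme.{u}} (e : X ≅ Y) [Finite (PicLoc.PicSet X)] : Finite (PicLoc.PicSet Y) := by
  refine Finite.of_injective (β := PicLoc.PicSet X)
    (fun c : PicLoc.PicSet Y => (⟨PicF.pullCl e.hom c.1, PicLoc.isInvertibleCl_pullCl e.hom c.2⟩ : PicLoc.PicSet X))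
    fun c c' h => Subtype.ext ?_
  have h' := congrArg (fun x : PicLoc.PicSet X => PicF.pullCl e.inv x.1) h
  dsimp only at h'
  rwa [← PicLoc.pullCl_comp, ← PicLoc.pullCl_comp, e.inv_hom_id, PicLoc.pullCl_id, PicLoc.pullCl_id] at h'

variable {k : Type u} [Field k]

/-- An algebraic chart of a rational affine variety. -/
theorem exists_chart {C : Type u} [CommRing C] [Algebra k C] [IsDomain C] {n : ℕ}
    {W : Over (Spec (CommRingCat.of k))}
    (a : W.left ⟶ Spec (CommRingCat.of C)) (ha : a ≫ Spec.map (CommRingCat.ofHom (algebraMap k C)) = W.hom)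
    (b : W ⟶ RatVar.An k n) [IsOpenImmersion a] [IsOpenImmersion b.left] (w : W.left) :
    ∃ (f : C) (B : Type u) (_ : CommRing B) (_ : Algebra C B) (_ : Algebra k B) (_ : IsScalarTower k C B)
      (_ : IsLocalization.Away f B) (_ : Algebra (MvPolynomial (Fin n) k) B)
      (_ : IsScalarTower k (MvPolynomial (Fin n) k) B) (h : MvPolynomial (Fin n) k),
      f ≠ 0 ∧ h ≠ 0 ∧ IsLocalization.Away h B := by
  classical
  let P := MvPolynomial (ULift.{u} (Fin n)) k
  let eA : 𝔸(ULift.{u} (Fin n); Spec (CommRingCat.of k)) ≅ Spec (CommRingCat.of P) :=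
    AffineSpace.SpecIso (ULift.{u} (Fin n)) (CommRingCat.of k)
  have heA : eA.hom ≫ Spec.map (CommRingCat.ofHom (algebraMap k P)) =
      𝔸(ULift.{u} (Fin n); Spec (CommRingCat.of k)) ↘ Spec (CommRingCat.of k) := by
    rw [← Iso.eq_inv_comp, AffineSpace.SpecIso_inv_over]
    rfl
  -- a basic open inside the chart
  obtain ⟨_, ⟨f₁, rfl⟩, hwf, hle⟩ := Opens.isBasis_iff_nbhd.1 PrimeSpectrum.isBasis_basic_opens
    (show a w ∈ a.opensRange from ⟨w, rfl⟩)
  let C₁ := Localization.Away f₁
  have hf₁ : f₁ ≠ 0 := fun h0 => by rw [h0, PrimeSpectrum.basicOpen_zero] at hwf; exact hwf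
  haveI : IsDomain C₁ := IsLocalization.isDomain_of_le_nonZeroDivisors _
    (powers_le_nonZeroDivisors_of_noZeroDivisors hf₁)
  let j₁ : Spec (CommRingCat.of C₁) ⟶ Spec (CommRingCat.of C) := Spec.map (CommRingCat.ofHom (algebraMap C C₁))
  haveI : IsOpenImmersion j₁ := IsOpenImmersion.of_isLocalization f₁
  obtain ⟨s, hs⟩ : ∃ s : Spec (CommRingCat.of C₁) ⟶ W.left, s ≫ a = j₁ := by
    refine ⟨IsOpenImmersion.lift a j₁ ?_, IsOpenImmersion.lift_fac _ _ _⟩
    show Set.range (PrimeSpectrum.comap (algebraMap C C₁)) ⊆ _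
    rw [PrimeSpectrum.localization_away_comap_range C₁ f₁]
    exact hle
  haveI : IsOpenImmersion (s ≫ a) := hs ▸ inferInstance
  haveI : IsOpenImmersion s := IsOpenImmersion.of_comp s a
  obtain ⟨ψ, hψ⟩ : ∃ ψ : P →+* C₁, Spec.map (CommRingCat.ofHom ψ) = s ≫ b.left ≫ eA.hom :=
    ⟨(Spec.preimage (s ≫ b.left ≫ eA.hom)).hom, Spec.map_preimage _⟩
  haveI : IsOpenImmersion (Spec.map (CommRingCat.ofHom ψ)) := by
    rw [hψ]
    haveI : IsOpenImmersion (b.left ≫ eA.hom) := inferInstance
    infer_instance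
  have hψk : ψ.comp (algebraMap k P) = algebraMap k C₁ := by
    have h1 : Spec.map (CommRingCat.ofHom (ψ.comp (algebraMap k P))) =
        Spec.map (CommRingCat.ofHom (algebraMap k C₁)) := by
      rw [CommRingCat.ofHom_comp, Spec.map_comp, hψ, Category.assoc, Category.assoc]
      erw [heA]
      rw [IsScalarTower.algebraMap_eq k C C₁, CommRingCat.ofHom_comp, Spec.map_comp]
      rw [show b.left ≫ (𝔸(ULift.{u} (Fin n); Spec (CommRingCat.of k)) ↘ Spec (CommRingCat.of k)) = W.hom from Over.w b,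
        ← ha, reassoc_of% hs]
    exact congrArg CommRingCat.Hom.hom (Spec.map_injective h1)
  -- a basic open inside the image
  let y : PrimeSpectrum P := Spec.map (CommRingCat.ofHom ψ) (⟨⊥, Ideal.isPrime_bot⟩ : PrimeSpectrum C₁)
  obtain ⟨_, ⟨h, rfl⟩, hyh, hle'⟩ := Opens.isBasis_iff_nbhd.1 PrimeSpectrum.isBasis_basic_opens
    (show y ∈ (Spec.map (CommRingCat.ofHom ψ)).opensRange from ⟨_, rfl⟩)
  have hh0 : h ≠ 0 := fun h0 => by rw [h0, PrimeSpectrum.basicOpen_zero] at hyh; exact hyh
  have hψh0 : ψ h ≠ 0 := fun h0 => hyh (show ψ h ∈ (⊥ : Ideal C₁) by rw [h0]; exact Submodule.zero_mem _)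
  let Ph := Localization.Away h
  let B := Localization.Away (ψ h)
  let jh : Spec (CommRingCat.of Ph) ⟶ Spec (CommRingCat.of P) := Spec.map (CommRingCat.ofHom (algebraMap P Ph))
  obtain ⟨θ, hθ⟩ : ∃ θ : C₁ →+* Ph, θ.comp ψ = algebraMap P Ph := by
    have hrange : Set.range jh ⊆ Set.range (Spec.map (CommRingCat.ofHom ψ)) := by
      show Set.range (PrimeSpectrum.comap (algebraMap P Ph)) ⊆ _
      rw [PrimeSpectrum.localization_away_comap_range Ph h]
      exact hle'
    refine ⟨(Spec.preimage (IsOpenImmersion.lift (Spec.map (CommRingCat.ofHom ψ)) jh hrange)).hom, ?_⟩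
    have h1 : Spec.map (CommRingCat.ofHom ψ ≫ Spec.preimage (IsOpenImmersion.lift (Spec.map (CommRingCat.ofHom ψ)) jh hrange)) =
        Spec.map (CommRingCat.ofHom (algebraMap P Ph)) := by
      rw [Spec.map_comp, Spec.map_preimage, IsOpenImmersion.lift_fac]
    exact congrArg CommRingCat.Hom.hom (Spec.map_injective h1)
  have hu : IsUnit ((algebraMap C₁ B).comp ψ h) := IsLocalization.Away.algebraMap_isUnit (S := B) (ψ h)
  let F : Ph →+* B := IsLocalization.Away.lift h hu
  have hF : F.comp (algebraMap P Ph) = (algebraMap C₁ B).comp ψ := IsLocalization.Away.lift_comp h hu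
  have hu' : IsUnit (θ (ψ h)) := by
    rw [← RingHom.comp_apply, hθ]
    exact IsLocalization.Away.algebraMap_isUnit h
  let G : B →+* Ph := IsLocalization.Away.lift (ψ h) hu'
  have hG : G.comp (algebraMap C₁ B) = θ := IsLocalization.Away.lift_comp (ψ h) hu'
  have hGF : G.comp F = RingHom.id Ph := by
    refine IsLocalization.ringHom_ext (Submonoid.powers h) ?_
    rw [RingHom.comp_assoc, hF, ← RingHom.comp_assoc, hG, hθ, RingHom.id_comp]
  have hFG : F.comp G = RingHom.id B := by
    refine IsLocalization.ringHom_ext (Submonoid.powers (ψ h)) ?_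
    rw [RingHom.comp_assoc, hG, RingHom.id_comp]
    have h1 : Spec.map (CommRingCat.ofHom (F.comp θ)) = Spec.map (CommRingCat.ofHom (algebraMap C₁ B)) := by
      rw [← cancel_mono (Spec.map (CommRingCat.ofHom ψ)), ← Spec.map_comp, ← Spec.map_comp, ← CommRingCat.ofHom_comp,
        ← CommRingCat.ofHom_comp, RingHom.comp_assoc, hθ, hF]
    exact congrArg CommRingCat.Hom.hom (Spec.map_injective h1)
  -- the common localisation of `C`
  obtain ⟨⟨g₁, _, r, rfl⟩, hg₁⟩ := IsLocalization.surj (Submonoid.powers f₁) (ψ h)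
  haveI : IsScalarTower C C₁ B := inferInstance
  haveI hBaway : IsLocalization.Away (algebraMap C C₁ g₁) B := by
    refine IsLocalization.Away.of_associated (r := ψ h) (r' := algebraMap C C₁ g₁) ?_
    exact ⟨(((IsLocalization.Away.algebraMap_isUnit (S := C₁) f₁).pow r)).unit, by rw [IsUnit.unit_spec, ← map_pow]; exact hg₁⟩
  haveI : IsLocalization.Away (f₁ * g₁) B := IsLocalization.Away.mul' C₁ B f₁ g₁
  have hg₀ : g₁ ≠ 0 := fun h0 => by
    rw [h0, map_zero, mul_eq_zero] at hg₁
    rcases hg₁ with h1 | h1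
    · exact hψh0 h1
    · exact pow_ne_zero r hf₁ ((IsLocalization.injective C₁
        (powers_le_nonZeroDivisors_of_noZeroDivisors hf₁)) (h1.trans (map_zero _).symm))
  -- reindex the variables
  let ρ : MvPolynomial (Fin n) k ≃ₐ[k] P := MvPolynomial.renameEquiv k Equiv.ulift.symm
  letI algB : Algebra (MvPolynomial (Fin n) k) B :=
    ((algebraMap C₁ B).comp (ψ.comp (ρ : MvPolynomial (Fin n) k →+* P))).toAlgebra
  haveI : IsScalarTower k (MvPolynomial (Fin n) k) B := .of_algebraMap_eq fun c => by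
    show algebraMap k B c = algebraMap C₁ B (ψ (ρ (algebraMap k _ c)))
    rw [AlgEquiv.commutes, show ψ (algebraMap k P c) = algebraMap k C₁ c from RingHom.congr_fun hψk c,
      ← IsScalarTower.algebraMap_apply]
  haveI : IsScalarTower k C B := inferInstance
  refine ⟨f₁ * g₁, B, inferInstance, inferInstance, inferInstance, inferInstance, inferInstance, algB, inferInstance,
    ρ.symm h, mul_ne_zero hf₁ hg₀, fun h0 => hh0 (by simpa using congrArg ρ h0), ?_⟩
  letI : Algebra P B := ((algebraMap C₁ B).comp ψ).toAlgebra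
  haveI : IsLocalization.Away h B := by
    refine IsLocalization.isLocalization_of_algEquiv (Submonoid.powers h)
      ({ RingEquiv.ofRingHom F G hFG hGF with commutes' := fun p => RingHom.congr_fun hF p } : Ph ≃ₐ[P] B)
  have h1 := IsLocalization.isLocalization_of_base_ringEquiv (Submonoid.powers h) B ρ.symm.toRingEquiv
  rw [Submonoid.map_powers] at h1
  have halg : (algB : Algebra (MvPolynomial (Fin n) k) B) =
      ((algebraMap P B).comp ρ.symm.toRingEquiv.symm.toRingHom).toAlgebra := Algebra.algebra_ext _ _ fun x => rfl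
  rw [halg]
  exact h1

end Groth.Agent.AlgGrpLib.PicFiniteScheme
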