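import Groth.Agent.AlgGrpLib.PicSectionHor
import Groth.Agent.AbVarLib.AlgClosedIntegral
import Groth.Agent.PicLib.PicGroup
import Groth.Agent.VarietyLib.NormalBaseChange
import Groth.Agent.CAlgSmall.GeomNormalPI
import Groth.Agent.S7601
import Mathlib.AlgebraicGeometry.Morphisms.Flat

/-!
# Normality of products over an algebraically closed field; classes on products of normal varieties
-/

set_option autoImplicit false
set_option linter.style.haveILetI false
set_option backward.isDefEq.respectTransparency.types false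

universe u

open CategoryTheory CategoryTheory.Limits MonoidalCategory CartesianMonoidalCategory AlgebraicGeometry TopologicalSpace
open Groth.Agent.Coherent Groth.Agent.PicLib Groth.Agent.PicNormal23
open scoped TensorProduct

namespace Groth.Agent.AlgGrpLib.PicProdNormal

attribute [local instance] Curv2.stalkAlgebra

variable {k : Type u} [Field k]

/-- Over an algebraically closed field, products of normal schemes are normal. -/
theorem isNormal_prod [IsAlgClosed k] (G X : Over (Spec (CommRingCat.of k))) (hG : Pi1.IsNormalScheme G.left)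
    (hX : Pi1.IsNormalScheme X.left) : Pi1.IsNormalScheme (G ⊗ X).left := by
  letI : G.left.Over (Spec (CommRingCat.of k)) := ⟨G.hom⟩
  letI : X.left.Over (Spec (CommRingCat.of k)) := ⟨X.hom⟩
  intro z
  obtain ⟨P, ⟨e⟩⟩ := VarietyLib.exists_stalk_prod_equiv k G.left X.left z
  let A : Type u := G.left.presheaf.stalk ((pullback.fst (G.left ↘ Spec (CommRingCat.of k)) (X.left ↘ Spec (CommRingCat.of k))) z)
  have hA : EGA4.IsGeomNormal k A := CAlgSmall.GeomNormalPI.isGeomNormal_of_pi k A fun k' _ _ _ _ => by
    haveI : Algebra.IsAlgebraic k k' := Algebra.IsAlgebraic.of_finite k k'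
    let e₀ : k ≃ₐ[k] k' := AlgEquiv.ofBijective (Algebra.ofId k k') IsAlgClosed.algebraMap_bijective_of_isIntegral
    exact CommAlg6.isNormalRing_of_ringEquiv
      ((Algebra.TensorProduct.congr e₀.symm (AlgEquiv.refl : A ≃ₐ[k] A)).trans (Algebra.TensorProduct.lid k A)).toRingEquiv.symm
      (VarietyLib.isNormalRing_stalk hG _)
  obtain ⟨h1, h2⟩ := CommAlg6.NormalTensor.isNormalRing_tensor_of_isGeomNormal k A _ hA
    (VarietyLib.isNormalRing_stalk hX _) P.asIdeal
  haveI := h1
  haveI := h2
  exact ⟨e.injective.isDomain, IsIntegrallyClosed.of_equiv e.symm⟩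

/-- A class which is trivial over a nonempty open of `G` and along `G × x` is trivial. -/
theorem eq_one_of_open_normal [IsAlgClosed k] (G X : Over (Spec (CommRingCat.of k)))
    [IsIntegral G.left] [LocallyOfFiniteType G.hom] [QuasiCompact G.hom]
    (hG : Pi1.IsNormalScheme G.left) [IsIntegral X.left] [LocallyOfFiniteType X.hom] [QuasiCompact X.hom]
    (hX : Pi1.IsNormalScheme X.left)
    (x : 𝟙_ (Over (Spec (CommRingCat.of k))) ⟶ X) (O : G.left.Opens) (hO : (O : Set G.left).Nonempty)
    (a : PicM (G ⊗ X).left) (h1 : PicM.pull ((fst G X).left ⁻¹ᵁ O).ι a = 1)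
    (h2 : PicM.pull (lift (𝟙 G) (toUnit G ≫ x)).left a = 1) : a = 1 := by
  haveI : GeometricallyIntegral X.hom := AbVarLib.geometricallyIntegral_of_isAlgClosed X.hom
  haveI : IsLocallyNoetherian G.left := LocallyOfFiniteType.isLocallyNoetherian G.hom
  haveI : IsIntegral (G ⊗ X).left := inferInstanceAs (IsIntegral (pullback G.hom X.hom))
  haveI : LocallyOfFiniteType (fst G X).left := inferInstanceAs (LocallyOfFiniteType (pullback.fst G.hom X.hom))
  haveI : QuasiCompact (fst G X).left := inferInstanceAs (QuasiCompact (pullback.fst G.hom X.hom))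
  haveI : Flat (fst G X).left := inferInstanceAs (Flat (pullback.fst G.hom X.hom))
  haveI : GeometricallyIrreducible (fst G X).left :=
    inferInstanceAs (GeometricallyIrreducible (pullback.fst G.hom X.hom))
  haveI : IsLocallyNoetherian (G ⊗ X).left := LocallyOfFiniteType.isLocallyNoetherian (fst G X).left
  haveI : CompactSpace G.left := QuasiCompact.compactSpace_of_compactSpace G.hom
  haveI : CompactSpace (G ⊗ X).left := QuasiCompact.compactSpace_of_compactSpace (fst G X).left
  haveI : IsNoetherian (G ⊗ X).left := { }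
  have hP : Pi1.IsNormalScheme (G ⊗ X).left := isNormal_prod G X hG hX
  let p := (fst G X).left
  let σ := (lift (𝟙 G) (toUnit G ≫ x)).left
  have hσ : σ ≫ p = 𝟙 G.left := congrArg CommaMorphism.left (lift_fst (𝟙 G) (toUnit G ≫ x))
  have hpη : p (genericPoint (G ⊗ X).left) = genericPoint G.left := by
    refine (Specializes.antisymm ?_ (genericPoint_specializes _)).eq
    have h := (genericPoint_specializes (σ (genericPoint G.left))).map p.continuous
    rwa [show p (σ (genericPoint G.left)) = genericPoint G.left by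
      rw [← Scheme.Hom.comp_apply, hσ]; rfl] at h
  have hlift : ∀ (z : (G ⊗ X).left) (y : G.left), y ⤳ p z → ∃ z', z' ⤳ z ∧ p z' = y :=
    fun z y hy => (Flat.generalizingMap p) hy
  obtain ⟨M, hM, rfl⟩ := PicM.exists_eq_of a
  rw [PicM.pull_of, PicM.of_eq_one_iff] at h1 h2
  obtain ⟨s, hs⟩ := exists_isGen_of_iso
    ((Scheme.Modules.restrictFunctorIsoPullback (p ⁻¹ᵁ O).ι).app M ≪≫ h1.some)
  have hηO : genericPoint G.left ∈ O := by
    obtain ⟨y, hy⟩ := hO
    exact (genericPoint_specializes y).mem_open O.2 hy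
  have hmem : ∀ z, p z = genericPoint G.left → z ∈ p ⁻¹ᵁ O := fun z hz => by
    show p z ∈ O
    rw [hz]; exact hηO
  refine (PicM.of_eq_one_iff hM).2 (PicSectionHor.nonempty_iso_of_section_of_horizontal hP hG p σ hσ hpη
    (fun z hz hzη => ?_) hM
    ⟨M.presheaf.germ (p ⁻¹ᵁ O) _ (hmem _ hpη) s, fun z hz => ⟨p ⁻¹ᵁ O, hmem z hz, s, hs, rfl⟩⟩ h2)
  have hgen : ∀ (y : G.left), y ≠ genericPoint G.left → ∀ ζ, IsGenericPoint ζ (closure (p ⁻¹' {y})) →
      p ζ ≠ genericPoint G.left → ∀ w, IsPrimeDiv w → p w = y → w = ζ := by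
    intro y _ ζ hζ hζη w hw hwy
    refine ((hw.2 ζ (hζ.specializes (subset_closure hwy))).resolve_right fun h => hζη ?_).symm
    rw [h]; exact hpη
  have hirr : IsIrreducible (p ⁻¹' {p z}) := by
    rw [← Scheme.Hom.range_fiberι]
    rw [← Set.image_univ]
    exact (IrreducibleSpace.isIrreducible_univ _).image _ (p.fiberι (p z)).continuous.continuousOn
  have hζ := hirr.isGenericPoint_genericPoint_closure
  set ζ := hirr.genericPoint
  have hζ1 : p ζ ≠ genericPoint G.left := fun h => by
    have h' : p ζ ⤳ p z := (hζ.specializes (subset_closure rfl)).map p.continuous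
    -- the generic point of the fibre lies in the fibre
    have h'' : p z ⤳ p ζ := by
      rw [specializes_iff_mem_closure]
      exact (p.continuous.closure_preimage_subset {p z}) hζ.mem
    exact hzη ((h''.antisymm h').eq.trans h)
  refine ⟨⟨hzη, fun y hy => ?_⟩, fun z' hz' hzz' => ?_⟩
  · obtain ⟨z'', hz'', rfl⟩ := hlift z y hy
    exact (hz.2 z'' hz'').imp (congrArg p) fun h => (congrArg p h).trans hpη
  · exact (hgen _ hzη ζ hζ hζ1 z' hz' hzz').trans (hgen _ hzη ζ hζ hζ1 z hz rfl).symm

end Groth.Agent.AlgGrpLib.PicProdNormal
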