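import Groth.Agent.AlgGrpLib.PicSectionHor
import Groth.Agent.AbVarLib.AlgClosedIntegral
import Groth.Agent.NeronLib.NormalSmooth
import Groth.Agent.PicLib.PicGroup
import Mathlib.AlgebraicGeometry.Morphisms.Flat

/-!
# Classes on `G ⊗ X` trivial over a nonempty open of `G` and along a section

For integral varieties over an algebraically closed field, `G` smooth and `X` normal.
-/

set_option autoImplicit false
set_option linter.style.haveILetI false
set_option backward.isDefEq.respectTransparency.types false

universe u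

open CategoryTheory CategoryTheory.Limits MonoidalCategory CartesianMonoidalCategory AlgebraicGeometry TopologicalSpace
open Groth.Agent.Coherent Groth.Agent.PicLib Groth.Agent.PicNormal23

namespace Groth.Agent.AlgGrpLib.PicProdTriv

variable {k : Type u} [Field k]

theorem isNormal_spec_field : Pi1.IsNormalScheme (Spec (CommRingCat.of k)) := fun z => by
  let R := CommRingCat.of k
  letI : Algebra R ((Spec R).presheaf.stalk z) := StructureSheaf.stalkAlgebra R z
  haveI : IsLocalization.AtPrime ((Spec R).presheaf.stalk z) z.asIdeal := StructureSheaf.IsLocalization.to_stalk R z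
  exact ⟨IsLocalization.isDomain_of_le_nonZeroDivisors _ z.asIdeal.primeCompl_le_nonZeroDivisors,
    isIntegrallyClosed_of_isLocalization _ z.asIdeal.primeCompl z.asIdeal.primeCompl_le_nonZeroDivisors⟩

/-- A class which is trivial over a nonempty open of `G` and along `G × x` is trivial. -/
theorem eq_one_of_open [IsAlgClosed k] (G X : Over (Spec (CommRingCat.of k)))
    [IsIntegral G.left] [Smooth G.hom] [QuasiCompact G.hom]
    [IsIntegral X.left] [LocallyOfFiniteType X.hom] [QuasiCompact X.hom] (hX : Pi1.IsNormalScheme X.left)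
    (x : 𝟙_ (Over (Spec (CommRingCat.of k))) ⟶ X) (O : G.left.Opens) (hO : (O : Set G.left).Nonempty)
    (a : PicM (G ⊗ X).left) (h1 : PicM.pull ((fst G X).left ⁻¹ᵁ O).ι a = 1)
    (h2 : PicM.pull (lift (𝟙 G) (toUnit G ≫ x)).left a = 1) : a = 1 := by
  haveI : GeometricallyIntegral X.hom := AbVarLib.geometricallyIntegral_of_isAlgClosed X.hom
  haveI : IsLocallyNoetherian G.left := LocallyOfFiniteType.isLocallyNoetherian G.hom
  haveI : IsIntegral (G ⊗ X).left := inferInstanceAs (IsIntegral (pullback G.hom X.hom))
  haveI : LocallyOfFiniteType (fst G X).left := inferInstanceAs (LocallyOfFiniteType (pullback.fst G.hom X.hom))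
  haveI : QuasiCompact (fst G X).left := inferInstanceAs (QuasiCompact (pullback.fst G.hom X.hom))
  haveI : Flat (fst G X).left := inferInstanceAs (Flat (pullback.fst G.hom X.hom))
  haveI : GeometricallyIrreducible (fst G X).left :=
    inferInstanceAs (GeometricallyIrreducible (pullback.fst G.hom X.hom))
  haveI : Smooth (snd G X).left := inferInstanceAs (Smooth (pullback.snd G.hom X.hom))
  haveI : IsLocallyNoetherian (G ⊗ X).left := LocallyOfFiniteType.isLocallyNoetherian (fst G X).left
  haveI : CompactSpace G.left := QuasiCompact.compactSpace_of_compactSpace G.hom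
  haveI : CompactSpace (G ⊗ X).left := QuasiCompact.compactSpace_of_compactSpace (fst G X).left
  haveI : IsNoetherian (G ⊗ X).left := { }
  have hG : Pi1.IsNormalScheme G.left := NeronLib.isNormalScheme_of_smooth G.hom isNormal_spec_field
  have hP : Pi1.IsNormalScheme (G ⊗ X).left := NeronLib.isNormalScheme_of_smooth (snd G X).left hX
  let p := (fst G X).left
  let σ := (lift (𝟙 G) (toUnit G ≫ x)).left
  have hσ : σ ≫ p = 𝟙 G.left := congrArg CommaMorphism.left (lift_fst (𝟙 G) (toUnit G ≫ x))
  have hpη : p (genericPoint (G ⊗ X).left) = genericPoint G.left := by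
    refine (Specializes.antisymm ?_ (genericPoint_specializes _)).eq
    have h := (genericPoint_specializes (σ (genericPoint G.left))).map p.continuous
    rwa [show p (σ (genericPoint G.left)) = genericPoint G.left by
      rw [← Scheme.Hom.comp_apply, hσ]; rfl] at h
  have hlift : ∀ (z : (G ⊗ X).left) (y : G.left), y ⤳ p z → ∃ z', z' ⤳ z ∧ p z' = y :=
    fun z y hy => (Flat.generalizingMap p) hy
  obtain ⟨M, hM, rfl⟩ := PicM.exists_eq_of a
  rw [PicM.pull_of, PicM.of_eq_one_iff] at h1 h2
  obtain ⟨s, hs⟩ := exists_isGen_of_iso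
    ((Scheme.Modules.restrictFunctorIsoPullback (p ⁻¹ᵁ O).ι).app M ≪≫ h1.some)
  have hηO : genericPoint G.left ∈ O := by
    obtain ⟨y, hy⟩ := hO
    exact (genericPoint_specializes y).mem_open O.2 hy
  have hmem : ∀ z, p z = genericPoint G.left → z ∈ p ⁻¹ᵁ O := fun z hz => by
    show p z ∈ O
    rw [hz]; exact hηO
  refine (PicM.of_eq_one_iff hM).2 (PicSectionHor.nonempty_iso_of_section_of_horizontal hP hG p σ hσ hpη
    (fun z hz hzη => ?_) hM
    ⟨M.presheaf.germ (p ⁻¹ᵁ O) _ (hmem _ hpη) s, fun z hz => ⟨p ⁻¹ᵁ O, hmem z hz, s, hs, rfl⟩⟩ h2)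
  have hgen : ∀ (y : G.left), y ≠ genericPoint G.left → ∀ ζ, IsGenericPoint ζ (closure (p ⁻¹' {y})) →
      p ζ ≠ genericPoint G.left → ∀ w, IsPrimeDiv w → p w = y → w = ζ := by
    intro y _ ζ hζ hζη w hw hwy
    refine ((hw.2 ζ (hζ.specializes (subset_closure hwy))).resolve_right fun h => hζη ?_).symm
    rw [h]; exact hpη
  have hirr : IsIrreducible (p ⁻¹' {p z}) := by
    rw [← Scheme.Hom.range_fiberι]
    rw [← Set.image_univ]
    exact (IrreducibleSpace.isIrreducible_univ _).image _ (p.fiberι (p z)).continuous.continuousOn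
  have hζ := hirr.isGenericPoint_genericPoint_closure
  set ζ := hirr.genericPoint
  have hζ1 : p ζ ≠ genericPoint G.left := fun h => by
    have h' : p ζ ⤳ p z := (hζ.specializes (subset_closure rfl)).map p.continuous
    -- the generic point of the fibre lies in the fibre
    have h'' : p z ⤳ p ζ := by
      rw [specializes_iff_mem_closure]
      exact (p.continuous.closure_preimage_subset {p z}) hζ.mem
    exact hzη ((h''.antisymm h').eq.trans h)
  refine ⟨⟨hzη, fun y hy => ?_⟩, fun z' hz' hzz' => ?_⟩
  · obtain ⟨z'', hz'', rfl⟩ := hlift z y hy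
    exact (hz.2 z'' hz'').imp (congrArg p) fun h => (congrArg p h).trans hpη
  · exact (hgen _ hzη ζ hζ hζ1 z' hz' hzz').trans (hgen _ hzη ζ hζ hζ1 z hz rfl).symm

end Groth.Agent.AlgGrpLib.PicProdTriv
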