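import Groth.Agent.PicNormal23.Section

/-!
# Invertible modules trivial over the generic point of the base and along a section

Variant of `PicNormal23.nonempty_iso_of_section`, the horizontal rational section being given.
-/

set_option autoImplicit false
set_option linter.style.haveILetI false
set_option backward.isDefEq.respectTransparency.types false
set_option maxHeartbeats 1000000

universe u

open CategoryTheory AlgebraicGeometry Opposite TopologicalSpace IsLocalRing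
open Groth.Agent.Coherent Groth.Agent.PicLib Groth.Agent.PicNormal23

namespace Groth.Agent.AlgGrpLib.PicSectionHor

variable {P : Scheme.{u}} [IsIntegral P] {Y : Scheme.{u}} [IsIntegral Y] [IsLocallyNoetherian P] [IsLocallyNoetherian Y]

/-- On a fibration of normal schemes with a section and one prime divisor over each prime divisor of the base,
a module with a rational section generating over the generic point of the base and trivial along the section
is trivial. -/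
theorem nonempty_iso_of_section_of_horizontal (hP : Pi1.IsNormalScheme P) (hY : Pi1.IsNormalScheme Y)
    (p : P ⟶ Y) (σ : Y ⟶ P) (hσ : σ ≫ p = 𝟙 Y) (hpη : p (genericPoint P) = genericPoint Y)
    (H2 : ∀ z : P, IsPrimeDiv z → p z ≠ genericPoint Y →
      IsPrimeDiv (p z) ∧ ∀ z' : P, IsPrimeDiv z' → p z' = p z → z' = z)
    {M : P.Modules} (hM : PicF.IsInvertible M)
    (hhor : ∃ ξ : M.presheaf.stalk (genericPoint P), ∀ z, p z = genericPoint Y → GenAt M ξ z)
    (hsec : Nonempty ((Scheme.Modules.pullback σ).obj M ≅ Coh.structureModule Y)) :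
    Nonempty (M ≅ Coh.structureModule P) := by
  classical
  have hsmul : ∀ (ξ : M.presheaf.stalk (genericPoint P)) (w : P) (g : P.functionField),
      GenAt M ξ w → (∃ u : P.presheaf.stalk w, IsUnit u ∧ toK w u = g) → GenAt M (g • ξ) w := by
    rintro ξ w g hgen ⟨u, hu, rfl⟩
    obtain ⟨W, hw, e, he⟩ := exists_isGen hM w
    obtain ⟨φ, hφ⟩ := exists_coef ξ (gen_mem hw) he
    obtain ⟨v, hv, hv'⟩ := (genAt_iff hM hw he hφ).1 hgen
    refine (genAt_iff hM hw he (φ := toK w u * φ) (by rw [hφ, mul_smul])).2 ⟨u * v, hu.mul hv, ?_⟩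
    rw [map_mul, hv']
  obtain ⟨ξ₀, hover⟩ := hhor
  -- normalisation along the section
  have hpσ : ∀ y : Y, p (σ y) = y := fun y => by
    show (σ ≫ p) y = y
    rw [hσ]; rfl
  obtain ⟨W₀, hσW₀, e₀, he₀, hgerm₀⟩ := hover (σ (genericPoint Y)) (hpσ _)
  obtain ⟨ι⟩ := hsec
  have hσM : PicF.IsInvertible ((Scheme.Modules.pullback σ).obj M) := PicLoc.isInvertible_pullback σ hM
  let t : Γ((Scheme.Modules.pullback σ).obj M, ⊤) := ι.inv.app ⊤ (AmpleLib.oneSec ⊤)
  have ht : IsGen _ (⊤ : Y.Opens) t := by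
    intro V hV
    have h1 := AmpleLib.isGen_oneSec (X := Y) ⊤ V hV
    have h2 := ConcreteCategory.bijective_of_isIso (C := AddCommGrpCat) (ι.inv.app V)
    convert h2.comp h1 using 1
    funext r
    show r • resM _ hV (ι.inv.app ⊤ _) = ι.inv.app V (r • resM _ hV _)
    rw [Scheme.Modules.Hom.app_smul, app_resM]
  let V₀ := σ ⁻¹ᵁ W₀
  have hgen₀ : IsGen _ V₀ (pullSec σ e₀) := isGen_pullSec σ he₀ hM
  have htV₀ := ht.restrict (le_top : V₀ ≤ ⊤)
  have hc := htV₀.coef_spec le_rfl (pullSec σ e₀)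
  rw [resM_self] at hc
  obtain ⟨cu, hcu⟩ := htV₀.isUnit_coef hgen₀
  let W₀' := W₀ ⊓ p ⁻¹ᵁ V₀
  let cP : Γ(P, W₀') := res (inf_le_right : W₀' ≤ p ⁻¹ᵁ V₀) (p.app V₀ (↑cu⁻¹ : Γ(Y, V₀)))
  have hcP : IsUnit cP := ((Units.isUnit _).map (p.app V₀).hom).map _
  let e₀' : Γ(M, W₀') := cP • resM M inf_le_left e₀
  have he₀' : IsGen M W₀' e₀' := by
    obtain ⟨v, hv⟩ := hcP
    rw [show e₀' = (v : Γ(P, W₀')) • resM M inf_le_left e₀ by rw [hv]]
    exact (he₀.restrict inf_le_left).smul_unit v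
  have hσW₀' : σ (genericPoint Y) ∈ W₀' := ⟨hσW₀, by
    show σ (p (σ (genericPoint Y))) ∈ W₀
    rw [hpσ]; exact hσW₀⟩
  have hηW₀' : genericPoint P ∈ W₀' := gen_mem hσW₀'
  let ξ := M.presheaf.germ W₀' (genericPoint P) hηW₀' e₀'
  have hξ : ξ ≠ 0 := germ_ne_zero hM _ he₀'
  have hξeq : ξ = P.presheaf.germ W₀' _ hηW₀' cP • ξ₀ := by
    show M.presheaf.germ W₀' _ hηW₀' (cP • _) = _
    rw [QCohLoc.germ_smul']
    exact congrArg _ ((TopCat.Presheaf.germ_res_apply M.presheaf (homOfLE inf_le_left) _ _ e₀).trans hgerm₀)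
  have hover' : ∀ z, p z = genericPoint Y → GenAt M ξ z := fun z hz => by
    have hzV : z ∈ p ⁻¹ᵁ V₀ := by
      show p z ∈ V₀
      rw [hz]; exact hσW₀
    rw [hξeq]
    refine hsmul ξ₀ z _ (hover z hz)
      ⟨P.presheaf.germ _ z hzV (p.app V₀ (↑cu⁻¹ : Γ(Y, V₀))), ((Units.isUnit _).map (p.app V₀).hom).map _, ?_⟩
    rw [toK_germ]
    exact (TopCat.Presheaf.germ_res_apply P.presheaf (homOfLE inf_le_right) _ _ _).symm
  refine nonempty_iso_of_genAt hM fun z₀ => genAt_of_primeDiv hP hM hξ z₀ fun z _ hz => ?_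
  by_cases hpz : p z = genericPoint Y
  · exact hover' z hpz
  obtain ⟨hy, huniq⟩ := H2 z hz hpz
  obtain ⟨_, _⟩ := isDVR_of_primeDiv hP hz
  obtain ⟨_, _⟩ := isDVR_of_primeDiv hY hy
  obtain ⟨π, hπ⟩ := IsDiscreteValuationRing.exists_irreducible (Y.presheaf.stalk (p z))
  obtain ⟨V₁, hyV₁, q, hq⟩ := Y.presheaf.exists_germ_eq π
  have hπK : toK (p z) π = Y.presheaf.germ V₁ (genericPoint Y) (gen_mem hyV₁) q := by rw [← hq, toK_germ]
  have hqP : ∀ (w : P) (hw : w ∈ p ⁻¹ᵁ V₁), P.presheaf.germ _ w hw (p.app V₁ q) =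
      p.stalkMap w (Y.presheaf.germ V₁ (p w) hw q) := fun w hw =>
    (Scheme.Hom.germ_stalkMap_apply p V₁ w hw q).symm
  obtain ⟨u, hu⟩ := IsDiscreteValuationRing.exists_irreducible (P.presheaf.stalk z)
  have hηV₁ : genericPoint P ∈ p ⁻¹ᵁ V₁ := gen_mem (show z ∈ p ⁻¹ᵁ V₁ from hyV₁)
  let πP : P.functionField := P.presheaf.germ _ _ hηV₁ (p.app V₁ q)
  -- the pullback of the uniformiser over the generic point
  have hηY : genericPoint Y ∈ V₁ := gen_mem hyV₁
  have hunitη : IsUnit (Y.presheaf.germ V₁ (genericPoint Y) hηY q) :=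
    isUnit_iff_ne_zero.2 (by rw [← hπK]; exact (map_ne_zero_iff _ (toK_injective _)).2 hπ.ne_zero)
  have hhor : ∀ w : P, p w = genericPoint Y → ∃ v : P.presheaf.stalk w, IsUnit v ∧ toK w v = πP := fun w hw => by
    have hwV : w ∈ p ⁻¹ᵁ V₁ := by
      show p w ∈ V₁
      rw [hw]; exact hηY
    refine ⟨P.presheaf.germ _ w hwV (p.app V₁ q), ?_, toK_germ hwV _⟩
    rw [hqP]
    refine IsUnit.map _ ?_
    have key : ∀ (x : Y) (_ : x = genericPoint Y) (h : x ∈ V₁), IsUnit (Y.presheaf.germ V₁ x h q) := by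
      rintro _ rfl h; exact hunitη
    exact key (p w) hw hwV
  -- the pullback of the uniformiser at `z`
  have hzmem : P.presheaf.germ _ z (show z ∈ p ⁻¹ᵁ V₁ from hyV₁) (p.app V₁ q) ∈ maximalIdeal (P.presheaf.stalk z) := by
    rw [hqP, hq, mem_maximalIdeal, mem_nonunits_iff, isUnit_map_iff]
    exact hπ.not_isUnit
  have hπP : toK z (P.presheaf.germ _ z (show z ∈ p ⁻¹ᵁ V₁ from hyV₁) (p.app V₁ q)) = πP := toK_germ _ _
  have hπP0 : πP ≠ 0 := by
    obtain ⟨v, hv, hv'⟩ := hhor (genericPoint P) hpη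
    rw [← hv']
    exact (hv.map _).ne_zero
  have hne : P.presheaf.germ _ z (show z ∈ p ⁻¹ᵁ V₁ from hyV₁) (p.app V₁ q) ≠ 0 := fun h => hπP0 (by
    rw [← hπP, h, map_zero])
  obtain ⟨E, vπ, hπu⟩ := IsDiscreteValuationRing.eq_unit_mul_pow_irreducible hne hu
  -- the comparison at the point of the section
  obtain ⟨W, hbW, e, he⟩ := exists_isGen hM (σ (p z))
  have hspec : z ⤳ σ (p z) := by
    obtain ⟨ζ, hζ, hζmax⟩ : ∃ ζ, IsPrimeDiv ζ ∧ ζ ⤳ σ (p z) ∧ p ζ ≠ genericPoint Y := by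
      by_contra hno
      push Not at hno
      obtain ⟨v, hv, hvπ⟩ := exists_unit_of_primeDiv hP (σ (p z)) πP
        (fun w hw hd => hhor w (hno w hd hw)) hπP0
      have hmem : σ (p z) ∈ p ⁻¹ᵁ V₁ := by show p (σ (p z)) ∈ V₁; rw [hpσ]; exact hyV₁
      have : IsUnit (P.presheaf.germ _ _ hmem (p.app V₁ q)) := by
        rwa [toK_injective (σ (p z)) ((toK_germ hmem _).trans hvπ.symm)]
      rw [hqP, isUnit_map_iff] at this
      have key : ∀ (x : Y) (_ : x = p z) (h : x ∈ V₁), IsUnit (Y.presheaf.germ V₁ x h q) → IsUnit π := by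
        rintro _ rfl h h'; rwa [hq] at h'
      exact hπ.not_isUnit (key _ (hpσ (p z)) _ this)
    have hyy : p ζ = p z := by
      rcases hy.2 (p ζ) ((hpσ (p z)).subst (hζmax.1.map p.continuous)) with h | h
      · exact h
      · exact absurd h hζmax.2
    exact huniq ζ hζ hyy ▸ hζmax.1
  have hzW : z ∈ W := hspec.mem_open W.2 hbW
  obtain ⟨φ, hφ⟩ := exists_coef ξ (gen_mem hzW) he
  have hφ0 : φ ≠ 0 := fun h => hξ (by rw [hφ, h, zero_smul])
  obtain ⟨a, b, v, hv, hab⟩ := exists_pow_coef hu hφ0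
  refine (genAt_iff hM hzW he hφ).2 ?_
  suffices hab' : a = b by
    refine ⟨v, hv, ?_⟩
    rw [hab'] at hab
    exact (mul_right_cancel₀ (pow_ne_zero _ ((map_ne_zero_iff _ (toK_injective z)).2 hu.ne_zero)) hab).symm
  let ψ : P.functionField := φ ^ E * πP ^ b / πP ^ a
  have hψ : ∀ w, w ⤳ σ (p z) → IsPrimeDiv w → ∃ x : P.presheaf.stalk w, IsUnit x ∧ toK w x = ψ := by
    intro w hw hd
    rcases hy.2 (p w) ((hpσ (p z)).subst (hw.map p.continuous)) with h | h
    · obtain rfl := huniq w hd h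
      refine ⟨v ^ E * (↑vπ ^ b * ↑(vπ⁻¹) ^ a), (hv.pow E).mul (((Units.isUnit _).pow b).mul ((Units.isUnit _).pow a)), ?_⟩
      have hinv : toK w (↑vπ⁻¹ : P.presheaf.stalk w) * toK w (↑vπ : P.presheaf.stalk w) = 1 := by
        rw [← map_mul, Units.inv_mul, map_one]
      have hπP' : πP = toK w (↑vπ : P.presheaf.stalk w) * toK w u ^ E := by
        rw [← hπP, hπu, map_mul, map_pow]
      have hE : φ ^ E * (toK w u ^ E) ^ b = toK w v ^ E * (toK w u ^ E) ^ a := by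
        rw [← pow_mul, ← pow_mul, mul_comm E b, mul_comm E a, pow_mul, pow_mul, ← mul_pow, hab, mul_pow]
      show _ = φ ^ E * πP ^ b / πP ^ a
      rw [eq_div_iff (pow_ne_zero _ hπP0), map_mul, map_mul, map_pow, map_pow, map_pow, hπP', mul_pow, mul_pow]
      calc toK w v ^ E * (toK w (↑vπ : P.presheaf.stalk w) ^ b * toK w (↑vπ⁻¹ : P.presheaf.stalk w) ^ a) *
            (toK w (↑vπ : P.presheaf.stalk w) ^ a * (toK w u ^ E) ^ a)
          = toK w (↑vπ : P.presheaf.stalk w) ^ b * (toK w v ^ E * (toK w u ^ E) ^ a) *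
              (toK w (↑vπ⁻¹ : P.presheaf.stalk w) * toK w (↑vπ : P.presheaf.stalk w)) ^ a := by ring
        _ = φ ^ E * (toK w (↑vπ : P.presheaf.stalk w) ^ b * (toK w u ^ E) ^ b) := by rw [hinv, ← hE]; ring
    · obtain ⟨x, hx, hxπ⟩ := hhor w h
      obtain ⟨y, hy', hyφ⟩ := (genAt_iff hM (hw.mem_open W.2 hbW) he hφ).1 (hover' w h)
      refine ⟨y ^ E * x ^ b * ↑(hx.pow a).unit⁻¹, ((hy'.pow E).mul (hx.pow b)).mul (Units.isUnit _), ?_⟩
      show _ = φ ^ E * πP ^ b / πP ^ a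
      rw [eq_div_iff (pow_ne_zero _ hπP0), ← hyφ, ← hxπ, ← map_pow, ← map_pow, ← map_pow, ← map_mul, ← map_mul,
        mul_assoc (y ^ E * x ^ b), IsUnit.val_inv_mul, mul_one]
  obtain ⟨r₀, hr₀, hr₀ψ⟩ := exists_unit_of_primeDiv hP (σ (p z)) ψ hψ
    (div_ne_zero (mul_ne_zero (pow_ne_zero _ hφ0) (pow_ne_zero _ hπP0)) (pow_ne_zero _ hπP0))
  obtain ⟨W₃, hbW₃, r, hr⟩ := P.presheaf.exists_germ_eq r₀
  -- compare along the section
  let W₄ := W ⊓ W₀'
  have hσW : σ (genericPoint Y) ∈ W := ((genericPoint_specializes (p z)).map σ.continuous).mem_open W.2 hbW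
  have hw₁ := (he.restrict (inf_le_left : W₄ ≤ W)).coef_spec le_rfl (resM M (inf_le_right : W₄ ≤ W₀') e₀')
  rw [resM_self] at hw₁
  set w := (he.restrict (inf_le_left : W₄ ≤ W)).coef le_rfl (resM M (inf_le_right : W₄ ≤ W₀') e₀') with hwdef
  have hηW₄ : genericPoint P ∈ W₄ := gen_mem (show σ (genericPoint Y) ∈ W₄ from ⟨hσW, hσW₀'⟩)
  have hwφ : P.presheaf.germ W₄ _ hηW₄ w = φ := by
    have h2 := congrArg (M.presheaf.germ W₄ _ hηW₄) hw₁
    rw [QCohLoc.germ_smul', show M.presheaf.germ W₄ _ hηW₄ (resM M inf_le_left e) = _ from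
        TopCat.Presheaf.germ_res_apply M.presheaf (homOfLE inf_le_left) _ _ e,
      show M.presheaf.germ W₄ _ hηW₄ (resM M inf_le_right e₀') = _ from
        TopCat.Presheaf.germ_res_apply M.presheaf (homOfLE inf_le_right) _ _ e₀'] at h2
    replace h2 := h2.trans hφ
    have h3 := sub_eq_zero.2 h2
    rw [← sub_smul] at h3
    by_contra hne
    exact germ_ne_zero hM (gen_mem hzW) he (((isUnit_iff_ne_zero.2 (sub_ne_zero.2 hne)).smul_eq_zero).1 h3)
  let W₅ := W₄ ⊓ W₃ ⊓ p ⁻¹ᵁ V₁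
  have hσW₅ : σ (genericPoint Y) ∈ W₅ := ⟨⟨⟨hσW, hσW₀'⟩, ((genericPoint_specializes (p z)).map σ.continuous).mem_open
    W₃.2 hbW₃⟩, by show p (σ _) ∈ V₁; rw [hpσ]; exact hηY⟩
  haveI : Nonempty W₅ := ⟨⟨_, hσW₅⟩⟩
  let qP : Γ(P, W₅) := res inf_le_right (p.app V₁ q)
  have hid : res (inf_le_left.trans inf_le_left) w ^ E * qP ^ b =
      res (inf_le_left.trans inf_le_right) r * qP ^ a := by
    refine AlgebraicGeometry.germ_injective_of_isIntegral P (genericPoint P) (gen_mem hσW₅) ?_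
    simp only [map_mul, map_pow, qP]
    rw [show P.presheaf.germ W₅ _ (gen_mem hσW₅) (res (inf_le_left.trans inf_le_left) w) = _ from
        (TopCat.Presheaf.germ_res_apply P.presheaf (homOfLE _) _ _ w).trans hwφ,
      show P.presheaf.germ W₅ _ (gen_mem hσW₅) (res inf_le_right (p.app V₁ q)) = πP from
        TopCat.Presheaf.germ_res_apply P.presheaf (homOfLE _) _ _ _,
      show P.presheaf.germ W₅ _ (gen_mem hσW₅) (res (inf_le_left.trans inf_le_right) r) = ψ from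
        (TopCat.Presheaf.germ_res_apply P.presheaf (homOfLE _) _ _ r).trans
          (by rw [← hr₀ψ, ← hr, toK_germ])]
    exact (div_mul_cancel₀ _ (pow_ne_zero a hπP0)).symm
  let S := fun (U : P.Opens) (h : σ (genericPoint Y) ∈ U) (x : Γ(P, U)) =>
    σ.stalkMap (genericPoint Y) (P.presheaf.germ U _ h x)
  have hS := congrArg (σ.stalkMap (genericPoint Y)) (congrArg (P.presheaf.germ W₅ _ hσW₅) hid)
  simp only [map_mul, map_pow] at hS
  -- the values along the section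
  have hSq : σ.stalkMap (genericPoint Y) (P.presheaf.germ W₅ _ hσW₅ qP) = toK (p z) π := by
    rw [hπK, show P.presheaf.germ W₅ _ hσW₅ qP = _ from
      TopCat.Presheaf.germ_res_apply P.presheaf (homOfLE inf_le_right) _ _ _, Scheme.Hom.germ_stalkMap_apply]
    exact germ_app_retract σ p hσ V₁ q hηY _
  have hSr : ∃ x : Y.presheaf.stalk (p z), IsUnit x ∧
      σ.stalkMap (genericPoint Y) (P.presheaf.germ W₅ _ hσW₅ (res (inf_le_left.trans inf_le_right) r)) =
        toK (p z) x := by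
    refine ⟨σ.stalkMap (p z) (P.presheaf.germ W₃ _ hbW₃ r), (hr.symm ▸ hr₀).map _, ?_⟩
    rw [show P.presheaf.germ W₅ _ hσW₅ (res (inf_le_left.trans inf_le_right) r) = _ from
      TopCat.Presheaf.germ_res_apply P.presheaf (homOfLE _) _ _ r, Scheme.Hom.germ_stalkMap_apply,
      Scheme.Hom.germ_stalkMap_apply, toK_germ]
  have hSw : ∃ x : Y.presheaf.stalk (p z), IsUnit x ∧
      σ.stalkMap (genericPoint Y) (P.presheaf.germ W₅ _ hσW₅ (res (inf_le_left.trans inf_le_left) w)) =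
        toK (p z) x := by
    have hσe : IsGen _ (σ ⁻¹ᵁ W) (pullSec σ e) := isGen_pullSec σ he hM
    have htW := ht.restrict (le_top : σ ⁻¹ᵁ W ≤ ⊤)
    have hd := htW.coef_spec le_rfl (pullSec σ e)
    rw [resM_self] at hd
    have hdu := htW.isUnit_coef hσe
    set d := htW.coef le_rfl (pullSec σ e)
    have hle₁ : σ ⁻¹ᵁ W₄ ≤ σ ⁻¹ᵁ W := fun x hx => hx.1
    have hle₂ : σ ⁻¹ᵁ W₄ ≤ V₀ := fun x hx => hx.2.1
    have hpull := congrArg (pullSec σ) hw₁
    rw [pullSec_smul, ← resM_pullSec, ← resM_pullSec] at hpull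
    have hE₀ : resM _ ((Opens.map σ.base).map (homOfLE (inf_le_right : W₄ ≤ W₀'))).le (pullSec σ e₀') =
        resM _ (le_top : σ ⁻¹ᵁ W₄ ≤ ⊤) t := by
      show resM _ _ (pullSec σ (cP • resM M inf_le_left e₀)) = _
      rw [pullSec_smul, resM_smul, ← resM_pullSec, resM_resM, ← hc, hcu.symm, resM_smul, resM_resM, smul_smul]
      refine Eq.trans (congrArg (· • _) ?_) (one_smul _ _)
      refine TopCat.Presheaf.section_ext Y.sheaf _ _ _ fun x hx => ?_
      change Y.presheaf.germ _ x hx _ = Y.presheaf.germ _ x hx _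
      rw [map_mul, map_one,
        show ∀ (A : Y.Opens) (i : σ ⁻¹ᵁ W₄ ≤ A) (s : Γ(Y, A)),
          Y.presheaf.germ (σ ⁻¹ᵁ W₄) x hx (res i s) = Y.presheaf.germ A x (i hx) s from
          fun A i s => TopCat.Presheaf.germ_res_apply Y.presheaf (homOfLE i) x hx s,
        show ∀ (A : Y.Opens) (i : σ ⁻¹ᵁ W₄ ≤ A) (s : Γ(Y, A)),
          Y.presheaf.germ (σ ⁻¹ᵁ W₄) x hx (res i s) = Y.presheaf.germ A x (i hx) s from
          fun A i s => TopCat.Presheaf.germ_res_apply Y.presheaf (homOfLE i) x hx s]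
      have hxV : x ∈ V₀ := hle₂ hx
      have hxW' : σ x ∈ p ⁻¹ᵁ V₀ := by show p (σ x) ∈ V₀; rw [hpσ]; exact hxV
      rw [show Y.presheaf.germ (σ ⁻¹ᵁ W₀') x _ (σ.app W₀' cP) = Y.presheaf.germ V₀ x hxV ↑cu⁻¹ from by
        rw [← Scheme.Hom.germ_stalkMap_apply σ W₀' x hx.2,
          show P.presheaf.germ W₀' (σ x) hx.2 cP = _ from
            TopCat.Presheaf.germ_res_apply P.presheaf (homOfLE inf_le_right) _ _ _,
          Scheme.Hom.germ_stalkMap_apply]
        exact germ_app_retract σ p hσ V₀ _ hxV _, ← map_mul, Units.inv_mul, map_one]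
    rw [hE₀, ← hd, resM_smul, resM_resM, smul_smul] at hpull
    have hone : σ.app W₄ w * res hle₁ d = 1 := by
      refine (ht _ le_top).1 ?_
      show _ • _ = (1 : Γ(Y, σ ⁻¹ᵁ W₄)) • _
      rw [one_smul]
      exact hpull
    obtain ⟨du, hdu⟩ := hdu
    have hyW : p z ∈ σ ⁻¹ᵁ W := hbW
    refine ⟨Y.presheaf.germ _ (p z) hyW (↑du⁻¹ : Γ(Y, σ ⁻¹ᵁ W)), (Units.isUnit _).map _, ?_⟩
    have hη₄ : genericPoint Y ∈ σ ⁻¹ᵁ W₄ := ⟨hσW, hσW₀'⟩
    rw [show P.presheaf.germ W₅ _ hσW₅ (res (inf_le_left.trans inf_le_left) w) = _ from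
      TopCat.Presheaf.germ_res_apply P.presheaf (homOfLE _) _ _ w, Scheme.Hom.germ_stalkMap_apply, toK_germ]
    rw [← hdu] at hone
    have h1 : σ.app W₄ w = res hle₁ (↑du⁻¹ : Γ(Y, σ ⁻¹ᵁ W)) := by
      calc σ.app W₄ w = σ.app W₄ w * (res hle₁ ↑du * res hle₁ ↑du⁻¹) := by
            rw [← map_mul, Units.mul_inv, map_one, mul_one]
        _ = res hle₁ ↑du⁻¹ := by rw [← mul_assoc, hone, one_mul]
    rw [h1]
    exact TopCat.Presheaf.germ_res_apply Y.presheaf (homOfLE hle₁) _ _ _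
  obtain ⟨xr, hxr, hxr'⟩ := hSr
  obtain ⟨xw, hxw, hxw'⟩ := hSw
  rw [hSq, hxr', hxw', ← map_pow, ← map_pow, ← map_pow, ← map_mul, ← map_mul] at hS
  have hS' := toK_injective (p z) hS
  obtain ⟨m, hm⟩ := hxw.pow E
  obtain ⟨n, hn⟩ := hxr
  rw [← hm, ← hn] at hS'
  exact (IsDiscreteValuationRing.unit_mul_pow_congr_pow hπ hπ _ _ _ _ hS').symm

end Groth.Agent.AlgGrpLib.PicSectionHor
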