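import Groth.Agent.AlgGrpLib.LocFactorial
import Groth.Agent.Et18.RosenlichtAlg
import Groth.Agent.VarietyLib.GeomField
import Groth.Agent.DynLib.Basic
import Mathlib.RingTheory.Jacobson.Ring
import Mathlib.LinearAlgebra.Basis.VectorSpace

/-!
# A line bundle compatible with multiplication is torsion

The sections form a coalgebra; the determinant of a finite subcomodule trivialises a power.
-/

set_option autoImplicit false
set_option backward.isDefEq.respectTransparency.types false
set_option maxHeartbeats 1000000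
set_option linter.style.haveILetI false

universe u

open TensorProduct WithConv
open Groth.Agent.AlgGrpLib.LocFactorial
open Groth.Agent.DynLib (Pt push)
open scoped TensorProduct

noncomputable section

namespace Groth.Agent.AlgGrpLib.PicTorsion

variable {k : Type u} [Field k]

/-- Proportional families with the same invertible span differ by a unit. -/
theorem exists_unit {B : Type u} [CommRing B] [IsDomain B] {ι : Type*} (f g : ι → B) {P : Ideal B} (hP : LocFactorial.Inv P)
    (hf : Ideal.span (Set.range f) = P) (hg : Ideal.span (Set.range g) = P)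
    (hfg : ∀ p q, f p * g q = f q * g p) {p₀ : ι} (h0 : g p₀ ≠ 0) : ∃ u : Bˣ, ∀ p, f p = u * g p := by
  have h : P * Ideal.span {f p₀} = P * Ideal.span {g p₀} := by
    conv_lhs => rw [← hg]
    conv_rhs => rw [← hf]
    rw [Ideal.span_mul_span', Ideal.span_mul_span', Set.mul_singleton, Set.mul_singleton, ← Set.range_comp,
      ← Set.range_comp]
    refine congrArg Ideal.span (congrArg Set.range (funext fun p => ?_))
    show g p * f p₀ = f p * g p₀
    rw [mul_comm, hfg]
  obtain ⟨u, hu⟩ := (Ideal.span_singleton_eq_span_singleton.1 (hP.cancel h)).symm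
  refine ⟨u, fun p => mul_right_cancel₀ h0 ?_⟩
  linear_combination hfg p p₀ - g p * hu

/-- A unit of a product that is `1` on both axes is `1`. -/
theorem eq_one_of_axes [IsAlgClosed k] {B C : Type u} [CommRing B] [Algebra k B] [IsDomain B] [Algebra.FiniteType k B]
    [CommRing C] [Algebra k C] [IsDomain C] [Algebra.FiniteType k C] {u : B ⊗[k] C} (hu : IsUnit u)
    (φ₀ : B →ₐ[k] k) (ψ₀ : C →ₐ[k] k)
    (h1 : Algebra.TensorProduct.lift (AlgHom.id k B) ((Algebra.ofId k B).comp ψ₀) (fun _ _ => .all _ _) u = 1)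
    (h2 : Algebra.TensorProduct.lift ((Algebra.ofId k C).comp φ₀) (AlgHom.id k C) (fun _ _ => .all _ _) u = 1) :
    u = 1 := by
  haveI : IsDomain (B ⊗[k] C) := VarietyLib.isDomain_tensor_of_isAlgClosed k _ _
  obtain ⟨v, hv⟩ := hu.exists_right_inv
  let val := fun (φ : B →ₐ[k] k) (ψ : C →ₐ[k] k) => φ (Et18.Rosenlicht.evR B ψ u)
  have hev : ∀ (φ : B →ₐ[k] k) (ψ : C →ₐ[k] k),
      φ.comp ((Et18.Rosenlicht.evR B ψ).restrictScalars k) =
        Algebra.TensorProduct.lift φ ψ fun _ _ => .all _ _ := fun φ ψ => by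
    refine Algebra.TensorProduct.ext (AlgHom.ext fun b => ?_) (AlgHom.ext fun c => ?_)
    · simp [Et18.Rosenlicht.evR_tmul]
    · simp [Et18.Rosenlicht.evR_tmul]
  have hall : ∀ (φ : B →ₐ[k] k) (ψ : C →ₐ[k] k), val φ ψ = 1 := by
    intro φ ψ
    have h := Et18.Rosenlicht.cross_ratio k hv φ φ₀ ψ ψ₀
    have e1 : ∀ φ', val φ' ψ₀ = 1 := fun φ' => by
      have := congrArg φ' h1
      rw [map_one] at this
      refine Eq.trans ?_ this
      refine (DFunLike.congr_fun (hev φ' ψ₀) u).trans ?_
      have e : Algebra.TensorProduct.lift φ' ψ₀ (fun _ _ => .all _ _) = φ'.comp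
          (Algebra.TensorProduct.lift (AlgHom.id k B) ((Algebra.ofId k B).comp ψ₀) fun _ _ => .all _ _) :=
        Algebra.TensorProduct.ext (AlgHom.ext fun b => by simp) (AlgHom.ext fun c => by simp)
      exact DFunLike.congr_fun e u
    have e2 : val φ₀ ψ = 1 := by
      have := congrArg ψ h2
      rw [map_one] at this
      refine Eq.trans ?_ this
      refine (DFunLike.congr_fun (hev φ₀ ψ) u).trans ?_
      have e : Algebra.TensorProduct.lift φ₀ ψ (fun _ _ => .all _ _) = ψ.comp
          (Algebra.TensorProduct.lift ((Algebra.ofId k C).comp φ₀) (AlgHom.id k C) fun _ _ => .all _ _) :=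
        Algebra.TensorProduct.ext (AlgHom.ext fun b => by simp) (AlgHom.ext fun c => by simp)
      exact DFunLike.congr_fun e u
    change val φ ψ * val φ₀ ψ₀ = val φ ψ₀ * val φ₀ ψ at h
    rwa [e1, e1, e2, mul_one, mul_one] at h
  by_contra hne
  haveI : Algebra.FiniteType k (B ⊗[k] C) := Algebra.FiniteType.trans ‹Algebra.FiniteType k B› (inferInstance : Algebra.FiniteType B (B ⊗[k] C))
  haveI : IsJacobsonRing (B ⊗[k] C) := isJacobsonRing_of_finiteType (A := k)
  obtain ⟨m, hm, hmem⟩ : ∃ m : Ideal (B ⊗[k] C), m.IsMaximal ∧ u - 1 ∉ m := by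
    by_contra hcon
    push Not at hcon
    have h0 : u - 1 ∈ Ideal.jacobson (⊥ : Ideal (B ⊗[k] C)) :=
      Ideal.mem_sInf.2 fun m hm => hcon m hm.2
    rw [IsJacobsonRing.out' (⊥ : Ideal (B ⊗[k] C)) Ideal.isPrime_bot.isRadical, Ideal.mem_bot, sub_eq_zero] at h0
    exact hne h0
  haveI := hm
  letI : Field ((B ⊗[k] C) ⧸ m) := Ideal.Quotient.field m
  haveI : Module.Finite k ((B ⊗[k] C) ⧸ m) := finite_of_finite_type_of_isJacobsonRing k _
  let χ : B ⊗[k] C →ₐ[k] k :=
    ((AlgEquiv.ofBijective (Algebra.ofId k ((B ⊗[k] C) ⧸ m))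
      (IsAlgClosed.algebraMap_bijective_of_isIntegral (k := k) (K := (B ⊗[k] C) ⧸ m))).symm : _ →ₐ[k] k).comp
      (Ideal.Quotient.mkₐ k m)
  have hχ : χ u = 1 := by
    have h := hall (χ.comp Algebra.TensorProduct.includeLeft) (χ.comp Algebra.TensorProduct.includeRight)
    refine Eq.trans ?_ h
    have e : χ = Algebra.TensorProduct.lift (χ.comp Algebra.TensorProduct.includeLeft)
        (χ.comp Algebra.TensorProduct.includeRight) fun _ _ => .all _ _ :=
      Algebra.TensorProduct.ext (AlgHom.ext fun b => by simp) (AlgHom.ext fun c => by simp)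
    exact (DFunLike.congr_fun e u).trans (DFunLike.congr_fun (hev _ _) u).symm
  refine hmem (Ideal.Quotient.eq_zero_iff_mem.1 ?_)
  have h : χ (u - 1) = 0 := by rw [map_sub, hχ, map_one, sub_self]
  exact (map_eq_zero_iff _ (AlgEquiv.ofBijective (Algebra.ofId k ((B ⊗[k] C) ⧸ m))
    (IsAlgClosed.algebraMap_bijective_of_isIntegral (k := k) (K := (B ⊗[k] C) ⧸ m))).symm.injective).1 h

variable {A : Type u} [CommRing A] [HopfAlgebra k A]

local notation "Δ" => (Bialgebra.comulAlgHom k A)
local notation "ε" => (Bialgebra.counitAlgHom k A)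

variable (k) in
/-- The ideal of `I ⊠ I`. -/
def box (I : Ideal A) : Ideal (A ⊗[k] A) :=
  I.map (Algebra.TensorProduct.includeLeft : A →ₐ[k] A ⊗[k] A) *
    I.map (Algebra.TensorProduct.includeRight : A →ₐ[k] A ⊗[k] A)

theorem tmul_mem_box {I : Ideal A} {p q : A} (hp : p ∈ I) (hq : q ∈ I) : p ⊗ₜ[k] q ∈ box k I := by
  have h := Ideal.mul_mem_mul (Ideal.mem_map_of_mem (Algebra.TensorProduct.includeLeft : A →ₐ[k] A ⊗[k] A) hp)
    (Ideal.mem_map_of_mem (Algebra.TensorProduct.includeRight : A →ₐ[k] A ⊗[k] A) hq)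
  simpa [box] using h

/-- The inclusion of `I ⊗ I`. -/
def incl (I : Ideal A) : (I.restrictScalars k) ⊗[k] (I.restrictScalars k) →ₗ[k] A ⊗[k] A :=
  TensorProduct.map (I.restrictScalars k).subtype (I.restrictScalars k).subtype

theorem incl_injective (I : Ideal A) : Function.Injective (incl (k := k) I) :=
  TensorProduct.map_injective_of_flat_flat _ _ (Submodule.subtype_injective _) (Submodule.subtype_injective _)

theorem exists_incl {I : Ideal A} {z : A ⊗[k] A} (hz : z ∈ box k I) : ∃ w, incl I w = z := by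
  have hsmul : ∀ (t : A ⊗[k] A) (w : (I.restrictScalars k) ⊗[k] (I.restrictScalars k)), ∃ w', incl I w' = t * incl I w := by
    intro t w
    induction t using TensorProduct.induction_on with
    | zero => exact ⟨0, by rw [map_zero, zero_mul]⟩
    | add x y hx hy =>
      obtain ⟨a, ha⟩ := hx
      obtain ⟨b, hb⟩ := hy
      exact ⟨a + b, by rw [map_add, ha, hb, add_mul]⟩
    | tmul a b =>
      induction w using TensorProduct.induction_on with
      | zero => exact ⟨0, by rw [map_zero, mul_zero]⟩
      | add x y hx hy =>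
        obtain ⟨c, hc⟩ := hx
        obtain ⟨d, hd⟩ := hy
        exact ⟨c + d, by rw [map_add, map_add, hc, hd, mul_add]⟩
      | tmul p q => exact ⟨⟨a * p.1, I.mul_mem_left a p.2⟩ ⊗ₜ ⟨b * q.1, I.mul_mem_left b q.2⟩, by simp [incl]⟩
  have hspan : box k I = Ideal.span (Set.range fun w => incl (k := k) I w) := by
    refine le_antisymm ?_ (Ideal.span_le.2 ?_)
    · rw [box, Ideal.map, Ideal.map, Ideal.span_mul_span', Ideal.span_le]
      rintro _ ⟨_, ⟨p, hp, rfl⟩, _, ⟨q, hq, rfl⟩, rfl⟩
      refine Ideal.subset_span ⟨⟨p, hp⟩ ⊗ₜ ⟨q, hq⟩, ?_⟩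
      simp [incl]
    · rintro _ ⟨w, rfl⟩
      dsimp only
      induction w using TensorProduct.induction_on with
      | zero => rw [map_zero]; exact Ideal.zero_mem _
      | add x y hx hy => rw [map_add]; exact Ideal.add_mem _ hx hy
      | tmul p q => exact tmul_mem_box p.2 q.2
  rw [hspan] at hz
  induction hz using Submodule.span_induction with
  | mem x hx => exact hx
  | zero => exact ⟨0, map_zero _⟩
  | add x y _ _ hx hy =>
    obtain ⟨a, ha⟩ := hx
    obtain ⟨b, hb⟩ := hy
    exact ⟨a + b, by rw [map_add, ha, hb]⟩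
  | smul t x _ hx =>
    obtain ⟨a, ha⟩ := hx
    obtain ⟨b, hb⟩ := hsmul t a
    exact ⟨b, by rw [hb, ha]; rfl⟩

/-- A twisted comultiplication of the sections. -/
structure IsTwist (I : Ideal A) (δ : (I.restrictScalars k) →ₗ[k] A ⊗[k] A) : Prop where
  prop : ∀ p q, δ p * Δ q.1 = δ q * Δ p.1
  span : Ideal.span (Set.range δ) = box k I

theorem IsTwist.mem {I : Ideal A} {δ : (I.restrictScalars k) →ₗ[k] A ⊗[k] A} (h : IsTwist I δ)
    (p : I.restrictScalars k) : δ p ∈ box k I :=
  h.span ▸ Ideal.subset_span ⟨p, rfl⟩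

theorem counit_left (a : A) :
    Algebra.TensorProduct.lift ((Algebra.ofId k A).comp ε) (AlgHom.id k A) (fun _ _ => .all _ _) (Δ a) = a := by
  have h : ∀ x : A ⊗[k] A, Algebra.TensorProduct.lift ((Algebra.ofId k A).comp ε) (AlgHom.id k A)
      (fun _ _ => .all _ _) x = TensorProduct.lid k A (LinearMap.rTensor A (Coalgebra.counit (R := k)) x) := fun x => by
    induction x using TensorProduct.induction_on with
    | zero => simp
    | add x y hx hy => simp only [map_add, hx, hy]
    | tmul x y => simp [Algebra.smul_def]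
  rw [h, Bialgebra.comulAlgHom_apply, Coalgebra.rTensor_counit_comul]
  simp

theorem counit_right (a : A) :
    Algebra.TensorProduct.lift (AlgHom.id k A) ((Algebra.ofId k A).comp ε) (fun _ _ => .all _ _) (Δ a) = a := by
  have h : ∀ x : A ⊗[k] A, Algebra.TensorProduct.lift (AlgHom.id k A) ((Algebra.ofId k A).comp ε)
      (fun _ _ => .all _ _) x = TensorProduct.rid k A (LinearMap.lTensor A (Coalgebra.counit (R := k)) x) := fun x => by
    induction x using TensorProduct.induction_on with
    | zero => simp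
    | add x y hx hy => simp only [map_add, hx, hy]
    | tmul x y => simp [Algebra.smul_def, mul_comm]
  rw [h, Bialgebra.comulAlgHom_apply, Coalgebra.lTensor_counit_comul]
  simp

theorem comul_injective : Function.Injective (Δ : A → A ⊗[k] A) := fun x y h => by
  rw [← counit_left (k := k) x, ← counit_left (k := k) y, h]

variable [IsAlgClosed k] [IsDomain A] [Algebra.FiniteType k A]

theorem inv_box {I : Ideal A} (hI : LocFactorial.Inv I) : LocFactorial.Inv (box k I) := by
  haveI : IsDomain (A ⊗[k] A) := VarietyLib.isDomain_tensor_of_isAlgClosed k _ _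
  refine (hI.map _ fun x y h => ?_).mul (hI.map _ fun x y h => ?_)
  · have := congrArg (Algebra.TensorProduct.lift (AlgHom.id k A) ((Algebra.ofId k A).comp ε) fun _ _ => .all _ _) h
    simpa using this
  · have := congrArg (Algebra.TensorProduct.lift ((Algebra.ofId k A).comp ε) (AlgHom.id k A) fun _ _ => .all _ _) h
    simpa using this

/-- A compatible isomorphism can be made counital. -/
theorem exists_counital {I : Ideal A} (hI : LocFactorial.Inv I) {p₁ : I.restrictScalars k} (hp₁ : Bialgebra.counitAlgHom k A p₁.1 ≠ 0)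
    {δ₀ : (I.restrictScalars k) →ₗ[k] A ⊗[k] A} (h₀ : IsTwist I δ₀) :
    ∃ δ : (I.restrictScalars k) →ₗ[k] A ⊗[k] A, IsTwist I δ ∧
      (∀ p, Algebra.TensorProduct.lift ((Algebra.ofId k A).comp ε) (AlgHom.id k A) (fun _ _ => .all _ _) (δ p) = p.1) ∧
      ∀ p, Algebra.TensorProduct.lift (AlgHom.id k A) ((Algebra.ofId k A).comp ε) (fun _ _ => .all _ _) (δ p) = p.1 := by
  let εL := Algebra.TensorProduct.lift ((Algebra.ofId k A).comp ε) (AlgHom.id k A) fun _ _ => .all _ _
  let εR := Algebra.TensorProduct.lift (AlgHom.id k A) ((Algebra.ofId k A).comp ε) fun _ _ => .all _ _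
  have hp0 : p₁.1 ≠ 0 := fun h => hp₁ (by rw [h, map_zero])
  have hL : ∀ a, εL (Δ a) = a := counit_left
  have hR : ∀ a, εR (Δ a) = a := counit_right
  have key : ∀ (E : A ⊗[k] A →ₐ[k] A), (∀ a, E (Δ a) = a) → (box k I).map E = I →
      ∃ v : Aˣ, ∀ p, E (δ₀ p) = v * p.1 := by
    intro E hE hmap
    refine exists_unit (fun p => E (δ₀ p)) (fun p : I.restrictScalars k => p.1) hI ?_ ?_ ?_ hp0
    · refine Eq.trans ?_ ((congrArg (Ideal.map E) h₀.span).trans hmap)
      rw [Ideal.map_span, ← Set.range_comp]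
      rfl
    · refine le_antisymm (Ideal.span_le.2 ?_) fun x hx => Ideal.subset_span ⟨⟨x, hx⟩, rfl⟩
      rintro _ ⟨p, rfl⟩
      exact p.2
    · intro p q
      have h := congrArg E (h₀.prop p q)
      rwa [map_mul, map_mul, hE, hE] at h
  have hI1 : ∀ {x : A}, x ∈ I → x ∈ Ideal.span (Set.range fun q : I.restrictScalars k => algebraMap k A (ε p₁.1) * q.1) :=
    fun {x} hx => Ideal.subset_span ⟨(ε p₁.1)⁻¹ • ⟨x, hx⟩, by
      show algebraMap k A (ε p₁.1) * ((ε p₁.1)⁻¹ • x) = x
      rw [← Algebra.smul_def, smul_smul, mul_inv_cancel₀ hp₁, one_smul]⟩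
  obtain ⟨uL, huL⟩ := key εL hL (by
    refine le_antisymm ?_ fun x hx => ?_
    · rw [box, Ideal.map_mul]
      refine Ideal.mul_le_right.trans (Ideal.map_le_iff_le_comap.2 (Ideal.map_le_iff_le_comap.2 fun y hy => ?_))
      simpa [εL] using hy
    · refine (Ideal.span_le.2 ?_) (hI1 hx)
      rintro _ ⟨q, rfl⟩
      have h := Ideal.mem_map_of_mem εL (tmul_mem_box (k := k) p₁.2 q.2)
      simpa [εL] using h)
  obtain ⟨uR, huR⟩ := key εR hR (by
    refine le_antisymm ?_ fun x hx => ?_
    · rw [box, Ideal.map_mul]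
      refine Ideal.mul_le_left.trans (Ideal.map_le_iff_le_comap.2 (Ideal.map_le_iff_le_comap.2 fun y hy => ?_))
      simpa [εR] using hy
    · refine (Ideal.span_le.2 ?_) (hI1 hx)
      rintro _ ⟨q, rfl⟩
      have h := Ideal.mem_map_of_mem εR (tmul_mem_box (k := k) q.2 p₁.2)
      simpa [εR, mul_comm] using h)
  have hεε : (ε).comp εL = (ε).comp εR := Algebra.TensorProduct.ext (AlgHom.ext fun a => by simp [εL, εR])
    (AlgHom.ext fun a => by simp [εL, εR])
  have hc : ε (uL : A) = ε (uR : A) := by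
    refine mul_right_cancel₀ hp₁ ?_
    rw [← map_mul, ← map_mul, ← huL, ← huR]
    exact DFunLike.congr_fun hεε _
  let c := ε (uL : A)
  let w : A ⊗[k] A := (algebraMap k A c * ↑uR⁻¹) ⊗ₜ ↑uL⁻¹
  have hcu : IsUnit c := uL.isUnit.map ε
  have hw : IsUnit w := by
    refine IsUnit.of_mul_eq_one ((algebraMap k A c⁻¹ * (uR : A)) ⊗ₜ (uL : A)) ?_
    rw [Algebra.TensorProduct.tmul_mul_tmul, Units.inv_mul, mul_mul_mul_comm, ← map_mul, mul_inv_cancel₀ hcu.ne_zero,
      map_one, Units.inv_mul, one_mul]
    rfl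
  refine ⟨(LinearMap.mulLeft k w).comp δ₀, ⟨fun p q => ?_, ?_⟩, fun p => ?_, fun p => ?_⟩
  · show w * δ₀ p * Δ q.1 = w * δ₀ q * Δ p.1
    rw [mul_assoc, h₀.prop, mul_assoc]
  · rw [← h₀.span]
    refine le_antisymm (Ideal.span_le.2 ?_) (Ideal.span_le.2 ?_)
    · rintro _ ⟨p, rfl⟩
      exact Ideal.mul_mem_left _ w (Ideal.subset_span ⟨p, rfl⟩)
    · rintro _ ⟨p, rfl⟩
      obtain ⟨w', hw'⟩ := hw.exists_left_inv
      rw [show δ₀ p = w' * (w * δ₀ p) by rw [← mul_assoc, hw', one_mul]]
      exact Ideal.mul_mem_left _ w' (Ideal.subset_span ⟨p, rfl⟩)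
  · show εL (w * δ₀ p) = p.1
    rw [map_mul, huL]
    have h1 : εL w = ↑uL⁻¹ := by
      have h2 : ε (↑uR⁻¹ : A) * c = 1 := by rw [show c = ε (uR : A) from hc, ← map_mul, Units.inv_mul, map_one]
      simp only [w, εL, Algebra.TensorProduct.lift_tmul, AlgHom.comp_apply, AlgHom.id_apply, map_mul, AlgHom.commutes]
      rw [Algebra.ofId_apply]
      simp only [Algebra.algebraMap_self, RingHom.id_apply, ← map_mul]
      rw [mul_comm c, h2, map_one, one_mul]
    rw [h1, ← mul_assoc, Units.inv_mul, one_mul]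
  · show εR (w * δ₀ p) = p.1
    rw [map_mul, huR]
    have h1 : εR w = ↑uR⁻¹ := by
      have h2 : c * ε (↑uL⁻¹ : A) = 1 := by rw [← map_mul, Units.mul_inv, map_one]
      simp only [w, εR, Algebra.TensorProduct.lift_tmul, AlgHom.comp_apply, AlgHom.id_apply]
      rw [Algebra.ofId_apply, mul_right_comm, ← map_mul, h2, map_one, one_mul]
    rw [h1, ← mul_assoc, Units.inv_mul, one_mul]

/-- A counital compatible comultiplication is coassociative. -/
theorem coassoc {I : Ideal A} (hI : LocFactorial.Inv I) {p₁ : I.restrictScalars k} (hp₁ : Bialgebra.counitAlgHom k A p₁.1 ≠ 0)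
    {δ : (I.restrictScalars k) →ₗ[k] A ⊗[k] A} (h : IsTwist I δ)
    (hεL : ∀ p, Algebra.TensorProduct.lift ((Algebra.ofId k A).comp ε) (AlgHom.id k A) (fun _ _ => .all _ _) (δ p) = p.1)
    (hεR : ∀ p, Algebra.TensorProduct.lift (AlgHom.id k A) ((Algebra.ofId k A).comp ε) (fun _ _ => .all _ _) (δ p) = p.1)
    (p : I.restrictScalars k) (z : (I.restrictScalars k) ⊗[k] (I.restrictScalars k)) (hz : incl I z = δ p) :
    TensorProduct.assoc k A A A (TensorProduct.map δ (I.restrictScalars k).subtype z) =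
      TensorProduct.map (I.restrictScalars k).subtype δ z := by
  haveI : IsDomain (A ⊗[k] A) := VarietyLib.isDomain_tensor_of_isAlgClosed k _ _
  haveI : IsDomain (A ⊗[k] (A ⊗[k] A)) := VarietyLib.isDomain_tensor_of_isAlgClosed k _ _
  let T := A ⊗[k] A
  let T₃ := A ⊗[k] T
  let S := I.restrictScalars k
  let D₁ : S ⊗[k] S →ₗ[k] T₃ :=
    (TensorProduct.assoc k A A A).toLinearMap.comp (TensorProduct.map δ S.subtype)
  let D₂ : S ⊗[k] S →ₗ[k] T₃ := TensorProduct.map S.subtype δ
  let as : T ⊗[k] A ≃ₐ[k] T₃ := Algebra.TensorProduct.assoc k k k A A A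
  have has : ∀ x, as x = TensorProduct.assoc k A A A x := fun x => rfl
  let E₁ : T →ₐ[k] T₃ := (as : T ⊗[k] A →ₐ[k] T₃).comp (Algebra.TensorProduct.map Δ (AlgHom.id k A))
  let E₂ : T →ₐ[k] T₃ := Algebra.TensorProduct.map (AlgHom.id k A) Δ
  have hco : ∀ a, E₁ (Δ a) = E₂ (Δ a) := fun a => by
    have h1 : ∀ x, Algebra.TensorProduct.map Δ (AlgHom.id k A) x = LinearMap.rTensor A (Coalgebra.comul (R := k)) x :=
      fun x => rfl
    have h2 : ∀ x, E₂ x = LinearMap.lTensor A (Coalgebra.comul (R := k)) x := fun x => rfl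
    show as (Algebra.TensorProduct.map Δ (AlgHom.id k A) (Δ a)) = _
    rw [has, h1, h2, Bialgebra.comulAlgHom_apply, Coalgebra.coassoc_apply]
  have hp0 : p₁.1 ≠ 0 := fun h0 => hp₁ (by rw [h0, map_zero])
  have hd0 : δ p₁ ≠ 0 := fun h0 => hp0 (by rw [← hεR p₁, h0, map_zero])
  have hΔ0 : (Δ p₁.1) ≠ 0 := fun h0 => hp0 (comul_injective (h0.trans (map_zero _).symm))
  have hE1inj : Function.Injective E₁ := fun x y hxy => by
    have hl := congrArg (fun v => (Algebra.TensorProduct.map (Algebra.TensorProduct.lift ((Algebra.ofId k A).comp ε)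
      (AlgHom.id k A) fun _ _ => .all _ _) (AlgHom.id k A)) (as.symm v)) hxy
    have e : ∀ x : T, (Algebra.TensorProduct.map (Algebra.TensorProduct.lift ((Algebra.ofId k A).comp ε)
        (AlgHom.id k A) fun _ _ => .all _ _) (AlgHom.id k A)) (Algebra.TensorProduct.map Δ (AlgHom.id k A) x) = x := by
      intro x
      rw [← AlgHom.comp_apply, ← Algebra.TensorProduct.map_comp]
      have : (Algebra.TensorProduct.lift ((Algebra.ofId k A).comp ε) (AlgHom.id k A) fun _ _ => .all _ _).comp Δ =
          AlgHom.id k A := AlgHom.ext counit_left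
      rw [this, AlgHom.id_comp, Algebra.TensorProduct.map_id, AlgHom.id_apply]
    simpa [E₁, e] using hl
  have hE2inj : Function.Injective E₂ := fun x y hxy => by
    have hl := congrArg (Algebra.TensorProduct.map (AlgHom.id k A) (Algebra.TensorProduct.lift ((Algebra.ofId k A).comp ε)
      (AlgHom.id k A) fun _ _ => .all _ _)) hxy
    have e : ∀ x : T, (Algebra.TensorProduct.map (AlgHom.id k A) (Algebra.TensorProduct.lift ((Algebra.ofId k A).comp ε)
        (AlgHom.id k A) fun _ _ => .all _ _)) (E₂ x) = x := by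
      intro x
      rw [← AlgHom.comp_apply, ← Algebra.TensorProduct.map_comp]
      have : (Algebra.TensorProduct.lift ((Algebra.ofId k A).comp ε) (AlgHom.id k A) fun _ _ => .all _ _).comp Δ =
          AlgHom.id k A := AlgHom.ext counit_left
      rw [this, AlgHom.id_comp, Algebra.TensorProduct.map_id, AlgHom.id_apply]
    rwa [e, e] at hl
  -- the two composites as functions of `z`
  have f₁ : ∀ w, D₁ w * as (Δ p₁.1 ⊗ₜ 1) = as (δ p₁ ⊗ₜ 1) * E₁ (incl I w) := by
    intro w
    induction w using TensorProduct.induction_on with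
    | zero => simp
    | add x y hx hy => simp only [map_add, add_mul, mul_add, hx, hy]
    | tmul a b =>
      show as (δ a ⊗ₜ b.1) * _ = _ * as (Δ a.1 ⊗ₜ b.1)
      rw [← map_mul, ← map_mul, Algebra.TensorProduct.tmul_mul_tmul, Algebra.TensorProduct.tmul_mul_tmul, h.prop,
        one_mul, mul_one]
  have f₂ : ∀ w, D₂ w * ((1 : A) ⊗ₜ[k] Δ p₁.1 : T₃) = ((1 : A) ⊗ₜ[k] δ p₁ : T₃) * E₂ (incl I w) := by
    intro w
    induction w using TensorProduct.induction_on with
    | zero => simp
    | add x y hx hy => simp only [map_add, add_mul, mul_add, hx, hy]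
    | tmul a b =>
      show (a.1 ⊗ₜ[k] δ b : T₃) * _ = _ * (a.1 ⊗ₜ[k] Δ b.1 : T₃)
      rw [Algebra.TensorProduct.tmul_mul_tmul, Algebra.TensorProduct.tmul_mul_tmul, h.prop, one_mul, mul_one]
  choose lz hlz using fun q => exists_incl (h.mem q)
  have ha₁ : as (Δ p₁.1 ⊗ₜ 1) ≠ 0 := fun h0 => hΔ0 (by
    have := congrArg (fun v => Algebra.TensorProduct.lift (AlgHom.id k T) ((Algebra.ofId k T).comp ε)
      (fun _ _ => .all _ _) (as.symm v)) h0
    simpa using this)
  have ha₂ : ((1 : A) ⊗ₜ[k] Δ p₁.1 : T₃) ≠ 0 := fun h0 => hΔ0 (by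
    have := congrArg (Algebra.TensorProduct.lift ((Algebra.ofId k T).comp ε) (AlgHom.id k T) fun _ _ => .all _ _) h0
    simpa using this)
  -- proportionality with the iterated comultiplication
  have g₁ : ∀ q r, D₁ (lz q) * E₂ (Δ r.1) = D₁ (lz r) * E₂ (Δ q.1) := fun q r => by
    refine mul_left_cancel₀ ha₁ ?_
    rw [← mul_assoc, ← mul_assoc, mul_comm _ (D₁ _), mul_comm _ (D₁ _), f₁, f₁, hlz, hlz, mul_assoc, mul_assoc,
      ← hco, ← hco, ← map_mul, ← map_mul, h.prop]
  have g₂ : ∀ q r, D₂ (lz q) * E₂ (Δ r.1) = D₂ (lz r) * E₂ (Δ q.1) := fun q r => by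
    refine mul_left_cancel₀ ha₂ ?_
    rw [← mul_assoc, ← mul_assoc, mul_comm _ (D₂ _), mul_comm _ (D₂ _), f₂, f₂, hlz, hlz, mul_assoc, mul_assoc,
      ← map_mul, ← map_mul, h.prop]
  have hE0 : E₂ (Δ p₁.1) ≠ 0 := fun h0 => hΔ0 (hE2inj (h0.trans (map_zero _).symm))
  have hprop : ∀ q r, D₁ (lz q) * D₂ (lz r) = D₁ (lz r) * D₂ (lz q) := fun q r => by
    refine mul_right_cancel₀ (mul_ne_zero hE0 hE0) ?_
    calc D₁ (lz q) * D₂ (lz r) * (E₂ (Δ p₁.1) * E₂ (Δ p₁.1))
        = (D₁ (lz q) * E₂ (Δ p₁.1)) * (D₂ (lz r) * E₂ (Δ p₁.1)) := by ring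
      _ = (D₁ (lz r) * E₂ (Δ p₁.1)) * (D₂ (lz q) * E₂ (Δ p₁.1)) := by rw [g₁, g₂, g₁ r, g₂ q]; ring
      _ = _ := by ring
  -- the images span the same invertible ideal
  let P₃ : Ideal T₃ := Ideal.map (Algebra.TensorProduct.includeLeft : A →ₐ[k] T₃) I *
    Ideal.map (Algebra.TensorProduct.includeRight : T →ₐ[k] T₃) (box k I)
  have hP₃ : LocFactorial.Inv P₃ := by
    refine (hI.map _ fun x y hxy => ?_).mul ((inv_box hI).map _ fun x y hxy => ?_)
    · have := congrArg (Algebra.TensorProduct.lift (AlgHom.id k A)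
        ((Algebra.ofId k A).comp ((ε).comp (Algebra.TensorProduct.lift ((Algebra.ofId k A).comp ε) (AlgHom.id k A)
          fun _ _ => .all _ _))) fun _ _ => .all _ _) hxy
      simpa using this
    · have := congrArg (Algebra.TensorProduct.lift ((Algebra.ofId k T).comp ε) (AlgHom.id k T) fun _ _ => .all _ _) hxy
      simpa using this
  have hmem : ∀ (a : A), a ∈ I → ∀ t ∈ box k I, (a ⊗ₜ[k] t : T₃) ∈ P₃ := fun a ha t ht => by
    have := Ideal.mul_mem_mul (Ideal.mem_map_of_mem (Algebra.TensorProduct.includeLeft : A →ₐ[k] T₃) ha)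
      (Ideal.mem_map_of_mem (Algebra.TensorProduct.includeRight : T →ₐ[k] T₃) ht)
    simpa [P₃] using this
  have hmemI : ∀ w, incl (k := k) I w ∈ box k I := fun w => by
    induction w using TensorProduct.induction_on with
    | zero => simp
    | add x y hx hy => rw [map_add]; exact Ideal.add_mem _ hx hy
    | tmul a b => exact tmul_mem_box a.2 b.2
  have hmem' : ∀ t ∈ box k I, ∀ (a : A), a ∈ I → as (t ⊗ₜ a) ∈ P₃ := fun t ht a ha => by
    obtain ⟨w, rfl⟩ := exists_incl ht
    induction w using TensorProduct.induction_on with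
    | zero => simp
    | add x y hx hy =>
      rw [map_add, TensorProduct.add_tmul, map_add]
      exact P₃.add_mem (hx (hmemI x)) (hy (hmemI y))
    | tmul x y => exact hmem x.1 x.2 _ (tmul_mem_box y.2 ha)
  have hsp₁ : Ideal.span (Set.range fun q => D₁ (lz q)) = P₃ := by
    refine le_antisymm (Ideal.span_le.2 ?_) ?_
    · rintro _ ⟨q, rfl⟩
      dsimp only
      generalize lz q = w
      induction w using TensorProduct.induction_on with
      | zero => simp
      | add x y hx hy => rw [map_add]; exact P₃.add_mem hx hy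
      | tmul a b => exact hmem' _ (h.mem a) _ b.2
    · let J := Ideal.span (Set.range fun q => D₁ (lz q))
      -- every `D₁ w` lies in the span
      have h1 : ∀ w, D₁ w ∈ J := by
        intro w
        have hw : incl I w ∈ Ideal.span (Set.range δ) := by
          rw [h.span]
          induction w using TensorProduct.induction_on with
          | zero => simp
          | add x y hx hy => rw [map_add]; exact Ideal.add_mem _ hx hy
          | tmul a b => exact tmul_mem_box a.2 b.2
        obtain ⟨l, hl⟩ := Finsupp.mem_span_range_iff_exists_finsupp.1 hw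
        have : D₁ w = l.sum fun q t => E₁ t * D₁ (lz q) := by
          refine mul_right_cancel₀ ha₁ ?_
          rw [f₁, ← hl, Finsupp.sum, Finsupp.sum, map_sum, Finset.mul_sum, Finset.sum_mul]
          refine Finset.sum_congr rfl fun q _ => ?_
          rw [mul_assoc, f₁, hlz, smul_eq_mul, map_mul]
          ring
        rw [this, Finsupp.sum]
        exact sum_mem fun q _ => Ideal.mul_mem_left _ _ (Ideal.subset_span ⟨q, rfl⟩)
      have h2 : ∀ t ∈ box k I, ∀ c ∈ I, as (t ⊗ₜ c) ∈ J := by
        intro t ht c hc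
        rw [← h.span] at ht
        obtain ⟨l, rfl⟩ := Finsupp.mem_span_range_iff_exists_finsupp.1 ht
        rw [Finsupp.sum, TensorProduct.sum_tmul, map_sum]
        refine sum_mem fun q _ => ?_
        rw [show (l q • δ q) ⊗ₜ[k] c = (l q ⊗ₜ[k] (1 : A)) * (δ q ⊗ₜ[k] c) by
          rw [Algebra.TensorProduct.tmul_mul_tmul, one_mul, smul_eq_mul], map_mul]
        exact J.mul_mem_left _ (h1 (q ⊗ₜ ⟨c, hc⟩))
      show P₃ ≤ J
      rw [Ideal.mul_le]
      intro x hx y hy
      induction hx using Submodule.span_induction with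
      | mem x hx =>
        obtain ⟨a, ha, rfl⟩ := hx
        induction hy using Submodule.span_induction with
        | mem y hy =>
          obtain ⟨t, ht, rfl⟩ := hy
          obtain ⟨w, rfl⟩ := exists_incl ht
          simp only [Algebra.TensorProduct.includeLeft_apply, Algebra.TensorProduct.includeRight_apply,
            Algebra.TensorProduct.tmul_mul_tmul, mul_one, one_mul]
          clear ht
          induction w using TensorProduct.induction_on with
          | zero => simp
          | add x y hx hy => rw [map_add, TensorProduct.tmul_add]; exact J.add_mem hx hy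
          | tmul b c => exact h2 _ (tmul_mem_box ha b.2) _ c.2
        | zero => simp
        | add y y' _ _ hy hy' => rw [mul_add]; exact J.add_mem hy hy'
        | smul r y _ hy => rw [smul_eq_mul, mul_left_comm]; exact J.mul_mem_left _ hy
      | zero => simp
      | add x x' _ _ hx hx' => rw [add_mul]; exact J.add_mem hx hx'
      | smul r x _ hx => rw [smul_eq_mul, mul_assoc]; exact J.mul_mem_left _ hx
  have hsp₂ : Ideal.span (Set.range fun q => D₂ (lz q)) = P₃ := by
    refine le_antisymm (Ideal.span_le.2 ?_) ?_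
    · rintro _ ⟨q, rfl⟩
      dsimp only
      generalize lz q = w
      induction w using TensorProduct.induction_on with
      | zero => simp
      | add x y hx hy => rw [map_add]; exact P₃.add_mem hx hy
      | tmul a b => exact hmem _ a.2 _ (h.mem b)
    · let J := Ideal.span (Set.range fun q => D₂ (lz q))
      have h1 : ∀ w, D₂ w ∈ J := by
        intro w
        have hw : incl I w ∈ Ideal.span (Set.range δ) := by
          rw [h.span]
          induction w using TensorProduct.induction_on with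
          | zero => simp
          | add x y hx hy => rw [map_add]; exact Ideal.add_mem _ hx hy
          | tmul a b => exact tmul_mem_box a.2 b.2
        obtain ⟨l, hl⟩ := Finsupp.mem_span_range_iff_exists_finsupp.1 hw
        have : D₂ w = l.sum fun q t => E₂ t * D₂ (lz q) := by
          refine mul_right_cancel₀ ha₂ ?_
          rw [f₂, ← hl, Finsupp.sum, Finsupp.sum, map_sum, Finset.mul_sum, Finset.sum_mul]
          refine Finset.sum_congr rfl fun q _ => ?_
          rw [mul_assoc, f₂, hlz, smul_eq_mul, map_mul]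
          ring
        rw [this, Finsupp.sum]
        exact sum_mem fun q _ => Ideal.mul_mem_left _ _ (Ideal.subset_span ⟨q, rfl⟩)
      have h2 : ∀ c ∈ I, ∀ t ∈ box k I, (c ⊗ₜ[k] t : T₃) ∈ J := by
        intro c hc t ht
        rw [← h.span] at ht
        obtain ⟨l, rfl⟩ := Finsupp.mem_span_range_iff_exists_finsupp.1 ht
        rw [Finsupp.sum, TensorProduct.tmul_sum]
        refine sum_mem fun q _ => ?_
        rw [show c ⊗ₜ[k] (l q • δ q) = ((1 : A) ⊗ₜ[k] l q : T₃) * (c ⊗ₜ[k] δ q) by
          rw [Algebra.TensorProduct.tmul_mul_tmul, one_mul, smul_eq_mul]]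
        exact J.mul_mem_left _ (h1 (⟨c, hc⟩ ⊗ₜ q))
      show P₃ ≤ J
      rw [Ideal.mul_le]
      intro x hx y hy
      induction hx using Submodule.span_induction with
      | mem x hx =>
        obtain ⟨a, ha, rfl⟩ := hx
        induction hy using Submodule.span_induction with
        | mem y hy =>
          obtain ⟨t, ht, rfl⟩ := hy
          simp only [Algebra.TensorProduct.includeLeft_apply, Algebra.TensorProduct.includeRight_apply,
            Algebra.TensorProduct.tmul_mul_tmul, mul_one, one_mul]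
          exact h2 a ha t ht
        | zero => simp
        | add y y' _ _ hy hy' => rw [mul_add]; exact J.add_mem hy hy'
        | smul r y _ hy => rw [smul_eq_mul, mul_left_comm]; exact J.mul_mem_left _ hy
      | zero => simp
      | add x x' _ _ hx hx' => rw [add_mul]; exact J.add_mem hx hx'
      | smul r x _ hx => rw [smul_eq_mul, mul_assoc]; exact J.mul_mem_left _ hx
  -- the two faces
  let εL := Algebra.TensorProduct.lift ((Algebra.ofId k A).comp ε) (AlgHom.id k A) fun _ _ => .all _ _
  let εR := Algebra.TensorProduct.lift (AlgHom.id k A) ((Algebra.ofId k A).comp ε) fun _ _ => .all _ _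
  let G₁ : T₃ →ₐ[k] T := Algebra.TensorProduct.lift ((Algebra.ofId k T).comp ε) (AlgHom.id k T) fun _ _ => .all _ _
  let G₂ : T₃ →ₐ[k] A := Algebra.TensorProduct.lift (AlgHom.id k A)
    ((Algebra.ofId k A).comp ((ε).comp εL)) fun _ _ => .all _ _
  let L : S ⊗[k] S →ₗ[k] S := TensorProduct.lift (((LinearMap.lsmul k S).comp ((ε).toLinearMap.comp S.subtype)))
  have hLv : ∀ w, (L w).1 = εL (incl I w) := fun w => by
    induction w using TensorProduct.induction_on with
    | zero => simp
    | add x y hx hy => simp only [map_add, Submodule.coe_add, hx, hy]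
    | tmul a b => simp [L, εL, incl, Algebra.smul_def]
  have hLlz : ∀ q, L (lz q) = q := fun q => Subtype.ext (by rw [hLv, hlz]; exact hεL q)
  have G₁D₂ : ∀ w, G₁ (D₂ w) = δ (L w) := fun w => by
    induction w using TensorProduct.induction_on with
    | zero => simp
    | add x y hx hy => simp only [map_add, hx, hy]
    | tmul a b =>
      have hL' : L (a ⊗ₜ b) = ε a.1 • b := rfl
      show G₁ (a.1 ⊗ₜ[k] δ b) = _
      rw [hL', map_smul, Algebra.smul_def]
      exact Algebra.TensorProduct.lift_tmul _ _ _ _ _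
  have G₁D₁ : ∀ w, G₁ (D₁ w) = incl I w := fun w => by
    induction w using TensorProduct.induction_on with
    | zero => simp
    | add x y hx hy => simp only [map_add, hx, hy]
    | tmul a b =>
      have : ∀ t : T, G₁ (as (t ⊗ₜ b.1)) = εL t ⊗ₜ b.1 := fun t => by
        induction t using TensorProduct.induction_on with
        | zero => simp
        | add x y hx hy => simp only [TensorProduct.add_tmul, map_add, hx, hy]
        | tmul x y =>
          refine (Algebra.TensorProduct.lift_tmul _ _ _ x (y ⊗ₜ[k] b.1)).trans ?_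
          show ((algebraMap k A (ε x)) ⊗ₜ[k] (1 : A)) * (y ⊗ₜ[k] b.1) = _
          simp [εL, Algebra.TensorProduct.tmul_mul_tmul]
      refine (this (δ a)).trans ?_
      rw [show εL (δ a) = a.1 from hεL a]
      rfl
  have G₂D : ∀ w, G₂ (D₁ w) = G₂ (D₂ w) := fun w => by
    induction w using TensorProduct.induction_on with
    | zero => simp
    | add x y hx hy => simp only [map_add, hx, hy]
    | tmul a b =>
      have : ∀ t : T, G₂ (as (t ⊗ₜ b.1)) = εR t * algebraMap k A (ε b.1) := fun t => by
        induction t using TensorProduct.induction_on with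
        | zero => simp
        | add x y hx hy => simp only [TensorProduct.add_tmul, map_add, add_mul, hx, hy]
        | tmul x y =>
          refine (Algebra.TensorProduct.lift_tmul _ _ _ x (y ⊗ₜ[k] b.1)).trans ?_
          simp [εL, εR, mul_assoc]
      refine (this (δ a)).trans ?_
      rw [show εR (δ a) = a.1 from hεR a]
      show _ = G₂ (a.1 ⊗ₜ[k] δ b)
      refine Eq.trans ?_ (Algebra.TensorProduct.lift_tmul _ _ _ _ _).symm
      show _ = a.1 * algebraMap k A (ε (εL (δ b)))
      rw [show εL (δ b) = b.1 from hεL b]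
  have hne₂ : D₂ (lz p₁) ≠ 0 := fun h0 => hd0 (by rw [← hLlz p₁, ← G₁D₂, h0, map_zero])
  obtain ⟨u, hu⟩ := exists_unit (fun q => D₁ (lz q)) (fun q => D₂ (lz q)) hP₃ hsp₁ hsp₂ hprop hne₂
  have hu1 : (u : T₃) = 1 := by
    haveI : Algebra.FiniteType k T := Algebra.FiniteType.trans ‹Algebra.FiniteType k A› (inferInstance : Algebra.FiniteType A (A ⊗[k] A))
    refine eq_one_of_axes u.isUnit ε ((ε).comp εL) ?_ ?_
    · have h1 := congrArg G₂ (hu p₁)
      rw [map_mul, G₂D] at h1
      refine mul_right_cancel₀ (b := G₂ (D₂ (lz p₁))) ?_ (h1.symm.trans (one_mul _).symm)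
      intro h0
      refine hp0 ?_
      rw [← hεR p₁, ← hlz p₁, ← h0, ← G₂D]
      generalize lz p₁ = w
      induction w using TensorProduct.induction_on with
      | zero => simp
      | add x y hx hy => simp only [map_add, hx, hy]
      | tmul a b =>
        show _ = G₂ (as (δ a ⊗ₜ b.1))
        generalize hda : δ a = t
        have ht := hεR a
        rw [hda] at ht
        have : ∀ t : T, G₂ (as (t ⊗ₜ b.1)) = εR t * algebraMap k A (ε b.1) := fun t => by
          induction t using TensorProduct.induction_on with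
          | zero => simp
          | add x y hx hy => simp only [TensorProduct.add_tmul, map_add, add_mul, hx, hy]
          | tmul x y =>
            refine (Algebra.TensorProduct.lift_tmul _ _ _ x (y ⊗ₜ[k] b.1)).trans ?_
            simp [εL, εR, mul_assoc]
        rw [this, show εR t = a.1 from ht]
        simp [incl]
    · have h1 := congrArg G₁ (hu p₁)
      rw [map_mul, G₁D₁, G₁D₂, hlz, hLlz] at h1
      exact mul_right_cancel₀ hd0 (h1.symm.trans (one_mul _).symm)
  have hzp : z = lz p := incl_injective I (hz.trans (hlz p).symm)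
  have := hu p
  rw [hu1, one_mul, ← hzp] at this
  exact this

end Groth.Agent.AlgGrpLib.PicTorsion
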