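import Groth.Agent.AlgGrpLib.PicTorsion
import Mathlib.LinearAlgebra.Matrix.Nondegenerate
import Mathlib.LinearAlgebra.Matrix.ToLinearEquiv

/-!
# The determinant of a finite subcomodule of sections trivialises a power
-/

set_option autoImplicit false
set_option backward.isDefEq.respectTransparency.types false
set_option maxHeartbeats 1000000
set_option linter.style.haveILetI false

universe u

open TensorProduct WithConv Matrix
open Groth.Agent.AlgGrpLib.LocFactorial
open Groth.Agent.AlgGrpLib.PicTorsion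
open Groth.Agent.DynLib (Pt push)

noncomputable section

namespace Groth.Agent.AlgGrpLib.PicTorsionDet

variable {k : Type u} [Field k] [IsAlgClosed k] {A : Type u} [CommRing A] [HopfAlgebra k A] [IsDomain A]
  [Algebra.FiniteType k A]

local notation "Δ" => (Bialgebra.comulAlgHom k A)
local notation "ε" => (Bialgebra.counitAlgHom k A)

theorem inv_pow {I : Ideal A} (hI : LocFactorial.Inv I) (d : ℕ) :
    LocFactorial.Inv (I ^ d) ∧ cls (I ^ d) = cls I ^ d := by
  induction d with
  | zero =>
    rw [pow_zero, pow_zero, Ideal.one_eq_top]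
    exact ⟨by rw [← Ideal.span_singleton_one]; exact inv_span one_ne_zero, cls_top⟩
  | succ d ih => exact ⟨by rw [pow_succ]; exact ih.1.mul hI, by rw [pow_succ, pow_succ, cls_mul ih.1 hI, ih.2]⟩

/-- A representative not vanishing at the identity. -/
theorem exists_rep {I : Ideal A} (hI : LocFactorial.Inv I) :
    ∃ I' : Ideal A, LocFactorial.Inv I' ∧ cls I' = cls I ∧ ∃ p ∈ I', ε p ≠ 0 := by
  obtain ⟨J, a, ha, hIJ⟩ := id hI
  obtain ⟨x, hx, p, hp, q, hq, hqε⟩ : ∃ x ∈ J, ∃ p ∈ I, ∃ q, x * p = a * q ∧ ε q ≠ 0 := by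
    by_contra hcon
    push Not at hcon
    have h : ∀ z ∈ I * J, ∃ c, z = a * c ∧ ε c = 0 := by
      intro z hz
      induction hz using Submodule.mul_induction_on' with
      | mem_mul_mem i hi j hj =>
        obtain ⟨c, hc⟩ := Ideal.mem_span_singleton'.1 (hIJ ▸ Ideal.mul_mem_mul hi hj)
        exact ⟨c, by rw [← hc, mul_comm], hcon j hj i hi c (by rw [mul_comm j i, ← hc, mul_comm])⟩
      | add x _ y _ hx hy =>
        obtain ⟨c, rfl, hc⟩ := hx
        obtain ⟨d, rfl, hd⟩ := hy
        exact ⟨c + d, (mul_add a c d).symm, by rw [map_add, hc, hd, add_zero]⟩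
    obtain ⟨c, hc, hc0⟩ := h a (hIJ ▸ Ideal.mem_span_singleton_self a)
    rw [← mul_left_cancel₀ ha ((mul_one a).trans hc), map_one] at hc0
    exact one_ne_zero hc0
  have hx0 : x ≠ 0 := fun h => hqε (by
    rw [h, zero_mul, eq_comm, mul_eq_zero] at hq
    rw [hq.resolve_left ha, map_zero])
  let I' : Ideal A :=
    { carrier := {z | a * z ∈ Ideal.span {x} * I}
      add_mem' := fun {s t} hs ht => by
        show a * (s + t) ∈ Ideal.span {x} * I
        rw [mul_add]
        exact Ideal.add_mem _ hs ht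
      zero_mem' := by simp
      smul_mem' := fun c t ht => by
        show a * (c * t) ∈ Ideal.span {x} * I
        rw [mul_left_comm]
        exact Ideal.mul_mem_left _ c ht }
  have hmul : Ideal.span {a} * I' = Ideal.span {x} * I := by
    refine le_antisymm ?_ fun z hz => ?_
    · rw [Ideal.span_singleton_mul_le_iff]
      exact fun c hc => hc
    · obtain ⟨y, hy, rfl⟩ := Ideal.mem_span_singleton_mul.1 hz
      obtain ⟨c, hc⟩ := Ideal.mem_span_singleton'.1 (hIJ ▸ Ideal.mul_mem_mul hy hx)
      have e : x * y = a * c := by linear_combination (-1 : A) * hc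
      rw [e] at hz ⊢
      exact Ideal.mul_mem_mul (Ideal.mem_span_singleton_self a) hz
  have hI' : LocFactorial.Inv I' := ⟨Ideal.span {a} * J, x * a, mul_ne_zero hx0 ha, by
    rw [← mul_assoc, mul_comm I' _, hmul, mul_assoc, hIJ, Ideal.span_singleton_mul_span_singleton]⟩
  refine ⟨I', hI', ?_, q, ?_, hqε⟩
  · have h := congrArg cls hmul
    rwa [cls_mul (inv_span ha) hI', cls_mul (inv_span hx0) hI, cls_span ha, cls_span hx0, one_mul, one_mul] at h
  · show a * q ∈ Ideal.span {x} * I
    rw [← hq]
    exact Ideal.mul_mem_mul (Ideal.mem_span_singleton_self x) hp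

/-- The compatibility gives a comultiplication of the sections. -/
theorem exists_twist {I : Ideal A} (hI : LocFactorial.Inv I)
    (hΔ : CommRing.Pic.mapRingHom (Δ : A →+* A ⊗[k] A) (cls I) =
      CommRing.Pic.mapRingHom ((Algebra.TensorProduct.includeLeft : A →ₐ[k] A ⊗[k] A) : A →+* A ⊗[k] A) (cls I) *
        CommRing.Pic.mapRingHom ((Algebra.TensorProduct.includeRight : A →ₐ[k] A ⊗[k] A) : A →+* A ⊗[k] A) (cls I)) :
    ∃ δ : (I.restrictScalars k) →ₗ[k] A ⊗[k] A, IsTwist I δ := by
  haveI : IsDomain (A ⊗[k] A) := VarietyLib.isDomain_tensor_of_isAlgClosed k _ _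
  have hl : Function.Injective (Algebra.TensorProduct.includeLeft : A →ₐ[k] A ⊗[k] A) := fun x y h => by
    have := congrArg (Algebra.TensorProduct.lift (AlgHom.id k A) ((Algebra.ofId k A).comp ε) fun _ _ => .all _ _) h
    simpa using this
  have hr : Function.Injective (Algebra.TensorProduct.includeRight : A →ₐ[k] A ⊗[k] A) := fun x y h => by
    have := congrArg (Algebra.TensorProduct.lift ((Algebra.ofId k A).comp ε) (AlgHom.id k A) fun _ _ => .all _ _) h
    simpa using this
  have hD : LocFactorial.Inv (I.map (Δ : A →+* A ⊗[k] A)) := hI.map _ comul_injective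
  rw [mapRingHom_cls (Δ : A →+* A ⊗[k] A) comul_injective hI,
    mapRingHom_cls ((Algebra.TensorProduct.includeLeft : A →ₐ[k] A ⊗[k] A) : A →+* A ⊗[k] A) hl hI,
    mapRingHom_cls ((Algebra.TensorProduct.includeRight : A →ₐ[k] A ⊗[k] A) : A →+* A ⊗[k] A) hr hI,
    ← cls_mul (hI.map ((Algebra.TensorProduct.includeLeft : A →ₐ[k] A ⊗[k] A) : A →+* A ⊗[k] A) hl)
      (hI.map ((Algebra.TensorProduct.includeRight : A →ₐ[k] A ⊗[k] A) : A →+* A ⊗[k] A) hr)] at hΔ
  haveI := hD.invertible
  haveI := (inv_box (k := k) hI).invertible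
  have hΔ' : cls (I.map (Δ : A →+* A ⊗[k] A)) = cls (box k I) := hΔ
  rw [cls_def hD, cls_def (inv_box hI), CommRing.Pic.mk_eq_mk_iff] at hΔ'
  obtain ⟨e⟩ := hΔ'
  let m : I.restrictScalars k → (I.map (Δ : A →+* A ⊗[k] A) : Ideal (A ⊗[k] A)) :=
    fun p => ⟨Δ p.1, Ideal.mem_map_of_mem _ p.2⟩
  refine ⟨{ toFun := fun p => (e (m p)).1
            map_add' := fun p q => ?_
            map_smul' := fun c p => ?_ }, fun p q => ?_, ?_⟩
  · rw [show m (p + q) = m p + m q from Subtype.ext (map_add Δ p.1 q.1), map_add]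
    rfl
  · rw [show m (c • p) = algebraMap k (A ⊗[k] A) c • m p from Subtype.ext ((map_smul Δ c p.1).trans (Algebra.smul_def _ _)),
      map_smul]
    exact (Algebra.smul_def _ _).symm
  · show (e (m p)).1 * Δ q.1 = (e (m q)).1 * Δ p.1
    have h : e (Δ q.1 • m p) = e (Δ p.1 • m q) := congrArg e (Subtype.ext (mul_comm _ _))
    rw [map_smul, map_smul] at h
    have h' := congrArg Subtype.val h
    simpa [mul_comm] using h'
  · refine le_antisymm (Ideal.span_le.2 ?_) fun x hx => ?_
    · rintro _ ⟨p, rfl⟩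
      exact (e (m p)).2
    · obtain ⟨⟨y, hy⟩, hxy⟩ := e.surjective ⟨x, hx⟩
      rw [show x = (e ⟨y, hy⟩).1 from (congrArg Subtype.val hxy).symm]
      clear hxy
      induction hy using Submodule.span_induction with
      | mem z hz =>
        obtain ⟨r, hr, rfl⟩ := hz
        exact Ideal.subset_span ⟨⟨r, hr⟩, rfl⟩
      | zero =>
        rw [show (⟨0, _⟩ : (I.map (Δ : A →+* A ⊗[k] A) : Ideal (A ⊗[k] A))) = 0 from rfl, map_zero]
        exact Ideal.zero_mem _
      | add z z' hz hz' h h' =>
        rw [show (⟨z + z', _⟩ : (I.map (Δ : A →+* A ⊗[k] A) : Ideal (A ⊗[k] A))) = ⟨z, hz⟩ + ⟨z', hz'⟩ from rfl, map_add]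
        exact Ideal.add_mem _ h h'
      | smul r z hz h =>
        rw [show (⟨r • z, _⟩ : (I.map (Δ : A →+* A ⊗[k] A) : Ideal (A ⊗[k] A))) = r • ⟨z, hz⟩ from rfl, map_smul]
        exact Ideal.mul_mem_left _ r h

/-- The determinant of a subcomodule has no zeros. -/
theorem det_gen {I : Ideal A} (hI : LocFactorial.Inv I) {δ : (I.restrictScalars k) →ₗ[k] A ⊗[k] A} (h : IsTwist I δ)
    {p₀ : A} (hp₀ : p₀ ∈ I) (hε₀ : ε p₀ ≠ 0) {V : Submodule k (I.restrictScalars k)} {n : ℕ}
    (bV : Module.Basis (Fin n) k V) (e : Fin n → Fin n → I.restrictScalars k)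
    (hδe : ∀ i, δ (bV i).1 = ∑ j, (bV j).1.1 ⊗ₜ[k] (e i j).1) :
    ∀ m : Ideal A, m.IsMaximal → ∀ z ∈ I ^ n, ∃ t ∉ m, t * z ∈ Ideal.span {(Matrix.of fun j i => (e i j).1).det} := by
  classical
  haveI : IsDomain (A ⊗[k] A) := VarietyLib.isDomain_tensor_of_isAlgClosed k _ _
  let S := I.restrictScalars k
  let s := (Matrix.of fun j i => (e i j).1).det
  choose lz hlz using fun q => exists_incl (h.mem q)
  intro m hm z hz
  obtain ⟨y, hy, t, htm, ht⟩ := hI.exists_local m (hm := hm.isPrime)
  have hy0 : y ≠ 0 := fun h0 => by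
    obtain ⟨c, hc⟩ := Ideal.mem_span_singleton'.1 (ht p₀ hp₀)
    rw [h0, mul_zero, eq_comm, mul_eq_zero] at hc
    rcases hc with hc | hc
    · exact htm (hc ▸ m.zero_mem)
    · exact hε₀ (by rw [hc, map_zero])
  have hc : ∀ i j, ∃ c, c * y = t * (e i j).1 := fun i j => Ideal.mem_span_singleton'.1 (ht _ (e i j).2)
  choose c hc using hc
  let M : Matrix (Fin n) (Fin n) A := Matrix.of fun j i => c i j
  have hMs : t ^ n * s = M.det * y ^ n := by
    have h1 : t • Matrix.of (fun j i => (e i j).1) = y • M := by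
      ext j i
      simp only [Matrix.smul_apply, Matrix.of_apply, smul_eq_mul, M]
      rw [mul_comm y, hc]
    have h2 := congrArg Matrix.det h1
    rw [Matrix.det_smul, Matrix.det_smul, Fintype.card_fin] at h2
    rw [mul_comm M.det]
    exact h2
  have hpow : ∀ (r : ℕ), ∀ z ∈ I ^ r, t ^ r * z ∈ Ideal.span {y ^ r} := by
    intro r
    induction r with
    | zero => intro z _; simp
    | succ r ih =>
      intro z hz
      rw [pow_succ] at hz
      induction hz using Submodule.mul_induction_on' with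
      | mem_mul_mem a ha c hc' =>
        obtain ⟨u, hu⟩ := Ideal.mem_span_singleton'.1 (ih a ha)
        obtain ⟨v, hv⟩ := Ideal.mem_span_singleton'.1 (ht c hc')
        refine Ideal.mem_span_singleton'.2 ⟨u * v, ?_⟩
        rw [pow_succ, pow_succ]
        linear_combination (v * y) * hu + (t ^ r * a) * hv
      | add a _ c _ ha hc' => rw [mul_add]; exact Ideal.add_mem _ ha hc'
  refine ⟨M.det, ?_, ?_⟩
  · -- evaluate at the point of `m`
    letI : Field (A ⧸ m) := Ideal.Quotient.field m
    haveI : Module.Finite k (A ⧸ m) := finite_of_finite_type_of_isJacobsonRing k _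
    let eq := AlgEquiv.ofBijective (Algebra.ofId k (A ⧸ m))
      (IsAlgClosed.algebraMap_bijective_of_isIntegral (k := k) (K := A ⧸ m))
    let g : A →ₐ[k] k := (eq.symm : (A ⧸ m) →ₐ[k] k).comp (Ideal.Quotient.mkₐ k m)
    have hgm : ∀ a, g a = 0 ↔ a ∈ m := fun a =>
      (map_eq_zero_iff _ eq.symm.injective).trans Ideal.Quotient.eq_zero_iff_mem
    intro hdet
    have hdet' : (g.mapMatrix M).det = 0 := by rw [← AlgHom.map_det, hgm]; exact hdet
    obtain ⟨lam, hlam, hker⟩ := Matrix.exists_mulVec_eq_zero_iff.2 hdet'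
    let ρ : A ⊗[k] A →ₐ[k] A :=
      Algebra.TensorProduct.lift (AlgHom.id k A) ((Algebra.ofId k A).comp g) fun _ _ => .all _ _
    -- translation is injective
    have hτ : Function.Injective (ρ.comp Δ) := by
      let g' : Pt k A k := (toConv g)⁻¹
      let cg : Pt k A k → Pt k A A := push (Algebra.ofId k A)
      have hρ : toConv (ρ.comp Δ) = toConv (AlgHom.id k A) * cg (toConv g) := by
        rw [AlgHom.convMul_def]
        refine congrArg toConv (congrArg (fun θ : A ⊗[k] A →ₐ[k] A => θ.comp Δ) ?_ |>.trans (AlgHom.comp_assoc _ _ _))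
        exact Algebra.TensorProduct.ext (AlgHom.ext fun a => by simp [ρ, cg, push])
          (AlgHom.ext fun a => by simp [ρ, cg, push])
      let ρ' := (toConv (AlgHom.id k A) * cg g').ofConv
      have hcomp : (ρ'.comp (ρ.comp Δ)) = AlgHom.id k A := by
        have h1 : push ρ' (toConv (ρ.comp Δ)) = toConv (AlgHom.id k A) := by
          rw [hρ, map_mul]
          have e2 : push ρ' (cg (toConv g)) = cg (toConv g) := by
            show push ρ' (push _ (toConv g)) = push _ (toConv g)
            rw [DynLib.push_push]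
            exact congrArg (fun θ => push θ (toConv g)) (Subsingleton.elim _ _)
          have e1 : push ρ' (toConv (AlgHom.id k A)) = toConv (AlgHom.id k A) * cg g' := rfl
          rw [e1, e2, mul_assoc, ← map_mul (push (Algebra.ofId k A)), inv_mul_cancel, map_one, mul_one]
        exact congrArg WithConv.ofConv h1
      exact fun a a' haa => by
        have := congrArg ρ' haa
        rwa [← AlgHom.comp_apply ρ', ← AlgHom.comp_apply ρ', hcomp] at this
    -- the sections in the local frame
    have hex : ∀ q, ∃ hq, δ q * ((1 : A) ⊗ₜ[k] t) = ((1 : A) ⊗ₜ[k] y) * hq := fun q => by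
      rw [← hlz q]
      generalize lz q = z
      induction z using TensorProduct.induction_on with
      | zero => exact ⟨0, by simp⟩
      | add a c ha hc' =>
        obtain ⟨a', ha'⟩ := ha
        obtain ⟨c', hc''⟩ := hc'
        exact ⟨a' + c', by rw [map_add, add_mul, mul_add, ha', hc'']⟩
      | tmul a c =>
        obtain ⟨u, hu⟩ := Ideal.mem_span_singleton'.1 (ht _ c.2)
        exact ⟨a.1 ⊗ₜ u, by simp [incl, mul_comm c.1 t, ← hu, mul_comm u y]⟩
    choose hh hhq using hex
    have hy1 : ((1 : A) ⊗ₜ[k] y) ≠ 0 := fun h0 => hy0 (by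
      have := congrArg (Algebra.TensorProduct.lift ((Algebra.ofId k A).comp ε) (AlgHom.id k A) fun _ _ => .all _ _) h0
      simpa using this)
    let f : S → A := fun q => ρ (hh q)
    have hprop : ∀ q r, f q * ρ (Δ r.1) = f r * ρ (Δ q.1) := fun q r => by
      have h1 : hh q * Δ r.1 = hh r * Δ q.1 := by
        refine mul_left_cancel₀ hy1 ?_
        rw [← mul_assoc, ← mul_assoc, ← hhq, ← hhq, mul_right_comm, h.prop, mul_right_comm]
      rw [← map_mul, ← map_mul, h1]
    let v : S := ∑ i, lam i • (bV i).1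
    have hfv : f v = 0 := by
      have h1 : hh v = ∑ j, (bV j).1.1 ⊗ₜ[k] (∑ i, lam i • c i j) := by
        refine mul_left_cancel₀ hy1 ?_
        rw [← hhq, map_sum, Finset.sum_mul, Finset.mul_sum]
        simp only [map_smul, hδe, Finset.smul_sum, Finset.sum_mul, TensorProduct.tmul_sum, Finset.mul_sum]
        rw [Finset.sum_comm]
        refine Finset.sum_congr rfl fun j _ => Finset.sum_congr rfl fun i _ => ?_
        rw [Algebra.smul_mul_assoc, Algebra.TensorProduct.tmul_mul_tmul, TensorProduct.tmul_smul,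
          Algebra.mul_smul_comm, Algebra.TensorProduct.tmul_mul_tmul, one_mul, mul_one, mul_comm y, hc, mul_comm t]
      show ρ (hh v) = 0
      rw [h1, map_sum]
      refine Finset.sum_eq_zero fun j _ => ?_
      have hj : g (∑ i, lam i • c i j) = 0 := by
        have := congrFun hker j
        simpa [Matrix.mulVec, dotProduct, M, mul_comm] using this
      simp only [ρ, Algebra.TensorProduct.lift_tmul, AlgHom.comp_apply, hj, map_zero, mul_zero]
    have hv0 : v ≠ 0 := fun h0 => hlam (by
      refine bV.equivFun.symm.injective (Eq.trans ?_ (map_zero bV.equivFun.symm).symm)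
      rw [Module.Basis.equivFun_symm_apply]
      refine Subtype.ext ?_
      rw [AddSubmonoidClass.coe_finsetSum]
      exact h0)
    have hall : ∀ q, f q = 0 := fun q => by
      have h1 := hprop v q
      rw [hfv, zero_mul, eq_comm, mul_eq_zero] at h1
      refine h1.resolve_right fun h2 => hv0 (Subtype.ext ?_)
      exact hτ (h2.trans (map_zero (ρ.comp Δ)).symm)
    -- but the sections generate
    have hbox : ∀ z ∈ box k I, ∀ w, z * ((1 : A) ⊗ₜ[k] t) = ((1 : A) ⊗ₜ[k] y) * w → ρ w = 0 := by
      intro z hz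
      rw [← h.span] at hz
      obtain ⟨l, rfl⟩ := Finsupp.mem_span_range_iff_exists_finsupp.1 hz
      intro w hw
      have hw' : w = l.sum fun q r => r * hh q := by
        refine mul_left_cancel₀ hy1 ?_
        rw [← hw, Finsupp.sum, Finsupp.sum, Finset.sum_mul, Finset.mul_sum]
        refine Finset.sum_congr rfl fun q _ => ?_
        rw [smul_eq_mul, mul_assoc, hhq, mul_left_comm]
      rw [hw', Finsupp.sum, map_sum]
      exact Finset.sum_eq_zero fun q _ => by rw [map_mul, show ρ (hh q) = 0 from hall q, mul_zero]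
    have h1 := hbox _ (tmul_mem_box (k := k) hp₀ hy) (p₀ ⊗ₜ t) (by
      simp only [Algebra.TensorProduct.tmul_mul_tmul, one_mul, mul_one, mul_comm y t])
    have h2 : p₀ * algebraMap k A (g t) = 0 := by simpa [ρ] using h1
    rcases mul_eq_zero.1 h2 with h3 | h3
    · exact hε₀ (by rw [h3, map_zero])
    · exact htm ((hgm t).1 ((map_eq_zero_iff _ (FaithfulSMul.algebraMap_injective k A)).1 h3))
  · obtain ⟨u, hu⟩ := Ideal.mem_span_singleton'.1 (hpow n z hz)
    refine Ideal.mem_span_singleton'.2 ⟨u, mul_left_cancel₀ (pow_ne_zero n fun h0 : t = 0 => htm (h0 ▸ m.zero_mem)) ?_⟩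
    linear_combination u * hMs + M.det * hu

/-- A class compatible with multiplication is torsion. -/
theorem exists_pow_eq_one {I₀ : Ideal A} (hI₀ : LocFactorial.Inv I₀)
    (hΔ : CommRing.Pic.mapRingHom (Δ : A →+* A ⊗[k] A) (cls I₀) =
      CommRing.Pic.mapRingHom ((Algebra.TensorProduct.includeLeft : A →ₐ[k] A ⊗[k] A) : A →+* A ⊗[k] A) (cls I₀) *
        CommRing.Pic.mapRingHom ((Algebra.TensorProduct.includeRight : A →ₐ[k] A ⊗[k] A) : A →+* A ⊗[k] A) (cls I₀)) :
    ∃ d : ℕ, 0 < d ∧ cls I₀ ^ d = 1 := by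
  classical
  haveI : IsDomain (A ⊗[k] A) := VarietyLib.isDomain_tensor_of_isAlgClosed k _ _
  obtain ⟨I, hI, hcl, p₀, hp₀, hε₀⟩ := exists_rep (k := k) hI₀
  rw [← hcl] at hΔ ⊢
  obtain ⟨δ₀, h₀⟩ := exists_twist hI hΔ
  let S := I.restrictScalars k
  let p₁ : S := ⟨p₀, hp₀⟩
  have hp₁ : ε p₁.1 ≠ 0 := hε₀
  obtain ⟨δ, h, hεL, hεR⟩ := exists_counital hI hp₁ h₀
  choose lz hlz using fun q => exists_incl (h.mem q)
  -- a finite stable subspace
  let b := Module.Free.chooseBasis k S
  let C := TensorProduct.equivFinsuppOfBasisRight (M := S) b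
  let V : Submodule k S := Submodule.span k ((C (lz p₁)).support.image fun i => C (lz p₁) i : Finset S)
  haveI : Module.Finite k V := Module.Finite.of_fg (Submodule.fg_span (Finset.finite_toSet _))
  have hsum : lz p₁ = (C (lz p₁)).sum fun i v => v ⊗ₜ[k] b i := (C.symm_apply_apply _).symm.trans (by
    rw [TensorProduct.equivFinsuppOfBasisRight_symm_apply])
  have hVmem : ∀ i, C (lz p₁) i ∈ V := fun i => by
    by_cases hi : i ∈ (C (lz p₁)).support
    · exact Submodule.subset_span (Finset.mem_image_of_mem _ hi)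
    · rw [Finsupp.notMem_support_iff.1 hi]
      exact zero_mem _
  have hstab : ∀ v ∈ V, ∃ w : V ⊗[k] S, incl I (TensorProduct.map V.subtype LinearMap.id w) = δ v := by
    intro v hv
    induction hv using Submodule.span_induction with
    | zero => exact ⟨0, by simp⟩
    | add x y _ _ hx hy =>
      obtain ⟨a, ha⟩ := hx
      obtain ⟨c, hc⟩ := hy
      exact ⟨a + c, by simp [ha, hc]⟩
    | smul r x _ hx =>
      obtain ⟨a, ha⟩ := hx
      exact ⟨r • a, by simp [ha]⟩
    | mem v hv =>
      obtain ⟨j, -, rfl⟩ := Finset.mem_image.1 hv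
      -- a functional dual to `b j` on all of `A`
      obtain ⟨φ, hφ⟩ := LinearMap.exists_extend (b.coord j)
      have hco := coassoc hI hp₁ h hεL hεR p₁ (lz p₁) (hlz p₁)
      let G : A ⊗[k] (A ⊗[k] A) →ₗ[k] A ⊗[k] A :=
        TensorProduct.map LinearMap.id ((TensorProduct.rid k A).toLinearMap.comp (TensorProduct.map LinearMap.id φ))
      have hφb : ∀ i, φ (b i : A) = if i = j then 1 else 0 := fun i => by
        rw [show φ (b i : A) = b.coord j (b i) from LinearMap.congr_fun hφ (b i)]
        simp [Finsupp.single_apply]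
      have hl : G (TensorProduct.assoc k A A A (TensorProduct.map δ S.subtype (lz p₁))) = δ (C (lz p₁) j) := by
        have e : ∀ (t : A ⊗[k] A) (i), G (TensorProduct.assoc k A A A (t ⊗ₜ (b i : A))) = φ (b i : A) • t := by
          intro t i
          induction t using TensorProduct.induction_on with
          | zero => simp
          | add x y hx hy => simp only [TensorProduct.add_tmul, map_add, smul_add, hx, hy]
          | tmul x y => simp [G, TensorProduct.tmul_smul]
        conv_lhs => rw [hsum, Finsupp.sum, map_sum, map_sum, map_sum]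
        simp only [TensorProduct.map_tmul, Submodule.coe_subtype]
        rw [Finset.sum_congr rfl fun i _ => (e (δ (C (lz p₁) i)) i).trans (by rw [hφb, ite_smul, one_smul, zero_smul]),
          Finset.sum_ite_eq']
        split_ifs with hj
        · rfl
        · rw [Finsupp.notMem_support_iff.1 hj, map_zero]
      have hbI : ∀ i, (TensorProduct.rid k A) (TensorProduct.map LinearMap.id φ (δ (b i))) ∈ I := fun i => by
        rw [← hlz (b i)]
        generalize lz (b i) = z
        induction z using TensorProduct.induction_on with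
        | zero => simp
        | add x y hx hy => simp only [map_add]; exact I.add_mem hx hy
        | tmul x y => simp only [incl, TensorProduct.map_tmul, Submodule.coe_subtype, LinearMap.id_apply,
            TensorProduct.rid_tmul]; exact (I.restrictScalars k).smul_mem _ x.2
      refine ⟨∑ i ∈ (C (lz p₁)).support, (⟨C (lz p₁) i, hVmem i⟩ : V) ⊗ₜ[k] (⟨_, hbI i⟩ : S), ?_⟩
      rw [← hl, hco]
      conv_rhs => rw [hsum, Finsupp.sum, map_sum, map_sum]
      simp only [map_sum]
      refine Finset.sum_congr rfl fun i _ => ?_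
      simp [G, incl]
  -- the matrix
  haveI : Module.Free k V := Module.Free.of_divisionRing k V
  let n := Module.finrank k V
  let bV := Module.finBasis k V
  choose W hW using fun i : Fin n => hstab (bV i).1 (bV i).2
  have hWsum : ∀ i, ∃ e : Fin n → S, W i = ∑ j, bV j ⊗ₜ[k] e j := fun i => by
    let D := TensorProduct.equivFinsuppOfBasisLeft (N := S) bV
    refine ⟨fun j => D (W i) j, (D.symm_apply_apply _).symm.trans ?_⟩
    rw [TensorProduct.equivFinsuppOfBasisLeft_symm_apply, Finsupp.sum_fintype]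
    simp
  choose e he using hWsum
  have hδe : ∀ i, δ (bV i).1 = ∑ j, (bV j).1.1 ⊗ₜ[k] (e i j).1 := fun i => by
    rw [← hW i, he, map_sum, map_sum]
    simp [incl]
  have hn : 0 < n := by
    refine Nat.pos_of_ne_zero fun h0 => ?_
    haveI : Subsingleton V := Module.finrank_zero_iff.1 h0
    have : lz p₁ = 0 := by
      rw [hsum, Finsupp.sum]
      refine Finset.sum_eq_zero fun i _ => ?_
      rw [show C (lz p₁) i = 0 from congrArg Subtype.val (Subsingleton.elim (⟨_, hVmem i⟩ : V) 0),
        TensorProduct.zero_tmul]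
    have h2 := hεR p₁
    rw [← hlz p₁, this, map_zero, map_zero] at h2
    exact hp₁ (by rw [← h2, map_zero])
  refine ⟨n, hn, ?_⟩
  rw [← (inv_pow hI n).2]
  let s := (Matrix.of fun j i => (e i j).1).det
  have hsI : s ∈ I ^ n := by
    simp only [s, Matrix.det_apply]
    refine sum_mem fun σ _ => ?_
    rw [Units.smul_def, zsmul_eq_mul]
    refine Ideal.mul_mem_left _ _ ?_
    have hp := Ideal.prod_mem_prod (s := (Finset.univ : Finset (Fin n))) (I := fun _ => I)
      (x := fun i => Matrix.of (fun j i => (e i j).1) (σ i) i) fun i _ => (e i (σ i)).2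
    simpa [Finset.prod_const] using hp
  have hgen := det_gen hI h hp₀ hε₀ bV e hδe
  have hspan : I ^ n = Ideal.span {s} :=
    le_antisymm (fun z hz => mem_of_forall_maximal fun m hm => hgen m hm z hz)
      ((Ideal.span_singleton_le_iff_mem _).2 hsI)
  rw [hspan, cls_span]
  intro h0
  exact (inv_pow hI n).1.ne_bot (by rw [hspan, h0, Ideal.span_singleton_eq_bot])

end Groth.Agent.AlgGrpLib.PicTorsionDet
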