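import Mathlib

/-!
# Extension of specialisations to valuation rings with algebraically closed residue field
-/

set_option autoImplicit false

universe u v w

open IsLocalRing Polynomial

noncomputable section

namespace Groth.Agent.AlgGrpLib.PlaceExt

variable {K : Type u} [Field K] {k' : Type v} [Field k']

/-- A subring with a specialisation. -/
structure Pair (K : Type u) [Field K] (k' : Type v) [Field k'] where
  /-- the subring -/
  ring : Subring K
  /-- the specialisation -/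
  hom : ring →+* k'

/-- Extension of pairs. -/
def Pair.Le (p q : Pair K k') : Prop := ∃ h : p.ring ≤ q.ring, ∀ a : p.ring, q.hom (Subring.inclusion h a) = p.hom a

theorem Pair.Le.refl (p : Pair K k') : p.Le p := ⟨le_rfl, fun _ => rfl⟩

theorem Pair.Le.trans {p q r : Pair K k'} (h₁ : p.Le q) (h₂ : q.Le r) : p.Le r := by
  obtain ⟨h₁, e₁⟩ := h₁
  obtain ⟨h₂, e₂⟩ := h₂
  exact ⟨h₁.trans h₂, fun a => (e₂ (Subring.inclusion h₁ a)).trans (e₁ a)⟩

theorem exists_ub (c : Set (Pair K k')) (hc : IsChain Pair.Le c) (hne : c.Nonempty) : ∃ ub, ∀ p ∈ c, p.Le ub := by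
  haveI : Nonempty c := hne.to_subtype
  have hdir : Directed (· ≤ ·) fun p : c => p.1.ring := fun p q => by
    rcases eq_or_ne p.1 q.1 with e | e
    · exact ⟨p, le_rfl, le_of_eq (congrArg Pair.ring e.symm)⟩
    · rcases hc p.2 q.2 e with ⟨h, -⟩ | ⟨h, -⟩
      · exact ⟨q, h, le_rfl⟩
      · exact ⟨p, le_rfl, h⟩
  let U := ⨆ p : c, p.1.ring
  have hmem : ∀ x : U, ∃ p : c, (x : K) ∈ p.1.ring := fun x => (Subring.mem_iSup_of_directed hdir).1 x.2
  choose P hP using hmem
  have key : ∀ (x : U) (q : c) (hx : (x : K) ∈ q.1.ring), (P x).1.hom ⟨x, hP x⟩ = q.1.hom ⟨x, hx⟩ := by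
    intro x q hx
    rcases eq_or_ne (P x).1 q.1 with e | e
    · have aux : ∀ (a b : Pair K k'), a = b → ∀ (ha : (x : K) ∈ a.ring) (hb : (x : K) ∈ b.ring),
          a.hom ⟨x, ha⟩ = b.hom ⟨x, hb⟩ := by rintro a _ rfl ha hb; rfl
      exact aux _ _ e _ _
    · rcases hc (P x).2 q.2 e with ⟨h, e'⟩ | ⟨h, e'⟩
      · exact (e' ⟨x, hP x⟩).symm
      · exact e' ⟨x, hx⟩
  have two : ∀ x y : U, ∃ q : c, (x : K) ∈ q.1.ring ∧ (y : K) ∈ q.1.ring := fun x y => by
    obtain ⟨q, h₁, h₂⟩ := hdir (P x) (P y)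
    exact ⟨q, h₁ (hP x), h₂ (hP y)⟩
  let φ : U →+* k' :=
    { toFun := fun x => (P x).1.hom ⟨x, hP x⟩
      map_one' := (key 1 (P 1) (one_mem _)).trans (map_one _)
      map_zero' := (key 0 (P 0) (zero_mem _)).trans (map_zero _)
      map_mul' := fun x y => by
        obtain ⟨q, hx, hy⟩ := two x y
        rw [key x q hx, key y q hy, key (x * y) q (mul_mem hx hy), ← map_mul]
        rfl
      map_add' := fun x y => by
        obtain ⟨q, hx, hy⟩ := two x y
        rw [key x q hx, key y q hy, key (x + y) q (add_mem hx hy), ← map_add]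
        rfl }
  exact ⟨⟨U, φ⟩, fun p hp => ⟨le_iSup (fun q : c => q.1.ring) ⟨p, hp⟩,
    fun a => key ⟨a, le_iSup (fun q : c => q.1.ring) ⟨p, hp⟩ a.2⟩ ⟨p, hp⟩ a.2⟩⟩

theorem exists_isMax (p₀ : Pair K k') : ∃ m, p₀.Le m ∧ ∀ a, Pair.Le m a → a.ring ≤ m.ring := by
  obtain ⟨m, hm⟩ := exists_maximal_of_chains_bounded
    (r := fun a b : {p : Pair K k' // p₀.Le p} => a.1.Le b.1) (fun c hc => by
      rcases c.eq_empty_or_nonempty with rfl | hne
      · exact ⟨⟨p₀, .refl _⟩, fun a ha => absurd ha (Set.notMem_empty a)⟩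
      · have hc' : IsChain Pair.Le (Subtype.val '' c) := by
          rintro _ ⟨a, ha, rfl⟩ _ ⟨b, hb, rfl⟩ hab
          exact hc ha hb (fun h => hab (congrArg Subtype.val h))
        obtain ⟨ub, hub⟩ := exists_ub _ hc' (hne.image _)
        obtain ⟨a, ha⟩ := hne
        exact ⟨⟨ub, a.2.trans (hub _ ⟨a, ha, rfl⟩)⟩, fun b hb => hub _ ⟨b, hb, rfl⟩⟩)
    (fun h₁ h₂ => h₁.trans h₂)
  exact ⟨m.1, m.2, fun a ha => (hm ⟨a, m.2.trans ha⟩ ha).1⟩

section Max

variable (m : Pair K k') (hm : ∀ a, Pair.Le m a → a.ring ≤ m.ring)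
include hm

theorem isUnit_of_hom_ne_zero (a : m.ring) (ha : m.hom a ≠ 0) : IsUnit a := by
  let P := RingHom.ker m.hom
  haveI : P.IsPrime := RingHom.ker_isPrime _
  let L := LocalSubring.ofPrime m.ring P
  have hu : ∀ y : P.primeCompl, IsUnit (m.hom y) := fun y => IsUnit.mk0 _ fun h => y.2 h
  let φ : L.toSubring →+* k' := IsLocalization.lift (M := P.primeCompl) hu
  have hle := hm ⟨L.toSubring, φ⟩ ⟨LocalSubring.le_ofPrime _ _, fun b => IsLocalization.lift_eq hu b⟩
  have hb : IsUnit (algebraMap m.ring L.toSubring a) :=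
    IsLocalization.map_units L.toSubring (⟨a, ha⟩ : P.primeCompl)
  obtain ⟨b, hb⟩ := isUnit_iff_exists_inv.1 hb
  exact isUnit_iff_exists_inv.2 ⟨⟨b, hle b.2⟩, Subtype.ext (by have := congrArg Subtype.val hb; exact this)⟩

theorem ker_isMaximal : (RingHom.ker m.hom).IsMaximal := by
  refine Ideal.isMaximal_iff.2 ⟨fun h => one_ne_zero (α := k') (by rw [← map_one m.hom]; exact h), fun J x hJ hx hxJ => ?_⟩
  exact (Ideal.eq_top_iff_one J).1 (Ideal.eq_top_of_isUnit_mem _ hxJ (isUnit_of_hom_ne_zero m hm x hx))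

theorem mem_of_map_ne_top [IsAlgClosed k'] (x : K)
    (h : (RingHom.ker m.hom).map (algebraMap m.ring (Algebra.adjoin m.ring ({x} : Set K))) ≠ ⊤) : x ∈ m.ring := by
  haveI hmax := ker_isMaximal m hm
  let B := Algebra.adjoin m.ring ({x} : Set K)
  let I := RingHom.ker m.hom
  obtain ⟨M, hM, hle⟩ := Ideal.exists_le_maximal _ h
  haveI := hM
  letI : Field (m.ring ⧸ I) := Ideal.Quotient.field I
  letI : Field (B ⧸ M) := Ideal.Quotient.field M
  letI : Algebra (m.ring ⧸ I) (B ⧸ M) :=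
    (Ideal.quotientMap M (algebraMap m.ring B) (Ideal.map_le_iff_le_comap.1 hle)).toAlgebra
  letI : Algebra (m.ring ⧸ I) k' := (RingHom.kerLift m.hom).toAlgebra
  haveI : IsScalarTower m.ring (m.ring ⧸ I) (B ⧸ M) := IsScalarTower.of_algebraMap_eq fun a => rfl
  haveI : Algebra.FiniteType m.ring B := by
    refine ⟨Subalgebra.fg_top _ |>.2 ?_⟩
    exact Subalgebra.fg_adjoin_finset {x} |> fun h => by simpa using h
  haveI : Algebra.FiniteType m.ring (B ⧸ M) :=
    Algebra.FiniteType.of_surjective (Ideal.Quotient.mkₐ m.ring M) Ideal.Quotient.mk_surjective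
  haveI : Algebra.FiniteType (m.ring ⧸ I) (B ⧸ M) :=
    Algebra.FiniteType.of_restrictScalars_finiteType m.ring (m.ring ⧸ I) (B ⧸ M)
  haveI : Module.Finite (m.ring ⧸ I) (B ⧸ M) := finite_of_finite_type_of_isJacobsonRing _ _
  let ψ : (B ⧸ M) →ₐ[m.ring ⧸ I] k' := IsAlgClosed.lift
  let φ : B →+* k' := ψ.toRingHom.comp (Ideal.Quotient.mk M)
  have h1 : m.ring ≤ B.toSubring := fun y hy => Subalgebra.algebraMap_mem B ⟨y, hy⟩
  have := hm ⟨B.toSubring, φ⟩ ⟨h1, fun a => ?_⟩
  · exact this (Algebra.self_mem_adjoin_singleton _ _)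
  · show ψ (Ideal.Quotient.mk M (algebraMap m.ring B a)) = m.hom a
    have : Ideal.Quotient.mk M (algebraMap m.ring B a) = algebraMap (m.ring ⧸ I) (B ⧸ M) (Ideal.Quotient.mk I a) := rfl
    rw [this, AlgHom.commutes]
    rfl

theorem mem_or_inv_mem [IsAlgClosed k'] (x : K) : x ∈ m.ring ∨ x⁻¹ ∈ m.ring := by
  haveI hmax := ker_isMaximal m hm
  rcases eq_or_ne x 0 with rfl | hx0
  · exact Or.inl (zero_mem _)
  rcases eq_or_ne ((RingHom.ker m.hom).map (algebraMap m.ring (Algebra.adjoin m.ring ({x} : Set K)))) ⊤ with h | h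
  swap
  · exact Or.inl (mem_of_map_ne_top m hm x h)
  refine Or.inr (mem_of_map_ne_top m hm x⁻¹ fun htop => ?_)
  let := invertibleOfNonzero hx0
  obtain ⟨p, hp, hpx⟩ := Algebra.exists_aeval_invOf_eq_zero_of_idealMap_adjoin_sup_span_eq_top x _
    hmax.ne_top (top_unique <| h.ge.trans le_self_add)
  have H : IsUnit p.leadingCoeff := isUnit_of_hom_ne_zero m hm _ fun h0 => hmax.ne_top
    ((Ideal.eq_top_iff_one _).2 (by simpa using sub_mem (RingHom.mem_ker.2 h0) hp))
  have hint : IsIntegral m.ring x⁻¹ := ⟨.C H.unit⁻¹.1 * p, by simp [Polynomial.Monic], by simpa using .inr hpx⟩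
  haveI : Algebra.IsIntegral m.ring (Algebra.adjoin m.ring ({x⁻¹} : Set K)) :=
    Algebra.IsIntegral.adjoin (by simpa using hint)
  obtain ⟨Q, hQ, e⟩ := Ideal.exists_ideal_over_maximal_of_isIntegral
    (S := Algebra.adjoin m.ring ({x⁻¹} : Set K)) (RingHom.ker m.hom) (by
      rw [(RingHom.injective_iff_ker_eq_bot (algebraMap m.ring (Algebra.adjoin m.ring ({x⁻¹} : Set K)))).1 (fun a b hab => Subtype.ext (congrArg (fun z : Algebra.adjoin m.ring ({x⁻¹} : Set K) => (z : K)) hab))]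
      exact bot_le)
  refine hQ.ne_top (top_unique ?_)
  rw [← htop]
  exact Ideal.map_le_iff_le_comap.2 e.ge

end Max

/-- A specialisation extends to a valuation ring, whose residue field is the given algebraically closed field when
the latter is algebraic over the image. -/
theorem exists_valuationSubring [IsAlgClosed K] [IsAlgClosed k'] {R : Type w} [CommRing R] (g : R →+* K)
    (f : R →+* k') (h : RingHom.ker g ≤ RingHom.ker f)
    (halg : ∀ y : k', ∃ p : k'[X], p ≠ 0 ∧ (∀ n, p.coeff n ∈ Subfield.closure (Set.range f)) ∧ p.eval y = 0) :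
    ∃ (V : ValuationSubring K) (φ : V →+* k') (j : R →+* V),
      (∀ r, (j r : K) = g r) ∧ (∀ r, φ (j r) = f r) ∧ Function.Surjective φ := by
  let f₀ : g.range →+* k' := g.rangeRestrict.liftOfSurjective g.rangeRestrict_surjective
    ⟨f, fun r hr => h (by simpa [RingHom.mem_ker, Subtype.ext_iff] using hr)⟩
  have hf₀ : ∀ r, f₀ (g.rangeRestrict r) = f r := fun r =>
    RingHom.liftOfRightInverse_comp_apply _ _ _ ⟨f, _⟩ r
  obtain ⟨m, ⟨hle, hext⟩, hmax⟩ := exists_isMax (⟨g.range, f₀⟩ : Pair K k')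
  let V : ValuationSubring K := ⟨m.ring, mem_or_inv_mem m hmax⟩
  let j : R →+* V := g.codRestrict m.ring fun r => hle ⟨r, rfl⟩
  have hj : ∀ r, m.hom (j r) = f r := fun r => (hext (g.rangeRestrict r)).trans (hf₀ r)
  refine ⟨V, m.hom, j, fun _ => rfl, hj, fun y => ?_⟩
  let F : Subfield k' :=
    { m.hom.range with
      inv_mem' := by
        rintro _ ⟨a, rfl⟩
        rcases eq_or_ne (m.hom a) 0 with h0 | h0
        · exact ⟨0, by rw [h0, inv_zero, map_zero]⟩
        · obtain ⟨b, hb⟩ := isUnit_iff_exists_inv.1 (isUnit_of_hom_ne_zero m hmax a h0)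
          exact ⟨b, eq_inv_of_mul_eq_one_right (by rw [← map_mul, hb, map_one])⟩ }
  obtain ⟨p, hp0, hpc, hpy⟩ := halg y
  let q := p * C p.leadingCoeff⁻¹
  have hq : q.Monic := monic_mul_leadingCoeff_inv hp0
  have hqc : ∀ n, q.coeff n ∈ m.hom.range := fun n => by
    have hF : ∀ n, p.coeff n ∈ F := fun n => (Subfield.closure_le.2 (by
      rintro _ ⟨r, rfl⟩
      exact ⟨j r, hj r⟩)) (hpc n)
    rw [coeff_mul_C]
    exact F.mul_mem (hF n) (F.inv_mem (hF _))
  obtain ⟨q', hq'⟩ : q ∈ Polynomial.lifts m.hom := (Polynomial.lifts_iff_coeff_lifts q).2 hqc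
  obtain ⟨q₁, hq₁, -, hmon⟩ := Polynomial.lifts_and_degree_eq_and_monic ⟨q', hq'⟩ hq
  haveI : IsIntegrallyClosed V := inferInstance
  let Q := q₁.map (algebraMap V K)
  have hsplit : Q.Splits := IsAlgClosed.splits Q
  have hroots : ∀ r ∈ Q.roots, r ∈ V := fun r hr => by
    have : IsIntegral V r := ⟨q₁, hmon, by
      rw [← Polynomial.eval_map]; exact ((Polynomial.mem_roots (hmon.map _).ne_zero).1 hr)⟩
    obtain ⟨v, rfl⟩ := IsIntegrallyClosed.isIntegral_iff.1 this
    exact v.2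
  let rts : Multiset V := Q.roots.attach.map fun r => ⟨r.1, hroots r.1 r.2⟩
  have hrts : rts.map (algebraMap V K) = Q.roots := by
    rw [Multiset.map_map]
    exact Multiset.attach_map_val _
  have hprod : q₁ = (rts.map fun v => X - C v).prod := by
    apply Polynomial.map_injective (algebraMap V K) (IsFractionRing.injective V K)
    rw [Polynomial.map_multiset_prod, Multiset.map_map]
    have e := hsplit.eq_prod_roots_of_monic (hmon.map _)
    rw [← hrts, Multiset.map_map] at e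
    refine e.trans ?_
    congr 1
    refine Multiset.map_congr rfl fun v _ => ?_
    simp
  have hy : (q₁.map m.hom).eval y = 0 := by
    rw [hq₁, eval_mul, hpy, zero_mul]
  rw [hprod, Polynomial.map_multiset_prod, Multiset.map_map, eval_multiset_prod, Multiset.prod_eq_zero_iff,
    Multiset.map_map, Multiset.mem_map] at hy
  obtain ⟨v, -, hv⟩ := hy
  refine ⟨v, ?_⟩
  simp [sub_eq_zero] at hv
  exact hv.symm

end Groth.Agent.AlgGrpLib.PlaceExt
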