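import Groth.Agent.AlgGrpLib.SolvableSpecial
import Groth.Agent.UnipStruct.Unip
import Groth.Agent.SGA3cLib.DiagPoints
import Groth.Agent.WittPts.Torus
import Mathlib.AlgebraicGeometry.AffineSpace

/-!
# Rational varieties: products, tori, vector groups, extensions by special groups
-/

set_option autoImplicit false
set_option backward.isDefEq.respectTransparency.types false
set_option maxHeartbeats 800000
set_option linter.style.haveILetI false

universe u

open CategoryTheory CategoryTheory.Limits MonoidalCategory CartesianMonoidalCategory MonObj GrpObj AlgebraicGeometry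

noncomputable section

namespace Groth.Agent.AlgGrpLib.RatVar

variable {k : Type u} [Field k]

/-- Affine space over the field. -/
def An (k : Type u) [Field k] (n : ℕ) : Over (Spec (CommRingCat.of k)) :=
  Over.mk (𝔸(ULift.{u} (Fin n); Spec (CommRingCat.of k)) ↘ Spec (CommRingCat.of k))

/-- The point with given coordinates. -/
def mkPt {T : Over (Spec (CommRingCat.of k))} {n : ℕ} (v : Fin n → Γ(T.left, ⊤)) : T ⟶ An k n :=
  Over.homMk (AffineSpace.homOfVector T.hom fun i => v i.down) (AffineSpace.homOfVector_over _ _)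

/-- The coordinates of a point. -/
def crd {T : Over (Spec (CommRingCat.of k))} {n : ℕ} (x : T ⟶ An k n) (i : Fin n) : Γ(T.left, ⊤) :=
  x.left.appTop (AffineSpace.coord (Spec (CommRingCat.of k)) (ULift.up i))

theorem crd_mkPt {T : Over (Spec (CommRingCat.of k))} {n : ℕ} (v : Fin n → Γ(T.left, ⊤)) (i : Fin n) :
    crd (mkPt v) i = v i :=
  AffineSpace.homOfVector_appTop_coord _ _ _

theorem crd_comp {T T' : Over (Spec (CommRingCat.of k))} {n : ℕ} (f : T' ⟶ T) (x : T ⟶ An k n) (i : Fin n) :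
    crd (f ≫ x) i = f.left.appTop (crd x i) := rfl

theorem ext_crd {T : Over (Spec (CommRingCat.of k))} {n : ℕ} {x y : T ⟶ An k n} (h : ∀ i, crd x i = crd y i) :
    x = y :=
  Over.OverMorphism.ext (AffineSpace.hom_ext ((Over.w x).trans (Over.w y).symm) fun i => h i.down)

/-- Some non-empty open is isomorphic to an open of affine space. -/
def Rat (X : Over (Spec (CommRingCat.of k))) : Prop :=
  ∃ (W : Over (Spec (CommRingCat.of k))) (a : W ⟶ X) (n : ℕ) (b : W ⟶ An k n),
    IsOpenImmersion a.left ∧ IsOpenImmersion b.left ∧ Nonempty W.left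

theorem rat_of_open {X Y : Over (Spec (CommRingCat.of k))} (j : Y ⟶ X) [IsOpenImmersion j.left] (h : Rat Y) :
    Rat X := by
  obtain ⟨W, a, n, b, ha, hb, hW⟩ := h
  haveI := ha
  exact ⟨W, a ≫ j, n, b, inferInstanceAs (IsOpenImmersion (a.left ≫ j.left)), hb, hW⟩

theorem rat_of_iso {X Y : Over (Spec (CommRingCat.of k))} (e : X ≅ Y) (h : Rat X) : Rat Y := by
  haveI : IsIso e.hom.left := inferInstanceAs (IsIso ((Over.forget _).map e.hom))
  exact rat_of_open e.hom h

theorem rat_An (n : ℕ) : Rat (An k n) :=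
  ⟨An k n, 𝟙 _, n, 𝟙 _, inferInstanceAs (IsOpenImmersion (𝟙 _)), inferInstanceAs (IsOpenImmersion (𝟙 _)), by
    obtain ⟨x⟩ : Nonempty (Spec (CommRingCat.of k)) := inferInstance
    exact ⟨(mkPt (T := Over.mk (𝟙 (Spec (CommRingCat.of k)))) (n := n) fun _ => 0).left x⟩⟩

theorem rat_trivial (G : Over (Spec (CommRingCat.of k))) (h : IsIso G.hom) : Rat G := by
  haveI := h
  refine rat_of_iso ⟨Over.homMk ((𝔸(ULift.{u} (Fin 0); Spec (CommRingCat.of k)) ↘ Spec (CommRingCat.of k)) ≫ inv G.hom)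
      (by simp [An]), mkPt Fin.elim0, ext_crd fun i => i.elim0,
      Over.OverMorphism.ext ((cancel_mono G.hom).1 ((Over.w _).trans (Over.w _).symm))⟩ (rat_An 0)

/-- `A^n × A^m = A^(n+m)`. -/
def addIso (n m : ℕ) : An k n ⊗ An k m ≅ An k (n + m) where
  hom := mkPt (Fin.append (fun i => crd (fst (An k n) (An k m)) i) fun i => crd (snd (An k n) (An k m)) i)
  inv := lift (mkPt fun i => crd (𝟙 (An k (n + m))) (Fin.castAdd m i))
    (mkPt fun i => crd (𝟙 (An k (n + m))) (Fin.natAdd n i))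
  hom_inv_id := by
    refine CartesianMonoidalCategory.hom_ext _ _ (ext_crd fun i => ?_) (ext_crd fun i => ?_)
    · rw [Category.assoc, lift_fst, crd_comp, crd_mkPt, ← crd_comp, Category.comp_id, crd_mkPt, Fin.append_left,
        Category.id_comp]
    · rw [Category.assoc, lift_snd, crd_comp, crd_mkPt, ← crd_comp, Category.comp_id, crd_mkPt, Fin.append_right,
        Category.id_comp]
  inv_hom_id := ext_crd fun i => by
    rw [crd_comp, crd_mkPt]
    refine Fin.addCases (fun i => ?_) (fun i => ?_) i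
    · rw [Fin.append_left, ← crd_comp, lift_fst, crd_mkPt]
    · rw [Fin.append_right, ← crd_comp, lift_snd, crd_mkPt]

theorem isOpenImmersion_tensor {A B A' B' : Over (Spec (CommRingCat.of k))} (f : A ⟶ A') (g : B ⟶ B')
    [IsOpenImmersion f.left] [IsOpenImmersion g.left] : IsOpenImmersion (f ⊗ₘ g).left :=
  MorphismProperty.pullbackMap (P := @IsOpenImmersion) ‹IsOpenImmersion f.left› ‹IsOpenImmersion g.left›
    (Over.w f).symm (Over.w g).symm

theorem nonempty_tensor (A B : Over (Spec (CommRingCat.of k))) [Nonempty A.left] [Nonempty B.left] :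
    Nonempty (A ⊗ B).left := by
  obtain ⟨a⟩ := ‹Nonempty A.left›
  obtain ⟨b⟩ := ‹Nonempty B.left›
  obtain ⟨z, -⟩ := Scheme.Pullback.exists_preimage_pullback (f := A.hom) (g := B.hom) a b (Subsingleton.elim _ _)
  exact ⟨z⟩

theorem rat_tensor {X Y : Over (Spec (CommRingCat.of k))} (hX : Rat X) (hY : Rat Y) : Rat (X ⊗ Y) := by
  obtain ⟨W, a, n, b, ha, hb, hW⟩ := hX
  obtain ⟨W', a', m, b', ha', hb', hW'⟩ := hY
  haveI := ha; haveI := hb; haveI := ha'; haveI := hb'; haveI := hW; haveI := hW'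
  haveI := isOpenImmersion_tensor a a'
  haveI := isOpenImmersion_tensor b b'
  haveI : IsIso (addIso (k := k) n m).hom.left :=
    inferInstanceAs (IsIso ((Over.forget _).map (addIso (k := k) n m).hom))
  exact ⟨W ⊗ W', a ⊗ₘ a', n + m, (b ⊗ₘ b') ≫ (addIso n m).hom, inferInstance,
    inferInstanceAs (IsOpenImmersion ((b ⊗ₘ b').left ≫ (addIso (k := k) n m).hom.left)), nonempty_tensor W W'⟩

theorem rat_add (G : Over (Spec (CommRingCat.of k))) [GrpObj G] (n : ℕ) (s : Fin n → Γ(G.left, ⊤))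
    (hinj : ∀ (X : Over (Spec (CommRingCat.of k))), IsAffine X.left → ∀ x y : X ⟶ G,
        (∀ i, x.left.appTop (s i) = y.left.appTop (s i)) → x = y)
    (hsurj : ∀ (X : Over (Spec (CommRingCat.of k))), IsAffine X.left → ∀ r : Fin n → Γ(X.left, ⊤),
        ∃ x : X ⟶ G, ∀ i, x.left.appTop (s i) = r i) : Rat G := by
  haveI : IsAffine (An k n).left :=
    inferInstanceAs (IsAffine (𝔸(ULift.{u} (Fin n); Spec (CommRingCat.of k))))
  obtain ⟨inv', hinv⟩ := hsurj (An k n) inferInstance fun i => crd (𝟙 (An k n)) i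
  refine rat_of_iso ⟨inv', mkPt s, ext_crd fun i => ?_, ?_⟩ (rat_An n)
  · rw [crd_comp, crd_mkPt]
    exact hinv i
  · refine Over.OverMorphism.ext (G.left.affineCover.hom_ext _ _ fun a => ?_)
    let U : Over (Spec (CommRingCat.of k)) := Over.mk (G.left.affineCover.f a ≫ G.hom)
    let jU : U ⟶ G := Over.homMk (G.left.affineCover.f a) rfl
    haveI : IsAffine U.left := inferInstanceAs (IsAffine (Spec _))
    have h : jU ≫ mkPt s ≫ inv' = jU := hinj U inferInstance _ _ fun i => by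
      rw [Over.comp_left, Scheme.Hom.comp_appTop, CommRingCat.comp_apply, Over.comp_left, Scheme.Hom.comp_appTop,
        CommRingCat.comp_apply, hinv i]
      exact congrArg _ (crd_mkPt s i)
    exact congrArg CommaMorphism.left h

theorem rat_torusOne : Rat (Red.DS (Spec (CommRingCat.of k)) (Fin 1 → ℤ)) := by
  let D := Red.DS (Spec (CommRingCat.of k)) (Fin 1 → ℤ)
  let L := MonoidAlgebra (ULift.{u} ℤ) (Multiplicative (Fin 1 → ℤ))
  let g₁ : L := MonoidAlgebra.single (Multiplicative.ofAdd (Pi.single 0 1)) 1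
  have hgu : IsUnit g₁ :=
    IsUnit.of_mul_eq_one (MonoidAlgebra.single (Multiplicative.ofAdd (Pi.single 0 1))⁻¹ 1)
      (by rw [MonoidAlgebra.single_mul_single, mul_inv_cancel, _root_.mul_one, MonoidAlgebra.one_def])
  let t : Γ((An k 1).left, ⊤) := crd (𝟙 (An k 1)) 0
  let U : (An k 1).left.Opens := (An k 1).left.basicOpen t
  let W : Over (Spec (CommRingCat.of k)) := Over.mk (U.ι ≫ (An k 1).hom)
  let j : W ⟶ An k 1 := Over.homMk U.ι rfl
  have hu : IsUnit (crd j 0) := by
    refine W.left.toLocallyRingedSpace.toRingedSpace.isUnit_of_isUnit_germ ⊤ _ fun x hxt => ?_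
    have hx : x ∈ j.left ⁻¹ᵁ ((An k 1).left.basicOpen t) := x.2
    rw [Scheme.preimage_basicOpen_top] at hx
    exact (Scheme.mem_basicOpen _ _ x hxt).1 hx
  let c : D ⟶ An k 1 := mkPt fun _ => SGA3cLib.fn (𝟙 D) g₁
  have hc : ∀ {T : Over (Spec (CommRingCat.of k))} (x : T ⟶ D), crd (x ≫ c) 0 = SGA3cLib.fn x g₁ := fun {T} x => by
    rw [crd_comp, crd_mkPt]
    exact (SGA3cLib.fn_comp x (𝟙 D) g₁).symm.trans (by rw [Category.comp_id])
  have hrange : Set.range c.left ⊆ (U : Set (An k 1).left) := by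
    rintro _ ⟨x, rfl⟩
    show x ∈ c.left ⁻¹ᵁ U
    rw [show c.left ⁻¹ᵁ U = D.left.basicOpen (c.left.appTop t) from Scheme.preimage_basicOpen_top c.left t,
      show c.left.appTop t = SGA3cLib.fn (𝟙 D) g₁ from crd_mkPt (fun _ => SGA3cLib.fn (𝟙 D) g₁) 0,
      Scheme.basicOpen_of_isUnit _ (hgu.map _)]
    trivial
  obtain ⟨cW', hcW'⟩ : ∃ cW' : D.left ⟶ W.left, cW' ≫ U.ι = c.left :=
    ⟨IsOpenImmersion.lift U.ι c.left (by rw [Scheme.Opens.range_ι]; exact hrange), IsOpenImmersion.lift_fac _ _ _⟩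
  let cW : D ⟶ W := Over.homMk cW' (by
    show cW' ≫ U.ι ≫ (An k 1).hom = D.hom
    rw [← Category.assoc, hcW']
    exact Over.w c)
  have hcW : cW ≫ j = c := Over.OverMorphism.ext hcW'
  haveI : Mono j := Over.mono_of_mono_left j
  letI := SGA3cLib.algR₀ Γ(W.left, ⊤)
  let ev₀ : Multiplicative (Fin 1 → ℤ) →* Γ(W.left, ⊤) :=
    ((Units.coeHom _).comp (zpowersHom _ hu.unit)).comp
      (AddMonoidHom.toMultiplicative (Pi.evalAddMonoidHom (fun _ : Fin 1 => ℤ) 0))
  obtain ⟨d, hd⟩ := SGA3cLib.fn_surjective (S := Spec (CommRingCat.of k)) (A := L) (X := W)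
    (MonoidAlgebra.lift (ULift.{u} ℤ) _ _ ev₀).toRingHom
  have hdg : SGA3cLib.fn d g₁ = crd j 0 := by
    rw [hd]
    exact (MonoidAlgebra.lift_of (R := ULift.{u} ℤ) ev₀ _).trans (by simp [ev₀, zpowersHom_apply])
  have h1 : d ≫ cW = 𝟙 W := by
    rw [← cancel_mono j, Category.assoc, hcW, Category.id_comp]
    refine ext_crd fun i => ?_
    rw [Subsingleton.elim i 0, hc, hdg]
  have h2 : cW ≫ d = 𝟙 D := by
    refine SGA3cLib.fn_injective (MonoidAlgebra.ringHom_ext (fun r => ?_) fun m => ?_)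
    · exact DFunLike.congr_fun (SGA3cLib.r₀_hom_ext ((SGA3cLib.fn (cW ≫ d)).comp MonoidAlgebra.singleOneRingHom)
        ((SGA3cLib.fn (𝟙 D)).comp MonoidAlgebra.singleOneRingHom)) r
    · refine DFunLike.congr_fun (UnipStruct.multiplicative_ext_fin_one
        (f := (SGA3cLib.fn (cW ≫ d)).toMonoidHom.comp (MonoidAlgebra.of _ _))
        (g := (SGA3cLib.fn (𝟙 D)).toMonoidHom.comp (MonoidAlgebra.of _ _)) ?_) m
      show SGA3cLib.fn (cW ≫ d) g₁ = SGA3cLib.fn (𝟙 D) g₁
      rw [SGA3cLib.fn_comp, hdg, ← crd_comp, hcW]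
      exact crd_mkPt _ _
  haveI : IsOpenImmersion c.left := by
    rw [← hcW, Over.comp_left]
    haveI : IsIso cW := ⟨d, h2, h1⟩
    haveI : IsIso cW.left := inferInstanceAs (IsIso ((Over.forget _).map cW))
    haveI : IsOpenImmersion j.left := inferInstanceAs (IsOpenImmersion U.ι)
    infer_instance
  exact ⟨D, 𝟙 D, 1, c, inferInstanceAs (IsOpenImmersion (𝟙 _)), inferInstance,
    ⟨η[D].left (IsLocalRing.closedPoint k)⟩⟩

/-- An extension by a special rational group of a rational group is rational. -/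
theorem rat_of_extension {N G Q : Over (Spec (CommRingCat.of k))} [GrpObj N] [GrpObj G] [GrpObj Q]
    [QuasiCompact G.hom] [IsSeparated Q.hom]
    (i : N ⟶ G) [IsMonHom i] (q : G ⟶ Q) [IsMonHom q] [Flat q.left] [Surjective q.left]
    (hker : AlgGrp.IsKernel i q) (hNs : SpecialExtension.Special N) (hN : Rat N) (hQ : Rat Q) : Rat G := by
  haveI : Mono i := AlgGrpLib.kernel_mono hker
  haveI : QuasiCompact q.left := by
    haveI : QuasiCompact (q.left ≫ Q.hom) := by rw [Over.w]; infer_instance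
    exact QuasiCompact.of_comp q.left Q.hom
  have hiq : i ≫ q = 1 := AlgGrpLib.kernel_comp hker
  let b : AlgGrp.Action N G :=
    { act := (i ▷ G) ≫ μ[G]
      one_act := by
        rw [← Category.assoc, ← comp_whiskerRight, IsMonHom.one_hom, MonObj.one_mul]
      mul_act := by
        have hm : (i ▷ G) ≫ μ[G] = (fst N G ≫ i) * snd N G := by
          rw [Hom.mul_def]
          congr 1
        rw [hm]
        simp only [MonObj.comp_mul, whiskerRight_fst_assoc, whiskerRight_snd, whiskerLeft_fst_assoc,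
          whiskerLeft_snd, associator_hom_fst_assoc, associator_hom_snd_fst_assoc]
        rw [MonObj.mul_eq_mul]
        simp only [MonObj.mul_comp, MonObj.comp_mul, Category.assoc, _root_.mul_assoc, associator_hom_fst_assoc,
          associator_hom_snd_fst_assoc, associator_hom_snd_snd] }
  have hact : ∀ {T : Over (Spec (CommRingCat.of k))} (h : T ⟶ N) (x : T ⟶ G), lift h x ≫ b.act = (h ≫ i) * x := by
    intro T h x
    show lift h x ≫ (i ▷ G) ≫ μ[G] = _
    rw [lift_whiskerRight_assoc, Hom.mul_def]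
  have hbact : b.act = (fst N G ≫ i) * snd N G := by
    rw [← hact, lift_fst_snd, Category.id_comp]
  have hcart : IsPullback b.act (snd N G) q q := by
    have hw : b.act ≫ q = snd N G ≫ q := by
      rw [hbact, MonObj.mul_comp, Category.assoc, hiq, MonObj.comp_one, _root_.one_mul]
    have hex : ∀ c : PullbackCone q q, ∃ v : c.pt ⟶ N, v ≫ i = c.fst * c.snd⁻¹ := fun c =>
      AlgGrpLib.exists_lift_kernel hker (by rw [MonObj.mul_comp, GrpObj.inv_comp, c.condition, mul_inv_cancel])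
    choose v hv using hex
    refine IsPullback.of_isLimit' ⟨hw⟩ (PullbackCone.IsLimit.mk _ (fun c => lift (v c) c.snd) (fun c => ?_)
      (fun c => lift_snd _ _) fun c m h1 h2 => ?_)
    · rw [hact, hv, inv_mul_cancel_right]
    · apply CartesianMonoidalCategory.hom_ext
      · rw [lift_fst, ← cancel_mono i, hv, Category.assoc]
        rw [← h1, ← h2, hbact, MonObj.comp_mul, mul_inv_cancel_right]
      · rw [lift_snd, h2]
  have hloc : NonAbH1.IsLocallyTrivialFor Scheme.fpqcPrecoverage (Over.mk q.left : Over Q.left) := by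
    refine ⟨_, q.left.singleton_mem_fpqcPrecoverage, fun S' f' hf' => ?_⟩
    cases hf'
    exact ⟨𝟙 _, Category.id_comp _⟩
  obtain ⟨R, hR, hsec⟩ := hNs G Q b q hcart hloc
  obtain ⟨I₀, Z₀, g₀, rfl⟩ := R.exists_eq_ofArrows
  let 𝒰 : Scheme.Cover Scheme.zariskiPrecoverage Q.left := ⟨⟨I₀, Z₀, g₀⟩, hR⟩
  haveI : ∀ a, IsOpenImmersion (g₀ a) := fun a => 𝒰.map_prop a
  obtain ⟨WQ, aQ, m, bQ, haQ, hbQ, hWQ⟩ := hQ
  haveI := haQ; haveI := hbQ
  obtain ⟨w⟩ := hWQ
  obtain ⟨a, z, hz⟩ := 𝒰.exists_eq (aQ.left w)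
  obtain ⟨σ, hσ⟩ := hsec (g₀ a) ⟨a⟩
  have hσ' : σ ≫ q.left = g₀ a := hσ
  let P₀ := pullback aQ.left (g₀ a)
  let W : Over (Spec (CommRingCat.of k)) := Over.mk (pullback.fst aQ.left (g₀ a) ≫ WQ.hom)
  let p : W ⟶ WQ := Over.homMk (pullback.fst aQ.left (g₀ a)) rfl
  let s : W ⟶ G := Over.homMk (pullback.snd aQ.left (g₀ a) ≫ σ) (by
    show (pullback.snd aQ.left (g₀ a) ≫ σ) ≫ G.hom = pullback.fst aQ.left (g₀ a) ≫ WQ.hom
    rw [← Over.w q, ← Over.w aQ, Category.assoc, reassoc_of% hσ', ← pullback.condition_assoc])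
  have hs : s ≫ q = p ≫ aQ := Over.OverMorphism.ext (by
    show (pullback.snd aQ.left (g₀ a) ≫ σ) ≫ q.left = pullback.fst aQ.left (g₀ a) ≫ aQ.left
    rw [Category.assoc, hσ', pullback.condition])
  haveI : IsOpenImmersion p.left := inferInstanceAs (IsOpenImmersion (pullback.fst aQ.left (g₀ a)))
  haveI : IsOpenImmersion (p ≫ aQ).left := inferInstanceAs (IsOpenImmersion (p.left ≫ aQ.left))
  haveI : Nonempty W.left := by
    obtain ⟨y, hy, -⟩ := Scheme.Pullback.exists_preimage_pullback (f := aQ.left) (g := g₀ a) w z hz.symm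
    exact ⟨y⟩
  let Φ : N ⊗ W ⟶ G := lift (fst N W) (snd N W ≫ s) ≫ b.act
  have hΦ : ∀ {T : Over (Spec (CommRingCat.of k))} (x : T ⟶ N ⊗ W),
      x ≫ Φ = (x ≫ fst N W ≫ i) * (x ≫ snd N W ≫ s) := fun x => by
    simp only [Φ, ← Category.assoc, comp_lift]
    rw [hact]
  have hsq : IsPullback Φ (snd N W) q (p ≫ aQ) := by
    have hw : Φ ≫ q = snd N W ≫ p ≫ aQ := by
      rw [← Category.id_comp Φ, hΦ, MonObj.mul_comp]
      simp [hiq, hs]
    have hex : ∀ c : PullbackCone q (p ≫ aQ), ∃ v : c.pt ⟶ N, v ≫ i = c.fst * (c.snd ≫ s)⁻¹ := fun c =>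
      AlgGrpLib.exists_lift_kernel hker (by
        rw [MonObj.mul_comp, GrpObj.inv_comp, Category.assoc, hs, c.condition, mul_inv_cancel])
    choose v hv using hex
    refine IsPullback.of_isLimit' ⟨hw⟩ (PullbackCone.IsLimit.mk _ (fun c => lift (v c) c.snd) (fun c => ?_)
      (fun c => lift_snd _ _) fun c x h1 h2 => ?_)
    · rw [hΦ, lift_fst_assoc, lift_snd_assoc, hv, inv_mul_cancel_right]
    · apply CartesianMonoidalCategory.hom_ext
      · rw [lift_fst, ← cancel_mono i, hv, ← h1, ← h2, hΦ, Category.assoc, Category.assoc, mul_inv_cancel_right]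
      · rw [lift_snd, h2]
  haveI : IsOpenImmersion Φ.left :=
    MorphismProperty.of_isPullback (P := @IsOpenImmersion) (hsq.map (Over.forget _)).flip ‹IsOpenImmersion (p ≫ aQ).left›
  refine rat_of_open Φ (rat_tensor hN ⟨W, 𝟙 W, m, p ≫ bQ, inferInstanceAs (IsOpenImmersion (𝟙 _)), ?_, inferInstance⟩)
  exact inferInstanceAs (IsOpenImmersion (p.left ≫ bQ.left))

variable [IsAlgClosed k]

theorem rat_comm (L : Over (Spec (CommRingCat.of k))) [GrpObj L] [IsCommMonObj L] [Smooth L.hom]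
    [ConnectedSpace L.left] [IsAffine L.left] : Rat L :=
  (LinearInduction.induction (P := fun G _ => SpecialExtension.Special G ∧ Rat G)
    (fun G G' _ _ e _ _ h => ⟨SolvableSpecial.special_of_iso G G' e h.1, rat_of_iso (asIso e) h.2⟩)
    (fun G _ h => ⟨SolvableSpecial.special_trivial G h, rat_trivial G h⟩)
    (fun N G Q _ _ _ _ _ _ _ _ i _ _ q _ _ _ hk hN hQ => ⟨SpecialExtension.special_of_extension i q hk hN.1 hQ.1,
      rat_of_extension i q hk hN.1 hN.2 hQ.2⟩)
    ⟨SolvableSpecial.special_torusOne, rat_torusOne⟩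
    (fun G _ n s h1 h2 h3 => ⟨RelPoints.special_add G n s h1 h2 h3, rat_add G n s h2 h3⟩) L).2

end Groth.Agent.AlgGrpLib.RatVar
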