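import Groth.Prelude.Def_NonAbH2
import Groth.Agent.AlgGrpLib.AssociatedBundle
import Groth.Agent.UnipStruct.Step
import Groth.Agent.Desc19b.CoverLocal
import Groth.Agent.S18975
import Groth.Agent.Stk19b.Quot.Basic
import Groth.Agent.AlgGrpLib.SubgroupCalc

/-!
An extension of special groups is special.
-/

set_option autoImplicit false
set_option backward.isDefEq.respectTransparency.types false

universe u

open CategoryTheory CategoryTheory.Limits MonoidalCategory CartesianMonoidalCategory MonObj GrpObj AlgebraicGeometry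

namespace Groth.Agent.AlgGrpLib.SpecialExtension

variable {k : Type u} [Field k]

/-- Speciality: fpqc torsors are Zariski locally trivial. -/
def Special (H : Over (Spec (CommRingCat.of k))) [GrpObj H] : Prop :=
  ∀ (X Y : Over (Spec (CommRingCat.of k))) (b : AlgGrp.Action H X) (ψ : X ⟶ Y),
      IsPullback b.act (snd H X) ψ ψ →
      NonAbH1.IsLocallyTrivialFor Scheme.fpqcPrecoverage (Over.mk ψ.left : Over Y.left) →
      NonAbH1.IsLocallyTrivialFor Scheme.zariskiPrecoverage (Over.mk ψ.left : Over Y.left)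

variable {G N Q X Y : Over (Spec (CommRingCat.of k))} [GrpObj G] [GrpObj N] [GrpObj Q]

theorem existsUnique_act (a : AlgGrp.Action G X) (φ : X ⟶ Y) (h : IsPullback a.act (snd G X) φ φ)
    {T : Over (Spec (CommRingCat.of k))} (x x' : T ⟶ X) (e : x' ≫ φ = x ≫ φ) :
    ∃! g : T ⟶ G, lift g x ≫ a.act = x' := by
  refine ⟨h.lift x' x e ≫ fst G X, ?_, fun g hg => ?_⟩
  · have h1 : lift (h.lift x' x e ≫ fst G X) x = h.lift x' x e := by
      apply CartesianMonoidalCategory.hom_ext
      · rw [lift_fst]
      · rw [lift_snd, h.lift_snd]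
    beta_reduce
    rw [h1, h.lift_fst]
  · have h1 : lift g x = h.lift x' x e := h.hom_ext (by rw [hg, h.lift_fst]) (by rw [lift_snd, h.lift_snd])
    rw [← h1, lift_fst]

theorem act_one (a : AlgGrp.Action G X) {T : Over (Spec (CommRingCat.of k))} (x : T ⟶ X) :
    lift (1 : T ⟶ G) x ≫ a.act = x := by
  simp only [Hom.one_def]
  calc lift (toUnit T ≫ η[G]) x ≫ a.act
      = (lift (toUnit T) x ≫ η[G] ▷ X) ≫ a.act := by simp
    _ = lift (toUnit T) x ≫ (λ_ X).hom := by rw [Category.assoc, a.one_act]
    _ = x := by simp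

theorem act_mul (a : AlgGrp.Action G X) {T : Over (Spec (CommRingCat.of k))} (g h : T ⟶ G) (x : T ⟶ X) :
    lift (g * h) x ≫ a.act = lift g (lift h x ≫ a.act) ≫ a.act := by
  have e := lift (lift g h) x ≫= a.mul_act
  simpa [Hom.mul_def] using e

/-- An extension of special affine groups is special. -/
theorem special_of_extension [IsAffine G.left] [LocallyOfFiniteType G.hom] [IsAffine Q.left]
    (iN : N ⟶ G) [IsMonHom iN] (q : G ⟶ Q) [IsMonHom q] [Flat q.left] [Surjective q.left]
    (hker : AlgGrp.IsKernel iN q) (hN : Special N) (hQ : Special Q) : Special G := by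
  intro X Y a φ hcart hloc
  have hsq : IsPullback a.act.left (snd G X).left φ.left φ.left := (Over.forget _).map_isPullback hcart
  haveI : IsAffineHom q.left := inferInstance
  -- properties of the torsor
  obtain ⟨R₀, hR₀, hsec₀⟩ := id hloc
  obtain ⟨I₀, Z₀, g₀, rfl⟩ := R₀.exists_eq_ofArrows
  let 𝒰 : Scheme.Cover Scheme.fpqcPrecoverage Y.left := ⟨⟨I₀, Z₀, g₀⟩, hR₀⟩
  have desc : ∀ (P : MorphismProperty Scheme.{u}) [P.IsStableUnderBaseChange] [P.RespectsIso] [IsZariskiLocalAtTarget P],
      P.DescendsAlong (@Surjective ⊓ @Flat ⊓ @QuasiCompact : MorphismProperty Scheme.{u}) → P (snd G X).left → P φ.left := by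
    intro P _ _ _ hP hsnd
    refine Groth.Agent.Desc19b.of_fpqcCover P hP φ.left 𝒰 fun i => ?_
    obtain ⟨σ, hσ⟩ := hsec₀ (g₀ i) ⟨i⟩
    have h := (IsPullback.of_hasPullback (snd G X).left σ).paste_horiz hsq
    have hσ' : σ ≫ φ.left = g₀ i := hσ
    rw [hσ'] at h
    change P (Limits.pullback.snd φ.left (g₀ i))
    rw [← h.isoPullback_inv_snd, MorphismProperty.cancel_left_of_respectsIso P]
    exact MorphismProperty.pullback_snd _ _ hsnd
  haveI : IsAffineHom G.hom := inferInstance
  haveI : Surjective G.hom := ⟨fun x => ⟨η[G].left.base x, congrArg (fun t => t.base x) (Over.w η[G])⟩⟩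
  haveI : IsAffineHom φ.left := desc @IsAffineHom Groth.Agent.Et18.descends_isAffineHom
    (MorphismProperty.pullback_snd (P := @IsAffineHom) G.hom X.hom inferInstance)
  haveI : Flat φ.left := desc @Flat Groth.Agent.AlgSpLib.descends_flat
    (MorphismProperty.pullback_snd (P := @Flat) G.hom X.hom (inferInstance : Flat G.hom))
  haveI : Surjective φ.left := desc @Surjective inferInstance
    (MorphismProperty.pullback_snd (P := @Surjective) G.hom X.hom inferInstance)
  let b : AlgGrp.Action G Q :=
    { act := (fst G Q ≫ q) * snd G Q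
      one_act := by
        rw [MonObj.comp_mul, whiskerRight_snd, whiskerRight_fst_assoc, MonObj.one_eq_one, MonObj.one_comp,
          MonObj.comp_one, _root_.one_mul, leftUnitor_hom]
      mul_act := by
        have h : μ[G] = fst G G * snd G G := by rw [Hom.mul_def, lift_fst_snd, Category.id_comp]
        simp only [MonObj.comp_mul, whiskerRight_snd, whiskerRight_fst_assoc, whiskerLeft_snd, whiskerLeft_fst_assoc,
          associator_hom_fst_assoc, associator_hom_snd_fst_assoc, associator_hom_snd_snd, Category.assoc, h,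
          MonObj.mul_comp, _root_.mul_assoc] }
  have hb : ∀ {T : Over (Spec (CommRingCat.of k))} (g : T ⟶ G) (y : T ⟶ Q), lift g y ≫ b.act = (g ≫ q) * y :=
    fun {T} g y => by
      show lift g y ≫ ((fst G Q ≫ q) * snd G Q) = _
      rw [MonObj.comp_mul, lift_fst_assoc, lift_snd]
  obtain ⟨W, π, r, hinv, hp, -⟩ := Groth.Agent.AlgGrpLib.AssociatedBundle.exists_bundle a φ hsq b
  have hP := Groth.Agent.AlgGrpLib.AssociatedBundle.isPullback_prod a φ hsq b π r hinv hp
  have hπr : π ≫ r = fst X Q ≫ φ := Over.OverMorphism.ext hp.w.symm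
  have hpO : IsPullback (fst X Q) π φ r := IsPullback.of_map (Over.forget _) hπr.symm hp
  haveI : Flat π.left := MorphismProperty.of_isPullback (P := @Flat) hp inferInstance
  haveI : Surjective π.left := MorphismProperty.of_isPullback (P := @Surjective) hp inferInstance
  haveI : IsAffineHom π.left := MorphismProperty.of_isPullback (P := @IsAffineHom) hp inferInstance
  have hepi : ∀ Z : Over (Spec (CommRingCat.of k)), Flat (Z ◁ π).left ∧ Surjective (Z ◁ π).left ∧ QuasiCompact (Z ◁ π).left ∧ Epi (Z ◁ π) :=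
    fun Z => by
      have hw : IsPullback (Z ◁ π).left (snd Z (X ⊗ Q)).left (snd Z W).left π.left := by
        refine IsPullback.of_right (h₁₂ := (fst Z W).left) (h₂₂ := W.hom) (v₁₃ := Z.hom) ?_ ?_
          (IsPullback.of_hasPullback Z.hom W.hom)
        · rw [← Over.comp_left, whiskerLeft_fst, Over.w π]
          exact IsPullback.of_hasPullback Z.hom (X ⊗ Q).hom
        · rw [← Over.comp_left, ← Over.comp_left, whiskerLeft_snd]
      haveI h1 : Flat (Z ◁ π).left := MorphismProperty.of_isPullback (P := @Flat) hw.flip inferInstance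
      haveI h2 : Surjective (Z ◁ π).left := MorphismProperty.of_isPullback (P := @Surjective) hw.flip inferInstance
      haveI h3 : QuasiCompact (Z ◁ π).left := MorphismProperty.of_isPullback (P := @QuasiCompact) hw.flip inferInstance
      haveI : Epi (Z ◁ π).left := Flat.epi_of_flat_of_surjective _
      exact ⟨h1, h2, h3, Over.epi_of_epi_left _⟩
  have hπeq : ∀ {T : Over (Spec (CommRingCat.of k))} (g : T ⟶ G) (x : T ⟶ X) (y : T ⟶ Q),
      lift x y ≫ π = lift (lift g x ≫ a.act) ((g ≫ q) * y) ≫ π := fun {T} g x y => by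
    have h := congrArg (lift g (lift x y) ≫ ·) hinv
    simp only [← Category.assoc, AssociatedBundle.prod_act_pts, lift_fst, lift_snd, hb] at h
    exact h.symm
  -- the action of `Q` on the bundle
  let c₀ : Q ⊗ (X ⊗ Q) ⟶ W :=
    lift (snd Q (X ⊗ Q) ≫ fst X Q) ((snd Q (X ⊗ Q) ≫ snd X Q) * (fst Q (X ⊗ Q))⁻¹) ≫ π
  haveI := (hepi Q).1
  haveI := (hepi Q).2.1
  haveI := (hepi Q).2.2.1
  obtain ⟨c, hc⟩ := UnipStruct.exists_desc (Q ◁ π) c₀ fun T p p' h => by
    have h1 : p ≫ fst Q (X ⊗ Q) = p' ≫ fst Q (X ⊗ Q) := by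
      simpa using congrArg (· ≫ fst Q W) h
    have h2 : (p' ≫ snd Q (X ⊗ Q)) ≫ π = (p ≫ snd Q (X ⊗ Q)) ≫ π := by
      simpa using (congrArg (· ≫ snd Q W) h).symm
    obtain ⟨g, hg, -⟩ := existsUnique_act (a.prod b) π hP _ _ h2
    simp only [AssociatedBundle.prod_act_pts, Category.assoc] at hg
    have hg1 := congrArg (· ≫ fst X Q) hg
    have hg2 := congrArg (· ≫ snd X Q) hg
    simp only [lift_fst, lift_snd, hb, Category.assoc] at hg1 hg2
    simp only [c₀, ← Category.assoc, comp_lift, MonObj.comp_mul, GrpObj.comp_inv]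
    simp only [Category.assoc]
    rw [hπeq g, ← h1, ← hg1, ← hg2, _root_.mul_assoc]
  have hc' : ∀ {T : Over (Spec (CommRingCat.of k))} (y : T ⟶ Q) (x : T ⟶ X) (y' : T ⟶ Q),
      lift y (lift x y' ≫ π) ≫ c = lift x (y' * y⁻¹) ≫ π := fun {T} y x y' => by
    have h := congrArg (lift y (lift x y') ≫ ·) hc
    simp only [c₀, ← Category.assoc, comp_lift, MonObj.comp_mul, GrpObj.comp_inv, lift_fst, lift_snd,
      lift_whiskerLeft] at h
    exact h
  let cA : AlgGrp.Action Q W :=
    { act := c
      one_act := by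
        haveI := (hepi (𝟙_ (Over (Spec (CommRingCat.of k))))).2.2.2
        rw [← cancel_epi ((𝟙_ (Over (Spec (CommRingCat.of k)))) ◁ π)]
        have h := hc' (fst (𝟙_ (Over (Spec (CommRingCat.of k)))) (X ⊗ Q) ≫ η[Q]) (snd _ (X ⊗ Q) ≫ fst X Q)
          (snd _ (X ⊗ Q) ≫ snd X Q)
        rw [← comp_lift (snd _ (X ⊗ Q)), lift_fst_snd, Category.comp_id] at h
        rw [← Category.assoc, show ((𝟙_ (Over (Spec (CommRingCat.of k)))) ◁ π) ≫ η[Q] ▷ W =
          lift (fst _ _ ≫ η[Q]) (snd _ _ ≫ π) by
            apply CartesianMonoidalCategory.hom_ext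
            · rw [lift_fst, Category.assoc, whiskerRight_fst, whiskerLeft_fst_assoc]
            · rw [lift_snd, Category.assoc, whiskerRight_snd, whiskerLeft_snd], h,
          MonObj.one_eq_one, MonObj.comp_one, inv_one, _root_.mul_one, ← comp_lift, lift_fst_snd, Category.comp_id]
        simp [leftUnitor_hom]
      mul_act := by
        haveI := (hepi (Q ⊗ Q)).2.2.2
        rw [← cancel_epi ((Q ⊗ Q) ◁ π)]
        let y₁ := fst (Q ⊗ Q) (X ⊗ Q) ≫ fst Q Q
        let y₂ := fst (Q ⊗ Q) (X ⊗ Q) ≫ snd Q Q
        let x := snd (Q ⊗ Q) (X ⊗ Q) ≫ fst X Q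
        let y := snd (Q ⊗ Q) (X ⊗ Q) ≫ snd X Q
        have e1 : ((Q ⊗ Q) ◁ π) ≫ μ[Q] ▷ W ≫ c = lift (y₁ * y₂) (lift x y ≫ π) ≫ c := by
          rw [← Category.assoc]; congr 1
          have h : μ[Q] = fst Q Q * snd Q Q := by rw [Hom.mul_def, lift_fst_snd, Category.id_comp]
          apply CartesianMonoidalCategory.hom_ext <;> simp [x, y, y₁, y₂, h, MonObj.comp_mul, ← comp_lift_assoc]
        have e2 : ((Q ⊗ Q) ◁ π) ≫ (α_ Q Q W).hom ≫ Q ◁ c ≫ c = lift y₁ (lift y₂ (lift x y ≫ π) ≫ c) ≫ c := by
          rw [← Category.assoc, ← Category.assoc]; congr 1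
          have hb2 : lift y₂ (lift x y ≫ π) = ((Q ⊗ Q) ◁ π) ≫ (α_ Q Q W).hom ≫ snd Q (Q ⊗ W) := by
            apply CartesianMonoidalCategory.hom_ext <;> simp [x, y, y₁, y₂, ← comp_lift_assoc]
          apply CartesianMonoidalCategory.hom_ext
          · simp [y₁]
          · rw [lift_snd, hb2]; simp
        rw [e1, e2, hc', hc', hc', _root_.mul_inv_rev, _root_.mul_assoc] }
  have hcr : c ≫ r = snd Q W ≫ r := by
    haveI := (hepi Q).2.2.2
    rw [← cancel_epi (Q ◁ π), ← Category.assoc, hc]
    simp only [c₀, Category.assoc, hπr, lift_fst_assoc, whiskerLeft_snd_assoc]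
  -- points of the bundle after a cover
  have hcov : ∀ {T : Over (Spec (CommRingCat.of k))} (w : T ⟶ W), ∃ (T' : Over (Spec (CommRingCat.of k))) (t : T' ⟶ T)
      (_ : Flat t.left) (_ : Surjective t.left) (_ : QuasiCompact t.left) (_ : Epi t) (x : T' ⟶ X), x ≫ φ = t ≫ w ≫ r :=
    fun {T} w => by
      have hh := (IsPullback.of_hasPullback (w ≫ r) φ).map (Over.forget (Spec (CommRingCat.of k)))
      haveI h1 : Flat (pullback.fst (w ≫ r) φ).left := MorphismProperty.of_isPullback hh.flip ‹Flat φ.left›
      haveI h2 : Surjective (pullback.fst (w ≫ r) φ).left := MorphismProperty.of_isPullback hh.flip ‹Surjective φ.left›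
      haveI h3 : QuasiCompact (pullback.fst (w ≫ r) φ).left :=
        MorphismProperty.of_isPullback hh.flip (inferInstance : QuasiCompact φ.left)
      haveI : Epi (pullback.fst (w ≫ r) φ).left := Flat.epi_of_flat_of_surjective _
      exact ⟨_, pullback.fst (w ≫ r) φ, h1, h2, h3, Over.epi_of_epi_left _, pullback.snd (w ≫ r) φ,
        pullback.condition.symm⟩
  have hinj : ∀ {T : Over (Spec (CommRingCat.of k))} (x : T ⟶ X) (y y' : T ⟶ Q), lift x y ≫ π = lift x y' ≫ π → y = y' :=
    fun {T} x y y' h => by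
      obtain ⟨g, hg, -⟩ := existsUnique_act (a.prod b) π hP _ _ h
      simp only [AssociatedBundle.prod_act_pts, lift_fst, lift_snd, hb] at hg
      have hg1 := congrArg (· ≫ fst X Q) hg
      have hg2 := congrArg (· ≫ snd X Q) hg
      simp only [lift_fst, lift_snd] at hg1 hg2
      have : g = 1 := (existsUnique_act a φ hcart x x rfl).unique hg1 (act_one a x)
      rw [← hg2, this, MonObj.one_comp, _root_.one_mul]
  have huniq : ∀ {T : Over (Spec (CommRingCat.of k))} (g g' : T ⟶ Q) (w : T ⟶ W),
      lift g w ≫ c = lift g' w ≫ c → g = g' := fun {T} g g' w h => by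
    obtain ⟨T', t, -, -, -, hte, x, hx⟩ := hcov w
    haveI := hte
    let p := hpO.lift x (t ≫ w) (by rw [hx, Category.assoc])
    have hp1 : p ≫ fst X Q = x := hpO.lift_fst _ _ _
    have hp2 : lift x (p ≫ snd X Q) ≫ π = t ≫ w := by
      rw [← hp1, ← comp_lift, lift_fst_snd, Category.comp_id]; exact hpO.lift_snd _ _ _
    have h1 := congrArg (t ≫ ·) h
    simp only [← Category.assoc, comp_lift] at h1
    rw [← hp2, hc', hc'] at h1
    rw [← cancel_epi t]
    exact inv_injective (mul_left_cancel (hinj _ _ _ h1))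
  have hWt : IsPullback cA.act (snd Q W) r r := by
    refine Groth.Agent.Stk19b.Quot.isPullback_of_existsUnique cA r hcr fun {T} w w' hww => ?_
    obtain ⟨T', t, ht1, ht2, ht3, hte, x, hx⟩ := hcov w
    haveI := ht1
    haveI := ht2
    haveI := ht3
    haveI := hte
    let p := hpO.lift x (t ≫ w) (by rw [hx, Category.assoc])
    let p' := hpO.lift x (t ≫ w') (by rw [hx, Category.assoc, hww])
    have hp1 : p ≫ fst X Q = x := hpO.lift_fst _ _ _
    have hp1' : p' ≫ fst X Q = x := hpO.lift_fst _ _ _
    have hp2 : lift x (p ≫ snd X Q) ≫ π = t ≫ w := by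
      rw [← hp1, ← comp_lift, lift_fst_snd, Category.comp_id]; exact hpO.lift_snd _ _ _
    have hp2' : lift x (p' ≫ snd X Q) ≫ π = t ≫ w' := by
      rw [← hp1', ← comp_lift, lift_fst_snd, Category.comp_id]; exact hpO.lift_snd _ _ _
    let g' := (p' ≫ snd X Q)⁻¹ * (p ≫ snd X Q)
    have hg' : lift g' (t ≫ w) ≫ c = t ≫ w' := by
      rw [← hp2, hc', _root_.mul_inv_rev, _root_.inv_inv, mul_inv_cancel_left, hp2']
    obtain ⟨g, hg⟩ := UnipStruct.exists_desc t g' fun U u u' e => by
      refine huniq _ _ (u ≫ t ≫ w) ?_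
      have h1 := congrArg (u ≫ ·) hg'
      have h2 := congrArg (u' ≫ ·) hg'
      simp only [← Category.assoc, comp_lift] at h1 h2 ⊢
      rw [← e] at h2
      exact h1.trans h2.symm
    refine ⟨g, ?_, fun g₂ hg₂ => huniq g₂ g w (hg₂.trans ?_)⟩
    · show lift g w ≫ c = w'
      rw [← cancel_epi t, ← Category.assoc, comp_lift, hg, hg']
    · rw [← cancel_epi t, ← Category.assoc, comp_lift, hg, hg']
  let j : X ⟶ W := lift (𝟙 X) 1 ≫ π
  have hjr : j ≫ r = φ := by rw [Category.assoc, hπr, lift_fst_assoc, Category.id_comp]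
  -- the section of the bundle makes it fpqc locally trivial
  have hWloc : NonAbH1.IsLocallyTrivialFor Scheme.fpqcPrecoverage (Over.mk r.left : Over Y.left) := by
    obtain ⟨R, hR, hsec⟩ := hloc
    refine ⟨R, hR, fun S' f hf => ?_⟩
    obtain ⟨σ, hσ⟩ := hsec f hf
    refine ⟨σ ≫ j.left, ?_⟩
    show (σ ≫ j.left) ≫ r.left = f
    rw [Category.assoc, ← Over.comp_left, hjr]
    exact hσ
  obtain ⟨R, hR, hsec⟩ := hQ W Y cA r hWt hWloc
  -- the map to the bundle is a torsor under the kernel
  let m₀ : G ⊗ X ⟶ X ⊗ Q := lift a.act (fst G X ≫ q)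
  have hm₀ : IsPullback (fst G X) m₀ q (snd X Q) := by
    refine IsPullback.of_isLimit' ⟨by rw [lift_snd]⟩ (PullbackCone.IsLimit.mk _
      (fun s => lift s.fst (lift s.fst⁻¹ (s.snd ≫ fst X Q) ≫ a.act)) (fun s => lift_fst _ _) (fun s => ?_)
      (fun s m h1 h2 => ?_))
    · apply CartesianMonoidalCategory.hom_ext
      · rw [Category.assoc, lift_fst, ← act_mul, mul_inv_cancel, act_one]
      · rw [Category.assoc, lift_snd, lift_fst_assoc]; exact s.condition
    · have h3 := congrArg (· ≫ fst X Q) h2
      simp only [Category.assoc, m₀, lift_fst] at h3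
      apply CartesianMonoidalCategory.hom_ext
      · rw [lift_fst, h1]
      · rw [lift_snd, ← h3, ← h1]
        conv_rhs => rw [show m ≫ a.act = lift (m ≫ fst G X) (m ≫ snd G X) ≫ a.act by rw [← comp_lift, lift_fst_snd, Category.comp_id]]
        rw [← act_mul, inv_mul_cancel, act_one]
  have hj : IsPullback (snd G X) m₀ j π := by
    have hw : snd G X ≫ j = m₀ ≫ π := by
      rw [← Category.assoc, comp_lift, Category.comp_id, MonObj.comp_one, hπeq (fst G X), _root_.mul_one, lift_fst_snd,
        Category.id_comp]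
    refine IsPullback.of_isLimit' ⟨hw⟩ (PullbackCone.IsLimit.mk _
      (fun s => lift (existsUnique_act (a.prod b) π hP (lift s.fst 1) s.snd
        (s.condition.symm.trans (by rw [← Category.assoc, comp_lift, Category.comp_id, MonObj.comp_one]))).exists.choose s.fst)
      (fun s => lift_snd _ _) (fun s => ?_) (fun s m h1 h2 => ?_))
    · have hg := (existsUnique_act (a.prod b) π hP (lift s.fst 1) s.snd
        (s.condition.symm.trans (by rw [← Category.assoc, comp_lift, Category.comp_id, MonObj.comp_one]))).exists.choose_spec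
      have hg' : ∀ g : s.pt ⟶ G, lift g (lift s.fst 1) ≫ (a.prod b).act = s.snd →
          lift (lift g s.fst ≫ a.act) (g ≫ q) = s.snd := fun g h => by
        simp only [AssociatedBundle.prod_act_pts, lift_fst, lift_snd, hb, _root_.mul_one] at h
        exact h
      rw [comp_lift, lift_fst_assoc]
      exact hg' _ hg
    · have hg := (existsUnique_act (a.prod b) π hP (lift s.fst 1) s.snd
        (s.condition.symm.trans (by rw [← Category.assoc, comp_lift, Category.comp_id, MonObj.comp_one])))
      apply CartesianMonoidalCategory.hom_ext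
      · rw [lift_fst]
        refine hg.unique ?_ hg.exists.choose_spec
        rw [AssociatedBundle.prod_act_pts, lift_fst, lift_snd, hb, _root_.mul_one, ← h2, comp_lift, Category.assoc]
        congr 1
        rw [← h1, ← comp_lift, lift_fst_snd, Category.comp_id]
      · rw [lift_snd, h1]
  have hm₀' := hm₀.map (Over.forget _)
  have hj' := hj.map (Over.forget _)
  have hπQ : (@Surjective ⊓ @Flat ⊓ @QuasiCompact : MorphismProperty Scheme.{u}) π.left :=
    ⟨⟨inferInstance, inferInstance⟩, inferInstance⟩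
  haveI := Groth.Agent.AlgSpLib.descends_flat.{u}
  haveI := Groth.Agent.Et18.descends_isAffineHom.{u}
  haveI : Flat j.left := MorphismProperty.of_isPullback_of_descendsAlong (P := @Flat) hj'.flip hπQ
    (MorphismProperty.of_isPullback (P := @Flat) hm₀' ‹Flat q.left›)
  haveI : Surjective j.left := MorphismProperty.of_isPullback_of_descendsAlong (P := @Surjective) hj'.flip hπQ
    (MorphismProperty.of_isPullback (P := @Surjective) hm₀' ‹Surjective q.left›)
  haveI : IsAffineHom j.left := MorphismProperty.of_isPullback_of_descendsAlong (P := @IsAffineHom) hj'.flip hπQ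
    (MorphismProperty.of_isPullback (P := @IsAffineHom) hm₀' ‹IsAffineHom q.left›)
  have hiq : iN ≫ q = 1 := kernel_comp hker
  haveI : Mono iN := kernel_mono hker
  -- local sections
  have hpt : ∀ y : Y.left, ∃ (V : Scheme.{u}) (f : V ⟶ Y.left), IsOpenImmersion f ∧ y ∈ Set.range f ∧
      ∃ s : V ⟶ X.left, s ≫ φ.left = f := by
    intro y
    obtain ⟨I, Z, g, rfl⟩ := R.exists_eq_ofArrows
    obtain ⟨hjs, hop⟩ := (Scheme.ofArrows_mem_precoverage_iff (P := @IsOpenImmersion)).1 hR
    obtain ⟨i, z, hz⟩ := hjs y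
    obtain ⟨s, hs⟩ := hsec (g i) ⟨i⟩
    haveI := hop i
    let V : Over (Spec (CommRingCat.of k)) := Over.mk (g i ≫ Y.hom)
    let s' : V ⟶ W := Over.homMk s (by
      show s ≫ W.hom = g i ≫ Y.hom
      rw [← Over.w r, ← Category.assoc]
      exact congrArg (· ≫ Y.hom) hs)
    let P := pullback j s'
    let aN : AlgGrp.Action N P :=
      { act := pullback.lift (lift (fst N P ≫ iN) (snd N P ≫ pullback.fst j s') ≫ a.act) (snd N P ≫ pullback.snd j s') (by
          rw [Category.assoc (snd N P), ← pullback.condition, ← Category.assoc (snd N P)]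
          simp only [j, ← Category.assoc, comp_lift, Category.comp_id, MonObj.comp_one]
          conv_rhs => rw [hπeq (fst N P ≫ iN)]
          simp only [Category.assoc, hiq, MonObj.comp_one, _root_.mul_one])
        one_act := by
          apply pullback.hom_ext
          · rw [Category.assoc, pullback.lift_fst, ← Category.assoc, comp_lift, whiskerRight_fst_assoc,
              whiskerRight_snd_assoc, IsMonHom.one_hom, MonObj.one_eq_one, MonObj.comp_one, act_one, leftUnitor_hom]
          · rw [Category.assoc, pullback.lift_snd, whiskerRight_snd_assoc, leftUnitor_hom]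
        mul_act := by
          have h : μ[N] = fst N N * snd N N := by rw [Hom.mul_def, lift_fst_snd, Category.id_comp]
          apply pullback.hom_ext
          · simp only [Category.assoc, pullback.lift_fst, comp_lift_assoc, whiskerRight_fst_assoc,
              whiskerRight_snd_assoc, whiskerLeft_fst_assoc, whiskerLeft_snd_assoc, associator_hom_fst_assoc,
              associator_hom_snd_fst_assoc, associator_hom_snd_snd_assoc, h, MonObj.mul_comp, MonObj.comp_mul, act_mul]
          · simp only [Category.assoc, pullback.lift_snd, whiskerRight_snd_assoc, whiskerLeft_snd_assoc,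
              associator_hom_snd_snd_assoc] }
    have haN : ∀ {T : Over (Spec (CommRingCat.of k))} (n : T ⟶ N) (p : T ⟶ P),
        (lift n p ≫ aN.act) ≫ pullback.fst j s' = lift (n ≫ iN) (p ≫ pullback.fst j s') ≫ a.act ∧
        (lift n p ≫ aN.act) ≫ pullback.snd j s' = p ≫ pullback.snd j s' := fun {T} n p => by
      constructor
      · show (lift n p ≫ pullback.lift _ _ _) ≫ _ = _
        rw [Category.assoc, pullback.lift_fst, comp_lift_assoc, lift_fst_assoc, lift_snd_assoc]
      · show (lift n p ≫ pullback.lift _ _ _) ≫ _ = _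
        rw [Category.assoc, pullback.lift_snd, lift_snd_assoc]
    have hPt : IsPullback aN.act (snd N P) (pullback.snd j s') (pullback.snd j s') := by
      refine Groth.Agent.Stk19b.Quot.isPullback_of_existsUnique aN _ ?_ fun {T} p p' hpp => ?_
      · rw [show aN.act = pullback.lift _ _ _ from rfl, pullback.lift_snd]
      have hj2 : (p' ≫ pullback.fst j s') ≫ j = (p ≫ pullback.fst j s') ≫ j := by
        rw [Category.assoc, Category.assoc, pullback.condition, ← Category.assoc, ← Category.assoc, hpp]
      simp only [j, ← Category.assoc, comp_lift, Category.comp_id, MonObj.comp_one] at hj2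
      obtain ⟨g, hg, hgu⟩ := existsUnique_act (a.prod b) π hP _ _ hj2
      simp only [AssociatedBundle.prod_act_pts, lift_fst, lift_snd, hb, _root_.mul_one] at hg
      have hg1 := congrArg (· ≫ fst X Q) hg
      have hg2 := congrArg (· ≫ snd X Q) hg
      simp only [lift_fst, lift_snd] at hg1 hg2
      obtain ⟨n, hn⟩ := exists_lift_kernel hker hg2
      refine ⟨n, ?_, fun n' hn' => ?_⟩
      · show lift n p ≫ aN.act = p'
        apply pullback.hom_ext
        · rw [(haN n p).1, hn, hg1]
        · rw [(haN n p).2, hpp]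
      · rw [← cancel_mono iN, hn]
        refine hgu _ ?_
        have h := (haN n' p).1
        rw [show lift n' p ≫ aN.act = p' from hn'] at h
        show lift (n' ≫ iN) _ ≫ (a.prod b).act = _
        rw [AssociatedBundle.prod_act_pts, lift_fst, lift_snd, hb, Category.assoc, hiq, MonObj.comp_one,
          _root_.mul_one, ← h]
    have hPl : IsPullback (pullback.fst j s').left (pullback.snd j s').left j.left s'.left :=
      (IsPullback.of_hasPullback j s').map (Over.forget _)
    haveI : Flat (pullback.snd j s').left := MorphismProperty.of_isPullback hPl ‹Flat j.left›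
    haveI : Surjective (pullback.snd j s').left := MorphismProperty.of_isPullback hPl ‹Surjective j.left›
    haveI : QuasiCompact (pullback.snd j s').left := MorphismProperty.of_isPullback hPl (inferInstance : QuasiCompact j.left)
    obtain ⟨R', hR', hsec'⟩ := hN P V aN (pullback.snd j s') hPt
      (AssociatedBundle.isLocallyTrivialFor_self (pullback.snd j s').left)
    obtain ⟨I', Z', g', rfl⟩ := R'.exists_eq_ofArrows
    obtain ⟨hjs', hop'⟩ := (Scheme.ofArrows_mem_precoverage_iff (P := @IsOpenImmersion)).1 hR'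
    obtain ⟨i', z', hz'⟩ := hjs' z
    obtain ⟨σ, hσ⟩ := hsec' (g' i') ⟨i'⟩
    haveI := hop' i'
    refine ⟨Z' i', g' i' ≫ g i, MorphismProperty.comp_mem @IsOpenImmersion _ _ (hop' i') (hop i),
      ⟨z', by rw [Scheme.Hom.comp_apply, hz', hz]⟩, σ ≫ (pullback.fst j s').left, ?_⟩
    have h1 : (pullback.fst j s').left ≫ φ.left = (pullback.snd j s').left ≫ s ≫ r.left := by
      rw [← hjr, Over.comp_left, ← Category.assoc, hPl.w, Category.assoc]; rfl
    rw [Category.assoc, h1, ← Category.assoc]
    exact congrArg₂ (· ≫ ·) hσ hs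
  choose V f hf hy s hs using hpt
  refine ⟨Presieve.ofArrows V f, (Scheme.ofArrows_mem_precoverage_iff (P := @IsOpenImmersion)).2
    ⟨fun y => ⟨y, hy y⟩, hf⟩, ?_⟩
  rintro S' g ⟨y⟩
  exact ⟨s y, hs y⟩

end Groth.Agent.AlgGrpLib.SpecialExtension
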