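import Groth.Agent.CAlgH3.FpqcTorsorLocal
import Groth.Agent.AlgGrpLib.SpecialExtension

/-!
Relative points of a torsor over an arbitrary base under a group over a field, and descent of a coboundary.
The multiplicative group and groups with additive coordinates are special.
-/

set_option autoImplicit false
set_option backward.isDefEq.respectTransparency false
set_option backward.isDefEq.respectTransparency.types false
set_option synthInstance.maxHeartbeats 400000
set_option maxHeartbeats 1000000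

universe u

open CategoryTheory CategoryTheory.Limits AlgebraicGeometry MonoidalCategory CartesianMonoidalCategory MonObj
open TensorProduct
open Groth.Agent.CommAlg4.WittDescMat Groth.Agent.SGA3cLib Groth.Agent.CAlgH3.FpqcTorsorLocal
open Groth.Agent.AlgGrpLib.SpecialExtension (Special existsUnique_act act_one act_mul)

namespace Groth.Agent.AlgGrpLib.RelPoints

variable {k : Type u} [Field k] {G X Y : Over (Spec (CommRingCat.of k))} [GrpObj G]
  (a : AlgGrp.Action G X) (φ : X ⟶ Y) (hcart : IsPullback a.act (snd G X) φ φ)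

/-- A scheme over the base of a torsor as a scheme over the field. -/
noncomputable def toK (T : Over Y.left) : Over (Spec (CommRingCat.of k)) := Over.mk (T.hom ≫ Y.hom)

/-- A map over the base as a map over the field. -/
noncomputable def toKm {T T' : Over Y.left} (f : T' ⟶ T) : toK T' ⟶ toK T :=
  Over.homMk f.left (by
    show f.left ≫ T.hom ≫ Y.hom = T'.hom ≫ Y.hom
    rw [Over.w_assoc])

/-- The underlying point of a relative point. -/
noncomputable def pt {T : Over Y.left} (x : T ⟶ Over.mk φ.left) : toK T ⟶ X :=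
  Over.homMk x.left (by
    show x.left ≫ X.hom = T.hom ≫ Y.hom
    rw [← Over.w x, ← Over.w φ, Category.assoc]; rfl)

include hcart in
theorem act_w {T : Over Y.left} (g : toK T ⟶ G) (x : T ⟶ Over.mk φ.left) :
    (lift g (pt φ x) ≫ a.act).left ≫ φ.left = T.hom := by
  rw [← Over.comp_left, Category.assoc, hcart.w, lift_snd_assoc, Over.comp_left]
  exact Over.w x

/-- Translation of a relative point. -/
noncomputable def act {T : Over Y.left} (g : toK T ⟶ G) (x : T ⟶ Over.mk φ.left) : T ⟶ Over.mk φ.left :=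
  Over.homMk (lift g (pt φ x) ≫ a.act).left (act_w a φ hcart g x)

theorem pt_act {T : Over Y.left} (g : toK T ⟶ G) (x : T ⟶ Over.mk φ.left) :
    pt φ (act a φ hcart g x) = lift g (pt φ x) ≫ a.act :=
  Over.OverMorphism.ext rfl

theorem pt_injective {T : Over Y.left} {x y : T ⟶ Over.mk φ.left} (h : pt φ x = pt φ y) : x = y :=
  Over.OverMorphism.ext (congrArg (fun m : toK T ⟶ X => m.left) h)

theorem pt_comp {T T' : Over Y.left} (f : T' ⟶ T) (x : T ⟶ Over.mk φ.left) : pt φ (f ≫ x) = toKm f ≫ pt φ x :=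
  Over.OverMorphism.ext rfl

theorem comp_act {T T' : Over Y.left} (f : T' ⟶ T) (g : toK T ⟶ G) (x : T ⟶ Over.mk φ.left) :
    f ≫ act a φ hcart g x = act a φ hcart (toKm f ≫ g) (f ≫ x) :=
  pt_injective φ (by rw [pt_comp, pt_act, pt_act, pt_comp, ← Category.assoc, comp_lift])

theorem act_act {T : Over Y.left} (g h : toK T ⟶ G) (x : T ⟶ Over.mk φ.left) :
    act a φ hcart (g * h) x = act a φ hcart g (act a φ hcart h x) :=
  pt_injective φ (by rw [pt_act, pt_act, pt_act, act_mul])

theorem existsUnique {T : Over Y.left} (x x' : T ⟶ Over.mk φ.left) :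
    ∃! g : toK T ⟶ G, act a φ hcart g x = x' := by
  have hw : pt φ x' ≫ φ = pt φ x ≫ φ :=
    Over.OverMorphism.ext ((Over.w x').trans (Over.w x).symm)
  obtain ⟨g, hg, hu⟩ := existsUnique_act a φ hcart (pt φ x) (pt φ x') hw
  exact ⟨g, pt_injective φ ((pt_act a φ hcart g x).trans hg),
    fun g' hg' => hu g' (by rw [← hg', pt_act])⟩

theorem toKm_comp {T T' T'' : Over Y.left} (f : T'' ⟶ T') (f' : T' ⟶ T) : toKm (f ≫ f') = toKm f ≫ toKm f' :=
  Over.OverMorphism.ext rfl

section Cocycle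

variable {A : Type u} [CommRing A] (j : Spec (CommRingCat.of A) ⟶ Y.left) (B : Type u) [CommRing B] [Algebra A B]

/-- An fpqc torsor has a point on a faithfully flat algebra over an affine open. -/
theorem exists_algebra_point [IsOpenImmersion j]
    (hloc : NonAbH1.IsLocallyTrivialFor Scheme.fpqcPrecoverage (Over.mk φ.left : Over Y.left)) :
    ∃ (B : Type u) (_ : CommRing B) (_ : Algebra A B), Module.FaithfullyFlat A B ∧ Nonempty (Tm j B ⟶ Over.mk φ.left) := by
  obtain ⟨P, hP, hsec⟩ := hloc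
  obtain ⟨𝒰, h𝒰⟩ := NonAbLib.exists_cover hP
  have h1 := 𝒰.mem₀
  haveI : QuasiCompactCover 𝒰.toPreZeroHypercover := Scheme.presieve₀_mem_qcPrecoverage_iff.1 h1.1
  have hfl : ∀ i, Flat (𝒰.f i) := (Scheme.presieve₀_mem_precoverage_iff 𝒰.toPreZeroHypercover).1 h1.2 |>.2
  obtain ⟨n, c, W, hW, heq⟩ :=
    QuasiCompactCover.exists_isAffineOpen_of_isCompact 𝒰.toPreZeroHypercover (isAffineOpen_opensRange j).isCompact
  have hsub : ∀ i, Set.range ((hW i).fromSpec ≫ 𝒰.f (c i)) ⊆ Set.range j := by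
    intro i
    rw [Scheme.Hom.comp_base, TopCat.coe_comp, Set.range_comp, (hW i).range_fromSpec]
    exact (Set.subset_iUnion (fun i => 𝒰.f (c i) '' (W i : Set _)) i).trans heq.le
  let w : ∀ i, Spec Γ(_, W i) ⟶ Spec (CommRingCat.of A) := fun i =>
    IsOpenImmersion.lift j ((hW i).fromSpec ≫ 𝒰.f (c i)) (hsub i)
  have hw : ∀ i, w i ≫ j = (hW i).fromSpec ≫ 𝒰.f (c i) := fun i => IsOpenImmersion.lift_fac _ _ _
  choose t ht using fun i => hsec _ (h𝒰 i)
  let Z : Scheme.{u} := ∐ fun i => Spec Γ(_, W i)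
  let q : Z ⟶ Spec (CommRingCat.of A) := Sigma.desc w
  haveI : Flat q := IsZariskiLocalAtSource.sigmaDesc fun i => by
    haveI := hfl (c i)
    haveI h2 : Flat (w i ≫ j) := by rw [hw i]; infer_instance
    exact MorphismProperty.of_postcomp @Flat (W' := @IsOpenImmersion) (w i) j inferInstance h2
  haveI : Surjective q := ⟨fun y => by
    have hy : j y ∈ (j.opensRange : Set Y.left) := ⟨y, rfl⟩
    rw [← heq, Set.mem_iUnion] at hy
    obtain ⟨i, z, hz, hzy⟩ := hy
    obtain ⟨z', rfl⟩ : z ∈ Set.range (hW i).fromSpec := by rw [(hW i).range_fromSpec]; exact hz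
    refine ⟨Sigma.ι (fun i => Spec Γ(_, W i)) i z', j.isOpenEmbedding.injective ?_⟩
    rw [← hzy, ← Scheme.Hom.comp_apply, ← Scheme.Hom.comp_apply, ← Scheme.Hom.comp_apply]
    congr 1
    simp [q, hw]⟩
  haveI : IsAffine Z := inferInstance
  obtain ⟨θ, hθ⟩ := Spec.map_surjective (Z.isoSpec.inv ≫ q)
  let _ : Algebra A Γ(Z, ⊤) := θ.hom.toAlgebra
  have halg : Spec.map (CommRingCat.ofHom (algebraMap A Γ(Z, ⊤))) = Z.isoSpec.inv ≫ q := hθ
  haveI : Flat (Spec.map θ) := by rw [hθ]; infer_instance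
  haveI : Surjective (Spec.map θ) := by rw [hθ]; infer_instance
  have hfl' : (algebraMap A Γ(Z, ⊤)).Flat := (HasRingHomProperty.Spec_iff (P := @Flat)).1 ‹Flat (Spec.map θ)›
  haveI : Module.Flat A Γ(Z, ⊤) := RingHom.flat_algebraMap_iff.1 hfl'
  refine ⟨Γ(Z, ⊤), inferInstance, inferInstance,
    Module.FaithfullyFlat.of_comap_surjective fun p => (Spec.map θ).surjective p,
    ⟨Over.homMk (Z.isoSpec.inv ≫ Sigma.desc fun i => (hW i).fromSpec ≫ t (c i)) ?_⟩⟩
  show (Z.isoSpec.inv ≫ _) ≫ φ.left = Spec.map (CommRingCat.ofHom (algebraMap A Γ(Z, ⊤))) ≫ j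
  rw [halg, Category.assoc, Category.assoc]
  congr 1
  refine Sigma.hom_ext _ _ fun i => ?_
  have ht' : t (c i) ≫ φ.left = 𝒰.f (c i) := ht (c i)
  rw [Sigma.ι_desc_assoc, Category.assoc, ht', ← hw i]
  simp [q]

/-- The translation between the two pull-backs of a point is a cocycle. -/
theorem exists_cocycle (x : Tm j B ⟶ Over.mk φ.left) :
    ∃ g : toK (Tm j (T2 A B)) ⟶ G, act a φ hcart g (p1 j B ≫ x) = p2 j B ≫ x ∧
      (toKm (q23 j B) ≫ g) * (toKm (q12 j B) ≫ g) = toKm (q13 j B) ≫ g := by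
  obtain ⟨g, hg, -⟩ := existsUnique a φ hcart (p1 j B ≫ x) (p2 j B ≫ x)
  refine ⟨g, hg, (existsUnique a φ hcart (q13 j B ≫ p1 j B ≫ x) (q13 j B ≫ p2 j B ≫ x)).unique ?_ ?_⟩
  · rw [act_act, ← Category.assoc (q13 j B) (p1 j B), q13_p1, Category.assoc, ← comp_act,
      hg, ← Category.assoc (q12 j B) (p2 j B), q12_p2, Category.assoc, ← comp_act, hg,
      ← Category.assoc, ← q13_p2, Category.assoc]
  · rw [← comp_act, hg]

variable {B}

/-- A translation which splits over `B'` gives a section over the base of `B'`. -/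
theorem hasSection_of_coboundary (R₁ B' : Type u) [CommRing R₁] [Algebra A R₁]
    [CommRing B'] [Algebra A B'] [Algebra R₁ B'] [IsScalarTower A R₁ B'] [Module.FaithfullyFlat R₁ B']
    (x : Tm j B ⟶ Over.mk φ.left) (g : toK (Tm j (T2 A B)) ⟶ G)
    (hg : act a φ hcart g (p1 j B ≫ x) = p2 j B ≫ x) (θ : B →+* B')
    (hθA : θ.comp (algebraMap A B) = algebraMap A B') (ψ : T2 A B →+* T2 R₁ B')
    (hψA : ψ.comp (algebraMap A (T2 A B)) = algebraMap A (T2 R₁ B'))
    (hψ1 : ψ.comp i1 = (i1 (R := R₁) (R' := B')).comp θ) (hψ2 : ψ.comp i2 = (i2 (R := R₁) (R' := B')).comp θ)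
    (v : toK (Tm j B') ⟶ G)
    (hv : ∀ (h1 : (i1 (R := R₁) (R' := B')).comp (algebraMap A B') = algebraMap A (T2 R₁ B'))
      (h2 : (i2 (R := R₁) (R' := B')).comp (algebraMap A B') = algebraMap A (T2 R₁ B')),
      toKm (em j i1 h1) ≫ v = (toKm (em j i2 h2) ≫ v) * (toKm (em j ψ hψA) ≫ g)) :
    NonAbH1.HasSectionOver (Over.mk φ.left : Over Y.left) (Spec.map (CommRingCat.ofHom (algebraMap A R₁)) ≫ j) := by
  let x' : Tm j B' ⟶ Over.mk φ.left := act a φ hcart v (em j θ hθA ≫ x)
  let j' := Spec.map (CommRingCat.ofHom (algebraMap A R₁)) ≫ j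
  let e : Tm (A := R₁) j' B' ⟶ Tm j B' := Over.homMk (𝟙 _) (by
    show 𝟙 _ ≫ Spec.map (CommRingCat.ofHom (algebraMap A B')) ≫ j =
      Spec.map (CommRingCat.ofHom (algebraMap R₁ B')) ≫ Spec.map (CommRingCat.ofHom (algebraMap A R₁)) ≫ j
    rw [Category.id_comp, ← Spec.map_comp_assoc, ← CommRingCat.ofHom_comp, ← IsScalarTower.algebraMap_eq])
  refine hasSection_of_descent j' B' (e ≫ x') ?_
  let E : Tm (A := R₁) j' (T2 R₁ B') ⟶ Tm j (T2 R₁ B') := Over.homMk (𝟙 _) (by
    show 𝟙 _ ≫ Spec.map (CommRingCat.ofHom (algebraMap A (T2 R₁ B'))) ≫ j =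
      Spec.map (CommRingCat.ofHom (algebraMap R₁ (T2 R₁ B'))) ≫ Spec.map (CommRingCat.ofHom (algebraMap A R₁)) ≫ j
    rw [Category.id_comp, ← Spec.map_comp_assoc, ← CommRingCat.ofHom_comp, ← IsScalarTower.algebraMap_eq])
  have h1A : (i1 (R := R₁) (R' := B')).comp (algebraMap A B') = algebraMap A (T2 R₁ B') := by
    rw [IsScalarTower.algebraMap_eq A R₁ B', ← RingHom.comp_assoc, i1_comp, ← IsScalarTower.algebraMap_eq]
  have h2A : (i2 (R := R₁) (R' := B')).comp (algebraMap A B') = algebraMap A (T2 R₁ B') := by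
    rw [IsScalarTower.algebraMap_eq A R₁ B', ← RingHom.comp_assoc, i2_comp, ← IsScalarTower.algebraMap_eq]
  have hp1 : p1 j' B' ≫ e = E ≫ em j i1 h1A := Over.OverMorphism.ext (by
    show Spec.map _ ≫ 𝟙 _ = 𝟙 _ ≫ Spec.map _
    rw [Category.comp_id, Category.id_comp])
  have hp2 : p2 j' B' ≫ e = E ≫ em j i2 h2A := Over.OverMorphism.ext (by
    show Spec.map _ ≫ 𝟙 _ = 𝟙 _ ≫ Spec.map _
    rw [Category.comp_id, Category.id_comp])
  rw [← Category.assoc, hp1, ← Category.assoc, hp2, Category.assoc, Category.assoc]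
  congr 1
  have k1 : em j i1 h1A ≫ em j θ hθA = em j ψ hψA ≫ p1 j B := by
    have h : ((i1 (R := R₁) (R' := B')).comp θ).comp (algebraMap A B) = algebraMap A (T2 R₁ B') := by
      rw [RingHom.comp_assoc, hθA, h1A]
    exact (em_comp j _ _ _ _ _ h rfl).trans (em_comp j _ _ _ _ _ h hψ1).symm
  have k2 : em j i2 h2A ≫ em j θ hθA = em j ψ hψA ≫ p2 j B := by
    have h : ((i2 (R := R₁) (R' := B')).comp θ).comp (algebraMap A B) = algebraMap A (T2 R₁ B') := by
      rw [RingHom.comp_assoc, hθA, h2A]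
    exact (em_comp j _ _ _ _ _ h rfl).trans (em_comp j _ _ _ _ _ h hψ2).symm
  simp only [x', comp_act]
  rw [← Category.assoc, k1, ← Category.assoc, k2, Category.assoc, Category.assoc]
  conv_rhs => rw [← hg, comp_act, ← act_act]
  exact congrArg (fun t => act a φ hcart t _) (hv h1A h2A)

end Cocycle

theorem zariski_of_local
    (h : ∀ (U : Y.left.Opens) (hU : IsAffineOpen U) (p : Spec Γ(Y.left, U)),
      ∃ (Z : Scheme.{u}) (f : Z ⟶ Spec Γ(Y.left, U)), IsOpenImmersion f ∧ p ∈ Set.range f ∧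
        NonAbH1.HasSectionOver (Over.mk φ.left : Over Y.left) (f ≫ hU.fromSpec)) :
    NonAbH1.IsLocallyTrivialFor Scheme.zariskiPrecoverage (Over.mk φ.left : Over Y.left) := by
  have h' : ∀ y : Y.left, ∃ (Z : Scheme.{u}) (f : Z ⟶ Y.left), IsOpenImmersion f ∧ y ∈ Set.range f ∧
      NonAbH1.HasSectionOver (Over.mk φ.left : Over Y.left) f := fun y => by
    obtain ⟨U, hU, hy, -⟩ := exists_isAffineOpen_mem_and_subset (x := y) (U := ⊤) trivial
    obtain ⟨p, hp⟩ : y ∈ Set.range hU.fromSpec := by rw [hU.range_fromSpec]; exact hy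
    obtain ⟨Z, f, hf, hpf, hs⟩ := h U hU p
    haveI := hf
    haveI := hU.isOpenImmersion_fromSpec
    obtain ⟨z, hz⟩ := hpf
    exact ⟨Z, f ≫ hU.fromSpec, inferInstance, ⟨z, by rw [Scheme.Hom.comp_apply, hz, hp]⟩, hs⟩
  choose U f hf hx hsec using h'
  refine ⟨Presieve.ofArrows U f, (Scheme.ofArrows_mem_precoverage_iff _).2 ⟨fun x => ⟨x, hx x⟩, hf⟩, ?_⟩
  rintro _ _ ⟨i⟩
  exact hsec i

theorem inv_eq_inv_mul_of {H : Type*} [Group H] {p q c : H} (h : q = c * p) : p⁻¹ = q⁻¹ * c := by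
  rw [h, _root_.mul_inv_rev, _root_.mul_assoc, inv_mul_cancel, _root_.mul_one]

/-- The value of a point of the multiplicative group on a spectrum. -/
noncomputable def gval {A : Type u} [CommRing A] (j : Spec (CommRingCat.of A) ⟶ Y.left) {R : Type u} [CommRing R]
    [Algebra A R] (z : toK (Tm j R) ⟶ Red.Gm (Spec (CommRingCat.of k))) : R :=
  val R (Red.gmFn z)

theorem gval_mul {A : Type u} [CommRing A] (j : Spec (CommRingCat.of A) ⟶ Y.left) {R : Type u} [CommRing R]
    [Algebra A R] (z w : toK (Tm j R) ⟶ Red.Gm (Spec (CommRingCat.of k))) : gval j (z * w) = gval j z * gval j w :=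
  (congrArg (val R) (gmFn_mul z w)).trans (map_mul (Scheme.ΓSpecIso (CommRingCat.of R)).hom.hom _ _)

theorem gval_comp {A : Type u} [CommRing A] (j : Spec (CommRingCat.of A) ⟶ Y.left) {R R' : Type u} [CommRing R]
    [Algebra A R] [CommRing R'] [Algebra A R'] (θ : R →+* R') (h : θ.comp (algebraMap A R) = algebraMap A R')
    (z : toK (Tm j R) ⟶ Red.Gm (Spec (CommRingCat.of k))) : gval j (toKm (em j θ h) ≫ z) = θ (gval j z) :=
  (congrArg (val R') (gmFn_comp (toKm (em j θ h)) z)).trans (val_map j θ h (Red.gmFn z))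

theorem gval_injective {A : Type u} [CommRing A] (j : Spec (CommRingCat.of A) ⟶ Y.left) {R : Type u} [CommRing R]
    [Algebra A R] : Function.Injective (gval (k := k) (Y := Y) j (R := R)) :=
  fun _ _ h => gmFn_injective (val_injective R h)

theorem isUnit_gval {A : Type u} [CommRing A] (j : Spec (CommRingCat.of A) ⟶ Y.left) {R : Type u} [CommRing R]
    [Algebra A R] (z : toK (Tm j R) ⟶ Red.Gm (Spec (CommRingCat.of k))) : IsUnit (gval j z) :=
  (isUnit_gmFn z).map (Scheme.ΓSpecIso (CommRingCat.of R)).hom.hom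

theorem exists_gval {A : Type u} [CommRing A] (j : Spec (CommRingCat.of A) ⟶ Y.left) {R : Type u} [CommRing R]
    [Algebra A R] {c : R} (hc : IsUnit c) : ∃ z : toK (Tm j R) ⟶ Red.Gm (Spec (CommRingCat.of k)), gval j z = c := by
  obtain ⟨r, hr⟩ := val_surjective R c
  have hru : IsUnit r := by
    have := (hr ▸ hc).map (Scheme.ΓSpecIso (CommRingCat.of R)).inv.hom
    simpa [val] using this
  obtain ⟨v, hv⟩ := exists_gmFn (X := toK (Tm j R)) hru
  exact ⟨v, (congrArg (val R) hv).trans hr⟩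

/-- A value of a function of a group on a spectrum. -/
noncomputable def fval {G : Over (Spec (CommRingCat.of k))} (s : Γ(G.left, ⊤)) {A : Type u} [CommRing A]
    (j : Spec (CommRingCat.of A) ⟶ Y.left) {R : Type u} [CommRing R] [Algebra A R] (z : toK (Tm j R) ⟶ G) : R :=
  val R (z.left.appTop s)

theorem fval_comp {G : Over (Spec (CommRingCat.of k))} (s : Γ(G.left, ⊤)) {A : Type u} [CommRing A]
    (j : Spec (CommRingCat.of A) ⟶ Y.left) {R R' : Type u} [CommRing R] [Algebra A R] [CommRing R'] [Algebra A R']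
    (θ : R →+* R') (h : θ.comp (algebraMap A R) = algebraMap A R') (z : toK (Tm j R) ⟶ G) :
    fval s j (toKm (em j θ h) ≫ z) = θ (fval s j z) :=
  val_map j θ h (z.left.appTop s)

theorem fval_mul {G : Over (Spec (CommRingCat.of k))} [GrpObj G] (s : Γ(G.left, ⊤))
    (hadd : ∀ (X : Over (Spec (CommRingCat.of k))), IsAffine X.left → ∀ (x y : X ⟶ G),
        (x * y).left.appTop s = x.left.appTop s + y.left.appTop s)
    {A : Type u} [CommRing A]
    (j : Spec (CommRingCat.of A) ⟶ Y.left) {R : Type u} [CommRing R] [Algebra A R] (z w : toK (Tm j R) ⟶ G) :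
    fval s j (z * w) = fval s j z + fval s j w :=
  (congrArg (val R) (hadd _ (inferInstanceAs (IsAffine (Spec (CommRingCat.of R)))) z w)).trans
    (map_add (Scheme.ΓSpecIso (CommRingCat.of R)).hom.hom _ _)

/-- An additive cocycle is a coboundary. -/
theorem exists_coboundary_add {A B : Type u} [CommRing A] [CommRing B] [Algebra A B] [Module.FaithfullyFlat A B]
    (δ : T2 A B) (hδ : d23 δ + d12 δ = d13 δ) : ∃ z : B, i2 z - i1 z = δ := by
  let d : B →ₗ[A] T2 A B := (Algebra.TensorProduct.includeRight : B →ₐ[A] T2 A B).toLinearMap -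
    (Algebra.TensorProduct.includeLeft : B →ₐ[A] T2 A B).toLinearMap
  have hd : ∀ t : T2 A B, d.lTensor B t = d13 t - d12 t := fun t => by
    induction t using TensorProduct.induction_on with
    | zero => simp
    | tmul b c =>
      show b ⊗ₜ[A] (((1 : B) ⊗ₜ[A] c) - c ⊗ₜ[A] (1 : B)) = _
      rw [TensorProduct.tmul_sub, d13_tmul, d12_tmul]
    | add v w hv hw => rw [map_add, map_add, map_add, hv, hw]; abel
  obtain ⟨z, hz⟩ : δ ∈ LinearMap.range d := by
    refine Desc19b.mem_range_of_one_tmul_mem (A := B) d ⟨δ, ?_⟩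
    rw [hd, ← eq_sub_of_add_eq hδ]
    exact d23_apply δ
  exact ⟨z, hz⟩

set_option maxHeartbeats 4000000 in
/-- The multiplicative group is special. -/
theorem special_gm : Special (Red.Gm (Spec (CommRingCat.of k))) := by
  intro X Y a φ hcart hloc
  refine zariski_of_local φ fun U hU p => ?_
  haveI := hU.isOpenImmersion_fromSpec
  let A := Γ(Y.left, U)
  let j : Spec (CommRingCat.of A) ⟶ Y.left := hU.fromSpec
  obtain ⟨B, _, _, hB, ⟨x⟩⟩ := exists_algebra_point φ (A := A) j hloc
  obtain ⟨g, hg, hcoc⟩ := exists_cocycle a φ hcart j B x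
  let uη := (isUnit_gval j g).unit
  have hη : d12 (uη : T2 A B) * d23 (uη : T2 A B) = d13 (uη : T2 A B) := by
    have e12 : gval j (toKm (q12 j B) ≫ g) = d12 (gval j g) := gval_comp (R := T2 A B) (R' := T3 A B) j d12 (d12_comp B) g
    have e23 : gval j (toKm (q23 j B) ≫ g) = d23 (gval j g) := gval_comp (R := T2 A B) (R' := T3 A B) j d23 (d23_comp B) g
    have e13 : gval j (toKm (q13 j B) ≫ g) = d13 (gval j g) := gval_comp (R := T2 A B) (R' := T3 A B) j d13 (d13_comp B) g
    have h := congrArg (gval j) hcoc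
    rw [gval_mul, e12, e23, e13, mul_comm] at h
    exact h
  obtain ⟨f, hf, c, y, hy, hc⟩ := CAlgH3.EtPicAlg.exists_local_primitive uη hη p.asIdeal p.isPrime.ne_top
  let R₁ := Localization.Away f
  let B' := Localization.Away f ⊗[A] B
  refine ⟨Spec (CommRingCat.of R₁), Spec.map (CommRingCat.ofHom (algebraMap A R₁)),
    IsOpenImmersion.of_isLocalization f, ?_, ?_⟩
  · show p ∈ Set.range (PrimeSpectrum.comap (algebraMap A R₁))
    rw [PrimeSpectrum.localization_away_comap_range R₁ f]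
    exact hf
  let θ : B →+* B' := (Algebra.TensorProduct.includeRight : B →ₐ[A] B').toRingHom
  have hθA : θ.comp (algebraMap A B) = algebraMap A B' :=
    RingHom.ext fun r => (Algebra.TensorProduct.includeRight : B →ₐ[A] B').commutes r
  have hcu : IsUnit (θ c) := by
    have h : IsUnit (θ (algebraMap A B f)) := by
      rw [← RingHom.comp_apply, hθA, IsScalarTower.algebraMap_apply A R₁ B']
      exact (IsLocalization.Away.algebraMap_isUnit f).map _
    rw [← hy, map_mul] at h
    exact isUnit_of_mul_isUnit_left h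
  obtain ⟨v, hv⟩ := exists_gval (k := k) (Y := Y) j (R := B') hcu
  obtain ⟨ψ, hψA, hψ1, hψ2⟩ := exists_double (A := A) R₁ B' (Algebra.TensorProduct.includeRight : B →ₐ[A] B')
  haveI : Module.FaithfullyFlat R₁ B' := inferInstance
  have key : i1 (θ c) * ψ (gval j g) = (i2 (θ c) : T2 R₁ B') := by
    have h := congrArg ψ hc
    rw [map_mul, ← RingHom.comp_apply, hψ1, ← RingHom.comp_apply, hψ2] at h
    exact h
  refine hasSection_of_coboundary a φ hcart j R₁ B' x g hg θ hθA ψ hψA hψ1 hψ2 v⁻¹ fun h1 h2 => ?_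
  have hi : toKm (em j i2 h2) ≫ v = (toKm (em j ψ hψA) ≫ g) * (toKm (em j i1 h1) ≫ v) := by
    refine gval_injective j ?_
    rw [gval_mul, gval_comp, gval_comp, gval_comp, hv, ← key, mul_comm]
  rw [GrpObj.comp_inv, GrpObj.comp_inv]
  exact inv_eq_inv_mul_of hi

/-- Groups with additive coordinates are special. -/
theorem special_add (G : Over (Spec (CommRingCat.of k))) [GrpObj G] (n : ℕ) (s : Fin n → Γ(G.left, ⊤))
    (hadd : ∀ (X : Over (Spec (CommRingCat.of k))), IsAffine X.left → ∀ (x y : X ⟶ G) (i : Fin n),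
        (x * y).left.appTop (s i) = x.left.appTop (s i) + y.left.appTop (s i))
    (hinj : ∀ (X : Over (Spec (CommRingCat.of k))), IsAffine X.left → ∀ x y : X ⟶ G,
        (∀ i, x.left.appTop (s i) = y.left.appTop (s i)) → x = y)
    (hsurj : ∀ (X : Over (Spec (CommRingCat.of k))), IsAffine X.left → ∀ r : Fin n → Γ(X.left, ⊤),
        ∃ x : X ⟶ G, ∀ i, x.left.appTop (s i) = r i) : Special G := by
  intro X Y a φ hcart hloc
  refine zariski_of_local φ fun U hU p => ?_
  haveI := hU.isOpenImmersion_fromSpec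
  refine ⟨_, 𝟙 _, inferInstance, ⟨p, rfl⟩, ?_⟩
  rw [Category.id_comp]
  let A := Γ(Y.left, U)
  let j : Spec (CommRingCat.of A) ⟶ Y.left := hU.fromSpec
  show NonAbH1.HasSectionOver _ j
  obtain ⟨B, _, _, hB, ⟨x⟩⟩ := exists_algebra_point φ (A := A) j hloc
  obtain ⟨g, hg, hcoc⟩ := exists_cocycle a φ hcart j B x
  have haff : ∀ (R : Type u) [CommRing R] [Algebra A R], IsAffine (toK (Tm j R)).left := fun R _ _ =>
    inferInstanceAs (IsAffine (Spec (CommRingCat.of R)))
  have hm : ∀ i, ∀ (X : Over (Spec (CommRingCat.of k))), IsAffine X.left → ∀ (x y : X ⟶ G),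
      (x * y).left.appTop (s i) = x.left.appTop (s i) + y.left.appTop (s i) := fun i X hX x y => hadd X hX x y i
  have hz : ∀ i, ∃ z : B, i2 z - i1 z = fval (s i) j g := fun i => by
    refine exists_coboundary_add (fval (s i) j g) ?_
    have e12 : fval (s i) j (toKm (q12 j B) ≫ g) = d12 (fval (s i) j g) := fval_comp (R := T2 A B) (R' := T3 A B) (s i) j d12 (d12_comp B) g
    have e23 : fval (s i) j (toKm (q23 j B) ≫ g) = d23 (fval (s i) j g) := fval_comp (R := T2 A B) (R' := T3 A B) (s i) j d23 (d23_comp B) g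
    have e13 : fval (s i) j (toKm (q13 j B) ≫ g) = d13 (fval (s i) j g) := fval_comp (R := T2 A B) (R' := T3 A B) (s i) j d13 (d13_comp B) g
    have h := congrArg (fval (s i) j) hcoc
    rw [fval_mul (s i) (hm i), e12, e23, e13] at h
    exact h
  choose z hz using hz
  choose r hr using fun i => val_surjective B (-z i)
  obtain ⟨v, hv⟩ := hsurj (toK (Tm j B)) (haff B) r
  have hcv : ∀ i, fval (s i) j v = -z i := fun i => (congrArg (val B) (hv i)).trans (hr i)
  refine hasSection_of_descent j B (act a φ hcart v x) ?_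
  simp only [comp_act]
  conv_rhs => rw [← hg, ← act_act]
  refine congrArg (fun t => act a φ hcart t _) (hinj _ (haff _) _ _ fun i => val_injective (T2 A B) ?_)
  have e1 : fval (s i) j (toKm (p1 j B) ≫ v) = i1 (fval (s i) j v) := fval_comp (R := B) (R' := T2 A B) (s i) j i1 (i1_comp B) v
  have e2 : fval (s i) j (toKm (p2 j B) ≫ v) = i2 (fval (s i) j v) := fval_comp (R := B) (R' := T2 A B) (s i) j i2 (i2_comp B) v
  show fval (s i) j (toKm (p1 j B) ≫ v) = fval (s i) j ((toKm (p2 j B) ≫ v) * g)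
  rw [fval_mul (s i) (hm i), e1, e2, hcv, map_neg, map_neg, ← hz]
  abel

end Groth.Agent.AlgGrpLib.RelPoints
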