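import Groth.Agent.AlgGrpLib.GLnPoints
import Groth.Prelude.Def_VecGrp
import Groth.Prelude.Def_AlgGrp
import Mathlib.LinearAlgebra.Matrix.ToLin
import Mathlib.RingTheory.TensorProduct.Free
import Mathlib.RingTheory.MvPolynomial.Basic

/-! A homomorphism to `GL_n` gives a linear representation and a linear action on affine space. -/

set_option autoImplicit false
set_option backward.isDefEq.respectTransparency.types false
set_option maxHeartbeats 200000

universe u

open CategoryTheory CategoryTheory.Limits MonoidalCategory CartesianMonoidalCategory MonObj AlgebraicGeometry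
open scoped TensorProduct

noncomputable section

namespace Groth.Agent.AlgGrpLib.RepOfHom

open GLnPoints

variable {k : Type u} [Field k] {n : ℕ}


/-- `k → Γ(T)`. -/
def str (T : Over (Spec (CommRingCat.of k))) : k →+* Γ(T.left, ⊤) := ((Scheme.ΓSpecIso (CommRingCat.of k)).inv ≫ T.hom.appTop).hom

theorem appTop_str {T T' : Over (Spec (CommRingCat.of k))} (f : T' ⟶ T) (c : k) : f.left.appTop (str T c) = str T' c := by
  have hw := congrArg (fun φ : T'.left ⟶ Spec (CommRingCat.of k) => φ.appTop ((Scheme.ΓSpecIso (CommRingCat.of k)).inv c))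
    (Over.w f)
  simp only [Scheme.Hom.comp_appTop] at hw
  exact hw

variable (k n) in
/-- Affine space. -/
def affSp : Over (Spec (CommRingCat.of k)) :=
  Over.mk (Spec.map (CommRingCat.ofHom (algebraMap k (MvPolynomial (Fin n) k))))

/-- Coordinates of a point. -/
def coord {T : Over (Spec (CommRingCat.of k))} (x : T ⟶ affSp k n) : Fin n → Γ(T.left, ⊤) :=
  fun i => x.left.appTop ((Scheme.ΓSpecIso (CommRingCat.of (MvPolynomial (Fin n) k))).inv (MvPolynomial.X i))

theorem coord_comp {T T' : Over (Spec (CommRingCat.of k))} (f : T' ⟶ T) (x : T ⟶ affSp k n) :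
    coord (f ≫ x) = f.left.appTop.hom ∘ coord x := rfl

theorem alg_eq {T : Over (Spec (CommRingCat.of k))} (x : T ⟶ affSp k n) (c : k) :
    x.left.appTop ((Scheme.ΓSpecIso (CommRingCat.of (MvPolynomial (Fin n) k))).inv (algebraMap k (MvPolynomial (Fin n) k) c)) = str T c := by
  rw [← appTop_str x c]
  exact congrArg x.left.appTop (congrArg (fun f => f.hom c)
    (Scheme.ΓSpecIso_inv_naturality (CommRingCat.ofHom (algebraMap k (MvPolynomial (Fin n) k)))))

theorem coord_injective {T : Over (Spec (CommRingCat.of k))} {x y : T ⟶ affSp k n} (h : coord x = coord y) : x = y := by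
  refine Over.OverMorphism.ext ((eq_toSpecΓ x.left).trans (Eq.trans ?_ (eq_toSpecΓ y.left).symm))
  congr 2
  refine CommRingCat.hom_ext (MvPolynomial.ringHom_ext (fun c => ?_) fun i => congrFun h i)
  exact (alg_eq x c).trans (alg_eq y c).symm

theorem exists_coord {T : Over (Spec (CommRingCat.of k))} (v : Fin n → Γ(T.left, ⊤)) : ∃ x : T ⟶ affSp k n, coord x = v := by
  let φ : MvPolynomial (Fin n) k →+* Γ(T.left, ⊤) := MvPolynomial.eval₂Hom (str T) v
  have hφ : CommRingCat.ofHom (algebraMap k (MvPolynomial (Fin n) k)) ≫ CommRingCat.ofHom φ =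
      (Scheme.ΓSpecIso (CommRingCat.of k)).inv ≫ T.hom.appTop := CommRingCat.hom_ext (RingHom.ext fun c => MvPolynomial.eval₂Hom_C _ _ c)
  refine ⟨Over.homMk (T.left.toSpecΓ ≫ Spec.map (CommRingCat.ofHom φ)) ?_, funext fun i => ?_⟩
  · refine (Category.assoc _ _ _).trans (Eq.trans ?_ (eq_toSpecΓ T.hom).symm)
    congr 1
    exact (Spec.map_comp _ _).symm.trans (congrArg Spec.map hφ)
  · show (T.left.toSpecΓ ≫ Spec.map (CommRingCat.ofHom φ)).appTop _ = _
    rw [Scheme.Hom.comp_appTop, Scheme.toSpecΓ_appTop]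
    erw [Scheme.ΓSpecIso_naturality, CommRingCat.comp_apply, Iso.inv_hom_id_apply]
    exact MvPolynomial.eval₂Hom_X' _ _ i

variable {G : Over (Spec (CommRingCat.of k))} [GrpObj G] (ρ : G ⟶ FrB.GLn n (Spec (CommRingCat.of k))) [IsMonHom ρ]

theorem map_mulVec' {T T' : Over (Spec (CommRingCat.of k))} (f : T' ⟶ T) (M : Matrix (Fin n) (Fin n) Γ(T.left, ⊤)) (v : Fin n → Γ(T.left, ⊤)) :
    f.left.appTop.hom ∘ M.mulVec v = (M.map f.left.appTop.hom).mulVec (f.left.appTop.hom ∘ v) :=
  funext fun i => RingHom.map_mulVec f.left.appTop.hom M v i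

theorem exists_act : ∃ act : G ⊗ affSp k n ⟶ affSp k n, coord (k := k) (n := n) act =
    (matOf (S := Spec (CommRingCat.of k)) (fst G (affSp k n) ≫ ρ)).mulVec (coord (k := k) (n := n) (snd G (affSp k n))) :=
  exists_coord _

/-- The linear action on affine space, with a fixed origin. -/
theorem exists_linear_action :
    ∃ (a : AlgGrp.Action G (affSp k n)) (o : 𝟙_ (Over (Spec (CommRingCat.of k))) ⟶ affSp k n),
      a.IsFixedPt o ∧ (a.act = snd G (affSp k n) → ρ = 1) := by
  obtain ⟨act, hact⟩ := exists_act (k := k) (n := n) ρ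
  have hpt : ∀ {T : Over (Spec (CommRingCat.of k))} (g : T ⟶ G) (x : T ⟶ affSp k n),
      coord (lift g x ≫ act) = (matOf (g ≫ ρ)).mulVec (coord x) := fun {T} g x => by
    rw [coord_comp, hact, map_mulVec', ← matOf_comp, ← coord_comp, lift_fst_assoc, lift_snd]
  let a : AlgGrp.Action G (affSp k n) :=
    { act := act
      one_act := coord_injective (by
        rw [show η[G] ▷ affSp k n = lift (fst _ _ ≫ η[G]) (snd _ _) by ext <;> simp, hpt, Category.assoc,
          IsMonHom.one_hom, MonObj.one_eq_one, MonObj.comp_one, matOf_one, Matrix.one_mulVec, leftUnitor_hom])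
      mul_act := coord_injective (by
        have e : (α_ G G (affSp k n)).hom ≫ (G ◁ act) = lift (fst _ _ ≫ fst G G) (lift (fst _ _ ≫ snd G G) (snd _ _) ≫ act) := by
          apply CartesianMonoidalCategory.hom_ext
          · simp
          · rw [Category.assoc, whiskerLeft_snd, lift_snd, ← Category.assoc]
            congr 1
            ext <;> simp
        have e2 : fst (G ⊗ G) (affSp k n) ≫ μ[G] = (fst _ _ ≫ fst G G) * (fst _ _ ≫ snd G G) := by
          rw [Hom.mul_def, ← comp_lift, lift_fst_snd, Category.comp_id]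
        rw [show μ[G] ▷ affSp k n = lift (fst _ _ ≫ μ[G]) (snd _ _) by ext <;> simp, hpt, ← Category.assoc (α_ _ _ _).hom,
          e, hpt, hpt, Matrix.mulVec_mulVec, e2, MonObj.mul_comp, matOf_mul]) }
  obtain ⟨o, ho⟩ := exists_coord (k := k) (T := 𝟙_ (Over (Spec (CommRingCat.of k)))) (n := n) 0
  refine ⟨a, o, fun T g => coord_injective ?_, fun h => matOf_injective ?_⟩
  · show coord (lift g (toUnit T ≫ o) ≫ act) = _
    rw [hpt, coord_comp, ho, Pi.comp_zero, map_zero]
    exact Matrix.mulVec_zero _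
  · rw [matOf_one]
    ext i j
    obtain ⟨x, hx⟩ := exists_coord (k := k) (T := G) (Pi.single j 1)
    have h1 := congrArg coord (congrArg (lift (𝟙 G) x ≫ ·) h)
    simp only [lift_snd] at h1
    rw [show a.act = act from rfl, hpt, hx, Matrix.mulVec_single_one, Category.id_comp] at h1
    refine (congrFun h1 i).trans ?_
    rw [Pi.single_apply, Matrix.one_apply]

/-- The entries of a point with values in an algebra. -/
def ptMat (B : Type u) [CommRing B] [Algebra k B] (g : VecGrp.pt k B ⟶ G) : Matrix (Fin n) (Fin n) B :=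
  (matOf (g ≫ ρ)).map (Scheme.ΓSpecIso (CommRingCat.of B)).hom.hom

theorem ptMat_mul (B : Type u) [CommRing B] [Algebra k B] (g g' : VecGrp.pt k B ⟶ G) :
    ptMat (k := k) ρ B (g * g') = ptMat (k := k) ρ B g * ptMat (k := k) ρ B g' := by
  rw [ptMat, MonObj.mul_comp, matOf_mul]
  exact Matrix.map_mul

theorem ptMat_one (B : Type u) [CommRing B] [Algebra k B] : ptMat (k := k) ρ B (1 : VecGrp.pt k B ⟶ G) = 1 := by
  rw [ptMat, MonObj.one_comp, matOf_one]
  exact Matrix.map_one _ (map_zero _) (map_one _)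

/-- The representation of `G` on `kⁿ`. -/
theorem exists_gmod :
    ∃ m : VecGrp.GMod G (Fin n → k),
      (∀ (B : Type u) [CommRing B] [Algebra k B] (g : VecGrp.pt k B ⟶ G), m.ρ B g = 1 → ptMat (k := k) ρ B g = 1) := by
  let bB : ∀ (B : Type u) [CommRing B] [Algebra k B], Module.Basis (Fin n) B (B ⊗[k] (Fin n → k)) :=
    fun B _ _ => Algebra.TensorProduct.basis B (Pi.basisFun k (Fin n))
  let L : ∀ (B : Type u) [CommRing B] [Algebra k B] (g : VecGrp.pt k B ⟶ G),
      (B ⊗[k] (Fin n → k)) →ₗ[B] (B ⊗[k] (Fin n → k)) :=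
    fun B _ _ g => Matrix.toLinAlgEquiv (bB B) (ptMat (k := k) ρ B g)
  have hL1 : ∀ (B : Type u) [CommRing B] [Algebra k B], L B 1 = LinearMap.id := fun B _ _ => by
    simp only [L, ptMat_one, map_one]
    rfl
  have hLm : ∀ (B : Type u) [CommRing B] [Algebra k B] (g g' : VecGrp.pt k B ⟶ G), L B (g * g') = (L B g).comp (L B g') :=
    fun B _ _ g g' => by
      simp only [L, ptMat_mul, map_mul]
      rfl
  let E : ∀ (B : Type u) [CommRing B] [Algebra k B] (g : VecGrp.pt k B ⟶ G),
      (B ⊗[k] (Fin n → k)) ≃ₗ[B] (B ⊗[k] (Fin n → k)) := fun B _ _ g =>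
    LinearEquiv.ofLinearMap (L B g) (L B g⁻¹)
      (by rw [← hLm, mul_inv_cancel, hL1]) (by rw [← hLm, inv_mul_cancel, hL1])
  refine ⟨{ ρ := fun B _ _ => MonoidHom.mk' (E B) (fun g g' => LinearEquiv.toLinearMap_injective (hLm B g g'))
            naturality := fun {B B'} _ _ _ _ φ g x => ?_ }, fun B _ _ g h => ?_⟩
  · have hnat : ptMat (k := k) ρ B' (VecGrp.ptMap φ ≫ g) = (ptMat (k := k) ρ B g).map φ := by
      rw [ptMat, Category.assoc, matOf_comp, ptMat, Matrix.map_map, Matrix.map_map]
      refine Matrix.ext fun i j => ?_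
      exact congrArg (fun f => f.hom (matOf (g ≫ ρ) i j)) (Scheme.ΓSpecIso_naturality (CommRingCat.ofHom φ.toRingHom))
    show VecGrp.Wmap φ (L B g x) = L B' (VecGrp.ptMap φ ≫ g) (VecGrp.Wmap φ x)
    have hb : ∀ j, VecGrp.Wmap φ (bB B j) = bB B' j := fun j => by simp [bB]
    rw [← (bB B).sum_repr x]
    simp only [map_sum]
    refine Finset.sum_congr rfl fun j _ => ?_
    have hs : ∀ (c : B) (z : B ⊗[k] (Fin n → k)), VecGrp.Wmap φ (c • z) = φ c • VecGrp.Wmap φ z := fun c z => by
      induction z using TensorProduct.induction_on with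
      | zero => simp
      | add p q hp hq => simp only [smul_add, map_add, hp, hq]
      | tmul b v => simp [TensorProduct.smul_tmul']
    rw [map_smul, hs, hs, map_smul, hb]
    congr 1
    simp only [L, Matrix.toLinAlgEquiv_self, map_sum, hnat, Matrix.map_apply, hs, hb]
  · exact (Matrix.toLinAlgEquiv (bB B)).injective ((congrArg LinearEquiv.toLinearMap h).trans (map_one _).symm)

end Groth.Agent.AlgGrpLib.RepOfHom
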