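import Groth.Agent.AbSchLib.Rigidity
import Groth.Agent.EGA43.DimFormula.Levels
import Groth.Agent.H8Lim.ProConsLimit
import Groth.Agent.Et18.Descent

/-!
# Rigidity with the hypothesis `κ(t) → H⁰` surjective on fibres
-/

set_option autoImplicit false
set_option backward.isDefEq.respectTransparency.types false

universe u

open CategoryTheory Limits AlgebraicGeometry Opposite TopologicalSpace
open Groth.Agent.AbSchLib

namespace Groth.Agent.AlgGrpLib.RigidityH0

section Core

variable {A : CommRingCat.{u}} [IsLocalRing A] {X : Scheme.{u}} (g : X ⟶ Spec A)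
variable [IsNoetherianRing A] [Flat g] (e : Spec A ⟶ X) (he : e ≫ g = 𝟙 _)
  (hk : Function.Surjective (pullback.snd g (closedPt A)).appTop.hom)

include he hk in
/-- Such a function vanishes in the stalks over the closed point. -/
theorem germ_eq_zero_core (s : Γ(X, ⊤)) (hs : e.appTop s = 0) (x : X) [IsNoetherianRing (X.presheaf.stalk x)]
    (hx : g x = IsLocalRing.closedPoint A) : X.presheaf.germ ⊤ x trivial s = 0 := by
  obtain ⟨_, ⟨U, hU, rfl⟩, hxU, -⟩ :=
    X.isBasis_affineOpens.exists_subset_of_mem_open (Set.mem_univ x) isOpen_univ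
  set φ := (X.presheaf.germ U x hxU).hom.comp (strMap g U).hom
  have hle : (IsLocalRing.maximalIdeal A).map φ ≤ IsLocalRing.maximalIdeal (X.presheaf.stalk x) := by
    rw [Ideal.map_le_iff_le_comap]
    intro a ha
    rw [Ideal.mem_comap, IsLocalRing.mem_maximalIdeal, mem_nonunits_iff]
    show ¬ IsUnit (X.presheaf.germ U x hxU (g.appLE ⊤ U le_top ((Scheme.ΓSpecIso A).inv a)))
    rw [← Scheme.mem_basicOpen _ _ x hxU, Scheme.basicOpen_appLE]
    rintro ⟨-, hx'⟩
    have hx'' : g x ∈ (Spec A).basicOpen ((Scheme.ΓSpecIso A).inv a) := hx'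
    rw [hx, basicOpen_eq_of_affine] at hx''
    exact hx'' ha
  have hmem : ∀ n : ℕ, X.presheaf.germ ⊤ x trivial s ∈ IsLocalRing.maximalIdeal (X.presheaf.stalk x) ^ n := by
    intro n
    have h1 := Ideal.mem_map_of_mem (X.presheaf.germ U x hxU).hom (mem_map_pow_of_section g e he hk s hs n ⟨U, hU⟩)
    rw [Ideal.map_map, Ideal.map_pow] at h1
    rw [TopCat.Presheaf.germ_res_apply] at h1
    exact Ideal.pow_right_mono hle n h1
  have hb := Ideal.iInf_pow_eq_bot_of_isLocalRing (IsLocalRing.maximalIdeal (X.presheaf.stalk x))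
    (IsLocalRing.maximalIdeal.isMaximal _).ne_top
  rw [← Submodule.mem_bot (R := X.presheaf.stalk x), ← hb]
  exact Submodule.mem_iInf _ |>.2 hmem

end Core

variable {T X Y : Scheme.{u}}

/-- The germ at a point over `t` of a function killed by the section is zero. -/
theorem germ_eq_zero_of_section' [IsLocallyNoetherian T] [IsLocallyNoetherian X] (g : X ⟶ T) [Flat g]
    (h0 : ∀ t : T, Function.Surjective (pullback.snd g (T.fromSpecResidueField t)).appTop)
    (e : T ⟶ X) (he : e ≫ g = 𝟙 T) (V : T.Opens) (hle : V ≤ e ⁻¹ᵁ (g ⁻¹ᵁ V)) (s : Γ(X, g ⁻¹ᵁ V))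
    (hs : e.appLE (g ⁻¹ᵁ V) V hle s = 0) (x : X) (hx : g x ∈ V) :
    X.presheaf.germ (g ⁻¹ᵁ V) x hx s = 0 := by
  set t := g x
  let j := T.fromSpecStalk t
  have : Flat j := flat_fromSpecStalk t
  let p := pullback.fst g j
  let g' := pullback.snd g j
  let e' : Spec (T.presheaf.stalk t) ⟶ pullback g j := pullback.lift (j ≫ e) (𝟙 _) (by simp [he])
  have he' : e' ≫ g' = 𝟙 _ := pullback.lift_snd _ _ _
  have hjV : ∀ y, j y ∈ V := by
    intro y
    have hy : j y ∈ Set.range j := ⟨y, rfl⟩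
    rw [Scheme.range_fromSpecStalk] at hy
    exact hy.mem_open V.isOpen hx
  have hp : (⊤ : (pullback g j).Opens) ≤ p ⁻¹ᵁ (g ⁻¹ᵁ V) := by
    intro y _
    have h1 : (p ≫ g) y = (g' ≫ j) y := by simp only [p, g', pullback.condition]
    have h2 : j (g' y) ∈ V := hjV _
    rw [← Scheme.Hom.comp_apply, ← h1] at h2
    exact h2
  let s' := p.appLE (g ⁻¹ᵁ V) ⊤ hp s
  have hs' : e'.appTop s' = 0 := by
    have hj : (⊤ : (Spec (T.presheaf.stalk t)).Opens) ≤ j ⁻¹ᵁ V := fun y _ => hjV y
    have : p.appLE (g ⁻¹ᵁ V) ⊤ hp ≫ e'.appTop = e.appLE (g ⁻¹ᵁ V) V hle ≫ j.appLE V ⊤ hj := by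
      rw [Scheme.Hom.appTop, Scheme.Hom.app_eq_appLE]
      erw [Scheme.Hom.appLE_comp_appLE, Scheme.Hom.appLE_comp_appLE]
      congr 1
      exact pullback.lift_fst _ _ _
    simp only [s', ← CommRingCat.comp_apply, this]
    rw [CommRingCat.comp_apply, hs, map_zero]
  obtain ⟨x', hx'1, hx'2⟩ := Scheme.Pullback.exists_preimage_pullback (f := g) (g := j) x
    (IsLocalRing.closedPoint _) (by simp [j, t])
  have hk : Function.Surjective (pullback.snd g' (closedPt (T.presheaf.stalk t))).appTop.hom := by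
    rw [← pullbackLeftPullbackSndIso_hom_snd g j (closedPt (T.presheaf.stalk t)), Scheme.Hom.comp_appTop]
    haveI : IsIso (pullbackLeftPullbackSndIso g j (closedPt (T.presheaf.stalk t))).hom.appTop :=
      inferInstanceAs (IsIso (Scheme.Γ.map (pullbackLeftPullbackSndIso g j (closedPt (T.presheaf.stalk t))).hom.op))
    exact (ConcreteCategory.bijective_of_isIso
      (pullbackLeftPullbackSndIso g j (closedPt (T.presheaf.stalk t))).hom.appTop).2.comp (h0 t)
  haveI : IsNoetherianRing ((pullback g j).presheaf.stalk x') :=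
    isNoetherianRing_of_surjective _ _ (p.stalkMap x').hom (p.stalkMap_surjective x')
  have h0 := germ_eq_zero_core g' e' he' hk s' hs' x' hx'2
  have hinj : Function.Injective (p.stalkMap x').hom := by
    algebraize [(p.stalkMap x').hom]
    have : Module.FaithfullyFlat (X.presheaf.stalk (p x')) ((pullback g j).presheaf.stalk x') :=
      @Module.FaithfullyFlat.of_flat_of_isLocalHom _ _ _ _ _ _ _
        (Flat.stalkMap p x') (p.toLRSHom.prop x')
    exact ‹RingHom.FaithfullyFlat _›.injective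
  suffices ∀ (hy : p x' ∈ g ⁻¹ᵁ V), X.presheaf.germ (g ⁻¹ᵁ V) (p x') hy s = 0 by
    have key : ∀ (y : X), y = x → (∀ hy : y ∈ g ⁻¹ᵁ V, X.presheaf.germ (g ⁻¹ᵁ V) y hy s = 0) →
        X.presheaf.germ (g ⁻¹ᵁ V) x hx s = 0 := by
      rintro y rfl h; exact h _
    exact key _ hx'1 this
  intro hy
  apply hinj
  rw [map_zero]
  erw [Scheme.Hom.germ_stalkMap_apply]
  rw [← h0]
  simp only [s', Scheme.Hom.appLE, CommRingCat.comp_apply]
  exact (TopCat.Presheaf.germ_res_apply _ _ _ _ _).symm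

/-- **Rigidity lemma** (with a section, locally Noetherian base): if a morphism contracts the fibre over `t`, it
factors through the base over a neighbourhood of `t`. No hypothesis on the target is needed. -/
theorem exists_opens_eq_comp_section [IsLocallyNoetherian T] [IsLocallyNoetherian X] (g : X ⟶ T) [Flat g]
    (hcl : IsClosedMap g.base) (h0 : ∀ t : T, Function.Surjective (pullback.snd g (T.fromSpecResidueField t)).appTop)
    (e : T ⟶ X) (he : e ≫ g = 𝟙 T) (f : X ⟶ Y) (t : T) (ht : (f '' (g ⁻¹' {t})).Subsingleton) :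
    ∃ W : T.Opens, t ∈ W ∧ (g ⁻¹ᵁ W).ι ≫ f = (g ⁻¹ᵁ W).ι ≫ g ≫ e ≫ f := by
  set h := g ≫ e ≫ f with hh
  have hget : ∀ a, g (e a) = a := fun a => by rw [← Scheme.Hom.comp_apply, he]; rfl
  have hconst : ∀ x, g x = t → f x = f (e t) ∧ h x = f (e t) := by
    intro x hx
    refine ⟨ht ⟨x, hx, rfl⟩ ⟨e t, hget t, rfl⟩, ?_⟩
    simp [hh, hx]
  obtain ⟨_, ⟨U, hU, rfl⟩, hyU, -⟩ :=
    Y.isBasis_affineOpens.exists_subset_of_mem_open (Set.mem_univ (f (e t))) isOpen_univ
  -- a neighbourhood of `t` over which both maps land in `U`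
  let G : X.Opens := f ⁻¹ᵁ U ⊓ h ⁻¹ᵁ U
  have hGc : IsClosed (g '' (G : Set X)ᶜ) := hcl _ G.isOpen.isClosed_compl
  have htG : t ∉ g '' (G : Set X)ᶜ := by
    rintro ⟨x, hxG, hxt⟩
    exact hxG ⟨show f x ∈ U from (hconst x hxt).1 ▸ hyU, show h x ∈ U from (hconst x hxt).2 ▸ hyU⟩
  obtain ⟨_, ⟨V, hV, rfl⟩, htV, hVG⟩ :=
    T.isBasis_affineOpens.exists_subset_of_mem_open (Set.mem_compl htG) hGc.isOpen_compl
  have hVG' : g ⁻¹ᵁ V ≤ G := fun x hx => by
    by_contra hc
    exact hVG hx ⟨x, hc, rfl⟩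
  have hle : V ≤ e ⁻¹ᵁ (g ⁻¹ᵁ V) := fun a ha => show g (e a) ∈ V by rw [hget]; exact ha
  have hker : ∀ a : Γ(Y, U), e.appLE (g ⁻¹ᵁ V) V hle
      (f.appLE U (g ⁻¹ᵁ V) (hVG'.trans inf_le_left) a - h.appLE U (g ⁻¹ᵁ V) (hVG'.trans inf_le_right) a) = 0 := by
    intro a
    rw [map_sub, ← CommRingCat.comp_apply, ← CommRingCat.comp_apply, Scheme.Hom.appLE_comp_appLE,
      Scheme.Hom.appLE_comp_appLE, sub_eq_zero]
    congr 2
    simp [hh, reassoc_of% he]
  -- a neighbourhood of the fibre on which all these functions vanish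
  have hnbhd : ∀ x, g x = t → ∃ N : X.Opens, x ∈ N ∧ ∃ hN : N ≤ g ⁻¹ᵁ V, ∀ a : Γ(Y, U),
      f.appLE U N (hN.trans (hVG'.trans inf_le_left)) a = h.appLE U N (hN.trans (hVG'.trans inf_le_right)) a := by
    intro x hx
    have hxV : x ∈ g ⁻¹ᵁ V := show g x ∈ V by rw [hx]; exact htV
    obtain ⟨_, ⟨W, hW, rfl⟩, hxW, hWV⟩ :=
      X.isBasis_affineOpens.exists_subset_of_mem_open hxV (g ⁻¹ᵁ V).isOpen
    have : IsNoetherianRing Γ(X, W) := IsLocallyNoetherian.component_noetherian ⟨W, hW⟩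
    obtain ⟨S, hS⟩ := IsNoetherian.noetherian (RingHom.ker (X.presheaf.germ W x hxW).hom)
    have hSx : ∀ q ∈ S, X.presheaf.germ W x hxW q = X.presheaf.germ W x hxW 0 := by
      intro q hq
      rw [map_zero]
      exact RingHom.mem_ker.1 (hS ▸ Submodule.subset_span hq)
    choose! M hxM iM hM using fun q (hq : q ∈ S) => X.presheaf.germ_eq (x := x) hxW hxW q 0 (hSx q hq)
    let N : X.Opens := W ⊓ S.inf (fun q => M q)
    have hxN : x ∈ N := ⟨hxW, by
      have : ∀ S' : Finset Γ(X, W), S' ⊆ S → x ∈ S'.inf (fun q => M q) := by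
        classical
        intro S'
        induction S' using Finset.induction with
        | empty => intro _; simp
        | insert q S' _ ih =>
          intro hsub
          rw [Finset.inf_insert]
          exact ⟨hxM q (hsub (Finset.mem_insert_self _ _)), ih (fun z hz => hsub (Finset.mem_insert_of_mem hz))⟩
      exact this S subset_rfl⟩
    refine ⟨N, hxN, inf_le_left.trans hWV, fun a => ?_⟩
    have hq := germ_eq_zero_of_section' g h0 e he V hle _ (hker a) x hxV
    set q := f.appLE U W (hWV.trans (hVG'.trans inf_le_left)) a - h.appLE U W (hWV.trans (hVG'.trans inf_le_right)) a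
    have hqk : q ∈ RingHom.ker (X.presheaf.germ W x hxW).hom := by
      rw [RingHom.mem_ker]
      refine Eq.trans ?_ hq
      rw [← TopCat.Presheaf.germ_res_apply X.presheaf (homOfLE (show W ≤ g ⁻¹ᵁ V from hWV)) x hxW]
      congr 1
      simp only [q, map_sub, ← CommRingCat.comp_apply, Scheme.Hom.appLE_map]
    have hker' : RingHom.ker (X.presheaf.germ W x hxW).hom ≤ RingHom.ker (X.presheaf.map (homOfLE (inf_le_left : N ≤ W)).op).hom := by
      rw [← hS, Submodule.span_le]
      intro z hz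
      rw [SetLike.mem_coe, RingHom.mem_ker]
      have h1 : N ≤ M z := inf_le_right.trans (Finset.inf_le hz)
      have h2 := congrArg (X.presheaf.map (homOfLE h1).op) (hM z hz).choose_spec
      rw [← CommRingCat.comp_apply, ← CommRingCat.comp_apply, ← Functor.map_comp, ← Functor.map_comp, map_zero] at h2
      exact h2
    have h3 := RingHom.mem_ker.1 (hker' hqk)
    simp only [q, map_sub, ← CommRingCat.comp_apply, Scheme.Hom.appLE_map] at h3
    exact sub_eq_zero.1 h3
  choose! N hxN hNV hN using hnbhd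
  let Nall : X.Opens := ⨆ (x : X) (_ : g x = t), N x
  have htN : t ∉ g '' (Nall : Set X)ᶜ := by
    rintro ⟨x, hx, hxt⟩
    exact hx (Opens.mem_iSup.2 ⟨x, Opens.mem_iSup.2 ⟨hxt, hxN x hxt⟩⟩)
  refine ⟨⟨(g '' (Nall : Set X)ᶜ)ᶜ, (hcl _ Nall.isOpen.isClosed_compl).isOpen_compl⟩, htN, ?_⟩
  set Z : X.Opens := g ⁻¹ᵁ (⟨(g '' (Nall : Set X)ᶜ)ᶜ, (hcl _ Nall.isOpen.isClosed_compl).isOpen_compl⟩ : T.Opens)
  have hZ : ∀ z : Z, ∃ x : X, g x = t ∧ z.1 ∈ N x := by
    rintro ⟨z, hz⟩
    have : z ∈ Nall := by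
      by_contra hc
      exact hz ⟨z, hc, rfl⟩
    obtain ⟨x, hx⟩ := Opens.mem_iSup.1 this
    obtain ⟨hxt, hx⟩ := Opens.mem_iSup.1 hx
    exact ⟨x, hxt, hx⟩
  apply Scheme.Cover.hom_ext (Scheme.openCoverOfIsOpenCover Z.toScheme (fun z : {W : X.affineOpens // W.1 ≤ Z ∧ ∃ x, g x = t ∧ W.1 ≤ N x} => Z.ι ⁻¹ᵁ z.1.1) ?_)
  · rintro ⟨W, hWZ, x, hxt, hWx⟩
    show (Z.ι ⁻¹ᵁ W.1).ι ≫ Z.ι ≫ f = (Z.ι ⁻¹ᵁ W.1).ι ≫ Z.ι ≫ h
    have : IsAffine W.1 := W.2
    have e0 : (Z.ι ⁻¹ᵁ W.1).ι ≫ Z.ι = (Z.ι ∣_ W.1) ≫ W.1.ι := (morphismRestrict_ι _ _).symm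
    rw [← Category.assoc, ← Category.assoc, e0, Category.assoc, Category.assoc]
    congr 1
    rw [← cancel_epi W.2.isoSpec.inv]
    have hWf : W.1 ≤ f ⁻¹ᵁ U := hWx.trans ((hNV x hxt).trans (hVG'.trans inf_le_left))
    have hWh : W.1 ≤ h ⁻¹ᵁ U := hWx.trans ((hNV x hxt).trans (hVG'.trans inf_le_right))
    have hfs : W.2.isoSpec.inv ≫ W.1.ι = W.2.fromSpec := rfl
    rw [reassoc_of% hfs, reassoc_of% hfs, ← IsAffineOpen.SpecMap_appLE_fromSpec f hU W.2 hWf,
      ← IsAffineOpen.SpecMap_appLE_fromSpec h hU W.2 hWh]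
    congr 2
    ext a
    have := congrArg (X.presheaf.map (homOfLE hWx).op) (hN x hxt a)
    simp only [← CommRingCat.comp_apply, Scheme.Hom.appLE_map] at this
    exact this
  · rw [IsOpenCover, eq_top_iff]
    intro z _
    obtain ⟨x, hxt, hzx⟩ := hZ z
    obtain ⟨_, ⟨W, hW, rfl⟩, hzW, hWle⟩ :=
      X.isBasis_affineOpens.exists_subset_of_mem_open (show z.1 ∈ (Z ⊓ N x : X.Opens) from ⟨z.2, hzx⟩) (Z ⊓ N x).isOpen
    exact Opens.mem_iSup.2 ⟨⟨⟨W, hW⟩, fun a ha => (hWle ha).1, x, hxt, fun a ha => (hWle ha).2⟩, hzW⟩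

/-- The locus where a morphism equals its composite with the section. -/
def eqLocus (g : X ⟶ T) (e : T ⟶ X) (f : X ⟶ Y) : Set T :=
  {t | ∃ W : T.Opens, t ∈ W ∧ (g ⁻¹ᵁ W).ι ≫ f = (g ⁻¹ᵁ W).ι ≫ g ≫ e ≫ f}

theorem subsingleton_of_mem_eqLocus (g : X ⟶ T) (e : T ⟶ X) (f : X ⟶ Y) {t : T} (ht : t ∈ eqLocus g e f) :
    (f '' (g ⁻¹' {t})).Subsingleton := by
  obtain ⟨W, htW, hW⟩ := ht
  have : ∀ x, g x = t → f x = f (e t) := by
    intro x hx
    obtain ⟨x', rfl⟩ : x ∈ Set.range (g ⁻¹ᵁ W).ι := by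
      rw [Scheme.Opens.range_ι]; show g x ∈ W; rw [hx]; exact htW
    have h := congrArg (fun m => m.base x') hW
    simp only [Scheme.Hom.comp_base, TopCat.comp_app] at h
    refine h.trans ?_
    exact congrArg (fun y => f (e y)) hx
  rintro _ ⟨x, hx, rfl⟩ _ ⟨x', hx', rfl⟩
  rw [this x hx, this x' hx']

theorem eq_of_eqLocus_eq_univ (g : X ⟶ T) (e : T ⟶ X) (f : X ⟶ Y) (h : eqLocus g e f = Set.univ) :
    f = g ≫ e ≫ f := by
  choose W htW hW using fun t => (h ▸ Set.mem_univ t : t ∈ eqLocus g e f)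
  refine Scheme.Cover.hom_ext (Scheme.openCoverOfIsOpenCover X (fun t => g ⁻¹ᵁ W t) ?_) _ _ fun t => hW t
  rw [IsOpenCover, eq_top_iff]
  intro x _
  exact Opens.mem_iSup.2 ⟨g x, htW (g x)⟩

/-- For a flat closed morphism with a section and trivial `H⁰` on fibres, the equality locus is clopen. -/
theorem isClopen_eqLocus [IsLocallyNoetherian T] [IsLocallyNoetherian X] (g : X ⟶ T) [Flat g]
    (hcl : IsClosedMap g.base) (h0 : ∀ t : T, Function.Surjective (pullback.snd g (T.fromSpecResidueField t)).appTop)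
    (e : T ⟶ X) (he : e ≫ g = 𝟙 T) (f : X ⟶ Y) {S : Scheme.{u}} (q : Y ⟶ S) [IsSeparated q]
    (hfq : f ≫ q = (g ≫ e ≫ f) ≫ q) :
    IsClopen (eqLocus g e f) ∧ ∀ t, (f '' (g ⁻¹' {t})).Subsingleton → t ∈ eqLocus g e f := by
  have hmem : ∀ t, (f '' (g ⁻¹' {t})).Subsingleton → t ∈ eqLocus g e f :=
    fun t ht => exists_opens_eq_comp_section g hcl h0 e he f t ht
  have hopen : IsOpen (eqLocus g e f) :=
    isOpen_iff_forall_mem_open.2 fun t ⟨W, htW, hW⟩ => ⟨W, fun t' ht' => ⟨W, ht', hW⟩, W.isOpen, htW⟩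
  refine ⟨⟨?_, hopen⟩, hmem⟩
  let k : X ⟶ pullback q q := pullback.lift f (g ≫ e ≫ f) hfq
  have hdiag : IsClosed (Set.range (pullback.diagonal q).base) := (pullback.diagonal q).isClosedEmbedding.isClosed_range
  have hspec : ∀ t' t, t' ⤳ t → t' ∈ eqLocus g e f → t ∈ eqLocus g e f := by
    rintro t' t hts ⟨W, htW, hW⟩
    apply hmem
    have : ∀ x, g x = t → f x = f (e t) := by
      intro x hx
      obtain ⟨x', hx'x, hx't⟩ := Flat.generalizingMap (f := g) (show t' ⤳ g x by rw [hx]; exact hts)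
      obtain ⟨z, rfl⟩ : x' ∈ Set.range (g ⁻¹ᵁ W).ι := by
        rw [Scheme.Opens.range_ι]; show g x' ∈ W; rw [hx't]; exact htW
      have hk' : k.base ((g ⁻¹ᵁ W).ι.base z) ∈ Set.range (pullback.diagonal q).base := by
        refine ⟨f.base ((g ⁻¹ᵁ W).ι.base z), ?_⟩
        have hh : (g ⁻¹ᵁ W).ι ≫ k = (g ⁻¹ᵁ W).ι ≫ f ≫ pullback.diagonal q := by
          apply pullback.hom_ext
          · simp only [k, Category.assoc, pullback.lift_fst, pullback.diagonal_fst, Category.comp_id]
          · simp only [k, Category.assoc, pullback.lift_snd, pullback.diagonal_snd, Category.comp_id]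
            exact hW.symm
        exact (congrArg (fun m => m.base z) hh).symm
      obtain ⟨y, hy⟩ := (hx'x.map k.continuous).mem_closed hdiag hk'
      have h1 : f.base x = y := by
        have := congrArg (pullback.fst q q).base hy
        rw [← Scheme.Hom.comp_apply, pullback.diagonal_fst, ← Scheme.Hom.comp_apply, pullback.lift_fst] at this
        exact this.symm
      have h2 : (g ≫ e ≫ f).base x = y := by
        have := congrArg (pullback.snd q q).base hy
        rw [← Scheme.Hom.comp_apply, pullback.diagonal_snd, ← Scheme.Hom.comp_apply, pullback.lift_snd] at this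
        exact this.symm
      refine h1.trans (h2.symm.trans ?_)
      exact congrArg (fun s => f (e s)) hx
    rintro _ ⟨x, hx, rfl⟩ _ ⟨x', hx', rfl⟩
    rw [this x hx, this x' hx']
  have hpro : ProCons.IsProConstructible (eqLocus g e f) :=
    (H8ProCons.isLocallyConstructible_iff_ind_and_pro.1
      (EGA43.DimFormula.isLocallyConstructible_of_isOpen hopen)).2
  refine closure_subset_iff_isClosed.1 fun t ht => ?_
  obtain ⟨t', ht', hs⟩ := (H8Lim.mem_closure_iff_exists_specializes hpro).1 ht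
  exact hspec t' t hs ht'

/-- Rigidity with a section. -/
theorem eq_comp_section_of_collapse [IsLocallyNoetherian T] [IsLocallyNoetherian X] [PreconnectedSpace T]
    (g : X ⟶ T) [Flat g] (hcl : IsClosedMap g.base)
    (h0 : ∀ t : T, Function.Surjective (pullback.snd g (T.fromSpecResidueField t)).appTop)
    (e : T ⟶ X) (he : e ≫ g = 𝟙 T) (f : X ⟶ Y) {S : Scheme.{u}} (q : Y ⟶ S) [IsSeparated q]
    (hfq : f ≫ q = (g ≫ e ≫ f) ≫ q) (t : T) (ht : (f '' (g ⁻¹' {t})).Subsingleton) :
    f = g ≫ e ≫ f := by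
  obtain ⟨hc, hmem⟩ := isClopen_eqLocus g hcl h0 e he f q hfq
  exact eq_of_eqLocus_eq_univ g e f (hc.eq_univ ⟨t, hmem t ht⟩)

/-- Bijectivity of `κ(t) → H⁰` passes to the fibres of a base change along a point over `t`. -/
theorem bijective_appTop_fibre_baseChange (p : X ⟶ T) [QuasiCompact p] [QuasiSeparated p]
    {Z : Scheme.{u}} (b : Z ⟶ T) (z : Z)
    (h : Function.Bijective (pullback.snd p (T.fromSpecResidueField (b z))).appTop) :
    Function.Bijective (pullback.snd (pullback.snd p b) (Z.fromSpecResidueField z)).appTop := by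
  have key : ∀ {A B C : Scheme.{u}} (a : A ⟶ B) [IsIso a] (c : B ⟶ C),
      Function.Bijective c.appTop → Function.Bijective (a ≫ c).appTop := by
    intro A B C a _ c hc
    haveI : IsIso a.appTop := inferInstanceAs (IsIso (Scheme.Γ.map a.op))
    rw [Scheme.Hom.comp_appTop]
    exact (ConcreteCategory.bijective_of_isIso a.appTop).comp hc
  rw [← pullbackLeftPullbackSndIso_hom_snd p b (Z.fromSpecResidueField z)]
  refine key _ _ ?_
  let σ := Spec.map (b.residueFieldMap z)
  have hσ : σ ≫ T.fromSpecResidueField (b z) = Z.fromSpecResidueField z ≫ b :=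
    Scheme.Hom.SpecMap_residueFieldMap_fromSpecResidueField b z
  suffices ∀ c : Spec (Z.residueField z) ⟶ T, σ ≫ T.fromSpecResidueField (b z) = c →
      Function.Bijective (pullback.snd p c).appTop from this _ hσ
  rintro c rfl
  have h2 := pullbackLeftPullbackSndIso_hom_snd p (T.fromSpecResidueField (b z)) σ
  rw [← Iso.eq_inv_comp] at h2
  rw [h2]
  refine key _ _ ?_
  haveI : IsIso (pullback.snd p (T.fromSpecResidueField (b z))).appTop :=
    (ConcreteCategory.isIso_iff_bijective _).2 h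
  haveI : CompactSpace ↥(pullback p (T.fromSpecResidueField (b z))) :=
    QuasiCompact.compactSpace_of_compactSpace (pullback.snd p (T.fromSpecResidueField (b z)))
  haveI : QuasiSeparatedSpace ↥(pullback p (T.fromSpecResidueField (b z))) :=
    quasiSeparatedSpace_of_quasiSeparated (pullback.snd p (T.fromSpecResidueField (b z)))
  haveI : Flat σ := inferInstance
  have hpo := Et18.isPushout_appTop_of_flat (IsPullback.of_hasPullback (pullback.snd p (T.fromSpecResidueField (b z))) σ)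
  haveI := hpo.isIso_inr_of_isIso
  exact ConcreteCategory.bijective_of_isIso (pullback.snd (pullback.snd p (T.fromSpecResidueField (b z))) σ).appTop

/-- Rigidity for proper flat morphisms without a section. -/
theorem exists_section_factor_of_proper [IsLocallyNoetherian T] [IsLocallyNoetherian X] [ConnectedSpace T]
    (p : X ⟶ T) [Flat p] [IsProper p]
    (h0 : ∀ t : T, Function.Bijective (pullback.snd p (T.fromSpecResidueField t)).appTop)
    (f : X ⟶ Y) (q : Y ⟶ T) [IsSeparated q] (hf : f ≫ q = p)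
    (s : T) (hs : (f '' (p ⁻¹' {s})).Subsingleton) :
    ∃ t : T ⟶ Y, t ≫ q = 𝟙 T ∧ f = p ≫ t := by
  haveI : Surjective p := ⟨fun t => by
    by_contra hne
    haveI : IsEmpty ↥(pullback p (T.fromSpecResidueField t)) := ⟨fun z => by
      refine hne ⟨(pullback.fst p (T.fromSpecResidueField t)).base z, ?_⟩
      have h := congrArg (fun m : pullback p (T.fromSpecResidueField t) ⟶ T => m.base z) pullback.condition
      simp only [Scheme.Hom.comp_base, TopCat.comp_app] at h
      exact h.trans (Scheme.fromSpecResidueField_apply _ _)⟩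
    have hinj := (h0 t).1.comp (ConcreteCategory.bijective_of_isIso (Scheme.ΓSpecIso (T.residueField t)).inv).1
    exact one_ne_zero (hinj (Subsingleton.elim (α := Γ(pullback p (T.fromSpecResidueField t), ⊤)) _ _) : (1 : T.residueField t) = 0)⟩
  haveI : LocallyOfFinitePresentation p := inferInstance
  haveI : IsLocallyNoetherian (pullback p p) := LocallyOfFiniteType.isLocallyNoetherian (pullback.snd p p)
  have hfib : ∀ x : X, ((pullback.fst p p ≫ f) '' ((pullback.snd p p) ⁻¹' {x})).Subsingleton ↔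
      (f '' (p ⁻¹' {p x})).Subsingleton := by
    intro x
    have e : (pullback.fst p p ≫ f) '' ((pullback.snd p p) ⁻¹' {x}) = f '' (p ⁻¹' {p x}) := by
      ext y
      constructor
      · rintro ⟨z, (hz : (pullback.snd p p).base z = x), rfl⟩
        refine ⟨(pullback.fst p p).base z, ?_, rfl⟩
        show (pullback.fst p p ≫ p).base z = p x
        rw [pullback.condition, Scheme.Hom.comp_apply, hz]
      · rintro ⟨x', hx', rfl⟩
        obtain ⟨z, hz1, hz2⟩ := Scheme.Pullback.exists_preimage_pullback (f := p) (g := p) x' x hx'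
        exact ⟨z, hz2, by rw [Scheme.Hom.comp_apply, hz1]⟩
    rw [e]
  have he : pullback.diagonal p ≫ pullback.snd p p = 𝟙 X := pullback.diagonal_snd p
  have hfq : (pullback.fst p p ≫ f) ≫ q = (pullback.snd p p ≫ pullback.diagonal p ≫ pullback.fst p p ≫ f) ≫ q := by
    simp only [Category.assoc, hf, pullback.diagonal_fst_assoc, pullback.condition]
  obtain ⟨hc, hmem⟩ := isClopen_eqLocus (pullback.snd p p) (pullback.snd p p).isClosedMap
    (fun x => (bijective_appTop_fibre_baseChange p p x (h0 (p x))).2) (pullback.diagonal p) he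
    (pullback.fst p p ≫ f) q hfq
  let B : Set T := {t | (f '' (p ⁻¹' {t})).Subsingleton}
  have hB : eqLocus (pullback.snd p p) (pullback.diagonal p) (pullback.fst p p ≫ f) = p ⁻¹' B :=
    Set.ext fun x => ⟨fun hx => (hfib x).1 (subsingleton_of_mem_eqLocus _ _ _ hx), fun hx => hmem x ((hfib x).2 hx)⟩
  rw [hB] at hc
  have hq := Flat.isQuotientMap_of_surjective p
  have hB' : B = Set.univ := IsClopen.eq_univ ⟨hq.isClosed_preimage.1 hc.1, hq.isOpen_preimage.1 hc.2⟩ ⟨s, hs⟩
  have key := eq_of_eqLocus_eq_univ (pullback.snd p p) (pullback.diagonal p) (pullback.fst p p ≫ f) (by rw [hB, hB']; rfl)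
  simp only [pullback.diagonal_fst_assoc] at key
  have hd : ∀ {W : Scheme.{u}} (g₁ g₂ : W ⟶ X), g₁ ≫ p = g₂ ≫ p → g₁ ≫ f = g₂ ≫ f := fun {W} g₁ g₂ h => by
    have := congrArg (fun m => pullback.lift g₁ g₂ h ≫ m) key
    rwa [pullback.lift_fst_assoc, pullback.lift_snd_assoc] at this
  refine ⟨EffectiveEpi.desc p f hd, ?_, (EffectiveEpi.fac p f hd).symm⟩
  rw [← cancel_epi p, EffectiveEpi.fac_assoc, hf, Category.comp_id]

/-- A morphism factoring through the point on a fibre collapses it. -/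
theorem collapse_of_factor (p : X ⟶ T) (f : X ⟶ Y) (t : T) (r : Spec (T.residueField t) ⟶ Y)
    (h : pullback.fst p (T.fromSpecResidueField t) ≫ f = pullback.snd p (T.fromSpecResidueField t) ≫ r) :
    (f '' (p ⁻¹' {t})).Subsingleton := by
  have key : ∀ x, p x = t → f x = r (IsLocalRing.closedPoint (T.residueField t)) := by
    intro x hx
    obtain ⟨z, hz, -⟩ := Scheme.Pullback.exists_preimage_pullback (f := p) (g := T.fromSpecResidueField t) x
      (IsLocalRing.closedPoint (T.residueField t)) (hx.trans (Scheme.fromSpecResidueField_apply _ _).symm)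
    have h' := congrArg (fun m => m.base z) h
    simp only [Scheme.Hom.comp_base, TopCat.comp_app] at h'
    rw [← hz]
    refine h'.trans (congrArg r.base ?_)
    exact @Subsingleton.elim _ (inferInstanceAs (Subsingleton (PrimeSpectrum _))) _ _
  rintro _ ⟨x, hx, rfl⟩ _ ⟨x', hx', rfl⟩
  rw [key x hx, key x' hx']

end Groth.Agent.AlgGrpLib.RigidityH0
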