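import Groth.Agent.AbSchLib.RigidityOver
import Groth.Agent.AbSchLib.Rigidity

/-!
# Rigidity over locally Noetherian bases with arbitrary separated target
-/

universe u

open CategoryTheory Limits AlgebraicGeometry MonoidalCategory CartesianMonoidalCategory MonObj TopologicalSpace

namespace Groth.Agent.AlgGrpLib

open Groth.Agent.AbSchLib

theorem isClopen_collapsedLocus_and_eq_section_noeth {S T X Y : Scheme.{u}} (p₀ : T ⟶ S) (q₀ : Y ⟶ S) [IsSeparated q₀]
    [IsLocallyNoetherian T]
    (g : X ⟶ T) [IsProper g] [Flat g] [LocallyOfFinitePresentation g] [GeometricallyConnected g] [GeometricallyReduced g]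
    (f : X ⟶ Y) (e : T ⟶ X) (he : e ≫ g = 𝟙 T) (hf : f ≫ q₀ = g ≫ p₀) :
    IsClopen (collapsedLocus g f) ∧ ∀ W : T.Opens, (W : Set T) ⊆ collapsedLocus g f →
      (g ⁻¹ᵁ W).ι ≫ f = (g ⁻¹ᵁ W).ι ≫ g ≫ e ≫ f :=
  isClopen_collapsedLocus_of_local q₀ g e he f (by simp only [Category.assoc, hf, reassoc_of% he])
    fun t ht => exists_opens_eq_comp_section g e he f t ht

theorem eq_comp_section_of_collapsed_noeth {S T X Y : Scheme.{u}} (p₀ : T ⟶ S) (q₀ : Y ⟶ S) [IsSeparated q₀]
    [IsLocallyNoetherian T] (g : X ⟶ T) [IsProper g] [Flat g] [LocallyOfFinitePresentation g]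
    [GeometricallyConnected g] [GeometricallyReduced g] (f : X ⟶ Y) (hf : f ≫ q₀ = g ≫ p₀)
    (e : T ⟶ X) (he : e ≫ g = 𝟙 T) (h : ∀ t, t ∈ collapsedLocus g f) : f = g ≫ e ≫ f := by
  have h1 := (isClopen_collapsedLocus_and_eq_section_noeth p₀ q₀ g f e he hf).2 ⊤ fun t _ => h t
  have h2 := X.topIso.inv ≫= h1
  simp only [← Category.assoc] at h2
  simpa using h2

variable {S : Scheme.{u}}

/-- A morphism `X × X' ⟶ Y` constant on one axis is independent of the first variable. -/
theorem eq_snd_comp_of_axis_noeth (X X' Y : Over S) [IsProper X.hom] [Flat X.hom] [LocallyOfFinitePresentation X.hom]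
    [GeometricallyConnected X.hom] [GeometricallyReduced X.hom] [GeometricallyConnected X'.hom]
    [IsSeparated Y.hom] [IsLocallyNoetherian X'.left] (e : 𝟙_ (Over S) ⟶ X) (e' : 𝟙_ (Over S) ⟶ X')
    (y : 𝟙_ (Over S) ⟶ Y) (d : X ⊗ X' ⟶ Y) (hd : lift (𝟙 X) (toUnit X ≫ e') ≫ d = toUnit X ≫ y) :
    d = snd X X' ≫ lift (toUnit X' ≫ e) (𝟙 X') ≫ d := by
  let g : (X ⊗ X').left ⟶ X'.left := pullback.snd X.hom X'.hom
  have hs : (lift (toUnit X' ≫ e) (𝟙 X')).left ≫ g = 𝟙 _ := by
    show (lift (toUnit X' ≫ e) (𝟙 X')).left ≫ (snd X X').left = 𝟙 _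
    rw [← Over.comp_left, lift_snd]; rfl
  have hdw : d.left ≫ Y.hom = g ≫ X'.hom := by
    rw [Over.w d]
    exact pullback.condition
  have hsec : ∀ s, X'.hom (e'.left s) = s := fun s => by
    rw [← Scheme.Hom.comp_apply, Over.w e']; rfl
  have haxis : ∀ s, e'.left s ∈ collapsedLocus g d.left := by
    intro s
    rintro _ ⟨z, hz, rfl⟩ _ ⟨z', hz', rfl⟩
    have key : ∀ w, g w = e'.left s → d.left w = y.left s := by
      intro w hw
      obtain ⟨v, hv1, hv2⟩ := Scheme.Pullback.exists_preimage_pullback (f := g) (g := e'.left) w s hw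
      have he' : e'.left ≫ X'.hom = 𝟙 S := Over.w e'
      have hsnd : pullback.snd g e'.left = pullback.fst g e'.left ≫ pullback.fst X.hom X'.hom ≫ X.hom := by
        rw [pullback.condition (f := X.hom) (g := X'.hom)]
        change _ = pullback.fst g e'.left ≫ g ≫ X'.hom
        rw [pullback.condition_assoc, he']
        exact (Category.comp_id _).symm
      have hA1 : (lift (𝟙 X) (toUnit X ≫ e')).left ≫ pullback.fst X.hom X'.hom = 𝟙 X.left := by
        show (lift (𝟙 X) (toUnit X ≫ e')).left ≫ (fst X X').left = _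
        rw [← Over.comp_left, lift_fst]; rfl
      have hA2 : (lift (𝟙 X) (toUnit X ≫ e')).left ≫ g = X.hom ≫ e'.left := by
        show (lift (𝟙 X) (toUnit X ≫ e')).left ≫ (snd X X').left = _
        rw [← Over.comp_left, lift_snd]; rfl
      have hfac : pullback.fst g e'.left =
          (pullback.fst g e'.left ≫ pullback.fst X.hom X'.hom) ≫ (lift (𝟙 X) (toUnit X ≫ e')).left := by
        apply pullback.hom_ext
        · rw [Category.assoc, hA1]
          exact (Category.comp_id _).symm
        · change pullback.fst g e'.left ≫ g = (_ ≫ _) ≫ g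
          rw [Category.assoc, hA2, pullback.condition, hsnd]
          simp only [Category.assoc]
      rw [← hv1, hfac, ← Scheme.Hom.comp_apply, Category.assoc, ← Over.comp_left, hd, Over.comp_left,
        Over.toUnit_left, ← Category.assoc, Category.assoc (pullback.fst g e'.left), ← hsnd, Scheme.Hom.comp_apply, hv2]
    rw [key z hz, key z' hz']
  have hall : ∀ a, a ∈ collapsedLocus g d.left := by
    intro a
    obtain ⟨hclopen, -⟩ := isClopen_collapsedLocus_and_eq_section_noeth X'.hom Y.hom g d.left _ hs hdw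
    exact (X'.hom.isConnected_preimage_singleton (X'.hom a)).isPreconnected.subset_isClopen hclopen
      ⟨e'.left (X'.hom a), hsec _, haxis _⟩ rfl
  ext
  rw [Over.comp_left, Over.comp_left, Over.snd_left]
  exact eq_comp_section_of_collapsed_noeth X'.hom Y.hom g d.left hdw _ hs hall

open GrpObj in
/-- A pointed morphism from an abelian scheme to a separated group scheme is a homomorphism. -/
theorem isMonHom_of_one_noeth (X Y : Over S) [GrpObj X] [IsProper X.hom] [Flat X.hom] [LocallyOfFinitePresentation X.hom]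
    [GeometricallyConnected X.hom] [GeometricallyReduced X.hom] [GrpObj Y] [IsSeparated Y.hom]
    [IsLocallyNoetherian X.left] (f : X ⟶ Y) (hf : η[X] ≫ f = η[Y]) : IsMonHom f := by
  have h1 : ∀ Z : Over S, (1 : Z ⟶ X) ≫ f = 1 := fun Z => by
    rw [Hom.one_def, Hom.one_def, Category.assoc, hf]
  let d : X ⊗ X ⟶ Y := ((fst X X * snd X X) ≫ f) * (fst X X ≫ f * snd X X ≫ f)⁻¹
  have ev : ∀ (a b : X ⟶ X), lift a b ≫ d = ((a * b) ≫ f) * (a ≫ f * b ≫ f)⁻¹ := fun a b => by
    simp only [d, comp_mul, comp_inv, ← Category.assoc, lift_fst, lift_snd]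
  have hd : lift (𝟙 X) (toUnit X ≫ η) ≫ d = toUnit X ≫ η := by
    rw [← Hom.one_def, ev, _root_.mul_one, h1, _root_.mul_one, _root_.mul_inv_cancel]
    rfl
  have hd' : lift (toUnit X ≫ η) (𝟙 X) ≫ d = 1 := by
    rw [← Hom.one_def, ev, _root_.one_mul, h1, _root_.one_mul, _root_.mul_inv_cancel]
  have key := eq_snd_comp_of_axis_noeth X X Y η η η d hd
  rw [hd', comp_one, mul_inv_eq_one] at key
  refine ⟨hf, ?_⟩
  rw [Hom.mul_def (fst X X) (snd X X), lift_fst_snd, Category.id_comp] at key
  rw [key, Hom.mul_def, ← lift_map, lift_fst_snd, Category.id_comp]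


end Groth.Agent.AlgGrpLib
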