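import Groth.Agent.ThetaLib.Scalar
import Groth.Agent.CohCmpLib.Degree0
import Groth.Agent.H8Lim.AmpleStage

/-!
# Sections which are images of a pulled back section
-/

set_option autoImplicit false
set_option backward.isDefEq.respectTransparency.types false

universe u

open CategoryTheory CategoryTheory.Limits AlgebraicGeometry TopologicalSpace
open Groth.Agent.Coherent Groth.Agent.PicLib Groth.Agent.AmpleLib

namespace Groth.Agent.AlgGrpLib.SecImages

variable {X Y Z : Scheme.{u}}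

/-- The comparison `f^* g^* M ≅ h^* M` for `f ≫ g = h`. -/
noncomputable def trIso {f : Z ⟶ Y} {g : Y ⟶ X} {h : Z ⟶ X} (e : f ≫ g = h) (M : X.Modules) :
    (Scheme.Modules.pullback f).obj ((Scheme.Modules.pullback g).obj M) ≅ (Scheme.Modules.pullback h).obj M :=
  (Scheme.Modules.pullbackComp f g).app M ≪≫ (Scheme.Modules.pullbackCongr e).app M

theorem trIso_app {f : Z ⟶ Y} {g : Y ⟶ X} {h : Z ⟶ X} (e : f ≫ g = h) (M : X.Modules) (m : Γ(M, ⊤)) :
    (trIso e M).hom.app ⊤ (pullSec f (pullSec g m)) = pullSec h m :=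
  (congrArg (((Scheme.Modules.pullbackCongr e).app M).hom.app ⊤)
    (H8Lim.pullbackComp_hom_app_pullSec f g M m)).trans (H8Lim.pullSec_congr e M m)

theorem trIso_inv_app {f : Z ⟶ Y} {g : Y ⟶ X} {h : Z ⟶ X} (e : f ≫ g = h) (M : X.Modules) (m : Γ(M, ⊤)) :
    (trIso e M).inv.app ⊤ (pullSec h m) = pullSec f (pullSec g m) := by
  rw [← trIso_app e M m]
  exact congr(($((trIso e M).hom_inv_id)).app ⊤ _)

/-- The comparison `f^* g^* M ≅ M` for `f ≫ g = 𝟙`. -/
noncomputable def retIso {f : X ⟶ Y} {g : Y ⟶ X} (e : f ≫ g = 𝟙 X) (M : X.Modules) :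
    (Scheme.Modules.pullback f).obj ((Scheme.Modules.pullback g).obj M) ≅ M :=
  trIso e M ≪≫ (Scheme.Modules.pullbackId X).app M

theorem retIso_app {f : X ⟶ Y} {g : Y ⟶ X} (e : f ≫ g = 𝟙 X) (M : X.Modules) (m : Γ(M, ⊤)) :
    (retIso e M).hom.app ⊤ (pullSec f (pullSec g m)) = m :=
  (congrArg (((Scheme.Modules.pullbackId X).app M).hom.app ⊤) (trIso_app e M m)).trans
    (CohCmpLib.pullbackId_hom_app_pullSec M ⊤ m)

/-- `x` is the image of `q^* s` under an isomorphism. -/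
def Img (q : Z ⟶ X) {M : X.Modules} (s : Γ(M, ⊤)) {N : Z.Modules} (x : Γ(N, ⊤)) : Prop :=
  ∃ e : (Scheme.Modules.pullback q).obj M ≅ N, x = e.hom.app ⊤ (pullSec q s)

variable {M : X.Modules} {s : Γ(M, ⊤)}

theorem Img.map {q : Z ⟶ X} {N N' : Z.Modules} {x : Γ(N, ⊤)} (h : Img q s x) (e : N ≅ N') :
    Img q s (e.hom.app ⊤ x) := by
  obtain ⟨e₀, rfl⟩ := h
  exact ⟨e₀ ≪≫ e, rfl⟩

theorem Img.pull {Z' : Scheme.{u}} {q : Z ⟶ X} {q' : Z' ⟶ X} {N : Z.Modules} {x : Γ(N, ⊤)} (h : Img q s x)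
    (f : Z' ⟶ Z) (e : f ≫ q = q') : Img q' s (show Γ((Scheme.Modules.pullback f).obj N, ⊤) from pullSec f x) := by
  obtain ⟨e₀, rfl⟩ := h
  refine ⟨(trIso e M).symm ≪≫ (Scheme.Modules.pullback f).mapIso e₀, ?_⟩
  show _ = ((Scheme.Modules.pullback f).map e₀.hom).app ⊤ ((trIso e M).inv.app ⊤ (pullSec q' s))
  rw [trIso_inv_app]
  exact (H8Lim.map_app_pullSec f e₀.hom (U := ⊤) (pullSec q s)).symm

theorem Img.glocus_eq {q : Z ⟶ X} {N : Z.Modules} {x : Γ(N, ⊤)} (hM : PicF.IsInvertible M) (h : Img q s x) :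
    glocus N x = q ⁻¹ᵁ glocus M s := by
  obtain ⟨e, rfl⟩ := h
  exact (glocus_map_iso e _).trans (glocus_pullSec q hM s)

theorem eq_of_smulMod_eq {N : Z.Modules} (hN : PicF.IsInvertible N) {r r' : Γ(Z, ⊤)}
    (h : EulerLib.smulMod N r = EulerLib.smulMod N r') : r = r' := by
  obtain ⟨U, g, hy, hg⟩ := exists_cover hN
  refine TopCat.Sheaf.eq_of_locally_eq' Z.sheaf U ⊤ (fun y => homOfLE le_top)
    (fun y _ => Opens.mem_iSup.2 ⟨y, hy y⟩) r r' fun y => ?_
  refine (hg y (U y) le_rfl).1 ?_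
  show PicLib.res _ r • resM N le_rfl (g y) = PicLib.res _ r' • resM N le_rfl (g y)
  rw [resM_self, ← ThetaLib.smulMod_app', ← ThetaLib.smulMod_app', h]

theorem Img.exists_unit {q : Z ⟶ X} {N : Z.Modules} (hN : PicF.IsInvertible N) {x y : Γ(N, ⊤)}
    (hx : Img q s x) (hy : Img q s y) : ∃ c : Γ(Z, ⊤), IsUnit c ∧ x = c • y := by
  obtain ⟨e₁, rfl⟩ := hx
  obtain ⟨e₂, rfl⟩ := hy
  obtain ⟨r, hr⟩ := ThetaLib.exists_eq_smulMod hN (e₂.inv ≫ e₁.hom)
  obtain ⟨r', hr'⟩ := ThetaLib.exists_eq_smulMod hN (e₁.inv ≫ e₂.hom)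
  refine ⟨r, IsUnit.of_mul_eq_one r' (eq_of_smulMod_eq hN ?_), ?_⟩
  · have hcomp : EulerLib.smulMod N r ≫ EulerLib.smulMod N r' = EulerLib.smulMod N (r * r') := by
      refine Scheme.Modules.hom_ext _ _ fun V => ConcreteCategory.hom_ext _ _ fun z => ?_
      show (EulerLib.smulMod N r').app V ((EulerLib.smulMod N r).app V z) = _
      rw [ThetaLib.smulMod_app', ThetaLib.smulMod_app', ThetaLib.smulMod_app', map_mul, mul_smul, smul_comm]
    have hone : EulerLib.smulMod N (1 : Γ(Z, ⊤)) = 𝟙 N := by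
      refine Scheme.Modules.hom_ext _ _ fun V => ConcreteCategory.hom_ext _ _ fun z => ?_
      rw [ThetaLib.smulMod_app', map_one, one_smul]
      rfl
    rw [← hcomp, hone, ← hr, ← hr', Category.assoc, Iso.hom_inv_id_assoc, Iso.inv_hom_id]
  · have h1 : e₁.hom.app ⊤ (pullSec q s) = (e₂.inv ≫ e₁.hom).app ⊤ (e₂.hom.app ⊤ (pullSec q s)) :=
      (congrArg (e₁.hom.app ⊤) congr(($(e₂.hom_inv_id)).app ⊤ (pullSec q s))).symm
    rw [h1, hr, ThetaLib.smulMod_app']
    refine congrArg (· • _) ?_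
    exact congr($(Z.presheaf.map_id (Opposite.op ⊤)) r)

end Groth.Agent.AlgGrpLib.SecImages

namespace Groth.Agent.AlgGrpLib.SecImages

open CategoryTheory AlgebraicGeometry Groth.Agent.Coherent Groth.Agent.PicLib Groth.Agent.AmpleLib

variable {P X : Scheme.{u}}

/-- Pulled back sections, translated. -/
noncomputable def transl {th : X ⟶ X} {M : X.Modules} (ψ : (Scheme.Modules.pullback th).obj M ≅ M) :
    Γ(M, ⊤) →+ Γ(M, ⊤) :=
  AddMonoidHom.mk' (fun m => ψ.hom.app ⊤ (pullSec th m)) fun m m' => by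
    rw [H8Lim.pullSec_add]
    exact map_add (ψ.hom.app ⊤).hom _ _

theorem transl_smul {th : X ⟶ X} {M : X.Modules} (ψ : (Scheme.Modules.pullback th).obj M ≅ M) (r : Γ(X, ⊤))
    (m : Γ(M, ⊤)) : transl ψ (r • m) = th.appTop r • transl ψ m := by
  show ψ.hom.app ⊤ (pullSec th (r • m)) = _
  rw [pullSec_smul]
  exact Scheme.Modules.Hom.app_smul ψ.hom (th.appTop r) _

theorem glocus_transl {th : X ⟶ X} {M : X.Modules} (hM : PicF.IsInvertible M)
    (ψ : (Scheme.Modules.pullback th).obj M ≅ M) (m : Γ(M, ⊤)) :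
    glocus M (transl ψ m) = th ⁻¹ᵁ glocus M m :=
  (glocus_map_iso ψ _).trans (glocus_pullSec th hM m)

/-- The slice of a section along a section of the projection. -/
noncomputable def slice {f : X ⟶ P} {p : P ⟶ X} (e : f ≫ p = 𝟙 X) (M : X.Modules) :
    Γ((Scheme.Modules.pullback p).obj M, ⊤) →+ Γ(M, ⊤) :=
  AddMonoidHom.mk' (fun z => (retIso e M).hom.app ⊤ (pullSec f z)) fun z z' => by
    rw [H8Lim.pullSec_add]
    exact map_add ((retIso e M).hom.app ⊤).hom _ _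

theorem slice_smul {f : X ⟶ P} {p : P ⟶ X} (e : f ≫ p = 𝟙 X) (M : X.Modules) (c : Γ(P, ⊤))
    (z : Γ((Scheme.Modules.pullback p).obj M, ⊤)) : slice e M (c • z) = f.appTop c • slice e M z := by
  show (retIso e M).hom.app ⊤ (pullSec f (c • z)) = _
  rw [pullSec_smul]
  exact Scheme.Modules.Hom.app_smul (retIso e M).hom (f.appTop c) _

theorem slice_pull {f : X ⟶ P} {p : P ⟶ X} (e : f ≫ p = 𝟙 X) (M : X.Modules) (m : Γ(M, ⊤)) :
    slice e M (pullSec p m) = m := retIso_app e M m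

theorem slice_smul_pull {f : X ⟶ P} {p : P ⟶ X} (e : f ≫ p = 𝟙 X) (M : X.Modules) (c : Γ(P, ⊤)) (m : Γ(M, ⊤)) :
    slice e M (c • (show Γ((Scheme.Modules.pullback p).obj M, ⊤) from pullSec p m)) = f.appTop c • m := by
  refine (slice_smul e M c (pullSec p m)).trans ?_
  exact congrArg (fun z : Γ(M, ⊤) => f.appTop c • z) (slice_pull e M m)

theorem glocus_slice {f : X ⟶ P} {p σ : P ⟶ X} (e : f ≫ p = 𝟙 X) {M : X.Modules} (hM : PicF.IsInvertible M)
    {s : Γ(M, ⊤)} {S : Γ((Scheme.Modules.pullback p).obj M, ⊤)} (hS : Img σ s S) :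
    glocus M (slice e M S) = (f ≫ σ) ⁻¹ᵁ glocus M s :=
  ((hS.pull f rfl).map (retIso e M)).glocus_eq hM

/-- Two pullbacks of a section along maps with the same composite differ by a unit. -/
theorem exists_unit_rel {κA κB : P ⟶ P} {th : X ⟶ X} {p σ : P ⟶ X} (eσ : κA ≫ σ = κB ≫ σ)
    (eA : κA ≫ p = p ≫ th) (eB : κB ≫ p = p) {M : X.Modules} (hM : PicF.IsInvertible M)
    (ψ : (Scheme.Modules.pullback th).obj M ≅ M) {s : Γ(M, ⊤)} {S : Γ((Scheme.Modules.pullback p).obj M, ⊤)}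
    (hS : Img σ s S) {ι : Type*} (I : Finset ι) (c : ι → Γ(P, ⊤)) (m : ι → Γ(M, ⊤))
    (hsum : S = ∑ i ∈ I, c i • (show Γ((Scheme.Modules.pullback p).obj M, ⊤) from pullSec p (m i))) :
    ∃ u : Γ(P, ⊤), IsUnit u ∧
      (∑ i ∈ I, κA.appTop (c i) • (show Γ((Scheme.Modules.pullback p).obj M, ⊤) from pullSec p (transl ψ (m i)))) =
        u • ∑ i ∈ I, κB.appTop (c i) • (show Γ((Scheme.Modules.pullback p).obj M, ⊤) from pullSec p (m i)) := by
  let jA : (Scheme.Modules.pullback κA).obj ((Scheme.Modules.pullback p).obj M) ≅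
      (Scheme.Modules.pullback p).obj M :=
    trIso eA M ≪≫ (trIso (rfl : p ≫ th = p ≫ th) M).symm ≪≫ (Scheme.Modules.pullback p).mapIso ψ
  let jB : (Scheme.Modules.pullback κB).obj ((Scheme.Modules.pullback p).obj M) ≅
      (Scheme.Modules.pullback p).obj M := trIso eB M
  let A : Γ((Scheme.Modules.pullback p).obj M, ⊤) →+ Γ((Scheme.Modules.pullback p).obj M, ⊤) :=
    AddMonoidHom.mk' (fun z => jA.hom.app ⊤ (pullSec κA z)) fun z z' => by
      rw [H8Lim.pullSec_add]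
      exact map_add (jA.hom.app ⊤).hom _ _
  let B : Γ((Scheme.Modules.pullback p).obj M, ⊤) →+ Γ((Scheme.Modules.pullback p).obj M, ⊤) :=
    AddMonoidHom.mk' (fun z => jB.hom.app ⊤ (pullSec κB z)) fun z z' => by
      rw [H8Lim.pullSec_add]
      exact map_add (jB.hom.app ⊤).hom _ _
  have hA0 : ∀ (r : Γ(P, ⊤)) z, A (r • z) = κA.appTop r • A z := by
    intro r z
    show jA.hom.app ⊤ (pullSec κA (r • z)) = _
    rw [pullSec_smul]
    exact Scheme.Modules.Hom.app_smul jA.hom (κA.appTop r) _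
  have hB0 : ∀ (r : Γ(P, ⊤)) z, B (r • z) = κB.appTop r • B z := by
    intro r z
    show jB.hom.app ⊤ (pullSec κB (r • z)) = _
    rw [pullSec_smul]
    exact Scheme.Modules.Hom.app_smul jB.hom (κB.appTop r) _
  have hA1 : ∀ x : Γ(M, ⊤), A (pullSec p x) = pullSec p (transl ψ x) := by
    intro x
    show ((Scheme.Modules.pullback p).map ψ.hom).app ⊤ ((trIso (rfl : p ≫ th = p ≫ th) M).inv.app ⊤
      ((trIso eA M).hom.app ⊤ (pullSec κA (pullSec p x)))) = _
    rw [trIso_app, trIso_inv_app]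
    exact H8Lim.map_app_pullSec p ψ.hom (U := ⊤) (pullSec th x)
  have hB1 : ∀ x : Γ(M, ⊤), B (pullSec p x) = pullSec p x := fun x => trIso_app eB M x
  have hA : A S = ∑ i ∈ I, κA.appTop (c i) •
      (show Γ((Scheme.Modules.pullback p).obj M, ⊤) from pullSec p (transl ψ (m i))) := by
    rw [hsum, map_sum]
    exact Finset.sum_congr rfl fun i _ => (hA0 (c i) (pullSec p (m i))).trans
      (congrArg (fun z : Γ((Scheme.Modules.pullback p).obj M, ⊤) => κA.appTop (c i) • z) (hA1 (m i)))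
  have hB : B S = ∑ i ∈ I, κB.appTop (c i) •
      (show Γ((Scheme.Modules.pullback p).obj M, ⊤) from pullSec p (m i)) := by
    rw [hsum, map_sum]
    exact Finset.sum_congr rfl fun i _ => (hB0 (c i) (pullSec p (m i))).trans
      (congrArg (fun z : Γ((Scheme.Modules.pullback p).obj M, ⊤) => κB.appTop (c i) • z) (hB1 (m i)))
  obtain ⟨u, hu, h⟩ := Img.exists_unit (PicLoc.isInvertible_pullback p hM)
    ((hS.pull κA eσ).map jA : Img (κB ≫ σ) s (A S)) ((hS.pull κB rfl).map jB : Img (κB ≫ σ) s (B S))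
  exact ⟨u, hu, hA.symm.trans (h.trans (congrArg (fun z : Γ((Scheme.Modules.pullback p).obj M, ⊤) => u • z) hB))⟩

end Groth.Agent.AlgGrpLib.SecImages
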