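import Groth.Agent.AlgGrpLib.SemiabSum
import Groth.Agent.AlgGrpLib.ComponentQuot
import Groth.Agent.AlgGrpLib.AbelianComplement
import Groth.Agent.DimLib.Zero
import Groth.Agent.S14595

/-!
# Extensions, quotients and subgroups of semi-abelian varieties
-/

set_option autoImplicit false
set_option backward.isDefEq.respectTransparency.types false
set_option linter.style.haveILetI false

universe u

open CategoryTheory CategoryTheory.Limits MonoidalCategory CartesianMonoidalCategory MonObj GrpObj AlgebraicGeometry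
open Groth.Agent.SGA3cLib

namespace Groth.Agent.AlgGrpLib.SemiabExt

open SemiabSum

variable {k : Type u} [Field k]

/-- An extension of semi-abelian varieties is commutative. -/
theorem comm_of_extension {S G S'' : Over (Spec (CommRingCat.of k))} [GrpObj S] [GrpObj G] [GrpObj S'']
    [Smooth G.hom] [QuasiCompact G.hom] [ConnectedSpace G.left] [LocallyOfFiniteType S''.hom] [QuasiCompact S''.hom]
    (u : S ⟶ G) [IsMonHom u] [IsClosedImmersion u.left] (p : G ⟶ S'') [IsMonHom p]
    (hu : AlgGrp.IsKernel u p) (h : SA S) (h'' : SA S'') : IsCommMonObj G := by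
  haveI : LocallyOfFiniteType S.hom := by rw [← Over.w u]; infer_instance
  haveI : QuasiCompact S.hom := by rw [← Over.w u]; infer_instance
  obtain ⟨-, -, -, hS''4⟩ := sa_props h''
  haveI : IsSeparated G.hom := SGA3xLib.isSeparated_of_grpObj G
  haveI := AbelianSubvariety.geometricallyConnected_of_connected G
  haveI : GeometricallyIntegral G.hom := AbVarLib.geometricallyIntegral_of_smooth G.hom
  haveI : Mono u := Over.mono_of_mono_left u
  let com : G ⊗ G ⟶ G := fst G G * snd G G * (fst G G)⁻¹ * (snd G G)⁻¹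
  obtain ⟨ψ, hψ⟩ := exists_lift_kernel hu (g := com) (by
    simp only [com, MonObj.mul_comp, GrpObj.inv_comp]
    rw [((isCommMonObj_iff_isMulCommutative S'').1 hS''4 (G ⊗ G)).is_comm.comm (fst G G ≫ p) (snd G G ≫ p)]
    group)
  have hax := Groth.Agent.S14595.result k G G S h η[G] η[G] ψ
  have h1 : lift (𝟙 G) (toUnit G ≫ η[G]) ≫ ψ = 1 := by
    rw [← cancel_mono u, MonObj.one_comp, Category.assoc, hψ, ← Hom.one_def]
    simp only [com, MonObj.comp_mul, GrpObj.comp_inv, lift_fst, lift_snd]
    group
  have h2 : lift (toUnit G ≫ η[G]) (𝟙 G) ≫ ψ = 1 := by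
    rw [← cancel_mono u, MonObj.one_comp, Category.assoc, hψ, ← Hom.one_def]
    simp only [com, MonObj.comp_mul, GrpObj.comp_inv, lift_fst, lift_snd]
    group
  have h3 : lift η[G] η[G] ≫ ψ = 1 := by
    rw [← cancel_mono u, MonObj.one_comp, Category.assoc, hψ, MonObj.one_eq_one]
    simp only [com, MonObj.comp_mul, GrpObj.comp_inv, lift_fst, lift_snd]
    group
  rw [h1, h2, h3, MonObj.comp_one, MonObj.comp_one, MonObj.comp_one, _root_.inv_one, _root_.mul_one, _root_.mul_one,
    _root_.mul_one] at hax
  refine (isCommMonObj_iff_isMulCommutative G).2 fun X => ⟨⟨fun x y => ?_⟩⟩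
  have hc := congrArg (fun f => lift x y ≫ f) hψ
  simp only [hax, MonObj.one_comp, com, MonObj.comp_mul, GrpObj.comp_inv, lift_fst, lift_snd, MonObj.comp_one] at hc
  exact mul_inv_eq_iff_eq_mul.1 (mul_inv_eq_one.1 hc.symm)

/-- A smooth quotient of a semi-abelian variety is semi-abelian. -/
theorem sa_quotient {G Q : Over (Spec (CommRingCat.of k))} [GrpObj G] [GrpObj Q] [LocallyOfFiniteType G.hom]
    [QuasiCompact G.hom] [Smooth Q.hom] [QuasiCompact Q.hom] (p : G ⟶ Q) [IsMonHom p] [Surjective p.left]
    (h : SA G) : SA Q := by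
  obtain ⟨-, -, -, hG⟩ := sa_props h
  haveI := hG
  obtain ⟨T, gT, i, A, gA, q, hi, hic, hT, hq, hqs, hqf, hk, hAp, hAs, hAc⟩ := h
  haveI : QuasiCompact T.hom := by rw [← Over.w i]; infer_instance
  haveI : Flat p.left := IsogenyBC.flat_of_isogeny G p
  haveI : QuasiCompact p.left := quasiCompact_left p
  haveI : IsCommMonObj Q := IsogenyBC.comm_of_surjective G p
  haveI : QuasiCompact q.left := quasiCompact_left q
  refine sa_of_data (i ≫ p) hT fun R _ r _ hr hrs => ?_
  haveI := hrs
  obtain ⟨φ, hφ⟩ := ExactSeqBasics.exists_desc q hk (p ≫ r) (by rw [← Category.assoc]; exact hr)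
  refine ⟨A, φ, hAp, hAc, ?_⟩
  haveI : Surjective (q.left ≫ φ.left) := by rw [← Over.comp_left, hφ, Over.comp_left]; infer_instance
  exact Surjective.of_comp q.left φ.left

/-- A smooth connected closed subgroup of a semi-abelian variety over a perfect field is
semi-abelian. -/
theorem sa_subgroup [PerfectField k] {G H : Over (Spec (CommRingCat.of k))} [GrpObj G] [GrpObj H]
    [LocallyOfFiniteType G.hom] [QuasiCompact G.hom] [Smooth H.hom] [ConnectedSpace H.left]
    (j : H ⟶ G) [IsMonHom j] [IsClosedImmersion j.left] (h : SA G) : SA H := by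
  haveI : QuasiCompact H.hom := by rw [← Over.w j]; infer_instance
  obtain ⟨-, -, -, hG⟩ := sa_props h
  haveI := hG
  haveI : Mono j := Over.mono_of_mono_left j
  haveI : IsCommMonObj H := LinearInduction.isCommMonObj_of_mono j
  haveI : IsSeparated H.hom := SGA3xLib.isSeparated_of_grpObj H
  obtain ⟨T, gT, i, A, gA, q, hi, hic, hT, hq, hqs, hqf, hk, hAp, hAs, hAc⟩ := h
  haveI : Mono i := Over.mono_of_mono_left i
  obtain ⟨B, gB, b, ρ, hb, hρ, hbc, hρb, hρs, hρf, hBs, -, hBq⟩ := ImageSubgroup.exists_image (j ≫ q)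
  letI := gB
  haveI := hb
  haveI := hρ
  haveI := hbc
  haveI := hρs
  haveI := hρf
  haveI := hBs
  haveI := hBq
  haveI : IsProper B.hom := by rw [← Over.w b]; infer_instance
  -- the reduced neutral component of the kernel
  let K := UnipStruct.kerObj ρ
  let κ := UnipStruct.kerι ρ
  haveI : IsClosedImmersion κ.left := UnipStruct.isClosedImmersion_kerι ρ
  haveI : IsMonHom κ := UnipStruct.isMonHom_kerι ρ
  haveI : Mono κ := Over.mono_of_mono_left κ
  have hκ : AlgGrp.IsKernel κ ρ := UnipStruct.isKernel_kerι ρ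
  haveI : LocallyOfFiniteType K.hom := by rw [← Over.w κ]; infer_instance
  haveI : QuasiCompact K.hom := by rw [← Over.w κ]; infer_instance
  obtain ⟨c, hc⟩ := exists_lift_kernel hk (g := κ ≫ j) (by
    rw [Category.assoc, ← hρb, ← Category.assoc, kernel_comp hκ, MonObj.one_comp])
  haveI : IsMonHom c := BCPoints.isMonHom_of_mul _ fun X x y => by
    simp only [← cancel_mono i, MonObj.mul_comp, Category.assoc, hc]
  haveI : IsClosedImmersion (c.left ≫ i.left) := by rw [← Over.comp_left, hc, Over.comp_left]; infer_instance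
  haveI : IsClosedImmersion c.left := IsClosedImmersion.of_comp c.left i.left
  obtain ⟨R, gR, r, hr, hrc, hRs, hrs, -⟩ := AbelianComplement.exists_smooth_reduction K
  letI := gR
  haveI := hr
  haveI := hrc
  haveI := hRs
  haveI := hrs
  haveI : QuasiCompact R.hom := by rw [← Over.w r]; infer_instance
  obtain ⟨C, gC, u, Qc, gQc, p, hu, hp, hC, hkp, hpf, hps, -, hQf, hQe⟩ := ComponentQuot.exists_componentGroup R
  letI := gC
  letI := gQc
  haveI := hu
  haveI := hp
  haveI := hC
  haveI := hpf
  haveI := hps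
  haveI := hQf
  haveI := hQe
  have hη : η[Qc].left ≫ Qc.hom = 𝟙 _ := Over.w η[Qc]
  haveI : Etale η[Qc].left := by
    haveI : Etale (η[Qc].left ≫ Qc.hom) := by rw [hη]; infer_instance
    exact Etale.of_comp η[Qc].left Qc.hom
  haveI hηc : IsClosedImmersion η[Qc].left := isClosedImmersion_of_comp_eq_id Qc.hom η[Qc].left hη
  have sq := (hkp.map (Over.forget _)).flip
  haveI : IsClosedImmersion u.left := MorphismProperty.of_isPullback sq hηc
  haveI : Etale u.left := MorphismProperty.of_isPullback sq ‹Etale η[Qc].left›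
  haveI : Smooth C.hom := by rw [← Over.w u]; infer_instance
  haveI : QuasiCompact C.hom := by rw [← Over.w u]; infer_instance
  haveI : IsClosedImmersion (u ≫ r ≫ c).left := by simp only [Over.comp_left]; infer_instance
  have hCt : Red.IsTorus C := MultTypeTorus.isTorus_of_multType C
    (Groth.Agent.S19598.result C T (MultExt26.isMultTypeFT_of_torus T hT) (u ≫ r ≫ c) inferInstance inferInstance inferInstance)
  -- the quotient
  let v : C ⟶ H := u ≫ r ≫ κ
  haveI : IsClosedImmersion v.left := by simp only [v, Over.comp_left]; infer_instance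
  haveI : Mono v := Over.mono_of_mono_left v
  have hnorm : AlgGrp.IsNormalHom v := fun X x y => ⟨y, by rw [mul_inv_cancel_comm]⟩
  obtain ⟨Q, gQ, π, hπ, hπf, hπs, -, hkπ, hQsep, -, hQsm⟩ := Groth.Agent.S3030.result k C H v hnorm
  letI := gQ
  haveI := hπ
  haveI := hπf
  haveI := hπs
  haveI := hQsep
  haveI : Smooth Q.hom := hQsm inferInstance
  haveI : QuasiCompact π.left := quasiCompact_left π
  haveI : CompactSpace H.left := QuasiCompact.compactSpace_of_compactSpace H.hom
  haveI : CompactSpace Q.left := ⟨by rw [← π.left.surjective.range_eq]; exact isCompact_range π.left.continuous⟩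
  haveI : QuasiCompact Q.hom := quasiCompact_of_compactSpace Q.hom
  haveI : ConnectedSpace Q.left := π.left.surjective.connectedSpace π.left.continuous
  obtain ⟨ρ', hρ'⟩ := ExactSeqBasics.exists_desc π hkπ ρ (by
    simp only [v, Category.assoc, kernel_comp hκ, MonObj.comp_one])
  haveI : IsMonHom (π ≫ ρ') := by rw [hρ']; infer_instance
  haveI : IsMonHom ρ' := UnipStruct.isMonHom_desc π ρ'
  haveI : Surjective ρ'.left := by
    haveI : Surjective (π.left ≫ ρ'.left) := by rw [← Over.comp_left, hρ']; infer_instance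
    exact Surjective.of_comp π.left ρ'.left
  -- the kernel of `ρ'` is finite
  let κ' := UnipStruct.kerι ρ'
  haveI : IsMonHom κ' := UnipStruct.isMonHom_kerι ρ'
  haveI : IsClosedImmersion κ'.left := UnipStruct.isClosedImmersion_kerι ρ'
  haveI : Mono κ' := Over.mono_of_mono_left κ'
  have hκ' : AlgGrp.IsKernel κ' ρ' := UnipStruct.isKernel_kerι ρ'
  obtain ⟨σ, hσ⟩ := exists_lift_kernel hκ' (g := κ ≫ π) (by rw [Category.assoc, hρ', kernel_comp hκ])
  haveI : IsMonHom σ := BCPoints.isMonHom_of_mul _ fun X x y => by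
    simp only [← cancel_mono κ', MonObj.mul_comp, Category.assoc, hσ]
  haveI : Surjective σ.left := by
    have hsq : IsPullback κ σ π κ' := by
      refine IsPullback.of_bot ?_ hσ.symm hκ'.flip.flip
      rw [toUnit_unique (σ ≫ toUnit _) (toUnit K), hρ']
      exact hκ
    exact MorphismProperty.of_isPullback (hsq.map (Over.forget _)) hπs
  haveI : IsFinite (UnipStruct.kerObj ρ').hom := by
    haveI : LocallyOfFiniteType (UnipStruct.kerObj ρ').hom := by rw [← Over.w κ']; infer_instance
    haveI : QuasiCompact p.left := quasiCompact_left p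
    obtain ⟨τ, hτ⟩ := ExactSeqBasics.exists_desc p hkp (r ≫ σ) (by
      rw [← cancel_mono κ', MonObj.one_comp, Category.assoc, Category.assoc, hσ, ← Category.assoc, ← Category.assoc]
      exact (congrArg (· ≫ π) (Category.assoc u r κ)).trans (kernel_comp hkπ))
    haveI : Finite ↥Qc.left := by
      refine Set.finite_univ_iff.1 ?_
      refine (Qc.hom.finite_preimage_singleton (IsLocalRing.closedPoint k)).subset fun z _ => ?_
      exact Subsingleton.elim (α := PrimeSpectrum k) _ _
    haveI : Surjective (p.left ≫ τ.left) := by rw [← Over.comp_left, hτ, Over.comp_left]; infer_instance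
    haveI : Surjective τ.left := Surjective.of_comp p.left τ.left
    haveI : Finite ↥(UnipStruct.kerObj ρ').left := Finite.of_surjective _ τ.left.surjective
    exact DimLib.isFinite_of_finite _
  haveI : IsFinite ρ'.left := TorusIsog.isFinite_of_kernel ρ'
  haveI : IsProper Q.hom := by rw [← Over.w ρ']; infer_instance
  exact ⟨C, gC, v, Q, gQ, π, inferInstance, inferInstance, hCt, hπ, hπs, hπf, hkπ, inferInstance, inferInstance, inferInstance⟩

end Groth.Agent.AlgGrpLib.SemiabExt
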