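import Groth.Agent.AlgGrpLib.TorusDegree
import Groth.Agent.AlgGrpLib.SubgroupCalc
import Groth.Agent.UnipStruct.Group
import Groth.Agent.AbCubeLib.MulDegree
import Groth.Agent.AbCubeLib.RankTrans
import Groth.Agent.AbVarLib.GeomIntegralSmooth

/-!
# The degree of torsion in extensions of abelian varieties by tori
-/

set_option autoImplicit false
set_option backward.isDefEq.respectTransparency.types false
set_option linter.style.haveILetI false

universe u

open CategoryTheory CategoryTheory.Limits MonoidalCategory CartesianMonoidalCategory MonObj GrpObj AlgebraicGeometry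

noncomputable section

namespace Groth.Agent.AlgGrpLib.TorsionDegree

open TorusDegree

variable {k : Type u} [Field k]

/-- The power map of a torus of dimension `t` has degree `n ^ t`. -/
theorem deg_pow_torus {T : Over (Spec (CommRingCat.of k))} [GrpObj T] [LocallyOfFiniteType T.hom] (hT : Red.IsTorus T)
    {n : ℕ} (hn : 0 < n) {t : ℕ} (ht : topologicalKrullDim T.left = t) : Deg (n ^ t) ((𝟙 T) ^ n).left := by
  obtain ⟨hfin, hff⟩ := TorusIsogeny.ffs_pow hT n hn.ne'
  obtain ⟨Ω, _, _, g, d, e, he⟩ := TorusToProper.exists_split_point hT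
  haveI := he
  haveI : IsMonHom e.inv := inferInstance
  haveI : IsIso e.hom.left := inferInstanceAs (IsIso ((Over.forget _).map e.hom))
  have hdt : d = t := by
    letI : Algebra k Ω := (Spec.preimage g).hom.toAlgebra
    have hg : g = Spec.map (CommRingCat.ofHom (algebraMap k Ω)) := (Spec.map_preimage g).symm
    have h1 : topologicalKrullDim (Red.bc g T).left = t := by
      show topologicalKrullDim ↥(pullback T.hom g) = t
      rw [hg, DimLib.topologicalKrullDim_bc T.hom Ω, ht]
    rw [IsHomeomorph.topologicalKrullDim_eq _ e.hom.left.homeomorph.isHomeomorph, topologicalKrullDim_DS] at h1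
    exact_mod_cast h1
  subst hdt
  have hpow : ∀ m : ℕ, e.hom ≫ ((𝟙 (Red.DS (Spec (CommRingCat.of Ω)) (Fin d → ℤ))) ^ m) ≫ e.inv =
      (Over.pullback g).map ((𝟙 T) ^ m) := by
    intro m
    induction m with
    | zero => rw [pow_zero, pow_zero, Functor.map_one, MonObj.one_comp, MonObj.comp_one]
    | succ j ih =>
      rw [pow_succ, pow_succ, Functor.map_mul, MonObj.mul_comp, MonObj.comp_mul, ih]
      simp
  have h1 : Deg (n ^ d) ((Over.pullback g).map ((𝟙 T) ^ n)).left := by
    rw [← hpow]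
    refine ((Deg.{u} (n ^ d)).arrow_mk_iso_iff ?_).mp (deg_pow_DS hn (Spec (CommRingCat.of Ω)))
    exact Arrow.isoMk ((Over.forget _).mapIso e.symm) ((Over.forget _).mapIso e.symm) (by
      show e.inv.left ≫ (e.hom ≫ _ ≫ e.inv).left = _ ≫ e.inv.left
      rw [← Over.comp_left, Iso.inv_hom_id_assoc, Over.comp_left]
      rfl)
  haveI := hfin
  haveI := hff.1
  refine ⟨hfin, hff.1, fun y => ?_⟩
  have hsq := SGA3cLib.MultHomLocus.isPullback_map ((𝟙 T) ^ n) g
  haveI : Surjective g := ⟨fun y => ⟨IsLocalRing.closedPoint Ω, Subsingleton.elim (α := PrimeSpectrum k) _ _⟩⟩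
  haveI : Surjective (pullback.fst T.hom g) := inferInstance
  obtain ⟨z, rfl⟩ := (pullback.fst T.hom g).surjective y
  rw [← Scheme.Hom.finrank_of_isPullback _ _ _ _ hsq z]
  exact h1.2.2 z

variable {G T B : Over (Spec (CommRingCat.of k))} [GrpObj G] [IsCommMonObj G] [GrpObj T] [GrpObj B]
  [Smooth G.hom] [QuasiCompact G.hom] [ConnectedSpace G.left] (i : T ⟶ G) [IsMonHom i] [IsClosedImmersion i.left]
  (q : G ⟶ B) [IsMonHom q] [Surjective q.left] [Flat q.left]
  [IsProper B.hom] [Smooth B.hom] [ConnectedSpace B.left]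

/-- The degree of multiplication on an extension of an abelian variety by a torus. -/
theorem deg_pow (hT : Red.IsTorus T) (hk : AlgGrp.IsKernel i q) {t a : ℕ}
    (ht : topologicalKrullDim T.left = t) (ha : topologicalKrullDim B.left = a) {n : ℕ} (hn : 0 < n) :
    Deg (n ^ (t + 2 * a)) ((𝟙 G) ^ n).left := by
  haveI : LocallyOfFiniteType T.hom := by rw [← Over.w i]; infer_instance
  haveI : QuasiCompact q.left := quasiCompact_left q
  haveI : Mono i := kernel_mono hk
  haveI : IsCommMonObj B := UnipStruct.isCommMonObj_of_cover q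
  haveI : GeometricallyConnected B.hom := by
    have := Groth.Agent.SGA3cLib.geometricallyConnected_of_rational_point k B.hom (𝟙 B.left) η[B].left (Over.w η[B])
      (fun x _ => ⟨x, rfl⟩)
    rwa [Category.id_comp] at this
  haveI : GeometricallyIntegral B.hom := AbVarLib.geometricallyIntegral_of_smooth B.hom
  haveI := AbCubeLib.isFinite_pow (A := B) hn
  haveI := AbCubeLib.flat_pow (A := B) hn
  have hB : Deg (n ^ (2 * a)) ((𝟙 B) ^ n).left :=
    ⟨inferInstance, inferInstance, fun y => AbCubeLib.finrank_pow hn ha y⟩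
  let nB : B ⟶ B := (𝟙 B) ^ n
  let nG : G ⟶ G := (𝟙 G) ^ n
  let nT : T ⟶ T := (𝟙 T) ^ n
  have hnG : ∀ {Z : Over (Spec (CommRingCat.of k))} (x : Z ⟶ G), x ≫ nG = x ^ n := fun x => by
    simp only [nG, MonObj.comp_pow, Category.comp_id]
  have hnT : ∀ {Z : Over (Spec (CommRingCat.of k))} (x : Z ⟶ T), x ≫ nT = x ^ n := fun x => by
    simp only [nT, MonObj.comp_pow, Category.comp_id]
  have hq : nG ≫ q = q ≫ nB := by
    simp only [nG, nB, MonObj.pow_comp, MonObj.comp_pow, Category.id_comp, Category.comp_id]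
  have hiq := kernel_comp hk
  let P := pullback q nB
  let p1 : P ⟶ G := pullback.fst q nB
  let p2 : P ⟶ B := pullback.snd q nB
  let m : G ⟶ P := pullback.lift nG q hq
  have hθw : (((fst G T) ≫ nG) * (snd G T ≫ i)) ≫ q = (fst G T ≫ q) ≫ nB := by
    rw [MonObj.mul_comp, Category.assoc, hq, Category.assoc, hiq, MonObj.comp_one, _root_.mul_one, Category.assoc]
  let θ : G ⊗ T ⟶ P := pullback.lift (((fst G T) ≫ nG) * (snd G T ≫ i)) (fst G T ≫ q) hθw
  have hθ1 : θ ≫ p1 = ((fst G T) ≫ nG) * (snd G T ≫ i) := pullback.lift_fst _ _ _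
  have hθ2 : θ ≫ p2 = fst G T ≫ q := pullback.lift_snd _ _ _
  have hm1 : m ≫ p1 = nG := pullback.lift_fst _ _ _
  have hm2 : m ≫ p2 = q := pullback.lift_snd _ _ _
  -- θ is a base change of q
  have hsqθ : IsPullback θ (fst G T) p2 q := by
    have hex : ∀ s : PullbackCone p2 q, ∃ τ : s.pt ⟶ T, τ ≫ i = (s.snd ≫ nG)⁻¹ * (s.fst ≫ p1) := fun s => by
      refine exists_lift_kernel hk ?_
      rw [MonObj.mul_comp, GrpObj.inv_comp, Category.assoc, hq, ← Category.assoc, ← s.condition, Category.assoc,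
        Category.assoc, ← pullback.condition, inv_mul_cancel]
    choose τ hτ using hex
    refine ⟨⟨hθ2⟩, ⟨PullbackCone.IsLimit.mk hθ2 (fun s => lift s.snd (τ s)) (fun s => ?_) (fun s => lift_fst _ _)
      (fun s l h1 h2 => ?_)⟩⟩
    · apply pullback.hom_ext
      · show _ ≫ p1 = _ ≫ p1
        rw [Category.assoc, hθ1, MonObj.comp_mul, lift_fst_assoc, lift_snd_assoc, hτ, mul_inv_cancel_left]
      · show _ ≫ p2 = _ ≫ p2
        rw [Category.assoc, hθ2, lift_fst_assoc, s.condition]
    · apply CartesianMonoidalCategory.hom_ext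
      · rw [lift_fst, h2]
      · rw [lift_snd, ← cancel_mono i, hτ, ← h1, Category.assoc, Category.assoc, hθ1, MonObj.comp_mul, ← h2,
          Category.assoc, inv_mul_cancel_left]
  have hsqT : IsPullback (G ◁ nT) (snd G T) (snd G T) nT := by
    refine ⟨⟨whiskerLeft_snd _ _⟩, ⟨PullbackCone.IsLimit.mk (whiskerLeft_snd _ _)
      (fun s => lift (s.fst ≫ fst G T) s.snd) (fun s => ?_) (fun s => lift_snd _ _) (fun s l h1 h2 => ?_)⟩⟩
    · apply CartesianMonoidalCategory.hom_ext
      · rw [Category.assoc, whiskerLeft_fst, lift_fst]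
      · rw [Category.assoc, whiskerLeft_snd, lift_snd_assoc, s.condition]
    · apply CartesianMonoidalCategory.hom_ext
      · rw [lift_fst, ← h1, Category.assoc, whiskerLeft_fst]
      · rw [lift_snd, h2]
  -- the base change of m along θ
  let μ' : G ⊗ T ⟶ G := fst G T * (snd G T ≫ i)
  have hw' : μ' ≫ m = (G ◁ nT) ≫ θ := by
    apply pullback.hom_ext
    · show (_ ≫ m) ≫ p1 = _ ≫ p1
      rw [Category.assoc, hm1, Category.assoc, hθ1, MonObj.comp_mul, whiskerLeft_fst_assoc, whiskerLeft_snd_assoc,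
        hnG, hnG, mul_pow]
      rw [← Category.assoc (snd G T) nT i, hnT, MonObj.pow_comp]
    · show (_ ≫ m) ≫ p2 = _ ≫ p2
      rw [Category.assoc, hm2, Category.assoc, hθ2, whiskerLeft_fst_assoc]
      show (fst G T * (snd G T ≫ i)) ≫ q = _
      rw [MonObj.mul_comp, Category.assoc, hiq, MonObj.comp_one, _root_.mul_one]
  have hsqm : IsPullback μ' (G ◁ nT) m θ := by
    have hex : ∀ s : PullbackCone m θ, ∃ σ : s.pt ⟶ T, σ ≫ i = (s.snd ≫ fst G T)⁻¹ * s.fst := fun s => by
      refine exists_lift_kernel hk ?_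
      have h := congrArg (· ≫ p2) s.condition
      simp only [Category.assoc, hm2, hθ2] at h
      rw [MonObj.mul_comp, GrpObj.inv_comp, Category.assoc, ← h, inv_mul_cancel]
    choose σ hσ using hex
    refine ⟨⟨hw'⟩, ⟨PullbackCone.IsLimit.mk hw' (fun s => lift (s.snd ≫ fst G T) (σ s)) (fun s => ?_) (fun s => ?_)
      (fun s l h1 h2 => ?_)⟩⟩
    · show _ ≫ (fst G T * (snd G T ≫ i)) = _
      rw [MonObj.comp_mul, lift_fst, lift_snd_assoc, hσ, mul_inv_cancel_left]
    · apply CartesianMonoidalCategory.hom_ext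
      · rw [Category.assoc, whiskerLeft_fst, lift_fst]
      · rw [Category.assoc, whiskerLeft_snd, lift_snd_assoc, hnT, ← cancel_mono i, MonObj.pow_comp, hσ, mul_pow,
          inv_pow, ← hnG, ← hnG, inv_mul_eq_iff_eq_mul]
        have h := congrArg (· ≫ p1) s.condition
        simp only [Category.assoc, hm1, hθ1, MonObj.comp_mul] at h
        simpa only [Category.assoc] using h
    · apply CartesianMonoidalCategory.hom_ext
      · rw [lift_fst, ← h2, Category.assoc, whiskerLeft_fst]
      · rw [lift_snd, ← cancel_mono i, hσ, ← h1, ← h2]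
        show _ = (l ≫ (G ◁ nT) ≫ fst G T)⁻¹ * (l ≫ (fst G T * (snd G T ≫ i)))
        rw [whiskerLeft_fst, MonObj.comp_mul, Category.assoc, inv_mul_cancel_left]
  have hwT : Deg (n ^ t) (G ◁ nT).left :=
    MorphismProperty.of_isPullback (hsqT.flip.map (Over.forget _)) (deg_pow_torus hT hn ht)
  haveI hθs : Surjective θ.left :=
    MorphismProperty.of_isPullback (hsqθ.flip.map (Over.forget _)) (inferInstance : Surjective q.left)
  haveI hθf : Flat θ.left :=
    MorphismProperty.of_isPullback (hsqθ.flip.map (Over.forget _)) (inferInstance : Flat q.left)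
  haveI hθq : QuasiCompact θ.left :=
    MorphismProperty.of_isPullback (hsqθ.flip.map (Over.forget _)) (inferInstance : QuasiCompact q.left)
  have hsq' : IsPullback μ'.left (G ◁ nT).left m.left θ.left := hsqm.map (Over.forget _)
  haveI := Et18.descends_isFinite.{u}
  haveI hmfin : IsFinite m.left :=
    MorphismProperty.of_isPullback_of_descendsAlong (Q := @Surjective ⊓ @Flat ⊓ @QuasiCompact) hsq'.flip
      ⟨⟨hθs, hθf⟩, hθq⟩ hwT.1
  haveI hmfl : Flat m.left :=
    MorphismProperty.of_isPullback_of_descendsAlong (Q := @Surjective ⊓ @Flat ⊓ @QuasiCompact) hsq'.flip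
      ⟨⟨hθs, hθf⟩, hθq⟩ hwT.2.1
  have hmdeg : ∀ y, m.left.finrank y = n ^ t := fun y => by
    obtain ⟨z, rfl⟩ := θ.left.surjective y
    rw [← Scheme.Hom.finrank_of_isPullback _ _ _ _ hsq' z]
    exact hwT.2.2 z
  have hP : Deg (n ^ (2 * a)) p1.left :=
    MorphismProperty.of_isPullback ((IsPullback.of_hasPullback q nB).flip.map (Over.forget _)) hB
  haveI := hP.1
  haveI := hP.2.1
  have e : nG.left = m.left ≫ p1.left := by rw [← Over.comp_left, hm1]
  show Deg _ nG.left
  rw [e]
  exact ⟨inferInstance, inferInstance, fun z => by rw [AbCubeLib.finrank_comp m.left p1.left hmdeg z, hP.2.2 z, pow_add]⟩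

end Groth.Agent.AlgGrpLib.TorsionDegree
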