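import Groth.Agent.AlgGrpLib.TorusIsogenyIff
import Groth.Agent.AlgGrpLib.TorsionDegree
import Groth.Agent.AlgGrpLib.IsogenyProps
import Groth.Agent.AlgGrpLib.AxesTorus
import Groth.Agent.AlgGrpLib.ExactSeqBasics
import Groth.Agent.AlgGrpLib.ImageSubgroup
import Groth.Agent.SGA3cLib.NeutralDimCons
import Groth.Agent.S7982
import Groth.Agent.S3030

/-!
# Groups isogenous onto semi-abelian varieties are semi-abelian
-/

set_option autoImplicit false
set_option backward.isDefEq.respectTransparency.types false
set_option linter.style.haveILetI false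

universe u

open CategoryTheory CategoryTheory.Limits MonoidalCategory CartesianMonoidalCategory MonObj GrpObj AlgebraicGeometry
open Groth.Agent.SGA3cLib

namespace Groth.Agent.AlgGrpLib.SemiabIsogeny

variable {k : Type u} [Field k]

theorem exists_krullDim_eq_nat (M : Over (Spec (CommRingCat.of k))) [GrpObj M] [Smooth M.hom] [QuasiCompact M.hom] :
    ∃ b : ℕ, topologicalKrullDim M.left = b := by
  obtain ⟨b, hb⟩ := SGA3cLib.NeutralDim.exists_dim_eq_nat M (IsLocalRing.closedPoint k)
  refine ⟨b, ?_⟩
  let pt : ↥(Spec (CommRingCat.of k)) := IsLocalRing.closedPoint k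
  have : M.hom.base ⁻¹' {pt} = Set.univ :=
    Set.eq_univ_of_forall fun z => Subsingleton.elim (α := PrimeSpectrum k) _ _
  change topologicalKrullDim ↥(M.hom.base ⁻¹' {pt}) = _ at hb
  rw [this] at hb
  rw [← hb]
  exact (IsHomeomorph.topologicalKrullDim_eq _ (Homeomorph.Set.univ _).isHomeomorph).symm

variable {G H T A N : Over (Spec (CommRingCat.of k))} [GrpObj G] [GrpObj H] [GrpObj T] [GrpObj A] [GrpObj N]

theorem main [Smooth G.hom] [QuasiCompact G.hom] [ConnectedSpace G.left]
    [LocallyOfFiniteType H.hom] [QuasiCompact H.hom] (f : G ⟶ H) [IsMonHom f] [Surjective f.left]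
    (n : N ⟶ G) [IsMonHom n] [IsFinite N.hom] (hker : AlgGrp.IsKernel n f)
    (i : T ⟶ H) [IsMonHom i] [IsClosedImmersion i.left] (hT : Red.IsTorus T)
    (q : H ⟶ A) [IsMonHom q] [Surjective q.left] [Flat q.left] (hk : AlgGrp.IsKernel i q)
    [IsProper A.hom] [Smooth A.hom] [ConnectedSpace A.left] [IsCommMonObj H] :
    ∃ (T' : Over (Spec (CommRingCat.of k))) (_ : GrpObj T') (i' : T' ⟶ G) (A' : Over (Spec (CommRingCat.of k))) (_ : GrpObj A') (q' : G ⟶ A'),
        IsMonHom i' ∧ IsClosedImmersion i'.left ∧ Red.IsTorus T' ∧ IsMonHom q' ∧ Surjective q'.left ∧ Flat q'.left ∧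
        AlgGrp.IsKernel i' q' ∧ IsProper A'.hom ∧ Smooth A'.hom ∧ ConnectedSpace ↥A'.left := by
  haveI : Smooth T.hom := AxesTorus.smooth_of_isTorus hT
  haveI : QuasiCompact T.hom := by rw [← Over.w i]; infer_instance
  haveI : Smooth H.hom := (Groth.Agent.S7982.result k T H A i q hk).2.1 inferInstance inferInstance
  haveI : ConnectedSpace H.left := f.left.surjective.connectedSpace f.left.continuous
  haveI : IsSeparated G.hom := SGA3xLib.isSeparated_of_grpObj G
  haveI : IsSeparated H.hom := SGA3xLib.isSeparated_of_grpObj H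
  -- `f` is finite
  haveI : IsFinite (UnipStruct.kerObj f).hom := by
    let eC := hker.isoPullback
    haveI : IsIso eC.inv.left := ((Over.forget _).mapIso eC.symm).isIso_hom
    show IsFinite (pullback f η[H]).hom
    rw [← Over.w eC.inv]
    infer_instance
  haveI : IsFinite f.left := TorusIsog.isFinite_of_kernel f
  haveI : Flat f.left := IsogenyBC.flat_of_isogeny G f
  haveI : QuasiCompact f.left := quasiCompact_left f
  haveI : IsCommMonObj G := by
    let gK : Spec (CommRingCat.of (AlgebraicClosure k)) ⟶ Spec (CommRingCat.of k) :=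
      Spec.map (CommRingCat.ofHom (algebraMap k (AlgebraicClosure k)))
    obtain ⟨hm', hfin', -⟩ := IsogenyBC.bc_isogeny gK G f
    haveI := hm'
    haveI := hfin'
    haveI : Smooth (Red.bc gK G).hom := inferInstanceAs (Smooth (pullback.snd G.hom gK))
    haveI : Smooth (Red.bc gK H).hom := inferInstanceAs (Smooth (pullback.snd H.hom gK))
    haveI : QuasiCompact (Red.bc gK G).hom := inferInstanceAs (QuasiCompact (pullback.snd G.hom gK))
    haveI := IsogenyBC.connected_bc gK G
    haveI := (IsogenyBC.comm_bc_iff gK H).2 inferInstance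
    exact (IsogenyBC.comm_bc_iff gK G).1 (IsogenyProps.comm_of_finite ((Over.pullback gK).map f))
  haveI : IsCommMonObj N := by
    haveI : Mono n := kernel_mono hker
    exact LinearInduction.isCommMonObj_of_mono n
  obtain ⟨m, hm, hkill⟩ := AbCubeLib.exists_pow_eq_one_of_isFinite N
  haveI : IsMonHom ((𝟙 G) ^ m) := SGA3cLib.BCPoints.isMonHom_of_mul _ fun X x y => by
    simp only [MonObj.comp_pow, Category.comp_id, mul_pow]
  have hn : n ≫ ((𝟙 G) ^ m) = 1 := by
    rw [MonObj.comp_pow, Category.comp_id, ← Category.id_comp n, ← MonObj.pow_comp, hkill, MonObj.one_comp]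
  obtain ⟨g, hg⟩ := ExactSeqBasics.exists_desc f hker ((𝟙 G) ^ m) hn
  haveI : IsMonHom (f ≫ g) := by rw [hg]; infer_instance
  haveI : IsMonHom g := UnipStruct.isMonHom_desc f g
  have hgf : g ≫ f = (𝟙 H) ^ m := by
    haveI : Epi f.left := Flat.epi_of_flat_of_surjective _
    haveI : Epi f := Over.epi_of_epi_left _
    rw [← cancel_epi f, ← Category.assoc, hg, MonObj.pow_comp, Category.id_comp, MonObj.comp_pow, Category.comp_id]
  -- `g` is finite and surjective
  obtain ⟨t, ht⟩ := exists_krullDim_eq_nat T
  obtain ⟨a, ha⟩ := exists_krullDim_eq_nat A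
  haveI : IsFinite (g ≫ f).left := by
    rw [hgf]; exact (TorsionDegree.deg_pow i q hT hk ht ha hm).1
  haveI : IsFinite g.left := by
    have h : IsFinite (g.left ≫ f.left) := by rw [← Over.comp_left]; infer_instance
    exact MorphismProperty.of_postcomp (W := @IsFinite) (W' := @IsSeparated) g.left f.left inferInstance h
  haveI : Surjective g.left := by
    haveI : IsIntegral G.left := AbVarLib.isIntegral_of_smooth_connected G.hom
    haveI : IsFinite (f ≫ g).left := by rw [Over.comp_left]; infer_instance
    haveI : Surjective (f ≫ g).left := AbCubeLib.surjective_of_isFinite_endo G.hom (f ≫ g).left (Over.w _)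
    haveI : Surjective (f.left ≫ g.left) := by rw [← Over.comp_left]; infer_instance
    exact Surjective.of_comp f.left g.left
  -- the torus
  obtain ⟨M, gM, j, p, hj, hp, hjc, hpj, hps, -, hMs, -, hMq⟩ := ImageSubgroup.exists_image (i ≫ g)
  letI := gM
  haveI := hj
  haveI := hp
  haveI := hjc
  haveI := hps
  haveI := hMs
  haveI := hMq
  have hMt : Red.IsTorus M := TorusIsog.isTorus_of_surjective hT p
  haveI : Mono j := Over.mono_of_mono_left j
  haveI : QuasiCompact j.left := inferInstance
  have hnorm : AlgGrp.IsNormalHom j := fun X x y => ⟨y, by rw [mul_inv_cancel_comm]⟩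
  obtain ⟨A', gA', q', hq', hq'f, hq's, -, hk', hA'sep, -, hA'sm⟩ := Groth.Agent.S3030.result k M G j hnorm
  letI := gA'
  haveI := hq'
  haveI := hq'f
  haveI := hq's
  haveI := hA'sep
  haveI : Smooth A'.hom := hA'sm inferInstance
  haveI : ConnectedSpace A'.left := q'.left.surjective.connectedSpace q'.left.continuous
  refine ⟨M, gM, j, A', gA', q', hj, hjc, hMt, hq', hq's, hq'f, hk', ?_, inferInstance, inferInstance⟩
  -- properness
  have hkill' : i ≫ g ≫ q' = 1 := by
    rw [← Category.assoc, ← hpj, Category.assoc, kernel_comp hk', MonObj.comp_one]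
  haveI : QuasiCompact q.left := quasiCompact_left q
  obtain ⟨φ, hφ⟩ := ExactSeqBasics.exists_desc q hk (g ≫ q') hkill'
  haveI : Surjective φ.left := by
    haveI : Surjective (g ≫ q').left := by rw [Over.comp_left]; infer_instance
    haveI : Surjective (q.left ≫ φ.left) := by rw [← Over.comp_left, hφ]; infer_instance
    exact Surjective.of_comp q.left φ.left
  haveI : LocallyOfFiniteType A'.hom := inferInstance
  haveI : UniversallyClosed (φ.left ≫ A'.hom) := by rw [Over.w φ]; infer_instance
  haveI : UniversallyClosed A'.hom := UniversallyClosed.of_comp_surjective φ.left A'.hom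
  exact ⟨⟩

end Groth.Agent.AlgGrpLib.SemiabIsogeny
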