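import Groth.Agent.AlgGrpLib.SemiabExt

/-!
# The smallest normal subgroup with semi-abelian quotient
-/

set_option autoImplicit false
set_option backward.isDefEq.respectTransparency.types false
set_option linter.style.haveILetI false
set_option linter.unusedSectionVars false

universe u

open CategoryTheory CategoryTheory.Limits MonoidalCategory CartesianMonoidalCategory MonObj GrpObj AlgebraicGeometry
open Groth.Agent.SGA3cLib

namespace Groth.Agent.AlgGrpLib.SemiabMinimal

open SemiabSum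

variable {k : Type u} [Field k]

/-- The identity component of a normal subgroup is normal. -/
theorem normal_component {G N K Q : Over (Spec (CommRingCat.of k))} [GrpObj G] [GrpObj N] [GrpObj K] [GrpObj Q]
    [Smooth G.hom] [Smooth K.hom] [ConnectedSpace K.left] (j : N ⟶ G) [IsMonHom j] [Mono j] (hj : AlgGrp.IsNormalHom j)
    (u : K ⟶ N) [IsMonHom u] (q : N ⟶ Q) [IsMonHom q] (hkq : AlgGrp.IsKernel u q) [IsFinite Q.hom] [Etale Q.hom] :
    AlgGrp.IsNormalHom (u ≫ j) := by
  have hη : η[Q].left ≫ Q.hom = 𝟙 _ := Over.w η[Q]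
  haveI : Etale η[Q].left := by
    haveI : Etale (η[Q].left ≫ Q.hom) := by rw [hη]; infer_instance
    exact Etale.of_comp η[Q].left Q.hom
  haveI hηc : IsClosedImmersion η[Q].left := isClosedImmersion_of_comp_eq_id Q.hom η[Q].left hη
  haveI : Mono η[Q].left := inferInstance
  haveI hηo : IsOpenImmersion η[Q].left := IsOpenImmersion.of_flat_of_mono η[Q].left
  intro T g x
  obtain ⟨c, hc⟩ := hj (G ⊗ K) (fst G K) (snd G K ≫ u)
  have hone : ∀ (x : G ⊗ K ⟶ N), x ≫ q = 1 → ∃ x', x' ≫ u = x := fun x hx => exists_lift_kernel hkq hx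
  have hc1 : lift (𝟙 G) (toUnit G ≫ η[K]) ≫ c = 1 := by
    rw [← cancel_mono j, Category.assoc, ← hc, MonObj.comp_mul, MonObj.comp_mul, GrpObj.comp_inv, lift_fst,
      Category.assoc (snd G K), lift_snd_assoc, Category.assoc, IsMonHom.one_hom, MonObj.one_eq_one, MonObj.comp_one, MonObj.one_comp,
      _root_.mul_one, mul_inv_cancel]
  haveI : IsLocallyArtinian Q.left := IsLocallyArtinian.of_locallyQuasiFinite Q.hom
  haveI : DiscreteTopology Q.left := inferInstance
  have hsub : Set.range (c ≫ q).left ⊆ Set.range η[Q].left := by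
    rintro _ ⟨z, rfl⟩
    have h := ComponentQuot.range_subset_component (c ≫ q)
      (by rw [← Category.assoc, hc1, MonObj.one_comp]) z
    rw [connectedComponent_eq_singleton] at h
    exact ⟨_, (Set.mem_singleton_iff.1 h).symm⟩
  have hl := IsOpenImmersion.lift_fac η[Q].left (c ≫ q).left hsub
  obtain ⟨c', hc'⟩ := hone c (by
    refine Over.OverMorphism.ext ?_
    rw [← hl, Hom.one_def]
    show _ = (G ⊗ K).hom ≫ η[Q].left
    congr 1
    calc IsOpenImmersion.lift η[Q].left (c ≫ q).left hsub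
        = IsOpenImmersion.lift η[Q].left (c ≫ q).left hsub ≫ η[Q].left ≫ Q.hom := by rw [hη]; exact (Category.comp_id _).symm
      _ = (G ⊗ K).hom := by rw [← Category.assoc, hl, Over.w (c ≫ q)])
  refine ⟨lift g x ≫ c', ?_⟩
  have h := congrArg (lift g x ≫ ·) hc
  simp only [MonObj.comp_mul, GrpObj.comp_inv, lift_fst, Category.assoc, lift_snd_assoc] at h
  rw [h, ← hc']
  simp only [Category.assoc]


/-- A product of semi-abelian varieties is semi-abelian. -/
theorem sa_tensor {S S' : Over (Spec (CommRingCat.of k))} [GrpObj S] [GrpObj S'] [LocallyOfFiniteType S.hom]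
    [QuasiCompact S.hom] [LocallyOfFiniteType S'.hom] [QuasiCompact S'.hom] (h : SA S) (h' : SA S') : SA (S ⊗ S') := by
  obtain ⟨hS1, -, -, hS4⟩ := sa_props h
  obtain ⟨hS'1, -, -, hS'4⟩ := sa_props h'
  haveI := hS1
  haveI := hS'1
  haveI := hS4
  haveI := hS'4
  obtain ⟨T, gT, i, A, gA, q, hi, hic, hT, hq, hqs, hqf, hk, hAp, hAs, hAc⟩ := h
  obtain ⟨T', gT', i', A', gA', q', hi', hic', hT', hq', hqs', hqf', hk', hAp', hAs', hAc'⟩ := h'
  haveI : QuasiCompact T.hom := by rw [← Over.w i]; infer_instance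
  haveI : QuasiCompact T'.hom := by rw [← Over.w i']; infer_instance
  haveI : QuasiCompact (T ⊗ T').hom := inferInstanceAs (QuasiCompact (pullback.fst T.hom T'.hom ≫ T.hom))
  haveI : Smooth (S ⊗ S').hom := inferInstanceAs (Smooth (pullback.fst S.hom S'.hom ≫ S.hom))
  haveI : QuasiCompact (S ⊗ S').hom := inferInstanceAs (QuasiCompact (pullback.fst S.hom S'.hom ≫ S.hom))
  haveI : IsCommMonObj (S ⊗ S') := (isCommMonObj_iff_isMulCommutative _).2 fun X => ⟨⟨fun x y => by
    apply CartesianMonoidalCategory.hom_ext <;> rw [MonObj.mul_comp, MonObj.mul_comp, _root_.mul_comm]⟩⟩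
  refine sa_of_data (i ⊗ₘ i') (MaxTorus26.isTorus_tensor hT hT') fun Q _ σ _ hσ hrs => ?_
  haveI := hrs
  let σ₁ : S ⟶ Q := lift (𝟙 S) 1 ≫ σ
  let σ₂ : S' ⟶ Q := lift 1 (𝟙 S') ≫ σ
  haveI : IsMonHom σ₁ := BCPoints.isMonHom_of_mul σ₁ fun X x y => by
    simp only [σ₁, ← Category.assoc, comp_lift, Category.comp_id, MonObj.comp_one, ← MonObj.mul_comp]
    congr 1
    apply CartesianMonoidalCategory.hom_ext <;>
      simp only [lift_fst, lift_snd, MonObj.mul_comp, _root_.mul_one]
  haveI : IsMonHom σ₂ := BCPoints.isMonHom_of_mul σ₂ fun X x y => by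
    simp only [σ₂, ← Category.assoc, comp_lift, Category.comp_id, MonObj.comp_one, ← MonObj.mul_comp]
    congr 1
    apply CartesianMonoidalCategory.hom_ext <;>
      simp only [lift_fst, lift_snd, MonObj.mul_comp, _root_.mul_one]
  have h1 : i ≫ σ₁ = 1 := by
    have : lift i 1 = lift (𝟙 T) 1 ≫ (i ⊗ₘ i') := by rw [lift_map, Category.id_comp, MonObj.one_comp]
    simp only [σ₁, ← Category.assoc, comp_lift, Category.comp_id, MonObj.comp_one]
    rw [this, Category.assoc, hσ, MonObj.comp_one]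
  have h2 : i' ≫ σ₂ = 1 := by
    have : lift 1 i' = lift 1 (𝟙 T') ≫ (i ⊗ₘ i') := by rw [lift_map, Category.id_comp, MonObj.one_comp]
    simp only [σ₂, ← Category.assoc, comp_lift, Category.comp_id, MonObj.comp_one]
    rw [this, Category.assoc, hσ, MonObj.comp_one]
  haveI : QuasiCompact q.left := quasiCompact_left q
  haveI : QuasiCompact q'.left := quasiCompact_left q'
  obtain ⟨φ₁, hφ₁⟩ := ExactSeqBasics.exists_desc q hk σ₁ h1
  obtain ⟨φ₂, hφ₂⟩ := ExactSeqBasics.exists_desc q' hk' σ₂ h2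
  let Φ : A ⊗ A' ⟶ Q := (fst A A' ≫ φ₁) * (snd A A' ≫ φ₂)
  have hΦ : (q ⊗ₘ q') ≫ Φ = σ := by
    simp only [Φ, MonObj.comp_mul, tensorHom_fst_assoc, tensorHom_snd_assoc, hφ₁, hφ₂]
    simp only [σ₁, σ₂, ← Category.assoc, comp_lift, Category.comp_id, MonObj.comp_one, ← MonObj.mul_comp]
    conv_rhs => rw [← Category.id_comp σ]
    congr 1
    apply CartesianMonoidalCategory.hom_ext <;>
      simp only [lift_fst, lift_snd, MonObj.mul_comp, _root_.mul_one, _root_.one_mul, Category.id_comp]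
  haveI : IsProper (A ⊗ A').hom := inferInstanceAs (IsProper (pullback.fst A.hom A'.hom ≫ A.hom))
  refine ⟨A ⊗ A', Φ, inferInstance, connectedSpace_tensor A A', ?_⟩
  haveI : Surjective ((q ⊗ₘ q').left ≫ Φ.left) := by
    rw [← Over.comp_left, hΦ]; infer_instance
  exact Surjective.of_comp (q ⊗ₘ q').left Φ.left

/-- Subgroups with semi-abelian quotient can be intersected. -/
theorem exists_inter [PerfectField k] {G H₁ H₂ Q₁ Q₂ : Over (Spec (CommRingCat.of k))} [GrpObj G] [Smooth G.hom]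
    [QuasiCompact G.hom] [ConnectedSpace G.left] [GrpObj H₁] [GrpObj H₂] [GrpObj Q₁] [GrpObj Q₂]
    (h₁ : H₁ ⟶ G) (q₁ : G ⟶ Q₁) [IsMonHom q₁] [Surjective q₁.left] (hk₁ : AlgGrp.IsKernel h₁ q₁) (hQ₁ : SA Q₁)
    [LocallyOfFiniteType Q₁.hom] [QuasiCompact Q₁.hom]
    (h₂ : H₂ ⟶ G) (q₂ : G ⟶ Q₂) [IsMonHom q₂] [Surjective q₂.left] (hk₂ : AlgGrp.IsKernel h₂ q₂) (hQ₂ : SA Q₂)
    [LocallyOfFiniteType Q₂.hom] [QuasiCompact Q₂.hom] :
    ∃ (C : Over (Spec (CommRingCat.of k))) (_ : GrpObj C) (c : C ⟶ G), IsMonHom c ∧ IsClosedImmersion c.left ∧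
      AlgGrp.IsNormalHom c ∧ Smooth C.hom ∧ ConnectedSpace C.left ∧
      (∃ (Q : Over (Spec (CommRingCat.of k))) (_ : GrpObj Q) (q : G ⟶ Q), IsMonHom q ∧ Surjective q.left ∧ Flat q.left ∧
        AlgGrp.IsKernel c q ∧ SA Q) ∧
      (∃ a : C ⟶ H₁, a ≫ h₁ = c) ∧ ∃ a : C ⟶ H₂, a ≫ h₂ = c := by
  haveI : IsSeparated G.hom := SGA3xLib.isSeparated_of_grpObj G
  haveI : LocallyOfFiniteType (Q₁ ⊗ Q₂).hom :=
    inferInstanceAs (LocallyOfFiniteType (pullback.fst Q₁.hom Q₂.hom ≫ Q₁.hom))
  haveI : QuasiCompact (Q₁ ⊗ Q₂).hom := inferInstanceAs (QuasiCompact (pullback.fst Q₁.hom Q₂.hom ≫ Q₁.hom))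
  let f : G ⟶ Q₁ ⊗ Q₂ := lift q₁ q₂
  haveI : IsMonHom f := BCPoints.isMonHom_of_mul f fun X x y => by
    simp only [f, comp_lift, MonObj.mul_comp]
    apply CartesianMonoidalCategory.hom_ext <;> simp only [lift_fst, lift_snd, MonObj.mul_comp]
  obtain ⟨I, gI, b, ρ, hb, hρ, hbc, hρb, hρs, hρf, hIs, -, hIq⟩ := ImageSubgroup.exists_image f
  letI := gI
  haveI := hb
  haveI := hρ
  haveI := hbc
  haveI := hρs
  haveI := hρf
  haveI := hIs
  haveI := hIq
  haveI : ConnectedSpace I.left := ρ.left.surjective.connectedSpace ρ.left.continuous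
  have hI : SA I := SemiabExt.sa_subgroup b (sa_tensor hQ₁ hQ₂)
  obtain ⟨-, -, -, hIc⟩ := sa_props hI
  haveI := hIc
  haveI : IsSeparated I.hom := SGA3xLib.isSeparated_of_grpObj I
  let K := UnipStruct.kerObj ρ
  let κ := UnipStruct.kerι ρ
  haveI : IsClosedImmersion κ.left := UnipStruct.isClosedImmersion_kerι ρ
  haveI : IsMonHom κ := UnipStruct.isMonHom_kerι ρ
  haveI : Mono κ := Over.mono_of_mono_left κ
  have hκ : AlgGrp.IsKernel κ ρ := UnipStruct.isKernel_kerι ρ
  have hκn : AlgGrp.IsNormalHom κ := ExactSeqBasics.isNormalHom_kernel ρ hκ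
  haveI : LocallyOfFiniteType K.hom := by rw [← Over.w κ]; infer_instance
  haveI : QuasiCompact K.hom := by rw [← Over.w κ]; infer_instance
  obtain ⟨R, gR, r, hr, hrc, hRs, hrs, hfac⟩ := AbelianComplement.exists_smooth_reduction K
  letI := gR
  haveI := hr
  haveI := hrc
  haveI := hRs
  haveI := hrs
  haveI : QuasiCompact R.hom := by rw [← Over.w r]; infer_instance
  have hRn : AlgGrp.IsNormalHom (r ≫ κ) := AbelianComplement.isNormalHom_reduction κ hκn r hfac
  haveI : Mono (r ≫ κ) := by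
    haveI : Mono r := Over.mono_of_mono_left r
    infer_instance
  obtain ⟨C, gC, u, Qc, gQc, p, hu, hp, hC, hkp, hpf, hps, -, hQf, hQe⟩ := ComponentQuot.exists_componentGroup R
  letI := gC
  letI := gQc
  haveI := hu
  haveI := hp
  haveI := hC
  haveI := hpf
  haveI := hps
  haveI := hQf
  haveI := hQe
  have hη : η[Qc].left ≫ Qc.hom = 𝟙 _ := Over.w η[Qc]
  haveI : Etale η[Qc].left := by
    haveI : Etale (η[Qc].left ≫ Qc.hom) := by rw [hη]; infer_instance
    exact Etale.of_comp η[Qc].left Qc.hom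
  haveI hηc : IsClosedImmersion η[Qc].left := isClosedImmersion_of_comp_eq_id Qc.hom η[Qc].left hη
  have sq := (hkp.map (Over.forget _)).flip
  haveI : IsClosedImmersion u.left := MorphismProperty.of_isPullback sq hηc
  haveI : Etale u.left := MorphismProperty.of_isPullback sq ‹Etale η[Qc].left›
  haveI : Smooth C.hom := by rw [← Over.w u]; infer_instance
  haveI : QuasiCompact C.hom := by rw [← Over.w u]; infer_instance
  let v : C ⟶ G := u ≫ r ≫ κ
  haveI : IsClosedImmersion v.left := by simp only [v, Over.comp_left]; infer_instance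
  haveI : Mono v := Over.mono_of_mono_left v
  have hvn : AlgGrp.IsNormalHom v := normal_component (r ≫ κ) hRn u p hkp
  have hv : v ≫ f = 1 := by
    rw [← hρb, ← Category.assoc]
    simp only [v, Category.assoc]
    rw [← Category.assoc κ ρ b, kernel_comp hκ, MonObj.one_comp, MonObj.comp_one, MonObj.comp_one]
  obtain ⟨a₁, ha₁⟩ := exists_lift_kernel hk₁ (g := v) (by
    have := congrArg (fun z => z ≫ fst Q₁ Q₂) hv
    simpa [f, MonObj.one_comp] using this)
  obtain ⟨a₂, ha₂⟩ := exists_lift_kernel hk₂ (g := v) (by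
    have := congrArg (fun z => z ≫ snd Q₁ Q₂) hv
    simpa [f, MonObj.one_comp] using this)
  obtain ⟨Q, gQ, π, hπ, hπf, hπs, -, hkπ, hQsep, -, hQsm⟩ := Groth.Agent.S3030.result k C G v hvn
  letI := gQ
  haveI := hπ
  haveI := hπf
  haveI := hπs
  haveI := hQsep
  haveI : Smooth Q.hom := hQsm inferInstance
  haveI : QuasiCompact π.left := quasiCompact_left π
  haveI : CompactSpace G.left := QuasiCompact.compactSpace_of_compactSpace G.hom
  haveI : CompactSpace Q.left := ⟨by rw [← π.left.surjective.range_eq]; exact isCompact_range π.left.continuous⟩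
  haveI : QuasiCompact Q.hom := quasiCompact_of_compactSpace Q.hom
  haveI : ConnectedSpace Q.left := π.left.surjective.connectedSpace π.left.continuous
  obtain ⟨ρ', hρ'⟩ := ExactSeqBasics.exists_desc π hkπ ρ (by
    simp only [v, Category.assoc, kernel_comp hκ, MonObj.comp_one])
  haveI : IsMonHom (π ≫ ρ') := by rw [hρ']; infer_instance
  haveI : IsMonHom ρ' := UnipStruct.isMonHom_desc π ρ'
  haveI : Surjective ρ'.left := by
    haveI : Surjective (π.left ≫ ρ'.left) := by rw [← Over.comp_left, hρ']; infer_instance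
    exact Surjective.of_comp π.left ρ'.left
  let κ' := UnipStruct.kerι ρ'
  haveI : IsMonHom κ' := UnipStruct.isMonHom_kerι ρ'
  haveI : IsClosedImmersion κ'.left := UnipStruct.isClosedImmersion_kerι ρ'
  haveI : Mono κ' := Over.mono_of_mono_left κ'
  have hκ' : AlgGrp.IsKernel κ' ρ' := UnipStruct.isKernel_kerι ρ'
  obtain ⟨σ, hσ⟩ := exists_lift_kernel hκ' (g := κ ≫ π) (by rw [Category.assoc, hρ', kernel_comp hκ])
  haveI : IsMonHom σ := BCPoints.isMonHom_of_mul _ fun X x y => by
    simp only [← cancel_mono κ', MonObj.mul_comp, Category.assoc, hσ]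
  haveI : Surjective σ.left := by
    have hsq : IsPullback κ σ π κ' := by
      refine IsPullback.of_bot ?_ hσ.symm hκ'.flip.flip
      rw [toUnit_unique (σ ≫ toUnit _) (toUnit K), hρ']
      exact hκ
    exact MorphismProperty.of_isPullback (hsq.map (Over.forget _)) hπs
  haveI : IsFinite (UnipStruct.kerObj ρ').hom := by
    haveI : LocallyOfFiniteType (UnipStruct.kerObj ρ').hom := by rw [← Over.w κ']; infer_instance
    haveI : QuasiCompact p.left := quasiCompact_left p
    obtain ⟨τ, hτ⟩ := ExactSeqBasics.exists_desc p hkp (r ≫ σ) (by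
      rw [← cancel_mono κ', MonObj.one_comp, Category.assoc, Category.assoc, hσ, ← Category.assoc, ← Category.assoc]
      exact (congrArg (· ≫ π) (Category.assoc u r κ)).trans (kernel_comp hkπ))
    haveI : Finite ↥Qc.left := by
      refine Set.finite_univ_iff.1 ?_
      refine (Qc.hom.finite_preimage_singleton (IsLocalRing.closedPoint k)).subset fun z _ => ?_
      exact Subsingleton.elim (α := PrimeSpectrum k) _ _
    haveI : Surjective (p.left ≫ τ.left) := by rw [← Over.comp_left, hτ, Over.comp_left]; infer_instance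
    haveI : Surjective τ.left := Surjective.of_comp p.left τ.left
    haveI : Finite ↥(UnipStruct.kerObj ρ').left := Finite.of_surjective _ τ.left.surjective
    exact DimLib.isFinite_of_finite _
  obtain ⟨TI, gTI, iI, AI, gAI, qI, hiI, hicI, hTI, hqI, hqsI, hqfI, hkI, hApI, hAsI, hAcI⟩ := hI
  refine ⟨C, gC, v, inferInstance, inferInstance, hvn, inferInstance, inferInstance,
    ⟨Q, gQ, π, hπ, hπs, hπf, hkπ, SemiabIsogeny.main ρ' κ' hκ' iI hTI qI hkI⟩, ⟨a₁, ha₁⟩, ⟨a₂, ha₂⟩⟩

/-- There is a smallest smooth connected normal subgroup with semi-abelian quotient. -/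
theorem exists_smallest [PerfectField k] (G : Over (Spec (CommRingCat.of k))) [GrpObj G] [Smooth G.hom]
    [QuasiCompact G.hom] [ConnectedSpace G.left] :
    ∃ (H : Over (Spec (CommRingCat.of k))) (_ : GrpObj H) (h : H ⟶ G), IsMonHom h ∧ IsClosedImmersion h.left ∧
      AlgGrp.IsNormalHom h ∧ Smooth H.hom ∧ ConnectedSpace H.left ∧
      (∃ (Q : Over (Spec (CommRingCat.of k))) (_ : GrpObj Q) (q : G ⟶ Q), IsMonHom q ∧ Surjective q.left ∧ Flat q.left ∧
        AlgGrp.IsKernel h q ∧ SA Q) ∧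
      ∀ (H' : Over (Spec (CommRingCat.of k))) [GrpObj H'] (h' : H' ⟶ G) [IsMonHom h'] [IsClosedImmersion h'.left]
        (Q' : Over (Spec (CommRingCat.of k))) [GrpObj Q'] (q' : G ⟶ Q') [IsMonHom q'] [Surjective q'.left] [Flat q'.left],
        AlgGrp.IsKernel h' q' → SA Q' → ∃ g : H ⟶ H', g ≫ h' = h := by
  classical
  have hpre : ∀ (X : Over (Spec (CommRingCat.of k))) [GrpObj X] [Smooth X.hom] [QuasiCompact X.hom],
      ∃ d : ℕ, topologicalKrullDim X.left = (d : WithBot ℕ∞) := fun X _ _ _ =>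
    SemiabIsogeny.exists_krullDim_eq_nat X
  haveI : IsSeparated G.hom := SGA3xLib.isSeparated_of_grpObj G
  have hqc : ∀ (Q : Over (Spec (CommRingCat.of k))) [GrpObj Q] (q : G ⟶ Q) [Surjective q.left],
      SA Q → LocallyOfFiniteType Q.hom ∧ QuasiCompact Q.hom := fun Q _ q _ hQ => by
    obtain ⟨T, gT, i, A, gA, p, hi, hic, hT, hp, hps, hpf, hk, hAp, hAs, hAc⟩ := hQ
    haveI : CompactSpace G.left := QuasiCompact.compactSpace_of_compactSpace G.hom
    haveI : CompactSpace Q.left := ⟨by rw [← q.left.surjective.range_eq]; exact isCompact_range q.left.continuous⟩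
    haveI : QuasiCompact Q.hom := quasiCompact_of_compactSpace Q.hom
    haveI : QuasiCompact p.left := quasiCompact_left p
    haveI : Smooth T.hom := AxesTorus.smooth_of_isTorus hT
    haveI : Smooth p.left := AbVarLib.of_kernel p i @Smooth hk inferInstance
    haveI : Smooth Q.hom := by rw [← Over.w p]; infer_instance
    exact ⟨inferInstance, inferInstance⟩
  let D : Set ℕ := {n | ∃ (H : Over (Spec (CommRingCat.of k))) (_ : GrpObj H) (h : H ⟶ G), IsMonHom h ∧
    IsClosedImmersion h.left ∧ AlgGrp.IsNormalHom h ∧ Smooth H.hom ∧ ConnectedSpace H.left ∧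
    (∃ (Q : Over (Spec (CommRingCat.of k))) (_ : GrpObj Q) (q : G ⟶ Q), IsMonHom q ∧ Surjective q.left ∧ Flat q.left ∧
        AlgGrp.IsKernel h q ∧ SA Q) ∧ topologicalKrullDim H.left = (n : WithBot ℕ∞)}
  have hne : D.Nonempty := by
    obtain ⟨n, hn⟩ := hpre G
    haveI : Smooth (𝟙_ (Over (Spec (CommRingCat.of k)))).hom := inferInstanceAs (Smooth (𝟙 _))
    haveI : QuasiCompact (𝟙_ (Over (Spec (CommRingCat.of k)))).hom := inferInstanceAs (QuasiCompact (𝟙 _))
    have hsa : SA (𝟙_ (Over (Spec (CommRingCat.of k)))) :=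
      sa_of_data (𝟙 _) (MultTypeTorus.isTorus_unit _) fun Q _ r _ _ hr =>
        ⟨_, r, inferInstanceAs (IsProper (𝟙 _)), inferInstanceAs (ConnectedSpace (PrimeSpectrum k)), hr⟩
    haveI : IsMonHom (toUnit G) := inferInstance
    have htl : (toUnit G).left = G.hom := (Category.comp_id _).symm.trans (Over.w (toUnit G))
    refine ⟨n, G, inferInstance, 𝟙 G, inferInstance, inferInstanceAs (IsClosedImmersion (𝟙 G.left)),
      fun X x y => ⟨x * (y ≫ 𝟙 G) * x⁻¹, (Category.comp_id _).symm⟩, inferInstance, inferInstance,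
      ⟨_, inferInstance, toUnit G, inferInstance, ?_, ?_, ?_, hsa⟩, hn⟩
    · rw [htl]; exact ⟨fun y => ⟨η[G].left y, Subsingleton.elim (α := PrimeSpectrum k) _ _⟩⟩
    · rw [htl]; infer_instance
    · refine IsPullback.of_isLimit' ⟨toUnit_unique _ _⟩ ?_
      exact PullbackCone.IsLimit.mk _ (fun s => s.fst) (fun s => Category.comp_id _) (fun s => toUnit_unique _ _)
        (fun s m h _ => by rw [← h, Category.comp_id])
  obtain ⟨H, gH, h, hh, hhc, hhn, hHs, hHc, hHQ, hHd⟩ := Nat.sInf_mem hne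
  letI := gH
  haveI := hh
  haveI := hhc
  haveI := hHs
  haveI := hHc
  refine ⟨H, gH, h, hh, hhc, hhn, hHs, hHc, hHQ, fun H' _ h' _ _ Q' _ q' _ _ _ hk' hQ' => ?_⟩
  obtain ⟨Q, gQ, q, hq, hqs, hqf, hk, hQ⟩ := hHQ
  letI := gQ
  haveI := hq
  haveI := hqs
  obtain ⟨hl1, hc1⟩ := hqc Q q hQ
  obtain ⟨hl2, hc2⟩ := hqc Q' q' hQ'
  haveI := hl1
  haveI := hc1
  haveI := hl2
  haveI := hc2
  obtain ⟨C, gC, c, hc, hcc, hcn, hCs, hCc, hCQ, ⟨a, ha⟩, ⟨a', ha'⟩⟩ := exists_inter h q hk hQ h' q' hk' hQ'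
  letI := gC
  haveI := hc
  haveI := hcc
  haveI := hCs
  haveI := hCc
  haveI : QuasiCompact H.hom := by rw [← Over.w h]; infer_instance
  haveI : QuasiCompact C.hom := by rw [← Over.w c]; infer_instance
  haveI : IsClosedImmersion (a.left ≫ h.left) := by rw [← Over.comp_left, ha]; infer_instance
  haveI : IsClosedImmersion a.left := IsClosedImmersion.of_comp a.left h.left
  obtain ⟨dC, hdC⟩ := hpre C
  have hdim : topologicalKrullDim C.left = topologicalKrullDim H.left := by
    refine le_antisymm a.left.isClosedEmbedding.isInducing.topologicalKrullDim_le ?_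
    rw [hHd, hdC]
    exact_mod_cast Nat.sInf_le (show dC ∈ D from ⟨C, gC, c, hc, hcc, hcn, hCs, hCc, hCQ, hdC⟩)
  haveI : IsIntegral C.left := AbVarLib.isIntegral_of_smooth_connected C.hom
  haveI : IsIntegral H.left := AbVarLib.isIntegral_of_smooth_connected H.hom
  haveI : LocallyOfFiniteType (a.left ≫ H.hom) := by rw [Over.w a]; infer_instance
  haveI : Surjective a.left := AbVarLib.surjective_of_lqf H.hom a.left hdim
  haveI : IsIso a.left := isIso_of_isClosedImmersion_of_surjective _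
  haveI : IsIso a := (isIso_iff_of_reflects_iso a (Over.forget _)).1 ‹IsIso a.left›
  exact ⟨inv a ≫ a', by rw [Category.assoc, ha', IsIso.inv_comp_eq, ha]⟩

end Groth.Agent.AlgGrpLib.SemiabMinimal
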