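import Groth.Agent.AlgGrpLib.SemiabIsogeny
import Groth.Agent.AlgGrpLib.MultTypeTorus
import Groth.Agent.AlgGrpLib.AbelianSubvariety
import Groth.Agent.AbVarLib.HomDim
import Groth.Agent.MaxTorus26.Basic
import Groth.Agent.GrpQ26.Preimage
import Groth.Agent.S5431

/-!
# The largest semi-abelian subvariety of a commutative group scheme
-/

set_option autoImplicit false
set_option backward.isDefEq.respectTransparency.types false
set_option linter.style.haveILetI false

universe u

open CategoryTheory CategoryTheory.Limits MonoidalCategory CartesianMonoidalCategory MonObj GrpObj AlgebraicGeometry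
open Groth.Agent.SGA3cLib

namespace Groth.Agent.AlgGrpLib.SemiabSum

variable {k : Type u} [Field k]

/-- Extensions of abelian varieties by tori, as in the statements. -/
abbrev SA (S : Over (Spec (CommRingCat.of k))) [GrpObj S] : Prop :=
  ∃ (T : Over (Spec (CommRingCat.of k))) (_ : GrpObj T) (i : T ⟶ S) (A : Over (Spec (CommRingCat.of k))) (_ : GrpObj A) (q : S ⟶ A),
    IsMonHom i ∧ IsClosedImmersion i.left ∧ Red.IsTorus T ∧ IsMonHom q ∧ Surjective q.left ∧ Flat q.left ∧
    AlgGrp.IsKernel i q ∧ IsProper A.hom ∧ Smooth A.hom ∧ ConnectedSpace ↥A.left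

theorem surjective_whiskerLeft (X : Over (Spec (CommRingCat.of k))) {Y Z : Over (Spec (CommRingCat.of k))} (f : Y ⟶ Z)
    [Surjective f.left] : Surjective (X ◁ f).left := by
  have hw : IsPullback (X ◁ f).left (snd X Y).left (snd X Z).left f.left := by
    refine IsPullback.of_right (h₁₂ := (fst X Z).left) (h₂₂ := Z.hom) (v₁₃ := X.hom) ?_ ?_
      (IsPullback.of_hasPullback X.hom Z.hom)
    · rw [← Over.comp_left, whiskerLeft_fst, Over.w f]
      exact IsPullback.of_hasPullback X.hom Y.hom
    · rw [← Over.comp_left, ← Over.comp_left, whiskerLeft_snd]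
  exact MorphismProperty.of_isPullback (P := @Surjective) hw.flip ‹Surjective f.left›

theorem surjective_whiskerRight (X : Over (Spec (CommRingCat.of k))) {Y Z : Over (Spec (CommRingCat.of k))} (f : Y ⟶ Z)
    [Surjective f.left] : Surjective (f ▷ X).left := by
  haveI := surjective_whiskerLeft X f
  haveI : IsIso (β_ Y X).hom.left := ((Over.forget _).mapIso (β_ Y X)).isIso_hom
  haveI : IsIso (β_ X Z).hom.left := ((Over.forget _).mapIso (β_ X Z)).isIso_hom
  have h : f ▷ X = (β_ Y X).hom ≫ (X ◁ f) ≫ (β_ X Z).hom := by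
    apply CartesianMonoidalCategory.hom_ext <;> simp
  rw [h, Over.comp_left, Over.comp_left]
  infer_instance

/-- A smooth commutative group with a torus whose quotient is dominated by a proper connected scheme. -/
theorem sa_of_data {G T : Over (Spec (CommRingCat.of k))} [GrpObj G] [GrpObj T] [Smooth G.hom] [QuasiCompact G.hom]
    [IsCommMonObj G] [QuasiCompact T.hom] (t : T ⟶ G) [IsMonHom t] (hT : Red.IsTorus T)
    (hB : ∀ (Q : Over (Spec (CommRingCat.of k))) [GrpObj Q] (r : G ⟶ Q) [IsMonHom r], t ≫ r = 1 → Surjective r.left →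
      ∃ (B : Over (Spec (CommRingCat.of k))) (φ : B ⟶ Q), IsProper B.hom ∧ ConnectedSpace B.left ∧ Surjective φ.left) :
    SA G := by
  haveI : Smooth T.hom := AxesTorus.smooth_of_isTorus hT
  haveI : IsSeparated G.hom := SGA3xLib.isSeparated_of_grpObj G
  obtain ⟨M, gM, j, p, hj, hp, hjc, hpj, hps, -, hMs, -, hMq⟩ := ImageSubgroup.exists_image t
  letI := gM
  haveI := hj
  haveI := hp
  haveI := hjc
  haveI := hps
  haveI := hMs
  haveI := hMq
  have hMt : Red.IsTorus M := TorusIsog.isTorus_of_surjective hT p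
  haveI : Mono j := Over.mono_of_mono_left j
  have hnorm : AlgGrp.IsNormalHom j := fun X x y => ⟨y, by rw [mul_inv_cancel_comm]⟩
  obtain ⟨A', gA', q', hq', hq'f, hq's, -, hk', hA'sep, -, hA'sm⟩ := Groth.Agent.S3030.result k M G j hnorm
  letI := gA'
  haveI := hq'
  haveI := hq'f
  haveI := hq's
  haveI := hA'sep
  haveI : Smooth A'.hom := hA'sm inferInstance
  have hkill : t ≫ q' = 1 := by rw [← hpj, Category.assoc, kernel_comp hk', MonObj.comp_one]
  obtain ⟨B, φ, hBp, hBc, hφ⟩ := hB A' q' hkill hq's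
  haveI := hBp
  haveI := hBc
  haveI := hφ
  haveI : ConnectedSpace A'.left := φ.left.surjective.connectedSpace φ.left.continuous
  haveI : UniversallyClosed (φ.left ≫ A'.hom) := by rw [Over.w φ]; infer_instance
  haveI : UniversallyClosed A'.hom := UniversallyClosed.of_comp_surjective φ.left A'.hom
  exact ⟨M, gM, j, A', gA', q', hj, hjc, hMt, hq', hq's, hq'f, hk', ⟨⟩, inferInstance, inferInstance⟩

/-- Basic properties of extensions of abelian varieties by tori. -/
theorem sa_props {S : Over (Spec (CommRingCat.of k))} [GrpObj S] [LocallyOfFiniteType S.hom] [QuasiCompact S.hom]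
    (h : SA S) : Smooth S.hom ∧ ConnectedSpace S.left ∧ GeometricallyIntegral S.hom ∧ IsCommMonObj S := by
  obtain ⟨T, _, i, A, _, q, _, _, hT, _, _, _, hk, _, _, _⟩ := h
  haveI : LocallyOfFiniteType T.hom := by rw [← Over.w i]; infer_instance
  haveI : QuasiCompact T.hom := by rw [← Over.w i]; infer_instance
  have h2 := Groth.Agent.S7982.result k T S A i q hk
  exact ⟨h2.2.1 (AxesTorus.smooth_of_isTorus hT) inferInstance, h2.2.2 (TorusConnLib.connectedSpace T hT) inferInstance,
    AxesTorus.geometricallyIntegral_of_extension i q hT hk, AxesTorus.isCommMonObj_of_extension i q hT hk⟩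

theorem connectedSpace_tensor (X Y : Over (Spec (CommRingCat.of k))) [GrpObj X] [GrpObj Y] [Smooth X.hom] [Smooth Y.hom]
    [QuasiCompact X.hom] [QuasiCompact Y.hom] [ConnectedSpace X.left] [ConnectedSpace Y.left] :
    ConnectedSpace (X ⊗ Y).left := by
  haveI := AbelianSubvariety.geometricallyConnected_of_connected X
  haveI := AbelianSubvariety.geometricallyConnected_of_connected Y
  haveI : GeometricallyIntegral X.hom := AbVarLib.geometricallyIntegral_of_smooth X.hom
  haveI : GeometricallyIntegral Y.hom := AbVarLib.geometricallyIntegral_of_smooth Y.hom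
  haveI : IsIntegral X.left := AbVarLib.isIntegral_of_smooth_connected X.hom
  haveI : IrreducibleSpace (X ⊗ Y).left := OpenOrbit.irreducibleSpace_tensor X Y
  infer_instance

variable {G : Over (Spec (CommRingCat.of k))} [GrpObj G] [IsCommMonObj G] [LocallyOfFiniteType G.hom] [QuasiCompact G.hom]

/-- The sum of two semi-abelian subvarieties. -/
theorem exists_sum {S S' : Over (Spec (CommRingCat.of k))} [GrpObj S] [GrpObj S'] (s : S ⟶ G) [IsMonHom s]
    [IsClosedImmersion s.left] (s' : S' ⟶ G) [IsMonHom s'] [IsClosedImmersion s'.left] (h : SA S) (h' : SA S') :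
    ∃ (M : Over (Spec (CommRingCat.of k))) (_ : GrpObj M) (m : M ⟶ G) (a : S ⟶ M) (a' : S' ⟶ M),
      IsMonHom m ∧ IsClosedImmersion m.left ∧ SA M ∧ a ≫ m = s ∧ a' ≫ m = s' := by
  haveI : LocallyOfFiniteType S.hom := by rw [← Over.w s]; infer_instance
  haveI : QuasiCompact S.hom := by rw [← Over.w s]; infer_instance
  haveI : LocallyOfFiniteType S'.hom := by rw [← Over.w s']; infer_instance
  haveI : QuasiCompact S'.hom := by rw [← Over.w s']; infer_instance
  obtain ⟨hS1, -, -, hS4⟩ := sa_props h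
  obtain ⟨hS'1, -, -, hS'4⟩ := sa_props h'
  haveI := hS1
  haveI := hS'1
  haveI := hS4
  haveI := hS'4
  obtain ⟨T, gT, i, A, gA, q, hi, hic, hT, hq, hqs, hqf, hk, hAp, hAs, hAc⟩ := h
  obtain ⟨T', gT', i', A', gA', q', hi', hic', hT', hq', hqs', hqf', hk', hAp', hAs', hAc'⟩ := h'
  haveI : QuasiCompact T.hom := by rw [← Over.w i]; infer_instance
  haveI : QuasiCompact T'.hom := by rw [← Over.w i']; infer_instance
  haveI : QuasiCompact (T ⊗ T').hom := inferInstanceAs (QuasiCompact (pullback.fst T.hom T'.hom ≫ T.hom))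
  haveI : Smooth (S ⊗ S').hom := inferInstanceAs (Smooth (pullback.fst S.hom S'.hom ≫ S.hom))
  haveI : QuasiCompact (S ⊗ S').hom := inferInstanceAs (QuasiCompact (pullback.fst S.hom S'.hom ≫ S.hom))
  let w : S ⊗ S' ⟶ G := (fst S S' ≫ s) * (snd S S' ≫ s')
  haveI : IsMonHom w := BCPoints.isMonHom_of_mul w fun X x y => by
    simp only [w, MonObj.comp_mul, MonObj.mul_comp, ← Category.assoc]
    exact _root_.mul_mul_mul_comm _ _ _ _
  obtain ⟨M, gM, m, ρ, hm, hρ, hmc, hρm, hρs, -, hMs, -, hMq⟩ := ImageSubgroup.exists_image w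
  letI := gM
  haveI := hm
  haveI := hρ
  haveI := hmc
  haveI := hρs
  haveI := hMs
  haveI := hMq
  haveI : Mono m := Over.mono_of_mono_left m
  haveI : IsCommMonObj M := LinearInduction.isCommMonObj_of_mono m
  refine ⟨M, gM, m, lift (𝟙 S) 1 ≫ ρ, lift 1 (𝟙 S') ≫ ρ, hm, hmc, ?_, ?_, ?_⟩
  · refine sa_of_data ((i ⊗ₘ i') ≫ ρ) (MaxTorus26.isTorus_tensor hT hT') fun Q _ r _ hr hrs => ?_
    haveI := hrs
    let σ : S ⊗ S' ⟶ Q := ρ ≫ r
    have hσ : (i ⊗ₘ i') ≫ σ = 1 := by
      simp only [σ]; rw [← Category.assoc]; exact hr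
    let σ₁ : S ⟶ Q := lift (𝟙 S) 1 ≫ σ
    let σ₂ : S' ⟶ Q := lift 1 (𝟙 S') ≫ σ
    haveI : IsMonHom σ₁ := BCPoints.isMonHom_of_mul σ₁ fun X x y => by
      simp only [σ₁, ← Category.assoc, comp_lift, Category.comp_id, MonObj.comp_one, ← MonObj.mul_comp]
      congr 1
      apply CartesianMonoidalCategory.hom_ext <;>
        simp only [lift_fst, lift_snd, MonObj.mul_comp, _root_.mul_one]
    haveI : IsMonHom σ₂ := BCPoints.isMonHom_of_mul σ₂ fun X x y => by
      simp only [σ₂, ← Category.assoc, comp_lift, Category.comp_id, MonObj.comp_one, ← MonObj.mul_comp]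
      congr 1
      apply CartesianMonoidalCategory.hom_ext <;>
        simp only [lift_fst, lift_snd, MonObj.mul_comp, _root_.mul_one]
    have h1 : i ≫ σ₁ = 1 := by
      have : lift i 1 = lift (𝟙 T) 1 ≫ (i ⊗ₘ i') := by rw [lift_map, Category.id_comp, MonObj.one_comp]
      simp only [σ₁, ← Category.assoc, comp_lift, Category.comp_id, MonObj.comp_one]
      rw [this, Category.assoc, hσ, MonObj.comp_one]
    have h2 : i' ≫ σ₂ = 1 := by
      have : lift 1 i' = lift 1 (𝟙 T') ≫ (i ⊗ₘ i') := by rw [lift_map, Category.id_comp, MonObj.one_comp]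
      simp only [σ₂, ← Category.assoc, comp_lift, Category.comp_id, MonObj.comp_one]
      rw [this, Category.assoc, hσ, MonObj.comp_one]
    haveI : QuasiCompact q.left := quasiCompact_left q
    haveI : QuasiCompact q'.left := quasiCompact_left q'
    obtain ⟨φ₁, hφ₁⟩ := ExactSeqBasics.exists_desc q hk σ₁ h1
    obtain ⟨φ₂, hφ₂⟩ := ExactSeqBasics.exists_desc q' hk' σ₂ h2
    let Φ : A ⊗ A' ⟶ Q := (fst A A' ≫ φ₁) * (snd A A' ≫ φ₂)
    have hΦ : (q ⊗ₘ q') ≫ Φ = σ := by
      simp only [Φ, MonObj.comp_mul, tensorHom_fst_assoc, tensorHom_snd_assoc, hφ₁, hφ₂]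
      simp only [σ₁, σ₂, ← Category.assoc, comp_lift, Category.comp_id, MonObj.comp_one, ← MonObj.mul_comp]
      conv_rhs => rw [← Category.id_comp σ]
      congr 1
      apply CartesianMonoidalCategory.hom_ext <;>
        simp only [lift_fst, lift_snd, MonObj.mul_comp, _root_.mul_one, _root_.one_mul, Category.id_comp]
    haveI : IsProper (A ⊗ A').hom := inferInstanceAs (IsProper (pullback.fst A.hom A'.hom ≫ A.hom))
    refine ⟨A ⊗ A', Φ, inferInstance, connectedSpace_tensor A A', ?_⟩
    haveI : Surjective ((q ⊗ₘ q').left ≫ Φ.left) := by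
      rw [← Over.comp_left, hΦ, Over.comp_left]; infer_instance
    exact Surjective.of_comp (q ⊗ₘ q').left Φ.left
  · rw [Category.assoc, hρm]
    simp only [w, MonObj.comp_mul, lift_fst_assoc, lift_snd_assoc, Category.id_comp, MonObj.one_comp, _root_.mul_one]
  · rw [Category.assoc, hρm]
    simp only [w, MonObj.comp_mul, lift_fst_assoc, lift_snd_assoc, Category.id_comp, MonObj.one_comp, _root_.one_mul]

/-- There is a largest semi-abelian subvariety. -/
theorem exists_largest :
    ∃ (S : Over (Spec (CommRingCat.of k))) (_ : GrpObj S) (s : S ⟶ G), IsMonHom s ∧ IsClosedImmersion s.left ∧ SA S ∧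
      ∀ (S' : Over (Spec (CommRingCat.of k))) [GrpObj S'] (s' : S' ⟶ G) [IsMonHom s'] [IsClosedImmersion s'.left],
        SA S' → ∃ g : S' ⟶ S, g ≫ s = s' := by
  classical
  let D : Set ℕ := {n | ∃ (S : Over (Spec (CommRingCat.of k))) (_ : GrpObj S) (s : S ⟶ G), IsMonHom s ∧
    IsClosedImmersion s.left ∧ SA S ∧ topologicalKrullDim S.left = (n : WithBot ℕ∞)}
  let pt : ↥(Spec (CommRingCat.of k)) := IsLocalRing.closedPoint k
  have hpre : ∀ (X : Over (Spec (CommRingCat.of k))) [GrpObj X] [LocallyOfFiniteType X.hom],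
      ∃ d : ℕ, topologicalKrullDim X.left = (d : WithBot ℕ∞) := fun X _ _ => by
    obtain ⟨d, hd⟩ := SGA3cLib.NeutralDim.exists_dim_eq_nat X pt
    have : X.hom.base ⁻¹' {pt} = Set.univ :=
      Set.eq_univ_of_forall fun z => Subsingleton.elim (α := PrimeSpectrum k) _ _
    rw [this] at hd
    exact ⟨d, by rw [← hd]; exact (IsHomeomorph.topologicalKrullDim_eq _ (Homeomorph.Set.univ _).isHomeomorph).symm⟩
  obtain ⟨d, hd⟩ := hpre G
  have hle : ∀ n ∈ D, n ≤ d := by
    rintro n ⟨S, _, s, _, hc, -, hn⟩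
    have h := s.left.isClosedEmbedding.isInducing.topologicalKrullDim_le
    rw [hn, hd] at h
    exact_mod_cast h
  have hne : D.Nonempty := by
    let e : 𝟙_ (Over (Spec (CommRingCat.of k))) ⟶ G := η[G]
    haveI : IsSeparated G.hom := SGA3xLib.isSeparated_of_grpObj G
    haveI : IsClosedImmersion e.left := SGA3xLib.isClosedImmersion_of_section G.hom _ (Over.w e)
    haveI : Smooth (𝟙_ (Over (Spec (CommRingCat.of k)))).hom := inferInstanceAs (Smooth (𝟙 _))
    haveI : QuasiCompact (𝟙_ (Over (Spec (CommRingCat.of k)))).hom := inferInstanceAs (QuasiCompact (𝟙 _))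
    have hsa : SA (𝟙_ (Over (Spec (CommRingCat.of k)))) :=
      sa_of_data (𝟙 _) (MultTypeTorus.isTorus_unit _) fun Q _ r _ _ hr =>
        ⟨_, r, inferInstanceAs (IsProper (𝟙 _)), inferInstanceAs (ConnectedSpace (PrimeSpectrum k)), hr⟩
    obtain ⟨n, hn⟩ := hpre (𝟙_ (Over (Spec (CommRingCat.of k))))
    exact ⟨n, _, inferInstance, e, inferInstance, inferInstance, hsa, hn⟩
  obtain ⟨S, gS, s, hs, hsc, hS, hSd⟩ := Nat.sSup_mem hne ⟨d, hle⟩
  letI := gS
  haveI := hs
  haveI := hsc
  refine ⟨S, gS, s, hs, hsc, hS, fun S' _ s' _ _ hS' => ?_⟩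
  obtain ⟨M, gM, m, a, a', hm, hmc, hM, ha, ha'⟩ := exists_sum s s' hS hS'
  letI := gM
  haveI := hm
  haveI := hmc
  haveI : LocallyOfFiniteType S.hom := by rw [← Over.w s]; infer_instance
  haveI : QuasiCompact S.hom := by rw [← Over.w s]; infer_instance
  haveI : LocallyOfFiniteType M.hom := by rw [← Over.w m]; infer_instance
  haveI : QuasiCompact M.hom := by rw [← Over.w m]; infer_instance
  obtain ⟨-, -, hS3, -⟩ := sa_props hS
  obtain ⟨hM1, -, hM3, -⟩ := sa_props hM
  haveI := hS3
  haveI := hM3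
  haveI := hM1
  haveI : Mono m := Over.mono_of_mono_left m
  haveI : IsMonHom a := BCPoints.isMonHom_of_mul _ fun X x y => by
    simp only [← cancel_mono m, MonObj.mul_comp, Category.assoc, ha]
  haveI : IsClosedImmersion (a.left ≫ m.left) := by rw [← Over.comp_left, ha]; infer_instance
  haveI : IsClosedImmersion a.left := IsClosedImmersion.of_comp a.left m.left
  obtain ⟨dM, hdM⟩ := hpre M
  have hdim : topologicalKrullDim S.left = topologicalKrullDim M.left := by
    refine le_antisymm a.left.isClosedEmbedding.isInducing.topologicalKrullDim_le ?_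
    rw [hSd, hdM]
    exact_mod_cast le_csSup ⟨d, hle⟩ (show dM ∈ D from ⟨M, gM, m, hm, hmc, hM, hdM⟩)
  obtain ⟨hS1, hS2, -, -⟩ := sa_props hS
  obtain ⟨-, hM2, -, -⟩ := sa_props hM
  haveI := hS1
  haveI := hS2
  haveI := hM2
  haveI : IsIntegral S.left := GeometricallyIntegral.isIntegral_of_subsingleton S.hom
  haveI : IsIntegral M.left := GeometricallyIntegral.isIntegral_of_subsingleton M.hom
  haveI : LocallyOfFiniteType (a.left ≫ M.hom) := by rw [Over.w a]; infer_instance
  haveI : Surjective a.left := AbVarLib.surjective_of_lqf M.hom a.left hdim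
  haveI : IsIso a.left := isIso_of_isClosedImmersion_of_surjective _
  haveI : IsIso a := (isIso_iff_of_reflects_iso a (Over.forget _)).1 ‹IsIso a.left›
  exact ⟨a' ≫ inv a, by rw [Category.assoc, IsIso.inv_comp_eq a |>.2 ha.symm, ha']⟩

/-- An extension of a semi-abelian variety by a semi-abelian variety, inside a commutative group. -/
theorem sa_of_extension {S P S'' : Over (Spec (CommRingCat.of k))} [GrpObj S] [GrpObj P] [GrpObj S'']
    [IsCommMonObj P] [LocallyOfFiniteType P.hom] [QuasiCompact P.hom] [LocallyOfFiniteType S''.hom] [QuasiCompact S''.hom]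
    (u : S ⟶ P) [IsMonHom u] [IsClosedImmersion u.left] (p₁ : P ⟶ S'') [IsMonHom p₁] [Surjective p₁.left] [Flat p₁.left]
    (hu : AlgGrp.IsKernel u p₁) (h : SA S) (h'' : SA S'') : SA P := by
  haveI : LocallyOfFiniteType S.hom := by rw [← Over.w u]; infer_instance
  haveI : QuasiCompact S.hom := by rw [← Over.w u]; infer_instance
  haveI : IsSeparated P.hom := SGA3xLib.isSeparated_of_grpObj P
  obtain ⟨hS1, hS2, -, hS4⟩ := sa_props h
  obtain ⟨hS''1, hS''2, -, hS''4⟩ := sa_props h''
  haveI := hS1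
  haveI := hS2
  haveI := hS4
  haveI := hS''1
  haveI := hS''2
  haveI := hS''4
  have hP := Groth.Agent.S7982.result k S P S'' u p₁ hu
  haveI : Smooth P.hom := hP.2.1 inferInstance inferInstance
  haveI : ConnectedSpace P.left := hP.2.2 inferInstance inferInstance
  obtain ⟨T, gT, i, A, gA, q, hi, hic, hT, hq, hqs, hqf, hk, hAp, hAs, hAc⟩ := h
  haveI : LocallyOfFiniteType T.hom := by rw [← Over.w i]; infer_instance
  haveI : QuasiCompact T.hom := by rw [← Over.w i]; infer_instance
  haveI : Smooth T.hom := AxesTorus.smooth_of_isTorus hT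
  -- the quotient by the torus
  let w : T ⟶ P := i ≫ u
  haveI : IsClosedImmersion w.left := by simp only [w, Over.comp_left]; infer_instance
  haveI : Mono w := Over.mono_of_mono_left w
  have hnorm : AlgGrp.IsNormalHom w := fun X x y => ⟨y, by rw [mul_inv_cancel_comm]⟩
  obtain ⟨E, gE, r, hr, hrf, hrs, -, hkr, hEsep, -, hEsm⟩ := Groth.Agent.S3030.result k T P w hnorm
  letI := gE
  haveI := hr
  haveI := hrf
  haveI := hrs
  haveI := hEsep
  haveI : Smooth E.hom := hEsm inferInstance
  haveI : QuasiCompact r.left := quasiCompact_left r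
  haveI : QuasiCompact E.hom := by
    haveI : CompactSpace P.left := QuasiCompact.compactSpace_of_compactSpace P.hom
    haveI : CompactSpace E.left := ⟨by rw [← r.left.surjective.range_eq]; exact isCompact_range r.left.continuous⟩
    exact quasiCompact_of_compactSpace E.hom
  haveI : ConnectedSpace E.left := r.left.surjective.connectedSpace r.left.continuous
  haveI : IsCommMonObj E := IsogenyBC.comm_of_surjective P r
  haveI : QuasiCompact q.left := quasiCompact_left q
  haveI : Mono u := Over.mono_of_mono_left u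
  -- the abelian subvariety
  obtain ⟨φ, hφ⟩ := ExactSeqBasics.exists_desc q hk (u ≫ r) (by
    rw [← Category.assoc]; exact kernel_comp hkr)
  haveI : IsMonHom (q ≫ φ) := by rw [hφ]; infer_instance
  haveI : IsMonHom φ := UnipStruct.isMonHom_desc q φ
  haveI : Mono φ := ⟨fun {X} x y hxy => by
    obtain ⟨X', c, z, _, _, _, hz⟩ := exists_lift_cover q (x * y⁻¹)
    obtain ⟨t, ht⟩ := exists_lift_kernel hkr (g := z ≫ u) (by
      rw [Category.assoc, ← hφ, ← Category.assoc, hz, Category.assoc, MonObj.mul_comp, GrpObj.inv_comp, hxy,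
        mul_inv_cancel, MonObj.comp_one])
    have ht' : t ≫ i = z := by rw [← cancel_mono u, Category.assoc]; exact ht
    haveI : Epi c.left := Flat.epi_of_flat_of_surjective _
    haveI : Epi c := Over.epi_of_epi_left _
    have h1 : c ≫ (x * y⁻¹) = c ≫ 1 := by
      rw [← hz, ← ht', Category.assoc, kernel_comp hk, MonObj.comp_one, MonObj.comp_one]
    exact mul_inv_eq_one.1 ((cancel_epi c).1 h1)⟩
  -- the projection
  obtain ⟨π, hπ⟩ := ExactSeqBasics.exists_desc r hkr p₁ (by
    rw [Category.assoc, kernel_comp hu, MonObj.comp_one])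
  haveI : IsMonHom (r ≫ π) := by rw [hπ]; infer_instance
  haveI : IsMonHom π := UnipStruct.isMonHom_desc r π
  have hφπ : φ ≫ π = 1 := by
    haveI : Epi q.left := Flat.epi_of_flat_of_surjective _
    haveI : Epi q := Over.epi_of_epi_left _
    rw [← cancel_epi q, ← Category.assoc, hφ, Category.assoc, hπ, kernel_comp hu, MonObj.comp_one]
  haveI : Surjective π.left := by
    haveI : Surjective (r.left ≫ π.left) := by rw [← Over.comp_left, hπ]; infer_instance
    exact Surjective.of_comp r.left π.left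
  -- every point killed by the projection comes from the abelian subvariety
  have hπk : ∀ {X : Over (Spec (CommRingCat.of k))} (y : X ⟶ E), y ≫ π = 1 → ∃ a : X ⟶ A, a ≫ φ = y := by
    intro X y hy
    obtain ⟨X', c, z, _, _, _, hz⟩ := exists_lift_cover r y
    obtain ⟨z', hz'⟩ := exists_lift_kernel hu (g := z) (by
      rw [← hπ, ← Category.assoc, hz, Category.assoc, hy, MonObj.comp_one])
    have hc : (z' ≫ q) ≫ φ = c ≫ y := by rw [Category.assoc, hφ, ← Category.assoc, hz', hz]
    haveI : EffectiveEpi c.left := inferInstance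
    haveI : Mono φ.left := inferInstanceAs (Mono ((Over.forget _).map φ))
    let a₀ : X.left ⟶ A.left := EffectiveEpi.desc c.left (z' ≫ q).left (fun {W} a b hab => by
      rw [← cancel_mono φ.left, Category.assoc, Category.assoc, ← Over.comp_left, hc, Over.comp_left,
        ← Category.assoc, hab, Category.assoc])
    have ha₀ : c.left ≫ a₀ = (z' ≫ q).left := EffectiveEpi.fac _ _ _
    haveI : Epi c.left := Flat.epi_of_flat_of_surjective _
    let a : X ⟶ A := Over.homMk a₀ (by
      rw [← cancel_epi c.left, ← Category.assoc, ha₀, Over.w (z' ≫ q), Over.w c])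
    refine ⟨a, ?_⟩
    haveI : Epi c := Over.epi_of_epi_left _
    rw [← cancel_epi c, ← hc, ← Category.assoc]
    congr 1
    exact Over.OverMorphism.ext ha₀
  obtain ⟨ψ, n, hn, hψ, hφψ⟩ := AbelianSubvariety.exists_hom φ
  haveI := hψ
  let χ : E ⟶ S'' ⊗ A := lift π ψ
  haveI : IsMonHom χ := BCPoints.isMonHom_of_mul χ fun X x y => by
    simp only [χ, comp_lift, MonObj.mul_comp]
    apply CartesianMonoidalCategory.hom_ext <;> simp only [lift_fst, lift_snd, MonObj.mul_comp]
  haveI : IsCommMonObj A := UnipStruct.isCommMonObj_of_cover q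
  haveI : GeometricallyConnected A.hom := AbelianSubvariety.geometricallyConnected_of_connected A
  haveI : GeometricallyIntegral A.hom := AbVarLib.geometricallyIntegral_of_smooth A.hom
  haveI : IsMonHom ((𝟙 A) ^ n) := BCPoints.isMonHom_of_mul _ fun X x y => by
    simp only [MonObj.comp_pow, Category.comp_id, mul_pow]
  -- surjectivity
  haveI : Surjective χ.left := by
    let σ : E ⊗ A ⟶ E ⊗ A := lift (fst E A) ((fst E A ≫ ψ) * snd E A)
    let σ' : E ⊗ A ⟶ E ⊗ A := lift (fst E A) ((fst E A ≫ ψ)⁻¹ * snd E A)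
    have hσ : σ' ≫ σ = 𝟙 _ := by
      apply CartesianMonoidalCategory.hom_ext
      · simp [σ, σ']
      · simp only [σ, σ', Category.assoc, lift_snd, MonObj.comp_mul, lift_fst_assoc, Category.id_comp]
        rw [mul_inv_cancel_left]
    haveI : IsSplitEpi σ := IsSplitEpi.mk' ⟨σ', hσ⟩
    haveI : Surjective σ.left := by
      haveI : Surjective (σ'.left ≫ σ.left) := by rw [← Over.comp_left, hσ, Over.id_left]; infer_instance
      exact Surjective.of_comp σ'.left σ.left
    haveI : Surjective ((𝟙 A : A ⟶ A) ^ n).left := AbCubeLib.surjective_pow (A := A) hn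
    haveI := surjective_whiskerLeft E ((𝟙 A : A ⟶ A) ^ n)
    haveI := surjective_whiskerRight A π
    let Φ : E ⊗ A ⟶ S'' ⊗ A := (E ◁ ((𝟙 A : A ⟶ A) ^ n)) ≫ σ ≫ (π ▷ A)
    haveI : Surjective Φ.left := by simp only [Φ, Over.comp_left]; infer_instance
    have hΦ : ((fst E A) * (snd E A ≫ φ)) ≫ χ = Φ := by
      apply CartesianMonoidalCategory.hom_ext
      · simp [χ, Φ, σ, MonObj.mul_comp, hφπ]
      · simp [χ, Φ, σ, MonObj.mul_comp, MonObj.comp_mul, hφψ, MonObj.comp_pow]
    haveI : Surjective (((fst E A) * (snd E A ≫ φ)).left ≫ χ.left) := by rw [← Over.comp_left, hΦ]; infer_instance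
    exact Surjective.of_comp ((fst E A) * (snd E A ≫ φ)).left χ.left
  -- finiteness of the kernel
  let pw : A ⟶ A := (𝟙 A) ^ n
  haveI : IsMonHom pw := inferInstanceAs (IsMonHom ((𝟙 A) ^ n))
  haveI : IsFinite (UnipStruct.kerObj pw).hom := by
    haveI : IsFinite pw.left := AbCubeLib.isFinite_pow (A := A) hn
    have sq := ((UnipStruct.isKernel_kerι pw).map (Over.forget _))
    haveI : IsFinite (toUnit (UnipStruct.kerObj pw)).left := MorphismProperty.of_isPullback sq ‹IsFinite pw.left›
    haveI : IsFinite ((𝟙_ (Over (Spec (CommRingCat.of k)))).hom) := inferInstanceAs (IsFinite (𝟙 _))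
    rw [← Over.w (toUnit (UnipStruct.kerObj pw))]
    infer_instance
  haveI : IsSeparated (S'' ⊗ A).hom := SGA3xLib.isSeparated_of_grpObj (S'' ⊗ A)
  haveI : LocallyOfFiniteType (S'' ⊗ A).hom :=
    inferInstanceAs (LocallyOfFiniteType (pullback.fst S''.hom A.hom ≫ S''.hom))
  haveI : QuasiCompact (S'' ⊗ A).hom :=
    inferInstanceAs (QuasiCompact (pullback.fst S''.hom A.hom ≫ S''.hom))
  let ν := UnipStruct.kerι χ
  haveI : IsMonHom ν := UnipStruct.isMonHom_kerι χ
  haveI : IsClosedImmersion ν.left := UnipStruct.isClosedImmersion_kerι χ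
  have hν : ν ≫ χ = 1 := kernel_comp (UnipStruct.isKernel_kerι χ)
  obtain ⟨a, ha⟩ := hπk ν (by
    have := congrArg (fun f => f ≫ fst S'' A) hν
    simpa [χ, MonObj.one_comp] using this)
  obtain ⟨b, hb⟩ := exists_lift_kernel (UnipStruct.isKernel_kerι pw) (g := a) (by
    have h1 : ν ≫ ψ = 1 := by
      have := congrArg (fun f => f ≫ snd S'' A) hν
      simpa [χ, MonObj.one_comp] using this
    rw [← ha, Category.assoc, hφψ] at h1
    exact h1)
  haveI : IsClosedImmersion (b.left ≫ (UnipStruct.kerι pw ≫ φ).left) := by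
    rw [← Over.comp_left, ← Category.assoc, hb, ha]; infer_instance
  haveI : IsSeparated (UnipStruct.kerι pw ≫ φ).left := by
    haveI : IsSeparated ((UnipStruct.kerι pw ≫ φ).left ≫ E.hom) := by rw [Over.w]; infer_instance
    exact IsSeparated.of_comp _ E.hom
  haveI : IsClosedImmersion b.left := IsClosedImmersion.of_comp b.left (UnipStruct.kerι pw ≫ φ).left
  haveI : IsFinite (UnipStruct.kerObj χ).hom := by rw [← Over.w b]; infer_instance
  -- the semi-abelian structure of the target
  obtain ⟨T'', gT'', i'', A'', gA'', q'', hi'', hic'', hT'', hq'', hqs'', hqf'', hk'', hAp'', hAs'', hAc''⟩ := h''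
  haveI : QuasiCompact T''.hom := by rw [← Over.w i'']; infer_instance
  haveI : Smooth (S'' ⊗ A).hom := inferInstanceAs (Smooth (pullback.fst S''.hom A.hom ≫ S''.hom))
  let t'' : T'' ⟶ S'' ⊗ A := lift i'' 1
  haveI : IsMonHom t'' := BCPoints.isMonHom_of_mul t'' fun X x y => by
    simp only [t'', comp_lift, MonObj.comp_one]
    apply CartesianMonoidalCategory.hom_ext <;>
      simp only [lift_fst, lift_snd, MonObj.mul_comp, _root_.mul_one]
  have hX : SA (S'' ⊗ A) := sa_of_data t'' hT'' fun Q _ ρ _ hρ hρs => by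
    haveI := hρs
    let σ₁ : S'' ⟶ Q := lift (𝟙 S'') 1 ≫ ρ
    haveI : IsMonHom σ₁ := BCPoints.isMonHom_of_mul σ₁ fun X x y => by
      simp only [σ₁, ← Category.assoc, comp_lift, Category.comp_id, MonObj.comp_one, ← MonObj.mul_comp]
      congr 1
      apply CartesianMonoidalCategory.hom_ext <;>
        simp only [lift_fst, lift_snd, MonObj.mul_comp, _root_.mul_one]
    haveI : QuasiCompact q''.left := quasiCompact_left q''
    obtain ⟨φ₁, hφ₁⟩ := ExactSeqBasics.exists_desc q'' hk'' σ₁ (by
      simp only [σ₁, ← Category.assoc, comp_lift, Category.comp_id, MonObj.comp_one]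
      exact hρ)
    let Φ : A'' ⊗ A ⟶ Q := (fst A'' A ≫ φ₁) * (snd A'' A ≫ lift 1 (𝟙 A) ≫ ρ)
    have hΦ : (q'' ▷ A) ≫ Φ = ρ := by
      simp only [Φ, MonObj.comp_mul, whiskerRight_fst_assoc, whiskerRight_snd_assoc]
      simp only [hφ₁, σ₁, ← Category.assoc,
        comp_lift, Category.comp_id, MonObj.comp_one, ← MonObj.mul_comp]
      conv_rhs => rw [← Category.id_comp ρ]
      congr 1
      apply CartesianMonoidalCategory.hom_ext <;>
        simp only [lift_fst, lift_snd, MonObj.mul_comp, _root_.mul_one, _root_.one_mul, Category.id_comp]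
    haveI : IsProper (A'' ⊗ A).hom := inferInstanceAs (IsProper (pullback.fst A''.hom A.hom ≫ A''.hom))
    refine ⟨A'' ⊗ A, Φ, inferInstance, connectedSpace_tensor A'' A, ?_⟩
    haveI : Surjective ((q'' ▷ A).left ≫ Φ.left) := by rw [← Over.comp_left, hΦ]; infer_instance
    exact Surjective.of_comp (q'' ▷ A).left Φ.left
  obtain ⟨Tχ, gTχ, iχ, Aχ, gAχ, qχ, hiχ, hicχ, hTχ, hqχ, hqsχ, hqfχ, hkχ, hApχ, hAsχ, hAcχ⟩ := hX
  haveI : IsCommMonObj (S'' ⊗ A) := AxesTorus.isCommMonObj_of_extension iχ qχ hTχ hkχ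
  obtain ⟨TE, gTE, iE, AE, gAE, qE, hiE, hicE, hTE, hqE, hqsE, hqfE, hkE, hApE, hAsE, hAcE⟩ :=
    SemiabIsogeny.main χ ν (UnipStruct.isKernel_kerι χ) iχ hTχ qχ hkχ
  -- the torus of `P`
  haveI : LocallyOfFiniteType TE.hom := by rw [← Over.w iE]; infer_instance
  haveI : QuasiCompact TE.hom := by rw [← Over.w iE]; infer_instance
  haveI : Mono iE := Over.mono_of_mono_left iE
  obtain ⟨gR, hR1, hR2⟩ := GrpQ26.exists_grpObj_preimage r iE
  let R := Limits.pullback iE r
  let pR₁ : R ⟶ TE := Limits.pullback.fst iE r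
  let pR₂ : R ⟶ P := Limits.pullback.snd iE r
  letI := gR
  haveI : IsMonHom pR₁ := hR1
  haveI : IsMonHom pR₂ := hR2
  have sqR : IsPullback pR₂ pR₁ r iE := (IsPullback.of_hasPullback iE r).flip
  haveI : IsClosedImmersion pR₂.left := MorphismProperty.of_isPullback (sqR.map (Over.forget _)).flip hicE
  haveI : Surjective pR₁.left := MorphismProperty.of_isPullback (sqR.map (Over.forget _)) hrs
  haveI : Flat pR₁.left := MorphismProperty.of_isPullback (sqR.map (Over.forget _)) hrf
  haveI : LocallyOfFiniteType R.hom := by rw [← Over.w pR₂]; infer_instance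
  haveI : QuasiCompact R.hom := by rw [← Over.w pR₂]; infer_instance
  haveI : Mono pR₂ := Over.mono_of_mono_left pR₂
  haveI : IsCommMonObj R := LinearInduction.isCommMonObj_of_mono pR₂
  let v : T ⟶ R := sqR.lift w (toUnit T ≫ η[TE]) (by
    rw [kernel_comp hkr, Category.assoc, IsMonHom.one_hom, ← Hom.one_def])
  haveI : IsMonHom v := BCPoints.isMonHom_of_mul _ fun X x y => by
    simp only [← cancel_mono pR₂, MonObj.mul_comp, Category.assoc, v, sqR.lift_fst]
  have hkR : AlgGrp.IsKernel v pR₁ := by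
    refine IsPullback.of_right (h₁₂ := pR₂) (h₂₂ := iE) (v₁₃ := r) ?_ (sqR.lift_snd _ _ _) sqR
    rw [sqR.lift_fst, IsMonHom.one_hom]
    exact hkr
  haveI : QuasiCompact pR₁.left := quasiCompact_left pR₁
  have hRT := Groth.Agent.S7982.result k T R TE v pR₁ hkR
  haveI : Smooth R.hom := hRT.2.1 inferInstance (AxesTorus.smooth_of_isTorus hTE)
  haveI : ConnectedSpace R.left := hRT.2.2 (TorusConnLib.connectedSpace T hT) (TorusConnLib.connectedSpace TE hTE)
  have hRt : Red.IsTorus R := MultTypeTorus.isTorus_of_multType R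
    (Groth.Agent.S5431.result _ R T TE pR₁ v hkR (MultExt26.isMultTypeFT_of_torus T hT)
      (MultExt26.isMultTypeFT_of_torus TE hTE) (Or.inl inferInstance))
  refine sa_of_data pR₂ hRt fun Q _ ρ _ hρ hρs => ?_
  haveI := hρs
  obtain ⟨ρ', hρ'⟩ := ExactSeqBasics.exists_desc r hkr ρ (by
    show w ≫ ρ = 1
    rw [← sqR.lift_fst w (toUnit T ≫ η[TE]) (by
      rw [kernel_comp hkr, Category.assoc, IsMonHom.one_hom, ← Hom.one_def]), Category.assoc, hρ, MonObj.comp_one])
  haveI : IsMonHom (r ≫ ρ') := by rw [hρ']; infer_instance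
  haveI : IsMonHom ρ' := UnipStruct.isMonHom_desc r ρ'
  haveI : QuasiCompact qE.left := quasiCompact_left qE
  obtain ⟨φE, hφE⟩ := ExactSeqBasics.exists_desc qE hkE ρ' (by
    haveI : Epi pR₁.left := Flat.epi_of_flat_of_surjective _
    haveI : Epi pR₁ := Over.epi_of_epi_left _
    rw [← cancel_epi pR₁, ← Category.assoc, ← sqR.w, Category.assoc, hρ', hρ, MonObj.comp_one])
  refine ⟨AE, φE, hApE, hAcE, ?_⟩
  haveI : Surjective ρ'.left := by
    haveI : Surjective (r.left ≫ ρ'.left) := by rw [← Over.comp_left, hρ']; infer_instance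
    exact Surjective.of_comp r.left ρ'.left
  haveI : Surjective (qE.left ≫ φE.left) := by rw [← Over.comp_left, hφE]; infer_instance
  exact Surjective.of_comp qE.left φE.left

/-- The quotient by the largest semi-abelian subvariety has none. -/
theorem isIso_unit_of_quotient {S : Over (Spec (CommRingCat.of k))} [GrpObj S] (s : S ⟶ G) [IsMonHom s]
    [IsClosedImmersion s.left] (hS : SA S)
    (hmax : ∀ (S' : Over (Spec (CommRingCat.of k))) [GrpObj S'] (s' : S' ⟶ G) [IsMonHom s'] [IsClosedImmersion s'.left],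
      SA S' → ∃ g : S' ⟶ S, g ≫ s = s')
    {Q : Over (Spec (CommRingCat.of k))} [GrpObj Q] [LocallyOfFiniteType Q.hom] [QuasiCompact Q.hom]
    (q : G ⟶ Q) [IsMonHom q] [Surjective q.left] [Flat q.left] (hq : AlgGrp.IsKernel s q)
    {S'' : Over (Spec (CommRingCat.of k))} [GrpObj S''] (s'' : S'' ⟶ Q) [IsMonHom s''] [IsClosedImmersion s''.left]
    (h'' : SA S'') : IsIso η[S''] := by
  haveI : Mono s'' := Over.mono_of_mono_left s''
  haveI : LocallyOfFiniteType S''.hom := by rw [← Over.w s'']; infer_instance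
  haveI : QuasiCompact S''.hom := by rw [← Over.w s'']; infer_instance
  obtain ⟨gP, hP1, hP2⟩ := GrpQ26.exists_grpObj_preimage q s''
  let P := Limits.pullback s'' q
  let p₁ : P ⟶ S'' := Limits.pullback.fst s'' q
  let p₂ : P ⟶ G := Limits.pullback.snd s'' q
  letI := gP
  haveI : IsMonHom p₁ := hP1
  haveI : IsMonHom p₂ := hP2
  have sqP : IsPullback p₂ p₁ q s'' := (IsPullback.of_hasPullback s'' q).flip
  haveI : IsClosedImmersion p₂.left :=
    MorphismProperty.of_isPullback (sqP.map (Over.forget _)).flip ‹IsClosedImmersion s''.left›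
  haveI : Surjective p₁.left := MorphismProperty.of_isPullback (sqP.map (Over.forget _)) ‹Surjective q.left›
  haveI : Flat p₁.left := MorphismProperty.of_isPullback (sqP.map (Over.forget _)) ‹Flat q.left›
  haveI : LocallyOfFiniteType P.hom := by rw [← Over.w p₂]; infer_instance
  haveI : QuasiCompact P.hom := by rw [← Over.w p₂]; infer_instance
  haveI : Mono p₂ := Over.mono_of_mono_left p₂
  haveI : IsCommMonObj P := LinearInduction.isCommMonObj_of_mono p₂
  let u : S ⟶ P := sqP.lift s (toUnit S ≫ η[S'']) (by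
    rw [kernel_comp hq, Category.assoc, IsMonHom.one_hom, ← Hom.one_def])
  have hu2 : u ≫ p₂ = s := sqP.lift_fst _ _ _
  haveI : IsMonHom u := BCPoints.isMonHom_of_mul _ fun X x y => by
    simp only [← cancel_mono p₂, MonObj.mul_comp, Category.assoc, hu2]
  haveI : IsClosedImmersion (u.left ≫ p₂.left) := by rw [← Over.comp_left, hu2]; infer_instance
  haveI : IsClosedImmersion u.left := IsClosedImmersion.of_comp u.left p₂.left
  have hku : AlgGrp.IsKernel u p₁ := by
    refine IsPullback.of_right (h₁₂ := p₂) (h₂₂ := s'') (v₁₃ := q) ?_ (sqP.lift_snd _ _ _) sqP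
    rw [hu2, IsMonHom.one_hom]
    exact hq
  obtain ⟨g, hg⟩ := hmax P p₂ (sa_of_extension u p₁ hku hS h'')
  have h1 : p₁ = 1 := by
    rw [← cancel_mono s'', ← sqP.w, ← hg, Category.assoc, kernel_comp hq, MonObj.comp_one, MonObj.one_comp]
  haveI : QuasiCompact p₁.left := quasiCompact_left p₁
  haveI : Epi p₁.left := Flat.epi_of_flat_of_surjective _
  haveI : Epi p₁ := Over.epi_of_epi_left _
  have h2 : 𝟙 S'' = 1 := by rw [← cancel_epi p₁, Category.comp_id, MonObj.comp_one, h1]
  exact ⟨toUnit S'', toUnit_unique _ _, by rw [← Hom.one_def, ← h2]⟩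

end Groth.Agent.AlgGrpLib.SemiabSum
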