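import Groth.Agent.AlgGrpLib.PointsDense
import Mathlib.AlgebraicGeometry.Pullbacks
import Mathlib.RingTheory.TensorProduct.Free

/-!
# Slices through points are schematically dense in products
-/

set_option autoImplicit false
set_option backward.isDefEq.respectTransparency.types false

universe u

open CategoryTheory Limits MonoidalCategory CartesianMonoidalCategory AlgebraicGeometry
open scoped TensorProduct

namespace Groth.Agent.AlgGrpLib.SliceDense

open PointsDense

variable (k K : Type u) [Field k] [Field K] [Algebra k K]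

theorem eq_zero_of_slices (A B : Type u) [CommRing A] [Algebra k A] [CommRing B] [Algebra k B]
    (hA : ∀ a : A, (∀ φ : A →ₐ[k] K, φ a = 0) → a = 0) (f : A ⊗[k] B)
    (hf : ∀ φ : A →ₐ[k] K, Algebra.TensorProduct.map φ (AlgHom.id k B) f = 0) : f = 0 := by
  let b := Module.Free.chooseBasis k B
  refine (Algebra.TensorProduct.basis A b).ext_elem fun i => ?_
  rw [map_zero, Finsupp.zero_apply]
  refine hA _ fun φ => ?_
  have key : ∀ x : A ⊗[k] B, φ ((Algebra.TensorProduct.basis A b).repr x i) =
      (Algebra.TensorProduct.basis K b).repr (Algebra.TensorProduct.map φ (AlgHom.id k B) x) i := fun x => by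
    induction x using TensorProduct.induction_on with
    | zero => simp
    | add p q hp hq => simp only [map_add, Finsupp.add_apply, hp, hq]
    | tmul a c => simp
  rw [key, hf φ, map_zero, Finsupp.zero_apply]

variable [IsSepClosed K]

theorem isIso_of_slices {X Y Z : Over (Spec (CommRingCat.of k))} [LocallyOfFiniteType X.hom]
    [GeometricallyReduced X.hom] (c : Z ⟶ X ⊗ Y) [IsClosedImmersion c.left]
    (hZ : ∀ x : spK k K ⟶ X, ∃ z : spK k K ⊗ Y ⟶ Z, z ≫ c = x ▷ Y) : IsIso c := by
  suffices IsIso c.left by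
    haveI : IsIso ((Over.forget _).map c) := ‹IsIso c.left›
    exact isIso_of_reflects_iso c (Over.forget _)
  let 𝒰 : (pullback X.hom Y.hom).OpenCover :=
    Scheme.Pullback.openCoverOfLeftRight X.left.affineCover Y.left.affineCover X.hom Y.hom
  refine IsZariskiLocalAtTarget.of_openCover (P := MorphismProperty.isomorphisms Scheme.{u}) 𝒰 fun ij => ?_
  change IsIso (pullback.snd c.left (𝒰.f ij))
  let jA : Spec Γ(X.left.affineCover.X ij.1, ⊤) ⟶ X.left :=
    (X.left.affineCover.X ij.1).isoSpec.inv ≫ X.left.affineCover.f ij.1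
  let jB : Spec Γ(Y.left.affineCover.X ij.2, ⊤) ⟶ Y.left :=
    (Y.left.affineCover.X ij.2).isoSpec.inv ≫ Y.left.affineCover.f ij.2
  let : Algebra k Γ(X.left.affineCover.X ij.1, ⊤) := (Spec.preimage (jA ≫ X.hom)).hom.toAlgebra
  let : Algebra k Γ(Y.left.affineCover.X ij.2, ⊤) := (Spec.preimage (jB ≫ Y.hom)).hom.toAlgebra
  let A : Type u := Γ(X.left.affineCover.X ij.1, ⊤)
  let B : Type u := Γ(Y.left.affineCover.X ij.2, ⊤)
  have hjA : jA ≫ X.hom = Spec.map (CommRingCat.ofHom (algebraMap k A)) := (Spec.map_preimage _).symm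
  have hjB : jB ≫ Y.hom = Spec.map (CommRingCat.ofHom (algebraMap k B)) := (Spec.map_preimage _).symm
  haveI hft : Algebra.FiniteType k A := by
    have : LocallyOfFiniteType (Spec.map (Spec.preimage (jA ≫ X.hom))) := by
      rw [Spec.map_preimage]; infer_instance
    rw [HasRingHomProperty.Spec_iff (P := @LocallyOfFiniteType)] at this
    exact this
  haveI : Algebra.IsGeometricallyReduced k A := isGeometricallyReduced_of_open k X.hom A jA hjA
  let e₁ : pullback (Spec.map (CommRingCat.ofHom (algebraMap k A))) (Spec.map (CommRingCat.ofHom (algebraMap k B))) ⟶ 𝒰.X ij :=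
    pullback.map _ _ (X.left.affineCover.f ij.1 ≫ X.hom) (Y.left.affineCover.f ij.2 ≫ Y.hom)
      (X.left.affineCover.X ij.1).isoSpec.inv (Y.left.affineCover.X ij.2).isoSpec.inv (𝟙 _)
      (by rw [Category.comp_id, ← hjA, Category.assoc]) (by rw [Category.comp_id, ← hjB, Category.assoc])
  haveI : IsIso e₁ := pullback.map_isIso _ _ _ _ _ _ _ _ _
  let j₀ : Spec (CommRingCat.of (A ⊗[k] B)) ⟶ pullback X.hom Y.hom := (pullbackSpecIso k A B).inv ≫ e₁ ≫ 𝒰.f ij
  have hf1 : j₀ ≫ pullback.fst X.hom Y.hom =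
      Spec.map (CommRingCat.ofHom (Algebra.TensorProduct.includeLeftRingHom : A →+* A ⊗[k] B)) ≫ jA := by
    simp only [j₀, e₁, 𝒰, jA, Category.assoc, Scheme.Pullback.openCoverOfLeftRight_f]
    erw [pullback.lift_fst, pullback.lift_fst_assoc]
    simp only [← Category.assoc]
    congr 2
    exact pullbackSpecIso_inv_fst k A B
  have hf2 : j₀ ≫ pullback.snd X.hom Y.hom =
      Spec.map (CommRingCat.ofHom (Algebra.TensorProduct.includeRight (R := k) (A := A) (B := B)).toRingHom) ≫ jB := by
    simp only [j₀, e₁, 𝒰, jB, Category.assoc, Scheme.Pullback.openCoverOfLeftRight_f]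
    erw [pullback.lift_snd, pullback.lift_snd_assoc]
    simp only [← Category.assoc]
    congr 2
    exact pullbackSpecIso_inv_snd k A B
  obtain ⟨I, e, he⟩ := (IsClosedImmersion.Spec_iff (f := pullback.snd c.left j₀)).mp inferInstance
  have hI : I = ⊥ := by
    refine (Submodule.eq_bot_iff _).mpr fun f hf => ?_
    refine eq_zero_of_slices k K A B (fun a ha => by_contra fun h0 => ?_) f fun φ => ?_
    · obtain ⟨φ, hφ⟩ := NeronLib.SepPoints.exists_algHom_ne_zero k K A a h0
      exact hφ (ha φ)
    let x : spK k K ⟶ X := Over.homMk (Spec.map (CommRingCat.ofHom φ.toRingHom) ≫ jA) (by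
      change (Spec.map (CommRingCat.ofHom φ.toRingHom) ≫ jA) ≫ X.hom = _
      rw [Category.assoc, hjA, ← Spec.map_comp, ← CommRingCat.ofHom_comp]
      exact congrArg (fun f => Spec.map (CommRingCat.ofHom f)) φ.comp_algebraMap)
    obtain ⟨z, hz⟩ := hZ x
    let q : Spec (CommRingCat.of (K ⊗[k] B)) ⟶ (spK k K ⊗ Y).left :=
      (pullbackSpecIso k K B).inv ≫ pullback.map _ _ (spK k K).hom Y.hom (𝟙 _) jB (𝟙 _)
        (by simp) (by rw [Category.comp_id, ← hjB])
    let ψ := Spec.map (CommRingCat.ofHom (Algebra.TensorProduct.map φ (AlgHom.id k B)).toRingHom)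
    have hcomm : (q ≫ z.left) ≫ c.left = ψ ≫ j₀ := by
      rw [Category.assoc, show z.left ≫ c.left = (x ▷ Y).left from congrArg CommaMorphism.left hz]
      refine pullback.hom_ext ?_ ?_
      · rw [Category.assoc ψ, hf1, Category.assoc, Over.whiskerRight_left_fst]
        show q ≫ pullback.fst _ _ ≫ Spec.map (CommRingCat.ofHom φ.toRingHom) ≫ jA = _
        simp only [q, ψ, Category.assoc, pullback.lift_fst_assoc, Category.id_comp]
        rw [pullbackSpecIso_inv_fst_assoc, ← Spec.map_comp_assoc, ← Spec.map_comp_assoc, ← CommRingCat.ofHom_comp,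
          ← CommRingCat.ofHom_comp]
        congr 2
      · rw [Category.assoc ψ, hf2, Category.assoc, Over.whiskerRight_left_snd]
        simp only [q, ψ, Category.assoc, pullback.lift_snd]
        rw [pullbackSpecIso_inv_snd_assoc, ← Spec.map_comp_assoc, ← CommRingCat.ofHom_comp]
        congr 2
        refine congrArg CommRingCat.ofHom (RingHom.ext fun a => ?_)
        simp
    set w := pullback.lift (q ≫ z.left) ψ hcomm
    have hw : (w ≫ e.hom) ≫ Spec.map (CommRingCat.ofHom (Ideal.Quotient.mk I)) = ψ := by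
      rw [Category.assoc, ← he, pullback.lift_snd]
    have hw2 : CommRingCat.ofHom (Ideal.Quotient.mk I) ≫ Spec.preimage (w ≫ e.hom) =
        CommRingCat.ofHom (Algebra.TensorProduct.map φ (AlgHom.id k B)).toRingHom :=
      Spec.map_injective (by rw [Spec.map_comp, Spec.map_preimage, hw])
    have := ConcreteCategory.congr_hom hw2 f
    simp [Ideal.Quotient.eq_zero_iff_mem.mpr hf] at this
    exact this.symm
  have hiso : IsIso (pullback.snd c.left j₀) := by
    subst hI
    rw [he]
    have : IsIso (CommRingCat.ofHom (Ideal.Quotient.mk (⊥ : Ideal (A ⊗[k] B)))) :=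
      (ConcreteCategory.isIso_iff_bijective _).mpr
        ⟨(RingHom.injective_iff_ker_eq_bot _).mpr (Ideal.mk_ker), Ideal.Quotient.mk_surjective⟩
    infer_instance
  let i₁ := (pullbackSpecIso k A B).inv ≫ e₁
  set m := pullback.map c.left j₀ c.left (𝒰.f ij) (𝟙 _) i₁ (𝟙 _)
    (by simp) (by simp [j₀, i₁]) with hm
  have heq : pullback.snd c.left j₀ = m ≫ pullback.snd c.left (𝒰.f ij) ≫ inv i₁ := by
    rw [hm, pullback.lift_snd_assoc]
    simp
  rw [heq] at hiso
  have : IsIso m := by rw [hm]; infer_instance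
  have : IsIso (pullback.snd c.left (𝒰.f ij) ≫ inv i₁) := IsIso.of_isIso_comp_left m _
  exact IsIso.of_isIso_comp_right _ (inv i₁)

/-- A morphism on `X ⊗ Y` factors through a closed subscheme if all its slices do. -/
theorem exists_factor_of_slices {X Y G H : Over (Spec (CommRingCat.of k))} [LocallyOfFiniteType X.hom]
    [GeometricallyReduced X.hom] (f : X ⊗ Y ⟶ G) (i : H ⟶ G) [IsClosedImmersion i.left]
    (h : ∀ x : spK k K ⟶ X, ∃ y : spK k K ⊗ Y ⟶ H, y ≫ i = (x ▷ Y) ≫ f) : ∃ l : X ⊗ Y ⟶ H, l ≫ i = f := by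
  haveI := pullback_fst_left k f i
  haveI : IsIso (pullback.fst f i) := isIso_of_slices k K (pullback.fst f i) fun x => by
    obtain ⟨y, hy⟩ := h x
    exact ⟨pullback.lift (x ▷ Y) y hy.symm, pullback.lift_fst _ _ _⟩
  exact ⟨inv (pullback.fst f i) ≫ pullback.snd f i, by rw [Category.assoc, ← pullback.condition, IsIso.inv_hom_id_assoc]⟩

end Groth.Agent.AlgGrpLib.SliceDense
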