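import Groth.Agent.AlgGrpLib.SpecializeVal

/-!
# Solvability and nilpotency of specialised subgroups
-/

set_option autoImplicit false
set_option linter.style.haveILetI false
set_option backward.isDefEq.respectTransparency.types false

universe u

open CategoryTheory CategoryTheory.Limits MonoidalCategory CartesianMonoidalCategory MonObj GrpObj AlgebraicGeometry
open scoped commutatorElement

noncomputable section

namespace Groth.Agent.AlgGrpLib.SpecializeVal

open Groth.Agent.AlgGrpLib.ValClosure (genPt)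
open Groth.Agent.S18082 (P Q w v flat_P flat_Q bc_w_mem bc_v_mem derived_le central_le comp_commutator comp_map_commutator upper_iff)

theorem comp_lift_aux {k' : Type u} [Field k'] {T A B : Over (Spec (CommRingCat.of k'))} (a : T ⟶ A) (b : T ⟶ B) :
    lift a b ≫ fst A B = a ∧ lift a b ≫ snd A B = b := ⟨lift_fst _ _, lift_snd _ _⟩

theorem tensor_smooth_irreducible {k' : Type u} [Field k'] [IsAlgClosed k'] (A B : Over (Spec (CommRingCat.of k')))
    (hA : Smooth A.hom ∧ IrreducibleSpace A.left) (hB : Smooth B.hom ∧ IrreducibleSpace B.left) :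
    Smooth (A ⊗ B).hom ∧ IrreducibleSpace (A ⊗ B).left := by
  obtain ⟨_, _⟩ := hA
  obtain ⟨_, _⟩ := hB
  haveI : GeometricallyIrreducible A.hom := Groth.Agent.FBaseLib.geometricallyIrreducible_of_isAlgClosed A.hom
  haveI : GeometricallyIrreducible B.hom := Groth.Agent.FBaseLib.geometricallyIrreducible_of_isAlgClosed B.hom
  exact ⟨inferInstanceAs (Smooth (pullback.fst A.hom B.hom ≫ A.hom)),
    Groth.Agent.AlgGrpLib.OpenOrbit.irreducibleSpace_tensor A B⟩

section Val

variable {V : Type u} [CommRing V] [IsDomain V] [ValuationRing V] (K : Type u) [Field K] [Algebra V K]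
  [IsFractionRing V K] {k' : Type u} [Field k'] [IsAlgClosed k']
  (π : Spec (CommRingCat.of k') ⟶ Spec (CommRingCat.of V))
  (C : Over (Spec (CommRingCat.of V))) [GrpObj C] [Flat C.hom] [LocallyOfFiniteType C.hom] [QuasiSeparated C.hom]
  (H : Over (Spec (CommRingCat.of k'))) [GrpObj H] [Smooth H.hom] [ConnectedSpace H.left]
  (r : H ⟶ Red.bc π C) [IsMonHom r]

include π r in
omit [IsDomain V] [ValuationRing V] [Flat C.hom] [LocallyOfFiniteType C.hom] [QuasiSeparated C.hom] [IsMonHom r]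
  [IsAlgClosed k'] in
theorem irreducibleSpace_sub : IrreducibleSpace H.left := Groth.Agent.SGA3cLib.irreducibleSpace_of_connected H

omit [IsDomain V] [ValuationRing V] [Flat C.hom] [LocallyOfFiniteType C.hom] [QuasiSeparated C.hom] in
theorem lift_P : ∀ n, Smooth (P H n).hom ∧ IrreducibleSpace (P H n).left ∧
    ∃ (z : P H n ⟶ Red.bc π (P C n)) (x : 𝟙_ (Over (Spec (CommRingCat.of k'))) ⟶ P H n),
      z ≫ (Over.pullback π).map (w C n) = w H n ≫ r ∧ x ≫ w H n = 1
  | 0 => ⟨‹Smooth H.hom›, irreducibleSpace_sub π C H r, r, (1 : 𝟙_ (Over (Spec (CommRingCat.of k'))) ⟶ H),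
      (congrArg (r ≫ ·) ((Over.pullback π).map_id C)).trans ((Category.comp_id r).trans (Category.id_comp r).symm),
      Category.comp_id _⟩
  | n + 1 => by
    obtain ⟨h1, h2, z, x, hz, hx⟩ := lift_P n
    obtain ⟨h3, h4⟩ := tensor_smooth_irreducible (P H n) (P H n) ⟨h1, h2⟩ ⟨h1, h2⟩
    let a : P H n ⊗ P H n ⟶ Red.bc π (P C n) := fst _ _ ≫ z
    let b : P H n ⊗ P H n ⟶ Red.bc π (P C n) := snd _ _ ≫ z
    let z' : P H n ⊗ P H n ⟶ Red.bc π (P C n ⊗ P C n) := lift a b ≫ Functor.LaxMonoidal.μ (Over.pullback π) _ _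
    refine ⟨h3, h4, z', lift x x, ?_, ?_⟩
    · show z' ≫ (Over.pullback π).map (⁅fst (P C n) (P C n) ≫ w C n, snd (P C n) (P C n) ≫ w C n⁆ :
        P C n ⊗ P C n ⟶ C) = (⁅fst (P H n) (P H n) ≫ w H n, snd (P H n) (P H n) ≫ w H n⁆ : _ ⟶ H) ≫ r
      rw [comp_map_commutator C π z' (fst (P C n) (P C n) ≫ w C n) (snd (P C n) (P C n) ≫ w C n)]
      have hc : ∀ c d : P H n ⊗ P H n ⟶ H, (⁅c, d⁆ : _ ⟶ H) ≫ r = ⁅c ≫ r, d ≫ r⁆ := fun c d => by
        simp only [commutatorElement_def, MonObj.mul_comp, GrpObj.inv_comp]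
      rw [hc, Functor.map_comp, Functor.map_comp]
      congr 1
      · rw [← Category.assoc, Category.assoc _ (w H n) r, ← hz]
        simp only [z', Category.assoc, Functor.Monoidal.μ_fst_assoc, lift_fst_assoc, a]
      · rw [← Category.assoc, Category.assoc _ (w H n) r, ← hz]
        simp only [z', Category.assoc, Functor.Monoidal.μ_snd_assoc, lift_snd_assoc, b]
    · show lift x x ≫ ⁅fst (P H n) (P H n) ≫ w H n, snd (P H n) (P H n) ≫ w H n⁆ = 1
      rw [comp_commutator, lift_fst_assoc, lift_snd_assoc, hx, commutatorElement_self]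

omit [IsDomain V] [ValuationRing V] [Flat C.hom] [LocallyOfFiniteType C.hom] [QuasiSeparated C.hom] in
theorem lift_Q : ∀ n, Smooth (Q H n).hom ∧ IrreducibleSpace (Q H n).left ∧
    ∃ (z : Q H n ⟶ Red.bc π (Q C n)) (x : 𝟙_ (Over (Spec (CommRingCat.of k'))) ⟶ Q H n),
      z ≫ (Over.pullback π).map (v C n) = v H n ≫ r ∧ x ≫ v H n = 1
  | 0 => ⟨‹Smooth H.hom›, irreducibleSpace_sub π C H r, r, (1 : 𝟙_ (Over (Spec (CommRingCat.of k'))) ⟶ H),
      (congrArg (r ≫ ·) ((Over.pullback π).map_id C)).trans ((Category.comp_id r).trans (Category.id_comp r).symm),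
      Category.comp_id _⟩
  | n + 1 => by
    obtain ⟨h1, h2, z, x, hz, hx⟩ := lift_Q n
    obtain ⟨h3, h4⟩ := tensor_smooth_irreducible (Q H n) H ⟨h1, h2⟩ ⟨‹_›, irreducibleSpace_sub π C H r⟩
    let a : Q H n ⊗ H ⟶ Red.bc π (Q C n) := fst _ _ ≫ z
    let b : Q H n ⊗ H ⟶ Red.bc π C := snd _ _ ≫ r
    let z' : Q H n ⊗ H ⟶ Red.bc π (Q C n ⊗ C) := lift a b ≫ Functor.LaxMonoidal.μ (Over.pullback π) _ _
    refine ⟨h3, h4, z', lift x 1, ?_, ?_⟩
    · show z' ≫ (Over.pullback π).map (⁅fst (Q C n) C ≫ v C n, snd (Q C n) C⁆ : Q C n ⊗ C ⟶ C) =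
        (⁅fst (Q H n) H ≫ v H n, snd (Q H n) H⁆ : _ ⟶ H) ≫ r
      rw [comp_map_commutator C π z' (fst (Q C n) C ≫ v C n) (snd (Q C n) C)]
      have hc : ∀ c d : Q H n ⊗ H ⟶ H, (⁅c, d⁆ : _ ⟶ H) ≫ r = ⁅c ≫ r, d ≫ r⁆ := fun c d => by
        simp only [commutatorElement_def, MonObj.mul_comp, GrpObj.inv_comp]
      rw [hc, Functor.map_comp]
      congr 1
      · rw [← Category.assoc, Category.assoc _ (v H n) r, ← hz]
        simp only [z', Category.assoc, Functor.Monoidal.μ_fst_assoc, lift_fst_assoc, a]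
      · simp only [z', Category.assoc, Functor.Monoidal.μ_snd, lift_snd, b]
    · show lift x 1 ≫ ⁅fst (Q H n) H ≫ v H n, snd (Q H n) H⁆ = 1
      rw [comp_commutator, lift_fst_assoc, lift_snd, hx, commutatorElement_one_left]

variable [Mono r]

include π r in
theorem derived_special (n : ℕ) (h : ∀ Y, derivedSeries (Y ⟶ Red.bc (genPt V K) C) n = ⊥) :
    ∀ X, derivedSeries (X ⟶ H) n = ⊥ := by
  haveI := flat_P C n
  obtain ⟨hs, hi, z, x, hz, hx⟩ := lift_P π C H r n
  haveI := hs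
  haveI := hi
  haveI : IsReduced (P H n).left := AbSchLib.isReduced_of_smooth (P H n).hom
  have hgen : (Over.pullback (genPt V K)).map (w C n) = 1 := by
    rw [← Category.id_comp ((Over.pullback _).map (w C n))]
    exact (Subgroup.eq_bot_iff_forall _).1 (h _) _ (bc_w_mem C _ _ n (𝟙 _))
  have key := eq_one_of_generic K π (w C n) hgen z x (by rw [hz, ← Category.assoc, hx, MonObj.one_comp])
  have hw : w H n = 1 := by
    rw [← cancel_mono r, MonObj.one_comp, ← hz]
    exact key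
  intro X
  rw [derived_le, Subgroup.closure_eq_bot_iff]
  rintro _ ⟨y, rfl⟩
  simp [hw]

include π r in
theorem lower_special (n : ℕ)
    (h : ∀ Y, Subgroup.lowerCentralSeries (⊤ : Subgroup (Y ⟶ Red.bc (genPt V K) C)) n = ⊥) :
    ∀ X, Subgroup.lowerCentralSeries (⊤ : Subgroup (X ⟶ H)) n = ⊥ := by
  haveI := flat_Q C n
  obtain ⟨hs, hi, z, x, hz, hx⟩ := lift_Q π C H r n
  haveI := hs
  haveI := hi
  haveI : IsReduced (Q H n).left := AbSchLib.isReduced_of_smooth (Q H n).hom
  have hgen : (Over.pullback (genPt V K)).map (v C n) = 1 := by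
    rw [← Category.id_comp ((Over.pullback _).map (v C n))]
    exact (Subgroup.eq_bot_iff_forall _).1 (h _) _ (bc_v_mem C _ _ n (𝟙 _))
  have key := eq_one_of_generic K π (v C n) hgen z x (by rw [hz, ← Category.assoc, hx, MonObj.one_comp])
  have hw : v H n = 1 := by
    rw [← cancel_mono r, MonObj.one_comp, ← hz]
    exact key
  intro X
  rw [central_le, Subgroup.closure_eq_bot_iff]
  rintro _ ⟨y, rfl⟩
  simp [hw]

end Val

theorem derived_sub {S : Scheme.{u}} {H H' : Over S} [GrpObj H] [GrpObj H'] (f : H' ⟶ H) [IsMonHom f] [Mono f]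
    (n : ℕ) (h : ∀ X, derivedSeries (X ⟶ H) n = ⊥) (X : Over S) : derivedSeries (X ⟶ H') n = ⊥ := by
  let g : (X ⟶ H') →* (X ⟶ H) := MonoidHom.mk' (· ≫ f) fun a b => MonObj.mul_comp a b f
  have hg : Function.Injective g := fun a b (e : a ≫ f = b ≫ f) => (cancel_mono f).1 e
  refine Subgroup.map_injective hg ?_
  rw [Subgroup.map_bot, eq_bot_iff, ← h X]
  exact map_derivedSeries_le_derivedSeries g n

theorem lower_sub {S : Scheme.{u}} {H H' : Over S} [GrpObj H] [GrpObj H'] (f : H' ⟶ H) [IsMonHom f] [Mono f]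
    (n : ℕ) (h : ∀ X, Subgroup.lowerCentralSeries (⊤ : Subgroup (X ⟶ H)) n = ⊥) (X : Over S) :
    Subgroup.lowerCentralSeries (⊤ : Subgroup (X ⟶ H')) n = ⊥ := by
  let g : (X ⟶ H') →* (X ⟶ H) := MonoidHom.mk' (· ≫ f) fun a b => MonObj.mul_comp a b f
  have hg : Function.Injective g := fun a b (e : a ≫ f = b ≫ f) => (cancel_mono f).1 e
  refine Subgroup.map_injective hg ?_
  rw [Subgroup.map_bot, eq_bot_iff, ← h X, Subgroup.map_lowerCentralSeries]
  exact Subgroup.lowerCentralSeries_mono n le_top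

theorem isCommMonObj_iff_derived {S : Scheme.{u}} (H : Over S) [GrpObj H] :
    IsCommMonObj H ↔ ∀ X, derivedSeries (X ⟶ H) 1 = ⊥ := by
  simp only [derivedSeries_one, commutator_def, Subgroup.commutator_eq_bot_iff_le_centralizer]
  constructor
  · intro _ X a _ b _
    exact mul_comm b a
  · intro h
    refine ⟨?_⟩
    rw [show μ[H] = fst H H * snd H H from by simp [Hom.mul_def], MonObj.comp_mul]
    simp only [BraidedCategory.braiding_tensor_left_hom, braiding_hom_fst, braiding_hom_snd]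
    exact ((h (H ⊗ H) (Subgroup.mem_top (fst H H))) (snd H H) (Subgroup.mem_top _))

/-- The specialised subgroup. -/
theorem exists_special {S : Scheme.{u}} (G : Over S) [GrpObj G] [LocallyOfFiniteType G.hom] [QuasiCompact G.hom]
    [QuasiSeparated G.hom] {s s' : S} (h : s ⤳ s')
    (H : Over (Spec (CommRingCat.of (AlgebraicClosure (S.residueField s))))) [GrpObj H]
    (i : H ⟶ Red.geomFibre s G) [IsMonHom i] [IsClosedImmersion i.left] :
    ∃ (H' : Over (Spec (CommRingCat.of (AlgebraicClosure (S.residueField s'))))) (_ : GrpObj H')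
      (i' : H' ⟶ Red.geomFibre s' G), IsMonHom i' ∧ IsClosedImmersion i'.left ∧ Smooth H'.hom ∧
        ConnectedSpace H'.left ∧ topologicalKrullDim ↥H.left ≤ topologicalKrullDim ↥H'.left ∧
        (∀ n, (∀ X, derivedSeries (X ⟶ H) n = ⊥) → ∀ X, derivedSeries (X ⟶ H') n = ⊥) ∧
        (∀ n, (∀ X, Subgroup.lowerCentralSeries (⊤ : Subgroup (X ⟶ H)) n = ⊥) →
          ∀ X, Subgroup.lowerCentralSeries (⊤ : Subgroup (X ⟶ H')) n = ⊥) := by
  obtain ⟨V, _, _, _, _, _, φ, π, hπ, hgen, hsp⟩ := exists_place h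
  haveI := hπ
  let e : Red.bc (genPt V _) (Red.bc φ G) ≅ Red.geomFibre s G := (SGA3cLib.GrpBC.bcCongr φ _ _ hgen).app G
  let e' : Red.bc π (Red.bc φ G) ≅ Red.geomFibre s' G := (SGA3cLib.GrpBC.bcCongr φ π _ hsp).app G
  haveI : IsMonHom e.inv := (SGA3cLib.GrpBC.isMonHom_app (SGA3cLib.GrpBC.bcCongr φ _ _ hgen) G).2
  haveI : IsMonHom e'.hom := (SGA3cLib.GrpBC.isMonHom_app (SGA3cLib.GrpBC.bcCongr φ π _ hsp) G).1
  haveI : LocallyOfFiniteType (Red.bc φ G).hom := MorphismProperty.pullback_snd _ _ ‹LocallyOfFiniteType G.hom›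
  haveI : QuasiCompact (Red.bc φ G).hom := MorphismProperty.pullback_snd _ _ ‹QuasiCompact G.hom›
  haveI : QuasiSeparated (Red.bc φ G).hom := MorphismProperty.pullback_snd _ _ ‹QuasiSeparated G.hom›
  haveI : IsClosedImmersion (i ≫ e.inv).left := by rw [Over.comp_left]; infer_instance
  obtain ⟨C, _, c, hc, hcc, hCf, hCl, hCq, ⟨f, hf, hfm⟩, H', _, r, hr, hrc, hs, hcon, hd⟩ :=
    exists_smooth_special _ π (Red.bc φ G) H (i ≫ e.inv)
  haveI := hc; haveI := hcc; haveI := hCf; haveI := hCl; haveI := hCq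
  haveI := hf; haveI := hfm; haveI := hr; haveI := hrc; haveI := hs; haveI := hcon
  haveI : IsMonHom ((Over.pullback π).map c : Red.bc π C ⟶ Red.bc π (Red.bc φ G)) := Functor.map.instIsMonHom _ _ c
  haveI : IsClosedImmersion ((Over.pullback π).map c).left :=
    MorphismProperty.of_isPullback (P := @IsClosedImmersion) (SGA3UnitSec.isPullback_map_left _ c) hcc
  haveI : Mono r := Over.mono_of_mono_left _
  refine ⟨H', inferInstance, (r ≫ (Over.pullback π).map c) ≫ e'.hom, inferInstance,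
    by rw [Over.comp_left, Over.comp_left]; infer_instance, hs, hcon, hd, ?_, ?_⟩
  · exact fun n hn => derived_special _ π C H' r n (derived_sub f n hn)
  · exact fun n hn => lower_special _ π C H' r n (lower_sub f n hn)

end Groth.Agent.AlgGrpLib.SpecializeVal
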