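import Groth.Agent.AlgGrpLib.SpecializeValProps
import Groth.Agent.DimLib.BaseChange

/-!
# Subgroups of the base change to a larger algebraically closed field
-/

set_option autoImplicit false
set_option linter.style.haveILetI false
set_option backward.isDefEq.respectTransparency.types false

universe u

open CategoryTheory CategoryTheory.Limits MonoidalCategory CartesianMonoidalCategory MonObj GrpObj AlgebraicGeometry

noncomputable section

namespace Groth.Agent.AlgGrpLib.SpecializeVal

open Groth.Agent.AlgGrpLib.ValClosure (genPt)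

variable (k : Type u) [Field k] [IsAlgClosed k] (F : Type u) [Field F] [IsAlgClosed F] [Algebra k F]

/-- The inclusion of fields. -/
abbrev fieldMap : Spec (CommRingCat.of F) ⟶ Spec (CommRingCat.of k) := Spec.map (CommRingCat.ofHom (algebraMap k F))

/-- A subgroup over a larger algebraically closed field gives one over the smaller field. -/
theorem exists_special_field (G : Over (Spec (CommRingCat.of k))) [GrpObj G] [LocallyOfFiniteType G.hom]
    [QuasiCompact G.hom] [QuasiSeparated G.hom]
    (H : Over (Spec (CommRingCat.of F))) [GrpObj H]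
    (i : H ⟶ Red.bc (fieldMap k F) G) [IsMonHom i] [IsClosedImmersion i.left] :
    ∃ (H' : Over (Spec (CommRingCat.of k))) (_ : GrpObj H') (i' : H' ⟶ G),
      IsMonHom i' ∧ IsClosedImmersion i'.left ∧ Smooth H'.hom ∧
        ConnectedSpace H'.left ∧ topologicalKrullDim ↥H.left ≤ topologicalKrullDim ↥H'.left ∧
        (∀ n, (∀ X, derivedSeries (X ⟶ H) n = ⊥) → ∀ X, derivedSeries (X ⟶ H') n = ⊥) ∧
        (∀ n, (∀ X, Subgroup.lowerCentralSeries (⊤ : Subgroup (X ⟶ H)) n = ⊥) →
          ∀ X, Subgroup.lowerCentralSeries (⊤ : Subgroup (X ⟶ H')) n = ⊥) := by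
  obtain ⟨V, φV, j, hj, hjf, hsurj⟩ := PlaceExt.exists_valuationSubring (algebraMap k F) (RingHom.id k)
    (by rw [(RingHom.injective_iff_ker_eq_bot _).1 (algebraMap k F).injective]; exact bot_le)
    fun y => ⟨Polynomial.X - Polynomial.C y, Polynomial.X_sub_C_ne_zero y,
      fun n => Subfield.subset_closure ⟨_, rfl⟩, by simp⟩
  let φ : Spec (CommRingCat.of V) ⟶ Spec (CommRingCat.of k) := Spec.map (CommRingCat.ofHom j)
  let π : Spec (CommRingCat.of k) ⟶ Spec (CommRingCat.of V) := Spec.map (CommRingCat.ofHom φV)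
  haveI : IsClosedImmersion π := IsClosedImmersion.spec_of_surjective _ hsurj
  have hgen : genPt V F ≫ φ = fieldMap k F := by
    rw [← Spec.map_comp, ← CommRingCat.ofHom_comp]
    congr 2
    exact RingHom.ext hj
  have hsp : π ≫ φ = 𝟙 _ := by
    rw [← Spec.map_comp, ← CommRingCat.ofHom_comp, ← Spec.map_id]
    congr 1
    ext a
    exact hjf a
  let e : Red.bc (genPt V F) (Red.bc φ G) ≅ Red.bc (fieldMap k F) G := (SGA3cLib.GrpBC.bcCongr φ _ _ hgen).app G
  let e' : Red.bc π (Red.bc φ G) ≅ Red.bc (𝟙 _) G := (SGA3cLib.GrpBC.bcCongr φ π _ hsp).app G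
  haveI : IsMonHom e.inv := (SGA3cLib.GrpBC.isMonHom_app (SGA3cLib.GrpBC.bcCongr φ _ _ hgen) G).2
  haveI : IsMonHom e'.hom := (SGA3cLib.GrpBC.isMonHom_app (SGA3cLib.GrpBC.bcCongr φ π _ hsp) G).1
  let p : Red.bc (𝟙 (Spec (CommRingCat.of k))) G ≅ G := Over.pullbackId.app G
  haveI : IsMonHom p.hom := by
    let α : Over.pullback (𝟙 (Spec (CommRingCat.of k))) ≅ 𝟭 _ := Over.pullbackId
    exact
      { one_hom := by
          show (Functor.LaxMonoidal.ε (Over.pullback _) ≫ (Over.pullback _).map η[G]) ≫ α.hom.app G = η[G]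
          rw [Category.assoc, α.hom.naturality, ← Category.assoc, NatTrans.IsMonoidal.unit]
          simp
        mul_hom := by
          show (Functor.LaxMonoidal.μ (Over.pullback _) G G ≫ (Over.pullback _).map μ[G]) ≫ α.hom.app G =
            (α.hom.app G ⊗ₘ α.hom.app G) ≫ μ[G]
          rw [Category.assoc, α.hom.naturality, ← Category.assoc, NatTrans.IsMonoidal.tensor]
          simp }
  haveI : LocallyOfFiniteType (Red.bc φ G).hom := MorphismProperty.pullback_snd _ _ ‹LocallyOfFiniteType G.hom›
  haveI : QuasiCompact (Red.bc φ G).hom := MorphismProperty.pullback_snd _ _ ‹QuasiCompact G.hom›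
  haveI : QuasiSeparated (Red.bc φ G).hom := MorphismProperty.pullback_snd _ _ ‹QuasiSeparated G.hom›
  haveI : IsClosedImmersion (i ≫ e.inv).left := by rw [Over.comp_left]; infer_instance
  obtain ⟨C, _, c, hc, hcc, hCf, hCl, hCq, ⟨f, hf, hfm⟩, H', _, r, hr, hrc, hs, hcon, hd⟩ :=
    exists_smooth_special F π (Red.bc φ G) H (i ≫ e.inv)
  haveI := hc; haveI := hcc; haveI := hCf; haveI := hCl; haveI := hCq
  haveI := hf; haveI := hfm; haveI := hr; haveI := hrc; haveI := hs; haveI := hcon
  haveI : IsMonHom ((Over.pullback π).map c : Red.bc π C ⟶ Red.bc π (Red.bc φ G)) := Functor.map.instIsMonHom _ _ c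
  haveI : IsClosedImmersion ((Over.pullback π).map c).left :=
    MorphismProperty.of_isPullback (P := @IsClosedImmersion) (SGA3UnitSec.isPullback_map_left _ c) hcc
  haveI : Mono r := Over.mono_of_mono_left _
  refine ⟨H', inferInstance, ((r ≫ (Over.pullback π).map c) ≫ e'.hom) ≫ p.hom, inferInstance,
    by rw [Over.comp_left, Over.comp_left, Over.comp_left]; infer_instance, hs, hcon, hd, ?_, ?_⟩
  · exact fun n hn => derived_special F π C H' r n (derived_sub f n hn)
  · exact fun n hn => lower_special F π C H' r n (lower_sub f n hn)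

end Groth.Agent.AlgGrpLib.SpecializeVal
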