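import Groth.Agent.AlgGrpLib.SpecializeNormal
import Groth.Agent.SGA3cLib.NeutralSmooth
import Groth.Agent.S5322

/-!
# Derived groups of neutral components specialise
-/

set_option autoImplicit false
set_option linter.style.haveILetI false
set_option backward.isDefEq.respectTransparency.types false

universe u

open CategoryTheory CategoryTheory.Limits MonoidalCategory CartesianMonoidalCategory MonObj GrpObj AlgebraicGeometry

noncomputable section

namespace Groth.Agent.AlgGrpLib.SpecializeVal

open Groth.Agent.AlgGrpLib.ValClosure (genPt)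

theorem neutralSet_field {k : Type u} [Field k] (A : Over (Spec (CommRingCat.of k))) [GrpObj A] :
    SGA3x.neutralSet A = connectedComponent (ConnComp.e₀ A) := by
  haveI : Subsingleton ↥(Spec (CommRingCat.of k)) := inferInstanceAs (Subsingleton (PrimeSpectrum k))
  have huniv : ∀ q, A.hom.base ⁻¹' {q} = Set.univ := fun q =>
    Set.eq_univ_of_forall fun w => Subsingleton.elim (α := ↥(Spec (CommRingCat.of k))) _ _
  show (⋃ p, connectedComponentIn _ _) = _
  simp only [huniv, connectedComponentIn_univ]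
  refine Set.Subset.antisymm (Set.iUnion_subset fun p => ?_) fun x hx => ?_
  · rw [Subsingleton.elim (α := ↥(Spec (CommRingCat.of k))) p (IsLocalRing.closedPoint _)]
  · exact Set.mem_iUnion.2 ⟨IsLocalRing.closedPoint _, hx⟩

theorem range_eq_component {k : Type u} [Field k] {C A : Over (Spec (CommRingCat.of k))} [GrpObj C] [GrpObj A]
    (c : C ⟶ A) [IsMonHom c] [IsOpenImmersion c.left] [IsClosedImmersion c.left] [ConnectedSpace C.left] :
    Set.range c.left.base = connectedComponent (ConnComp.e₀ A) := by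
  have he : ConnComp.e₀ A ∈ Set.range c.left.base := by
    refine ⟨ConnComp.e₀ C, ?_⟩
    show c.left.base (η[C].left.base _) = η[A].left.base _
    rw [← IsMonHom.one_hom (f := c)]
    rfl
  refine Set.Subset.antisymm ((isPreconnected_range c.left.continuous).subset_connectedComponent he) ?_
  exact (IsClopen.connectedComponent_subset ⟨c.left.isClosedEmbedding.isClosed_range,
    c.left.isOpenEmbedding.isOpen_range⟩ he)

/-- Open subgroups with the same support are isomorphic. -/
theorem exists_iso_of_range_eq {k : Type u} [Field k] {C D A : Over (Spec (CommRingCat.of k))} [GrpObj C] [GrpObj D]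
    [GrpObj A] (c : C ⟶ A) [IsMonHom c] [IsOpenImmersion c.left] (d : D ⟶ A) [IsMonHom d] [IsOpenImmersion d.left]
    (h : Set.range c.left.base = Set.range d.left.base) : ∃ e : C ≅ D, IsMonHom e.hom ∧ IsMonHom e.symm.hom := by
  let e₀ := IsOpenImmersion.isoOfRangeEq c.left d.left h
  have he : e₀.hom ≫ d.left = c.left := IsOpenImmersion.isoOfRangeEq_hom_fac _ _ _
  let e : C ≅ D := Over.isoMk e₀ (by rw [← Over.w d, ← Category.assoc, he, Over.w c])
  have hed : e.hom ≫ d = c := by ext1; exact he
  haveI : Mono d := Over.mono_of_mono_left _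
  haveI : IsMonHom e.hom :=
    { one_hom := by rw [← cancel_mono d, Category.assoc, hed, IsMonHom.one_hom, IsMonHom.one_hom]
      mul_hom := by
        rw [← cancel_mono d, Category.assoc, hed, IsMonHom.mul_hom, Category.assoc, IsMonHom.mul_hom,
          MonoidalCategory.tensorHom_comp_tensorHom_assoc, hed] }
  exact ⟨e, inferInstance, inferInstanceAs (IsMonHom e.inv)⟩

/-- The property of `S18103`. -/
def HasNeutralDerived {L : Type u} [Field L] (A : Over (Spec (CommRingCat.of L))) [GrpObj A] (d : WithBot ℕ∞) : Prop :=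
  ∃ (C : Over (Spec (CommRingCat.of L))) (_ : GrpObj C) (c : C ⟶ A) (_ : IsMonHom c),
    IsOpenImmersion c.left ∧ IsClosedImmersion c.left ∧ ConnectedSpace ↥C.left ∧ HasDerived C d

theorem HasNeutralDerived.of_iso {L : Type u} [Field L] {A A' : Over (Spec (CommRingCat.of L))} [GrpObj A] [GrpObj A']
    (e : A ≅ A') [IsMonHom e.hom] {d : WithBot ℕ∞} (h : HasNeutralDerived A d) : HasNeutralDerived A' d := by
  obtain ⟨C, _, c, hc, ho, hcl, hcon, hd⟩ := h
  haveI := hc; haveI := ho; haveI := hcl
  exact ⟨C, inferInstance, c ≫ e.hom, inferInstance, by rw [Over.comp_left]; infer_instance,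
    by rw [Over.comp_left]; infer_instance, hcon, hd⟩

variable {V : Type u} [CommRing V] [IsDomain V] [ValuationRing V]

/-- The neutral open subgroup gives the neutral component of every fibre. -/
theorem range_bc_neutral {T : Scheme.{u}} (G₀ G : Over (Spec (CommRingCat.of V))) [GrpObj G] (c : G₀ ⟶ G)
    (hc : Set.range c.left.base = SGA3x.neutralSet G) (π : T ⟶ Spec (CommRingCat.of V)) :
    Set.range ((Over.pullback π).map c).left.base = SGA3x.neutralSet (Red.bc π G) := by
  rw [S5322.result, ← hc]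
  have sq := SGA3UnitSec.isPullback_map_left π c
  ext x
  constructor
  · rintro ⟨y, rfl⟩
    refine ⟨pullback.fst G₀.hom π y, ?_⟩
    exact congrArg (fun q : pullback G₀.hom π ⟶ G.left => q.base y) sq.w
  · rintro ⟨y, hy⟩
    obtain ⟨z, -, hz⟩ := Scheme.exists_preimage_of_isPullback sq y x hy
    exact ⟨z, hz⟩

theorem hasNeutralDerived_special (K : Type u) [Field K] [Algebra V K] [IsFractionRing V K] {k' : Type u} [Field k']
    (π : Spec (CommRingCat.of k') ⟶ Spec (CommRingCat.of V)) [IsPreimmersion π]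
    (G : Over (Spec (CommRingCat.of V))) [GrpObj G] [Smooth G.hom] [QuasiCompact G.hom]
    {d : WithBot ℕ∞} (h : HasNeutralDerived (Red.bc (genPt V K) G) d) : HasNeutralDerived (Red.bc π G) d := by
  obtain ⟨W, hW, hWs, hWq⟩ := SGA3cLib.NeutralSmooth.exists_neutralOpen (G := G) ⊤ (fun _ => trivial)
  obtain ⟨g₀, hg₀⟩ := SGA3cLib.NeutralSmooth.exists_openSubgroup (G := G) W hW
  let G₀ : Over (Spec (CommRingCat.of V)) := Over.mk (W.ι ≫ G.hom)
  let c₀ : G₀ ⟶ G := Over.homMk W.ι rfl
  haveI : IsMonHom c₀ := hg₀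
  haveI : IsOpenImmersion c₀.left := inferInstanceAs (IsOpenImmersion W.ι)
  haveI : Smooth G₀.hom := hWs
  haveI : QuasiCompact G₀.hom := hWq
  have hr : Set.range c₀.left.base = SGA3x.neutralSet G := (Scheme.Opens.range_ι W).trans hW
  have hbc : ∀ {L : Type u} [Field L] (q : Spec (CommRingCat.of L) ⟶ Spec (CommRingCat.of V)),
      IsMonHom ((Over.pullback q).map c₀ : Red.bc q G₀ ⟶ Red.bc q G) ∧ IsOpenImmersion ((Over.pullback q).map c₀).left ∧
      Set.range ((Over.pullback q).map c₀).left.base = connectedComponent (ConnComp.e₀ (Red.bc q G)) := fun q =>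
    ⟨Functor.map.instIsMonHom _ _ c₀,
      MorphismProperty.of_isPullback (P := @IsOpenImmersion) (SGA3UnitSec.isPullback_map_left q c₀) ‹_›,
      (range_bc_neutral G₀ G c₀ hr q).trans (neutralSet_field _)⟩
  obtain ⟨C, _, c, hc, ho, hcl, hcon, hd⟩ := h
  haveI := hc; haveI := ho; haveI := hcl; haveI := hcon
  obtain ⟨h1, h2, h3⟩ := hbc (genPt V K)
  haveI := h1; haveI := h2
  obtain ⟨e, he, he'⟩ := exists_iso_of_range_eq c ((Over.pullback (genPt V K)).map c₀)
    ((range_eq_component c).trans h3.symm)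
  haveI := he
  obtain ⟨h4, h5, h6⟩ := hbc π
  haveI := h5
  refine ⟨Red.bc π G₀, inferInstance, _, h4, h5, ?_, ?_, hasDerived_special K π G₀ (hd.of_iso e)⟩
  · exact .of_isPreimmersion _ (by rw [h6]; exact isClosed_connectedComponent)
  · have := (isConnected_connectedComponent (x := ConnComp.e₀ (Red.bc π G)))
    rw [← h6] at this
    exact connectedSpace_iff_univ.2 ⟨⟨ConnComp.e₀ _, trivial⟩,
      ((Scheme.Hom.isEmbedding _).isInducing.isPreconnected_image).1 (by rw [Set.image_univ]; exact this.isPreconnected)⟩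

theorem hasNeutralDerived_geomFibre {S : Scheme.{u}} (G : Over S) [GrpObj G] [Smooth G.hom]
    [QuasiCompact G.hom] {s s' : S} (h : s ⤳ s') {d : WithBot ℕ∞} (hd : HasNeutralDerived (Red.geomFibre s G) d) :
    HasNeutralDerived (Red.geomFibre s' G) d := by
  obtain ⟨V, _, _, _, _, _, φ, π, hπ, hgen, hsp⟩ := exists_place h
  haveI := hπ
  let e : Red.bc (genPt V _) (Red.bc φ G) ≅ Red.geomFibre s G := (SGA3cLib.GrpBC.bcCongr φ _ _ hgen).app G
  let e' : Red.bc π (Red.bc φ G) ≅ Red.geomFibre s' G := (SGA3cLib.GrpBC.bcCongr φ π _ hsp).app G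
  haveI : IsMonHom e.symm.hom := (SGA3cLib.GrpBC.isMonHom_app (SGA3cLib.GrpBC.bcCongr φ _ _ hgen) G).2
  haveI : IsMonHom e'.hom := (SGA3cLib.GrpBC.isMonHom_app (SGA3cLib.GrpBC.bcCongr φ π _ hsp) G).1
  haveI : Smooth (Red.bc φ G).hom := MorphismProperty.pullback_snd _ _ ‹Smooth G.hom›
  haveI : QuasiCompact (Red.bc φ G).hom := MorphismProperty.pullback_snd _ _ ‹QuasiCompact G.hom›
  exact (hasNeutralDerived_special _ π (Red.bc φ G) (hd.of_iso e.symm)).of_iso e'

end Groth.Agent.AlgGrpLib.SpecializeVal
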