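import Groth.Agent.AlgGrpLib.SpecializeDim
import Groth.Agent.SGA3cLib.DerivedSpread

/-!
# Normal subgroups containing the commutators specialise along valuation rings
-/

set_option autoImplicit false
set_option linter.style.haveILetI false
set_option backward.isDefEq.respectTransparency.types false

universe u

open CategoryTheory CategoryTheory.Limits MonoidalCategory CartesianMonoidalCategory MonObj GrpObj AlgebraicGeometry

noncomputable section

namespace Groth.Agent.AlgGrpLib.SpecializeVal

open Groth.Agent.AlgGrpLib.ValClosure (genPt)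

/-- `N` is a closed normal subgroup of `G` containing all commutators. -/
def HasDerived {L : Type u} [Field L] (G : Over (Spec (CommRingCat.of L))) [GrpObj G] (d : WithBot ℕ∞) : Prop :=
  ∃ (N : Over (Spec (CommRingCat.of L))) (_ : GrpObj N) (i : N ⟶ G), IsMonHom i ∧ IsClosedImmersion i.left ∧
    AlgGrp.IsNormalHom i ∧ (∀ (T : Over (Spec (CommRingCat.of L))) (g h : T ⟶ G), ∃ m : T ⟶ N, g * h * g⁻¹ * h⁻¹ = m ≫ i) ∧
    topologicalKrullDim ↥N.left ≤ d

theorem HasDerived.of_iso {L : Type u} [Field L] {G G' : Over (Spec (CommRingCat.of L))} [GrpObj G] [GrpObj G']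
    (e : G ≅ G') [IsMonHom e.hom] {d : WithBot ℕ∞} (h : HasDerived G d) : HasDerived G' d := by
  obtain ⟨N, _, i, hi, hc, hn, hm, hd⟩ := h
  haveI := hi
  haveI := hc
  refine ⟨N, inferInstance, i ≫ e.hom, inferInstance, by rw [Over.comp_left]; infer_instance,
    SpecializeSubgroup.isNormalHom_comp_iso i e hn, fun T g h => ?_, hd⟩
  obtain ⟨m, hm⟩ := hm T (g ≫ e.inv) (h ≫ e.inv)
  refine ⟨m, ?_⟩
  have := congrArg (· ≫ e.hom) hm
  simpa [MonObj.mul_comp, GrpObj.inv_comp] using this

/-- The dimension of the derived group does not increase along a valuation ring. -/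
theorem hasDerived_special {V : Type u} [CommRing V] [IsDomain V] [ValuationRing V] (K : Type u) [Field K]
    [Algebra V K] [IsFractionRing V K] {k' : Type u} [Field k']
    (π : Spec (CommRingCat.of k') ⟶ Spec (CommRingCat.of V)) [IsPreimmersion π]
    (G : Over (Spec (CommRingCat.of V))) [GrpObj G] [Flat G.hom] [LocallyOfFiniteType G.hom] [QuasiCompact G.hom]
    {d : WithBot ℕ∞} (h : HasDerived (Red.bc (genPt V K) G) d) : HasDerived (Red.bc π G) d := by
  obtain ⟨HK, _, i, hi, hc, hn, hm, hd⟩ := h
  haveI := hi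
  haveI := hc
  obtain ⟨gC, hj⟩ := ValClosure.exists_grpObj_closure i
  obtain ⟨φ, hφ⟩ := ValClosure.exists_iso_bc_closure i
  let C := ValClosure.closure i
  let j : C ⟶ G := ValClosure.closureι i
  haveI hcl : IsClosedImmersion j.left := ValClosure.isClosedImmersion_closureι i
  haveI : IsMonHom j := hj
  haveI : Flat C.hom := ValClosure.flat_closure i
  haveI : LocallyOfFiniteType C.hom := by rw [← Over.w j]; infer_instance
  haveI : QuasiCompact C.hom := by rw [← Over.w j]; infer_instance
  haveI : IsMonHom ((Over.pullback π).map j : Red.bc π C ⟶ Red.bc π G) := Functor.map.instIsMonHom _ _ j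
  have hj' : φ.inv ≫ i = (Over.pullback (genPt V K)).map j := ((Iso.eq_inv_comp φ).2 hφ).symm
  refine ⟨Red.bc π C, inferInstance, (Over.pullback π).map j, inferInstance,
    MorphismProperty.of_isPullback (P := @IsClosedImmersion) (SGA3UnitSec.isPullback_map_left π j) hcl, ?_, ?_, ?_⟩
  · refine SGA3cLib.DerivedSpread.isNormalHom_bc π j fun T g n => ?_
    obtain ⟨z, hz⟩ : ∃ z : G ⊗ C ⟶ C, z ≫ j = GrpLim26.conjMor j := by
      haveI : Flat (G ⊗ C).hom := inferInstanceAs (Flat (pullback.fst G.hom C.hom ≫ G.hom))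
      refine ValClosure.exists_lift_closure i _ ?_
      obtain ⟨w, hw⟩ := hn _ ((Over.pullback (genPt V K)).map (fst G C))
        ((Over.pullback (genPt V K)).map (snd G C) ≫ φ.inv)
      refine ⟨w, ?_⟩
      rw [← hw, Category.assoc, hj', GrpLim26.conjMor, Functor.map_mul, Functor.map_mul, Functor.map_inv',
        Functor.map_comp]
    exact (GrpLim26.normal_iff j).2 ⟨z, hz⟩ T g n
  · obtain ⟨z, hz⟩ : ∃ z : G ⊗ G ⟶ C, z ≫ j = fst G G * snd G G * (fst G G)⁻¹ * (snd G G)⁻¹ := by
      haveI : Flat (G ⊗ G).hom := inferInstanceAs (Flat (pullback.fst G.hom G.hom ≫ G.hom))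
      refine ValClosure.exists_lift_closure i _ ?_
      obtain ⟨w, hw⟩ := hm _ ((Over.pullback (genPt V K)).map (fst G G)) ((Over.pullback (genPt V K)).map (snd G G))
      refine ⟨w, ?_⟩
      rw [← hw, Functor.map_mul, Functor.map_mul, Functor.map_mul, Functor.map_inv', Functor.map_inv']
    intro T g h
    refine ⟨(lift g h ≫ Functor.LaxMonoidal.μ (Over.pullback π) G G) ≫ (Over.pullback π).map z, ?_⟩
    rw [Category.assoc _ ((Over.pullback π).map z), ← Functor.map_comp, hz, Functor.map_mul, Functor.map_mul,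
      Functor.map_mul, Functor.map_inv', Functor.map_inv']
    simp only [MonObj.comp_mul, GrpObj.comp_inv, Category.assoc, Functor.Monoidal.μ_fst, Functor.Monoidal.μ_snd,
      lift_fst, lift_snd]
  · refine le_trans ?_ hd
    refine (dim_fibre_le C.hom π).trans (le_of_eq ?_)
    haveI : IsPreimmersion (genPt V K) := IsPreimmersion.of_isLocalization (nonZeroDivisors V)
    have hη : (genPt V K).base (IsLocalRing.closedPoint K) = genericPoint (Spec (CommRingCat.of V)) := by
      rw [genericPoint_eq_bot_of_affine]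
      refine PrimeSpectrum.ext ?_
      show Ideal.comap (algebraMap V K) (IsLocalRing.maximalIdeal K) = ⊥
      rw [IsLocalRing.maximalIdeal_eq_bot, ← RingHom.ker_eq_comap_bot,
        (RingHom.injective_iff_ker_eq_bot _).1 (IsFractionRing.injective V K)]
    rw [← SpecializeSubgroup.dim_bc_point (genPt V K) C _ hη]
    exact ((Over.forget _).mapIso φ).symm.hom.homeomorph.isHomeomorph.topologicalKrullDim_eq

end Groth.Agent.AlgGrpLib.SpecializeVal

namespace Groth.Agent.AlgGrpLib.SpecializeVal

open Groth.Agent.AlgGrpLib.ValClosure (genPt)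

/-- Along a specialisation the derived dimension decreases and the fibre dimension increases. -/
theorem hasDerived_geomFibre {S : Scheme.{u}} (G : Over S) [GrpObj G] [Flat G.hom] [LocallyOfFiniteType G.hom]
    [QuasiCompact G.hom] {s s' : S} (h : s ⤳ s') {d : WithBot ℕ∞} (hd : HasDerived (Red.geomFibre s G) d) :
    HasDerived (Red.geomFibre s' G) d ∧
      topologicalKrullDim ↥(Red.geomFibre s G).left ≤ topologicalKrullDim ↥(Red.geomFibre s' G).left := by
  obtain ⟨V, _, _, _, _, _, φ, π, hπ, hgen, hsp⟩ := exists_place h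
  haveI := hπ
  let e : Red.bc (genPt V _) (Red.bc φ G) ≅ Red.geomFibre s G := (SGA3cLib.GrpBC.bcCongr φ _ _ hgen).app G
  let e' : Red.bc π (Red.bc φ G) ≅ Red.geomFibre s' G := (SGA3cLib.GrpBC.bcCongr φ π _ hsp).app G
  haveI : IsMonHom e.symm.hom := (SGA3cLib.GrpBC.isMonHom_app (SGA3cLib.GrpBC.bcCongr φ _ _ hgen) G).2
  haveI : IsMonHom e'.hom := (SGA3cLib.GrpBC.isMonHom_app (SGA3cLib.GrpBC.bcCongr φ π _ hsp) G).1
  haveI : LocallyOfFiniteType (Red.bc φ G).hom := MorphismProperty.pullback_snd _ _ ‹LocallyOfFiniteType G.hom›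
  haveI : QuasiCompact (Red.bc φ G).hom := MorphismProperty.pullback_snd _ _ ‹QuasiCompact G.hom›
  haveI : Flat (Red.bc φ G).hom := MorphismProperty.pullback_snd _ _ ‹Flat G.hom›
  refine ⟨(hasDerived_special _ π (Red.bc φ G) (hd.of_iso e.symm)).of_iso e', ?_⟩
  have h1 := ((Over.forget _).mapIso e).hom.homeomorph.isHomeomorph.topologicalKrullDim_eq
  have h2 := ((Over.forget _).mapIso e').hom.homeomorph.isHomeomorph.topologicalKrullDim_eq
  haveI : IsPreimmersion (genPt V (AlgebraicClosure (S.residueField s))) :=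
    IsPreimmersion.of_isLocalization (nonZeroDivisors V)
  have ha := SpecializeSubgroup.dim_bc_point (genPt V (AlgebraicClosure (S.residueField s))) (Red.bc φ G) _ rfl
  have hb := SpecializeSubgroup.dim_bc_point π (Red.bc φ G) _ rfl
  refine h1.ge.trans (le_trans ?_ h2.le)
  refine ha.le.trans (le_trans ?_ hb.ge)
  refine not_lt.1 fun hlt => ?_
  have hopen := (upperSemicontinuous_iff_isOpen_preimage.1 (SGA3cLib.NeutralDim.upperSemicontinuous_dim (Red.bc φ G)))
    (topologicalKrullDim ↥((Red.bc φ G).hom.base ⁻¹' {(genPt V (AlgebraicClosure (S.residueField s))).base (IsLocalRing.closedPoint _)}))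
  have hgs : (genPt V (AlgebraicClosure (S.residueField s))).base (IsLocalRing.closedPoint _) ⤳
      π.base (IsLocalRing.closedPoint _) := by
    refine (PrimeSpectrum.le_iff_specializes _ _).1 ?_
    show Ideal.comap (algebraMap V _) (IsLocalRing.maximalIdeal (AlgebraicClosure (S.residueField s))) ≤ _
    rw [IsLocalRing.maximalIdeal_eq_bot, ← RingHom.ker_eq_comap_bot,
      (RingHom.injective_iff_ker_eq_bot _).1 (IsFractionRing.injective V _)]
    exact bot_le
  have hmem := hgs.mem_open (s := (fun t => topologicalKrullDim ↥((Red.bc φ G).hom.base ⁻¹' {t})) ⁻¹' Set.Iio _) hopen hlt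
  simp only [Set.mem_preimage, Set.mem_Iio, lt_self_iff_false] at hmem

end Groth.Agent.AlgGrpLib.SpecializeVal
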