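import Groth.Agent.NeronLib27.ClosureSubgroup
import Groth.Agent.SGA3cLib.NeutralDim
import Groth.Agent.SGA3cLib.DerivedSpread
import Groth.Agent.SGA3cLib.GrpBC
import Groth.Agent.CAlgH3.RegularLocal
import Groth.Agent.S0404
import Mathlib.RingTheory.LocalRing.ResidueField.Ideal

/-!
# Subgroups of a generic fibre specialise over a regular local base
-/

set_option autoImplicit false
set_option linter.style.haveILetI false
set_option backward.isDefEq.respectTransparency.types false

universe u

open CategoryTheory CategoryTheory.Limits MonoidalCategory CartesianMonoidalCategory MonObj GrpObj AlgebraicGeometry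
open IsLocalRing

noncomputable section

namespace Groth.Agent.AlgGrpLib.SpecializeSubgroup

/-- `G` has, over the field `L`, a closed subgroup of dimension `d`, normal if `nrm` holds. -/
def HasSub {S : Scheme.{u}} {L : Type u} [Field L] (f : Spec (CommRingCat.of L) ⟶ S) (G : Over S) [GrpObj G]
    (d : ℕ) (nrm : Prop) : Prop :=
  ∃ (H : Over (Spec (CommRingCat.of L))) (_ : GrpObj H) (i : H ⟶ Red.bc f G),
    IsMonHom i ∧ IsClosedImmersion i.left ∧ (nrm → AlgGrp.IsNormalHom i) ∧
      topologicalKrullDim ↥H.left = (d : WithBot ℕ∞)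

theorem isNormalHom_comp_iso {S : Scheme.{u}} {H G G' : Over S} [GrpObj H] [GrpObj G] [GrpObj G'] (i : H ⟶ G)
    (e : G ≅ G') [IsMonHom e.hom] (h : AlgGrp.IsNormalHom i) : AlgGrp.IsNormalHom (i ≫ e.hom) := by
  intro T g n
  obtain ⟨n', hn'⟩ := h T (g ≫ e.inv) n
  refine ⟨n', ?_⟩
  have := congrArg (· ≫ e.hom) hn'
  simpa [MonObj.mul_comp, GrpObj.inv_comp] using this

theorem HasSub.of_iso {S S' : Scheme.{u}} {L : Type u} [Field L] {f : Spec (CommRingCat.of L) ⟶ S}
    {f' : Spec (CommRingCat.of L) ⟶ S'} {G : Over S} [GrpObj G] {G' : Over S'} [GrpObj G'] {d : ℕ} {nrm : Prop}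
    (e : Red.bc f G ≅ Red.bc f' G') [IsMonHom e.hom] (h : HasSub f G d nrm) : HasSub f' G' d nrm := by
  obtain ⟨H, _, i, hi, hc, hn, hd⟩ := h
  haveI := hi
  haveI := hc
  refine ⟨H, inferInstance, i ≫ e.hom, inferInstance, ?_, fun h => isNormalHom_comp_iso i e (hn h), hd⟩
  rw [Over.comp_left]
  infer_instance

/-- Iterated base change, first direction. -/
theorem hasSub_comp {S S' : Scheme.{u}} {L : Type u} [Field L] (f : Spec (CommRingCat.of L) ⟶ S') (g : S' ⟶ S)
    (h : Spec (CommRingCat.of L) ⟶ S) (hh : f ≫ g = h) (G : Over S) [GrpObj G] {d : ℕ} {nrm : Prop} :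
    HasSub f (Red.bc g G) d nrm ↔ HasSub h G d nrm := by
  let α := SGA3cLib.GrpBC.bcCongr g f h hh
  obtain ⟨h₁, h₂⟩ := SGA3cLib.GrpBC.isMonHom_app α G
  let e : Red.bc f (Red.bc g G) ≅ Red.bc h G := α.app G
  haveI : IsMonHom e.hom := h₁
  haveI : IsMonHom e.symm.hom := h₂
  exact ⟨HasSub.of_iso e, HasSub.of_iso e.symm⟩

/-- Transport along an isomorphism of fields. -/
theorem HasSub.of_isIso {S : Scheme.{u}} {L L' : Type u} [Field L] [Field L'] {f : Spec (CommRingCat.of L) ⟶ S}
    (c : Spec (CommRingCat.of L') ⟶ Spec (CommRingCat.of L)) [IsIso c] (f' : Spec (CommRingCat.of L') ⟶ S)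
    (hc : c ≫ f = f') (G : Over S) [GrpObj G] {d : ℕ} {nrm : Prop} (h : HasSub f G d nrm) :
    HasSub f' G d nrm := by
  rw [← hasSub_comp c f f' hc]
  obtain ⟨H, _, i, hi, hcl, hn, hd⟩ := h
  haveI := hi
  refine ⟨Red.bc c H, inferInstance, (Over.pullback c).map i, inferInstance,
    MorphismProperty.of_isPullback (P := @IsClosedImmersion) (SGA3UnitSec.isPullback_map_left c i) hcl,
    fun h => SGA3cLib.DerivedSpread.isNormalHom_bc c i (hn h), ?_⟩
  rw [← hd]
  exact (pullback.fst H.hom c).homeomorph.isHomeomorph.topologicalKrullDim_eq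

/-- The dimension of the base change to a point is that of the fibre. -/
theorem dim_bc_point {S : Scheme.{u}} {L : Type u} [Field L] (f : Spec (CommRingCat.of L) ⟶ S) [IsPreimmersion f]
    (H : Over S) (s : S) (hs : f.base (closedPoint L) = s) :
    topologicalKrullDim ↥(Red.bc f H).left = topologicalKrullDim ↥(H.hom.base ⁻¹' {s}) := by
  let q := pullback.fst H.hom f
  have hr : Set.range q.base = H.hom.base ⁻¹' {s} := by
    rw [Scheme.Pullback.range_fst]
    congr 1
    haveI : Subsingleton ↥(Spec (CommRingCat.of L)) := inferInstanceAs (Subsingleton (PrimeSpectrum L))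
    ext y
    exact ⟨fun ⟨z, hz⟩ => by rw [← hz, Subsingleton.elim z (closedPoint L)]; exact hs,
      fun hy => ⟨closedPoint L, hs.trans hy.symm⟩⟩
  haveI : IsPreimmersion q := MorphismProperty.pullback_fst _ _ inferInstance
  exact (q.isEmbedding.toHomeomorph.trans (Homeomorph.setCongr hr)).isHomeomorph.topologicalKrullDim_eq

section DVR

variable (R : Type u) [CommRing R] [IsDedekindDomain R] [IsLocalRing R]

/-- The map from the spectrum of the residue field. -/
abbrev clPt : Spec (CommRingCat.of (ResidueField R)) ⟶ Spec (CommRingCat.of R) :=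
  Spec.map (CommRingCat.ofHom (algebraMap R (ResidueField R)))

instance : IsClosedImmersion (clPt R) := IsClosedImmersion.spec_of_surjective _ residue_surjective

theorem clPt_closedPoint : (clPt R).base (closedPoint (ResidueField R)) = closedPoint R :=
  IsLocalRing.comap_closedPoint (residue R)

instance : IsPreimmersion (Neron.genPt R) := IsPreimmersion.of_isLocalization (nonZeroDivisors R)

/-- The step over a discrete valuation ring. -/
theorem hasSub_clPt_of_genPt (G : Over (Spec (CommRingCat.of R))) [GrpObj G] [Flat G.hom]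
    [LocallyOfFinitePresentation G.hom] [QuasiCompact G.hom] [QuasiSeparated G.hom] {d : ℕ} {nrm : Prop}
    (h : HasSub (Neron.genPt R) G d nrm) : HasSub (clPt R) G d nrm := by
  obtain ⟨HK, _, i, hi, hc, hn, hd⟩ := h
  haveI := hi
  haveI := hc
  let C := NeronLib27.closure i
  let j : C ⟶ G := NeronLib27.closureι i
  obtain ⟨hC, hj⟩ := NeronLib27.exists_grpObj_closure i
  obtain ⟨φ, hφ⟩ := NeronLib27.exists_iso_bc_closure i
  haveI hj' : IsMonHom j := hj
  haveI : Flat C.hom := NeronLib27.flat_closure i
  haveI : IsLocallyNoetherian (Spec (CommRingCat.of R)) := inferInstance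
  haveI hjc : IsClosedImmersion j.left := NeronLib27.isClosedImmersion_closureι i
  haveI : LocallyOfFiniteType C.hom := by rw [← Over.w j]; infer_instance
  haveI : LocallyOfFinitePresentation C.hom := LocallyOfFinitePresentation.iff_locallyOfFiniteType.2 inferInstance
  haveI : QuasiCompact C.hom := by rw [← Over.w j]; infer_instance
  haveI : QuasiSeparated C.hom := by rw [← Over.w j]; infer_instance
  haveI : IsMonHom ((Over.pullback (clPt R)).map j : Red.bc (clPt R) C ⟶ Red.bc (clPt R) G) :=
    Functor.map.instIsMonHom _ _ j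
  refine ⟨Red.bc (clPt R) C, inferInstance, (Over.pullback (clPt R)).map j, inferInstance,
    MorphismProperty.of_isPullback (P := @IsClosedImmersion) (SGA3UnitSec.isPullback_map_left _ j)
      (NeronLib27.isClosedImmersion_closureι i), fun h => ?_, ?_⟩
  · refine SGA3cLib.DerivedSpread.isNormalHom_bc _ j fun T g n => ?_
    obtain ⟨z, hz⟩ : ∃ z : G ⊗ C ⟶ C, z ≫ j = GrpLim26.conjMor j := by
      haveI : Flat (G ⊗ C).hom := inferInstanceAs (Flat (pullback.fst G.hom C.hom ≫ G.hom))
      refine NeronLib27.exists_lift_closure i _ ?_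
      obtain ⟨w, hw⟩ := hn h _ ((Over.pullback (Neron.genPt R)).map (fst G C))
        ((Over.pullback (Neron.genPt R)).map (snd G C) ≫ φ.inv)
      refine ⟨w, ?_⟩
      have hj' : φ.inv ≫ i = (Over.pullback (Neron.genPt R)).map j := ((Iso.eq_inv_comp φ).2 hφ).symm
      rw [← hw, Category.assoc, hj', GrpLim26.conjMor, Functor.map_mul, Functor.map_mul, Functor.map_inv',
        Functor.map_comp]
    exact (GrpLim26.normal_iff j).2 ⟨z, hz⟩ T g n
  · have hgen : topologicalKrullDim ↥(C.hom.base ⁻¹' {(Neron.genPt R).base (closedPoint (FractionRing R))}) = d := by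
      rw [← dim_bc_point (Neron.genPt R) C _ rfl, ← hd]
      exact ((Over.forget _).mapIso φ).symm.hom.homeomorph.isHomeomorph.topologicalKrullDim_eq
    rw [dim_bc_point (clPt R) C _ (clPt_closedPoint R)]
    generalize (Neron.genPt R).base (closedPoint (FractionRing R)) = gp at hgen
    have hsp : gp ⤳ (closedPoint R : Spec (CommRingCat.of R)) := IsLocalRing.specializes_closedPoint gp
    refine le_antisymm (not_lt.1 fun hlt => ?_) (not_lt.1 fun hlt => ?_)
    · have hopen := Groth.Agent.S0404.result C.hom (d : WithBot ℕ∞)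
      have hs : (closedPoint R : Spec (CommRingCat.of R)) ∈
          {s | (d : WithBot ℕ∞) < topologicalKrullDim ↥(C.hom.fiber s)} := by
        show _ < topologicalKrullDim ↥(C.hom.fiber _)
        rw [(C.hom.fiberHomeo _).isHomeomorph.topologicalKrullDim_eq]
        exact hlt
      have := hsp.mem_open hopen hs
      rw [Set.mem_setOf_eq, (C.hom.fiberHomeo _).isHomeomorph.topologicalKrullDim_eq, hgen] at this
      exact lt_irrefl _ this
    · have hopen := (upperSemicontinuous_iff_isOpen_preimage.1 (SGA3cLib.NeutralDim.upperSemicontinuous_dim C)) d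
      have : topologicalKrullDim ↥(C.hom.base ⁻¹' {gp}) < d := hsp.mem_open hopen hlt
      rw [hgen] at this
      exact lt_irrefl _ this

end DVR

theorem isIso_specMap_of_bijective {A B : CommRingCat.{u}} (f : A ⟶ B) (h : Function.Bijective f.hom) :
    IsIso (Spec.map f) := by
  haveI : IsIso f := (ConcreteCategory.isIso_iff_bijective f).2 h
  infer_instance

theorem hasSub_residueField_of_algebra {A : Type u} [CommRing A] (R : Type u) [CommRing R] [IsDedekindDomain R]
    [IsLocalRing R] (K : Type u) [Field K] [Algebra A R] [Algebra A K] [Algebra R K] [IsScalarTower A R K]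
    [IsFractionRing R K] (G : Over (Spec (CommRingCat.of A))) [GrpObj G] [Flat G.hom]
    [LocallyOfFinitePresentation G.hom] [QuasiCompact G.hom] [QuasiSeparated G.hom] {d : ℕ} {nrm : Prop}
    (h : HasSub (Spec.map (CommRingCat.ofHom (algebraMap A K))) G d nrm) :
    HasSub (Spec.map (CommRingCat.ofHom ((algebraMap R (ResidueField R)).comp (algebraMap A R)))) G d nrm := by
  let ρ : Spec (CommRingCat.of R) ⟶ Spec (CommRingCat.of A) := Spec.map (CommRingCat.ofHom (algebraMap A R))
  let e : K ≃ₐ[R] FractionRing R := IsLocalization.algEquiv (nonZeroDivisors R) K (FractionRing R)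
  haveI : IsIso (Spec.map (CommRingCat.ofHom e.toRingEquiv.toRingHom)) :=
    isIso_specMap_of_bijective _ e.bijective
  have h1 : HasSub (Neron.genPt R ≫ ρ) G d nrm := by
    refine h.of_isIso (Spec.map (CommRingCat.ofHom e.toRingEquiv.toRingHom)) _ ?_ G
    rw [← Spec.map_comp, ← Spec.map_comp, ← CommRingCat.ofHom_comp, ← CommRingCat.ofHom_comp]
    congr 2
    ext a
    show e (algebraMap A K a) = algebraMap R (FractionRing R) (algebraMap A R a)
    rw [IsScalarTower.algebraMap_apply A R K, AlgEquiv.commutes]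
  haveI : Flat (Red.bc ρ G).hom := MorphismProperty.pullback_snd _ _ ‹Flat G.hom›
  haveI : LocallyOfFinitePresentation (Red.bc ρ G).hom := MorphismProperty.pullback_snd _ _ ‹_›
  haveI : QuasiCompact (Red.bc ρ G).hom := MorphismProperty.pullback_snd _ _ ‹_›
  haveI : QuasiSeparated (Red.bc ρ G).hom := MorphismProperty.pullback_snd _ _ ‹_›
  have h2 : HasSub (clPt R) (Red.bc ρ G) d nrm :=
    hasSub_clPt_of_genPt R _ ((hasSub_comp (Neron.genPt R) ρ _ rfl G).2 h1)
  have h2' := (hasSub_comp (clPt R) ρ _ rfl G).1 h2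
  rw [← Spec.map_comp, ← CommRingCat.ofHom_comp] at h2'
  exact h2'

theorem hasSub_residueField : ∀ (n : ℕ) (A : Type u) [CommRing A] [IsDomain A] [IsRegularLocalRing A],
    (maximalIdeal A).spanFinrank = n → ∀ (K : Type u) [Field K] [Algebra A K] [IsFractionRing A K]
    (G : Over (Spec (CommRingCat.of A))) [GrpObj G] [Flat G.hom] [LocallyOfFinitePresentation G.hom]
    [QuasiCompact G.hom] [QuasiSeparated G.hom] {d : ℕ} {nrm : Prop},
    HasSub (Spec.map (CommRingCat.ofHom (algebraMap A K))) G d nrm →
      HasSub (Spec.map (CommRingCat.ofHom (algebraMap A (ResidueField A)))) G d nrm := by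
  intro n
  induction n with
  | zero =>
    intro A _ _ _ hn K _ _ _ G _ _ _ _ _ d nrm h
    have hbot : maximalIdeal A = ⊥ :=
      (Submodule.spanFinrank_eq_zero_iff_eq_bot (IsNoetherian.noetherian _)).1 hn
    have hK : Function.Bijective (algebraMap A K) :=
      ⟨IsFractionRing.injective A K, IsFractionRing.surjective_iff_isField.2 (IsLocalRing.isField_iff_maximalIdeal_eq.2 hbot)⟩
    let eK : A ≃+* K := RingEquiv.ofBijective _ hK
    have hk : Function.Bijective (algebraMap A (ResidueField A)) :=
      ⟨(RingHom.injective_iff_ker_eq_bot _).2 (by rw [ResidueField.algebraMap_eq, ker_residue, hbot]), residue_surjective⟩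
    let e : K →+* ResidueField A := (algebraMap A (ResidueField A)).comp eK.symm.toRingHom
    haveI : IsIso (Spec.map (CommRingCat.ofHom e)) :=
      isIso_specMap_of_bijective _ (hk.comp eK.symm.bijective)
    refine h.of_isIso (Spec.map (CommRingCat.ofHom e)) _ ?_ G
    rw [← Spec.map_comp, ← CommRingCat.ofHom_comp]
    congr 2
    ext a
    show (algebraMap A (ResidueField A)) (eK.symm (eK a)) = _
    rw [eK.symm_apply_apply]
  | succ n ih =>
    intro A _ _ _ hn K _ _ _ G _ _ _ _ _ d nrm h
    obtain ⟨t, ht, ht2⟩ : ∃ t ∈ maximalIdeal A, t ∉ maximalIdeal A ^ 2 := by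
      by_contra hall
      push Not at hall
      have : maximalIdeal A = ⊥ := Submodule.eq_bot_of_le_smul_of_le_jacobson_bot (maximalIdeal A) _
        (IsNoetherian.noetherian _) (fun x hx => by rw [smul_eq_mul, ← pow_two]; exact hall x hx)
        (maximalIdeal_le_jacobson _)
      rw [this, Submodule.spanFinrank_bot] at hn
      omega
    obtain ⟨hreg, hdim⟩ := CAlgH3.regular_quotient_of_notMem_sq ht ht2
    let p := Ideal.span {t}
    haveI : IsRegularLocalRing (A ⧸ p) := hreg
    haveI : IsDomain (A ⧸ p) := CAlgH3.isDomain_of_isRegularLocalRing _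
    haveI hp : p.IsPrime := (Ideal.Quotient.isDomain_iff_prime _).1 inferInstance
    have hn' : (maximalIdeal (A ⧸ p)).spanFinrank = n := by
      rw [hn, ← IsRegularLocalRing.spanFinrank_maximalIdeal (R := A ⧸ p)] at hdim
      have : n + 1 = (maximalIdeal (A ⧸ p)).spanFinrank + 1 := by exact_mod_cast hdim
      omega
    let R := Localization.AtPrime p
    haveI : IsDomain R := IsLocalization.isDomain_of_le_nonZeroDivisors _ p.primeCompl_le_nonZeroDivisors
    haveI : IsNoetherianRing R := IsLocalization.isNoetherianRing p.primeCompl R inferInstance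
    haveI : IsPrincipalIdealRing R := by
      have hpr : (maximalIdeal R).IsPrincipal := ⟨algebraMap A R t, by
        rw [← Localization.AtPrime.map_eq_maximalIdeal, Ideal.map_span, Set.image_singleton]⟩
      exact ((tfae_of_isNoetherianRing_of_isLocalRing_of_isDomain R).out 4 0).1 hpr
    letI : Algebra R K := (IsLocalization.lift (M := p.primeCompl) (g := algebraMap A K) (fun y =>
      IsUnit.mk0 _ ((map_ne_zero_iff _ (IsFractionRing.injective A K)).2
        (fun h => y.2 (h ▸ zero_mem _))))).toAlgebra
    haveI : IsScalarTower A R K := IsScalarTower.of_algebraMap_eq fun a => (IsLocalization.lift_eq _ a).symm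
    haveI : IsFractionRing R K :=
      IsFractionRing.isFractionRing_of_isDomain_of_isLocalization p.primeCompl R K
    have h2' := hasSub_residueField_of_algebra R K G h
    let π : Spec (CommRingCat.of (A ⧸ p)) ⟶ Spec (CommRingCat.of A) :=
      Spec.map (CommRingCat.ofHom (algebraMap A (A ⧸ p)))
    haveI : Flat (Red.bc π G).hom := MorphismProperty.pullback_snd _ _ ‹Flat G.hom›
    haveI : LocallyOfFinitePresentation (Red.bc π G).hom := MorphismProperty.pullback_snd _ _ ‹_›
    haveI : QuasiCompact (Red.bc π G).hom := MorphismProperty.pullback_snd _ _ ‹_›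
    haveI : QuasiSeparated (Red.bc π G).hom := MorphismProperty.pullback_snd _ _ ‹_›
    have h3 : HasSub (Spec.map (CommRingCat.ofHom (algebraMap (A ⧸ p) p.ResidueField))) (Red.bc π G) d nrm := by
      rw [hasSub_comp _ π _ rfl, ← Spec.map_comp, ← CommRingCat.ofHom_comp]
      rw [← IsScalarTower.algebraMap_eq A (A ⧸ p) p.ResidueField, IsScalarTower.algebraMap_eq A R p.ResidueField]
      exact h2'
    have h4 := (hasSub_comp _ π _ rfl G).1 (ih (A ⧸ p) hn' p.ResidueField _ h3)
    rw [← Spec.map_comp, ← CommRingCat.ofHom_comp] at h4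
    haveI : IsLocalHom (Ideal.Quotient.mk p) := .of_surjective _ Ideal.Quotient.mk_surjective
    let q : ResidueField A →+* ResidueField (A ⧸ p) := ResidueField.map (Ideal.Quotient.mk p)
    have hq : Function.Bijective q := ⟨q.injective, fun z => by
      obtain ⟨y, rfl⟩ := residue_surjective z
      obtain ⟨x, rfl⟩ := Ideal.Quotient.mk_surjective y
      exact ⟨residue A x, ResidueField.map_residue _ _⟩⟩
    let eq := RingEquiv.ofBijective q hq
    haveI : IsIso (Spec.map (CommRingCat.ofHom eq.symm.toRingHom)) :=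
      isIso_specMap_of_bijective _ eq.symm.bijective
    refine h4.of_isIso (Spec.map (CommRingCat.ofHom eq.symm.toRingHom)) _ ?_ G
    rw [← Spec.map_comp, ← CommRingCat.ofHom_comp]
    congr 2
    ext a
    exact eq.injective ((eq.apply_symm_apply _).trans (ResidueField.map_residue (Ideal.Quotient.mk p) a).symm)

end Groth.Agent.AlgGrpLib.SpecializeSubgroup
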