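import Groth.Agent.AlgGrpLib.SpecializeAffine
import Groth.Agent.AlgGrpLib.AffineSpecTorsion
import Groth.Agent.AlgGrpLib.UnipotentPowers

/-!
# Groups without subtori specialise to groups without subtori
-/

set_option autoImplicit false
set_option maxHeartbeats 1000000
set_option synthInstance.maxHeartbeats 200000
set_option linter.style.haveILetI false
set_option backward.isDefEq.respectTransparency.types false

universe u

open CategoryTheory CategoryTheory.Limits MonoidalCategory CartesianMonoidalCategory MonObj GrpObj AlgebraicGeometry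

noncomputable section

namespace Groth.Agent.AlgGrpLib.SpecializeVal

open Groth.Agent.AlgGrpLib.ValClosure (genPt)

section Val

variable {V : Type u} [CommRing V] [IsDomain V] [ValuationRing V] (K : Type u) [Field K] [IsAlgClosed K] [Algebra V K]
  [IsFractionRing V K] {k' : Type u} [Field k'] [IsAlgClosed k']
  (π : Spec (CommRingCat.of k') ⟶ Spec (CommRingCat.of V)) [IsClosedImmersion π]

/-- A smooth connected affine subgroup without subtori of the generic fibre specialises to one of the same dimension. -/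
theorem exists_unipotent_special (G : Over (Spec (CommRingCat.of V))) [GrpObj G] [LocallyOfFiniteType G.hom]
    [QuasiCompact G.hom] [QuasiSeparated G.hom]
    (H : Over (Spec (CommRingCat.of K))) [GrpObj H] [Smooth H.hom] [ConnectedSpace H.left] [IsAffine H.left]
    (i : H ⟶ Red.bc (genPt V K) G) [IsMonHom i] [IsClosedImmersion i.left] (hH : Red.HasNoSubtorus K H) :
    ∃ (H' : Over (Spec (CommRingCat.of k'))) (_ : GrpObj H') (i' : H' ⟶ Red.bc π G), IsMonHom i' ∧
      IsClosedImmersion i'.left ∧ Smooth H'.hom ∧ ConnectedSpace H'.left ∧ IsAffine H'.left ∧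
        topologicalKrullDim ↥H'.left = topologicalKrullDim ↥H.left ∧ Red.HasNoSubtorus k' H' ∧
        (∀ n, (∀ X, derivedSeries (X ⟶ H) n = ⊥) → ∀ X, derivedSeries (X ⟶ H') n = ⊥) := by
  obtain ⟨gC, hc⟩ := ValClosure.exists_grpObj_closure i
  obtain ⟨φ, hφ⟩ := ValClosure.exists_iso_bc_closure i
  let C := ValClosure.closure i
  let c : C ⟶ G := ValClosure.closureι i
  haveI hcl : IsClosedImmersion c.left := ValClosure.isClosedImmersion_closureι i
  haveI : IsMonHom c := hc
  haveI : Flat C.hom := ValClosure.flat_closure i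
  haveI : LocallyOfFiniteType C.hom := by rw [← Over.w c]; infer_instance
  haveI : QuasiCompact C.hom := by rw [← Over.w c]; infer_instance
  haveI : QuasiSeparated C.hom := by rw [← Over.w c]; infer_instance
  haveI : IsMonHom φ.inv := by
    haveI : IsMonHom ((Over.pullback (genPt V K)).map c : Red.bc (genPt V K) C ⟶ Red.bc (genPt V K) G) :=
      Functor.map.instIsMonHom _ _ c
    haveI : IsMonHom (φ.inv ≫ i) := by
      rw [show φ.inv ≫ i = (Over.pullback (genPt V K)).map c from ((Iso.eq_inv_comp φ).2 hφ).symm]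
      infer_instance
    haveI : Mono i := Over.mono_of_mono_left _
    exact { one_hom := by rw [← cancel_mono i, Category.assoc, IsMonHom.one_hom (f := φ.inv ≫ i), IsMonHom.one_hom (f := i)]
            mul_hom := by
              rw [← cancel_mono i, Category.assoc, IsMonHom.mul_hom (f := φ.inv ≫ i), Category.assoc,
                IsMonHom.mul_hom (f := i), MonoidalCategory.tensorHom_comp_tensorHom_assoc] }
  haveI : IsAffine (AffineSpec.gen K C).left := IsAffine.of_isIso φ.inv.left
  haveI : Smooth (AffineSpec.gen K C).hom := by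
    rw [← Over.w φ.inv]; infer_instance
  haveI : ConnectedSpace (AffineSpec.gen K C).left :=
    φ.hom.left.surjective.connectedSpace φ.hom.left.continuous
  haveI : IrreducibleSpace (AffineSpec.gen K C).left := SGA3cLib.irreducibleSpace_of_connected (AffineSpec.gen K C)
  haveI : IsReduced (AffineSpec.gen K C).left := AbSchLib.isReduced_of_smooth (AffineSpec.gen K C).hom
  haveI : IsIntegral (AffineSpec.gen K C).left :=
    (isIntegral_iff_irreducibleSpace_and_isReduced _).2 ⟨inferInstance, inferInstance⟩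
  haveI : LocallyOfFiniteType (AffineSpec.gen K C).hom := MorphismProperty.pullback_snd _ _ ‹LocallyOfFiniteType C.hom›
  haveI : IsClosedImmersion (𝟙 (Red.bc (genPt V K) C) : Red.bc (genPt V K) C ⟶ Red.bc (genPt V K) C).left :=
    inferInstanceAs (IsClosedImmersion (𝟙 (Red.bc (genPt V K) C).left))
  obtain ⟨C₁, _, c₁, hc₁, hcc₁, hCf, hCl, hCq, ⟨f, hf, hfm⟩, H', _, r₁, hr, hrc, hs, hcon, hd⟩ :=
    exists_smooth_special K π C (Red.bc (genPt V K) C) (𝟙 _)
  haveI := hc₁; haveI := hcc₁; haveI := hCf; haveI := hCl; haveI := hCq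
  haveI := hf; haveI := hfm; haveI := hr; haveI := hrc; haveI := hs; haveI := hcon
  haveI : IsMonHom ((Over.pullback π).map c₁ : Red.bc π C₁ ⟶ Red.bc π C) := Functor.map.instIsMonHom _ _ c₁
  haveI : IsClosedImmersion ((Over.pullback π).map c₁).left :=
    MorphismProperty.of_isPullback (P := @IsClosedImmersion) (SGA3UnitSec.isPullback_map_left _ c₁) hcc₁
  haveI : IsMonHom ((Over.pullback π).map c : Red.bc π C ⟶ Red.bc π G) := Functor.map.instIsMonHom _ _ c
  haveI : IsClosedImmersion ((Over.pullback π).map c).left :=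
    MorphismProperty.of_isPullback (P := @IsClosedImmersion) (SGA3UnitSec.isPullback_map_left _ c) hcl
  let r : H' ⟶ Red.bc π C := r₁ ≫ (Over.pullback π).map c₁
  haveI : IsClosedImmersion r.left := by rw [Over.comp_left]; infer_instance
  haveI : IrreducibleSpace H'.left := SGA3cLib.irreducibleSpace_of_connected H'
  haveI : LocallyOfFiniteType (Red.bc π C).hom := MorphismProperty.pullback_snd _ _ ‹LocallyOfFiniteType C.hom›
  haveI : QuasiCompact (Red.bc π C).hom := MorphismProperty.pullback_snd _ _ ‹QuasiCompact C.hom›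
  haveI : QuasiCompact H'.hom := by rw [← Over.w r]; infer_instance
  have hle : topologicalKrullDim ↥H'.left ≤ topologicalKrullDim ↥(AffineSpec.gen K C).left :=
    r.left.isClosedEmbedding.isEmbedding.isInducing.topologicalKrullDim_le.trans (AffineSpec.dim_special_le K π)
  have heq : topologicalKrullDim ↥H.left = topologicalKrullDim ↥(AffineSpec.gen K C).left :=
    ((Over.forget _).mapIso φ).hom.homeomorph.isHomeomorph.topologicalKrullDim_eq
  haveI : Mono r₁ := Over.mono_of_mono_left _
  haveI : Mono (f ≫ φ.inv) := inferInstance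
  haveI : IsAffine H'.left := AffineSpec.isAffine_special K π r hd hle
  haveI : IsSeparated H'.hom := inferInstance
  refine ⟨H', inferInstance, r ≫ (Over.pullback π).map c, inferInstance,
    by rw [Over.comp_left]; infer_instance, hs, hcon, inferInstance, le_antisymm (heq ▸ hle) (heq ▸ hd), ?_,
    fun n hn => derived_special _ π C₁ H' r₁ n (derived_sub (f ≫ φ.inv) n hn)⟩
  -- a prime invertible in both fields
  obtain ⟨l, hl, hlp⟩ := Nat.exists_infinite_primes (ringChar k' + 2)
  have hl' : (l : k') ≠ 0 := by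
    intro h
    rcases Nat.eq_zero_or_pos (ringChar k') with h0 | hpos
    · haveI : CharP k' 0 := h0 ▸ ringChar.charP k'
      haveI : CharZero k' := CharP.charP_to_charZero k'
      exact hlp.ne_zero (Nat.cast_eq_zero.1 h)
    · have := (CharP.cast_eq_zero_iff k' (ringChar k') l).1 h
      rcases (Nat.dvd_prime hlp).1 this with h1 | h1
      · exact CharP.ringChar_ne_one h1
      · omega
  have hlK : (l : K) ≠ 0 := by
    intro h
    refine hl' ?_
    rw [← map_natCast (algebraMap V K), IsFractionRing.to_map_eq_zero_iff] at h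
    rw [← map_natCast (Spec.preimage π).hom, h, map_zero]
  haveI := UnipPow.isIso_pow hH hlK
  have hgen : IsIso ((Over.pullback (genPt V K)).map ((𝟙 C : C ⟶ C) ^ l)) := by
    have h1 : (Over.pullback (genPt V K)).map ((𝟙 C : C ⟶ C) ^ l) = (𝟙 (Red.bc (genPt V K) C)) ^ l := by
      rw [show (𝟙 (Red.bc (genPt V K) C)) = (Over.pullback (genPt V K)).map (𝟙 C) from (CategoryTheory.Functor.map_id _ _).symm]
      exact map_pow (Over.pullback (genPt V K)).homMonoidHom (𝟙 C) l
    haveI : IsMonHom φ.symm.hom := ‹IsMonHom φ.inv›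
    haveI : IsMonHom φ.hom := inferInstanceAs (IsMonHom φ.symm.inv)
    have h2 : (𝟙 (Red.bc (genPt V K) C)) ^ l = φ.inv ≫ ((𝟙 H : H ⟶ H) ^ l) ≫ φ.hom := by
      rw [MonObj.pow_comp, Category.id_comp, MonObj.comp_pow, Iso.inv_hom_id]
    rw [h1]
    exact h2 ▸ inferInstance
  obtain ⟨n, hn⟩ := UnipPow.exists_lower hH
  have hpt : ∀ t : 𝟙_ (Over (Spec (CommRingCat.of k'))) ⟶ H', t ^ l = 1 → t = 1 := fun t ht =>
    AffineSpec.eq_one_of_pow_eq_one K π r hd hle l hgen (UnipPow.pow_generic hl') t ht
      (UnipPow.central_of_pow hl' (lower_special _ π C₁ H' r₁ n (lower_sub (f ≫ φ.inv) n hn)) ht)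
  intro T _ j _ _ hT
  haveI : NeZero (l : k') := ⟨hl'⟩
  refine UnipPow.isIso_torus_of_torsion_trivial hT l hlp.one_lt fun X x hx => ?_
  rw [← cancel_mono j, MonObj.one_comp]
  refine UnipPow.eq_one_of_points hl' hpt _ ?_
  rw [← MonObj.pow_comp, hx, MonObj.one_comp]

end Val

/-- Specialisation of subgroups without subtori of geometric fibres. -/
theorem exists_special_unipotent {S : Scheme.{u}} (G : Over S) [GrpObj G] [LocallyOfFiniteType G.hom] [QuasiCompact G.hom]
    [QuasiSeparated G.hom] {s s' : S} (h : s ⤳ s')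
    (H : Over (Spec (CommRingCat.of (AlgebraicClosure (S.residueField s))))) [GrpObj H]
    [Smooth H.hom] [ConnectedSpace H.left] [IsAffine H.left]
    (i : H ⟶ Red.geomFibre s G) [IsMonHom i] [IsClosedImmersion i.left]
    (hH : Red.HasNoSubtorus (AlgebraicClosure (S.residueField s)) H) :
    ∃ (H' : Over (Spec (CommRingCat.of (AlgebraicClosure (S.residueField s'))))) (_ : GrpObj H')
      (i' : H' ⟶ Red.geomFibre s' G), IsMonHom i' ∧ IsClosedImmersion i'.left ∧ Smooth H'.hom ∧
        ConnectedSpace H'.left ∧ IsAffine H'.left ∧ topologicalKrullDim ↥H'.left = topologicalKrullDim ↥H.left ∧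
        Red.HasNoSubtorus (AlgebraicClosure (S.residueField s')) H' ∧
        (∀ n, (∀ X, derivedSeries (X ⟶ H) n = ⊥) → ∀ X, derivedSeries (X ⟶ H') n = ⊥) := by
  obtain ⟨V, _, _, _, _, _, φ, π, hπ, hgen, hsp⟩ := exists_place h
  haveI := hπ
  let e : Red.bc (genPt V _) (Red.bc φ G) ≅ Red.geomFibre s G := (SGA3cLib.GrpBC.bcCongr φ _ _ hgen).app G
  let e' : Red.bc π (Red.bc φ G) ≅ Red.geomFibre s' G := (SGA3cLib.GrpBC.bcCongr φ π _ hsp).app G
  haveI : IsMonHom e.inv := (SGA3cLib.GrpBC.isMonHom_app (SGA3cLib.GrpBC.bcCongr φ _ _ hgen) G).2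
  haveI : IsMonHom e'.hom := (SGA3cLib.GrpBC.isMonHom_app (SGA3cLib.GrpBC.bcCongr φ π _ hsp) G).1
  haveI : LocallyOfFiniteType (Red.bc φ G).hom := MorphismProperty.pullback_snd _ _ ‹LocallyOfFiniteType G.hom›
  haveI : QuasiCompact (Red.bc φ G).hom := MorphismProperty.pullback_snd _ _ ‹QuasiCompact G.hom›
  haveI : QuasiSeparated (Red.bc φ G).hom := MorphismProperty.pullback_snd _ _ ‹QuasiSeparated G.hom›
  haveI : IsClosedImmersion (i ≫ e.inv).left := by rw [Over.comp_left]; infer_instance
  obtain ⟨H', _, i', hi', hc', hs, hcon, haff, hd, hnt, hder⟩ :=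
    exists_unipotent_special _ π (Red.bc φ G) H (i ≫ e.inv) hH
  haveI := hi'; haveI := hc'
  exact ⟨H', inferInstance, i' ≫ e'.hom, inferInstance, by rw [Over.comp_left]; infer_instance, hs, hcon, haff, hd,
    hnt, hder⟩

end Groth.Agent.AlgGrpLib.SpecializeVal
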