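import Groth.Agent.AlgGrpLib.SpecializeUnipotent
import Groth.Agent.AlgGrpLib.SpecializeField

/-!
# Subgroups without subtori and extensions of algebraically closed fields
-/

set_option autoImplicit false
set_option maxHeartbeats 1000000
set_option synthInstance.maxHeartbeats 200000
set_option linter.style.haveILetI false
set_option backward.isDefEq.respectTransparency.types false

universe u

open CategoryTheory CategoryTheory.Limits MonoidalCategory CartesianMonoidalCategory MonObj GrpObj AlgebraicGeometry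

noncomputable section

namespace Groth.Agent.AlgGrpLib.SpecializeVal

open Groth.Agent.AlgGrpLib.ValClosure (genPt)

variable (k : Type u) [Field k] [IsAlgClosed k] (F : Type u) [Field F] [IsAlgClosed F] [Algebra k F]

theorem exists_prime_ne_zero : ∃ l : ℕ, l.Prime ∧ (l : k) ≠ 0 := by
  obtain ⟨l, hl, hlp⟩ := Nat.exists_infinite_primes (ringChar k + 2)
  refine ⟨l, hlp, fun h => ?_⟩
  rcases Nat.eq_zero_or_pos (ringChar k) with h0 | hpos
  · haveI : CharP k 0 := h0 ▸ ringChar.charP k
    haveI : CharZero k := CharP.charP_to_charZero k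
    exact hlp.ne_zero (Nat.cast_eq_zero.1 h)
  · have := (CharP.cast_eq_zero_iff k (ringChar k) l).1 h
    rcases (Nat.dvd_prime hlp).1 this with h1 | h1
    · exact CharP.ringChar_ne_one h1
    · omega

/-- A group with bijective power map contains no torus. -/
theorem hasNoSubtorus_of_isIso_pow {U : Over (Spec (CommRingCat.of k))} [GrpObj U] {l : ℕ} (hl : (l : k) ≠ 0)
    (hl1 : 1 < l) [IsIso ((𝟙 U : U ⟶ U) ^ l)] : Red.HasNoSubtorus k U := by
  intro T _ j _ _ hT
  haveI : NeZero (l : k) := ⟨hl⟩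
  refine UnipPow.isIso_torus_of_torsion_trivial hT l hl1 fun X x hx => ?_
  rw [← cancel_mono j, MonObj.one_comp, ← cancel_mono ((𝟙 U : U ⟶ U) ^ l), MonObj.comp_pow, MonObj.comp_pow,
    Category.comp_id, Category.comp_id, _root_.one_pow, ← MonObj.pow_comp, hx, MonObj.one_comp]

/-- Base change preserves the absence of subtori. -/
theorem hasNoSubtorus_bc {U : Over (Spec (CommRingCat.of k))} [GrpObj U] [Smooth U.hom] [ConnectedSpace U.left]
    [IsAffine U.left] (hU : Red.HasNoSubtorus k U) : Red.HasNoSubtorus F (Red.bc (fieldMap k F) U) := by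
  obtain ⟨l, hlp, hl⟩ := exists_prime_ne_zero k
  haveI := UnipPow.isIso_pow hU hl
  have h1 : (Over.pullback (fieldMap k F)).map ((𝟙 U : U ⟶ U) ^ l) = (𝟙 (Red.bc (fieldMap k F) U)) ^ l := by
    rw [show (𝟙 (Red.bc (fieldMap k F) U)) = (Over.pullback (fieldMap k F)).map (𝟙 U) from
      (CategoryTheory.Functor.map_id _ _).symm]
    exact map_pow (Over.pullback (fieldMap k F)).homMonoidHom (𝟙 U) l
  haveI : IsIso ((𝟙 (Red.bc (fieldMap k F) U)) ^ l) := h1 ▸ inferInstance
  refine hasNoSubtorus_of_isIso_pow F ?_ hlp.one_lt (l := l)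
  rw [← map_natCast (algebraMap k F)]
  exact (map_ne_zero _).2 hl

/-- A subgroup without subtori over a larger algebraically closed field gives one over the smaller field. -/
theorem exists_unipotent_special_field (G : Over (Spec (CommRingCat.of k))) [GrpObj G] [LocallyOfFiniteType G.hom]
    [QuasiCompact G.hom] [QuasiSeparated G.hom]
    (H : Over (Spec (CommRingCat.of F))) [GrpObj H] [Smooth H.hom] [ConnectedSpace H.left] [IsAffine H.left]
    (i : H ⟶ Red.bc (fieldMap k F) G) [IsMonHom i] [IsClosedImmersion i.left] (hH : Red.HasNoSubtorus F H) :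
    ∃ (H' : Over (Spec (CommRingCat.of k))) (_ : GrpObj H') (i' : H' ⟶ G),
      IsMonHom i' ∧ IsClosedImmersion i'.left ∧ Smooth H'.hom ∧ ConnectedSpace H'.left ∧ IsAffine H'.left ∧
        topologicalKrullDim ↥H'.left = topologicalKrullDim ↥H.left ∧ Red.HasNoSubtorus k H' ∧
        (∀ n, (∀ X, derivedSeries (X ⟶ H) n = ⊥) → ∀ X, derivedSeries (X ⟶ H') n = ⊥) := by
  obtain ⟨V, φV, j, hj, hjf, hsurj⟩ := PlaceExt.exists_valuationSubring (algebraMap k F) (RingHom.id k)
    (by rw [(RingHom.injective_iff_ker_eq_bot _).1 (algebraMap k F).injective]; exact bot_le)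
    fun y => ⟨Polynomial.X - Polynomial.C y, Polynomial.X_sub_C_ne_zero y,
      fun n => Subfield.subset_closure ⟨_, rfl⟩, by simp⟩
  let φ : Spec (CommRingCat.of V) ⟶ Spec (CommRingCat.of k) := Spec.map (CommRingCat.ofHom j)
  let π : Spec (CommRingCat.of k) ⟶ Spec (CommRingCat.of V) := Spec.map (CommRingCat.ofHom φV)
  haveI : IsClosedImmersion π := IsClosedImmersion.spec_of_surjective _ hsurj
  have hgen : genPt V F ≫ φ = fieldMap k F := by
    rw [← Spec.map_comp, ← CommRingCat.ofHom_comp]
    congr 2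
    exact RingHom.ext hj
  have hsp : π ≫ φ = 𝟙 _ := by
    rw [← Spec.map_comp, ← CommRingCat.ofHom_comp, ← Spec.map_id]
    congr 1
    ext a
    exact hjf a
  let e : Red.bc (genPt V F) (Red.bc φ G) ≅ Red.bc (fieldMap k F) G := (SGA3cLib.GrpBC.bcCongr φ _ _ hgen).app G
  let e' : Red.bc π (Red.bc φ G) ≅ Red.bc (𝟙 _) G := (SGA3cLib.GrpBC.bcCongr φ π _ hsp).app G
  haveI : IsMonHom e.inv := (SGA3cLib.GrpBC.isMonHom_app (SGA3cLib.GrpBC.bcCongr φ _ _ hgen) G).2
  haveI : IsMonHom e'.hom := (SGA3cLib.GrpBC.isMonHom_app (SGA3cLib.GrpBC.bcCongr φ π _ hsp) G).1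
  let p : Red.bc (𝟙 (Spec (CommRingCat.of k))) G ≅ G := Over.pullbackId.app G
  haveI : IsMonHom p.hom := by
    let α : Over.pullback (𝟙 (Spec (CommRingCat.of k))) ≅ 𝟭 _ := Over.pullbackId
    exact
      { one_hom := by
          show (Functor.LaxMonoidal.ε (Over.pullback _) ≫ (Over.pullback _).map η[G]) ≫ α.hom.app G = η[G]
          rw [Category.assoc, α.hom.naturality, ← Category.assoc, NatTrans.IsMonoidal.unit]
          simp
        mul_hom := by
          show (Functor.LaxMonoidal.μ (Over.pullback _) G G ≫ (Over.pullback _).map μ[G]) ≫ α.hom.app G =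
            (α.hom.app G ⊗ₘ α.hom.app G) ≫ μ[G]
          rw [Category.assoc, α.hom.naturality, ← Category.assoc, NatTrans.IsMonoidal.tensor]
          simp }
  haveI : LocallyOfFiniteType (Red.bc φ G).hom := MorphismProperty.pullback_snd _ _ ‹LocallyOfFiniteType G.hom›
  haveI : QuasiCompact (Red.bc φ G).hom := MorphismProperty.pullback_snd _ _ ‹QuasiCompact G.hom›
  haveI : QuasiSeparated (Red.bc φ G).hom := MorphismProperty.pullback_snd _ _ ‹QuasiSeparated G.hom›
  haveI : IsClosedImmersion (i ≫ e.inv).left := by rw [Over.comp_left]; infer_instance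
  obtain ⟨H', _, i', hi', hc', hs, hcon, haff, hd, hnt, hder⟩ :=
    exists_unipotent_special F π (Red.bc φ G) H (i ≫ e.inv) hH
  haveI := hi'; haveI := hc'
  exact ⟨H', inferInstance, (i' ≫ e'.hom) ≫ p.hom, inferInstance,
    by rw [Over.comp_left, Over.comp_left]; infer_instance, hs, hcon, haff, hd, hnt, hder⟩

end Groth.Agent.AlgGrpLib.SpecializeVal
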