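import Groth.Agent.AlgGrpLib.PlaceExt
import Groth.Agent.AlgGrpLib.ValClosure
import Groth.Agent.AlgGrpLib.AbelianComplement
import Groth.Agent.AlgGrpLib.ComponentQuot
import Groth.Agent.AlgGrpLib.SpecializeSubgroup
import Groth.Agent.AlgGrpLib.OpenOrbit
import Groth.Agent.S18082

/-!
# Specialisation of subgroups of geometric fibres along valuation rings
-/

set_option autoImplicit false
set_option linter.style.haveILetI false
set_option backward.isDefEq.respectTransparency.types false

universe u

open CategoryTheory CategoryTheory.Limits MonoidalCategory CartesianMonoidalCategory MonObj GrpObj AlgebraicGeometry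

noncomputable section

namespace Groth.Agent.AlgGrpLib.SpecializeVal

open Groth.Agent.AlgGrpLib.ValClosure (genPt)

/-- A specialisation is realised by a valuation ring with algebraically closed fraction and residue fields. -/
theorem exists_place {S : Scheme.{u}} {s s' : S} (h : s ⤳ s') :
    ∃ (V : Type u) (_ : CommRing V) (_ : IsDomain V) (_ : ValuationRing V)
      (_ : Algebra V (AlgebraicClosure (S.residueField s))) (_ : IsFractionRing V (AlgebraicClosure (S.residueField s)))
      (φ : Spec (CommRingCat.of V) ⟶ S)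
      (π : Spec (CommRingCat.of (AlgebraicClosure (S.residueField s'))) ⟶ Spec (CommRingCat.of V)),
      IsClosedImmersion π ∧ genPt V (AlgebraicClosure (S.residueField s)) ≫ φ = Red.geomPt s ∧
        π ≫ φ = Red.geomPt s' := by
  obtain ⟨_, ⟨(U : S.Opens), hU, rfl⟩, hs', -⟩ :=
    S.isBasis_affineOpens.exists_subset_of_mem_open (Set.mem_univ s') isOpen_univ
  have hs : s ∈ U := h.mem_open U.isOpen hs'
  let K := AlgebraicClosure (S.residueField s)
  let k' := AlgebraicClosure (S.residueField s')
  let ev : ∀ (t : S) (ht : t ∈ U), Γ(S, U) →+* S.residueField t := fun t ht =>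
    (S.presheaf.germ U t ht ≫ S.residue t).hom
  have hzero : ∀ (t : S) (ht : t ∈ U) (a : Γ(S, U)), ev t ht a = 0 ↔ t ∉ S.basicOpen a := fun t ht a => by
    rw [Scheme.mem_basicOpen _ _ _ ht]
    exact (IsLocalRing.residue_eq_zero_iff _).trans (IsLocalRing.mem_maximalIdeal _)
  let g : Γ(S, U) →+* K := (algebraMap (S.residueField s) K).comp (ev s hs)
  let f : Γ(S, U) →+* k' := (algebraMap (S.residueField s') k').comp (ev s' hs')
  have hker : RingHom.ker g ≤ RingHom.ker f := fun a ha => by
    simp only [RingHom.mem_ker, g, f, RingHom.comp_apply, map_eq_zero] at ha ⊢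
    rw [hzero] at ha ⊢
    exact fun h' => ha (h.mem_open (S.basicOpen a).isOpen h')
  have hcl : ∀ x : S.residueField s', algebraMap (S.residueField s') k' x ∈ Subfield.closure (Set.range f) := by
    intro x
    obtain ⟨z, rfl⟩ := S.residue_surjective s' x
    letI := S.presheaf.algebra_section_stalk (⟨s', hs'⟩ : U)
    haveI := hU.isLocalization_stalk ⟨s', hs'⟩
    obtain ⟨⟨a, t⟩, hz⟩ := IsLocalization.surj (hU.primeIdealOf ⟨s', hs'⟩).asIdeal.primeCompl z
    have e : algebraMap (S.residueField s') k' (S.residue s' z) * f t = f a := by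
      simp only [f, ev, RingHom.comp_apply, ← map_mul]
      congr 1
      exact ((map_mul (S.residue s').hom z _).symm.trans (congrArg (S.residue s').hom hz))
    have hu : IsUnit (f t) := by
      have := ((IsLocalization.map_units (S.presheaf.stalk s') t).map (S.residue s').hom).map (algebraMap (S.residueField s') k')
      exact this
    rw [eq_div_of_mul_eq hu.ne_zero e]
    exact div_mem (Subfield.subset_closure ⟨a, rfl⟩) (Subfield.subset_closure ⟨t, rfl⟩)
  obtain ⟨V, φV, j, hj, hjf, hsurj⟩ := PlaceExt.exists_valuationSubring g f hker fun y => by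
    obtain ⟨p, hp, hpy⟩ := (AlgebraicClosure.isAlgebraic (S.residueField s')).isAlgebraic y
    refine ⟨p.map (algebraMap (S.residueField s') k'), (Polynomial.map_ne_zero_iff (algebraMap (S.residueField s') k').injective).2 hp,
      fun n => ?_, by rw [Polynomial.eval_map]; exact hpy⟩
    rw [Polynomial.coeff_map]
    exact hcl _
  let φ : Spec (CommRingCat.of V) ⟶ S := Spec.map (CommRingCat.ofHom j) ≫ hU.fromSpec
  let π : Spec (CommRingCat.of k') ⟶ Spec (CommRingCat.of V) := Spec.map (CommRingCat.ofHom φV)
  have hpt : ∀ (t : S) (ht : t ∈ U) (L : Type u) [Field L] [Algebra (S.residueField t) L]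
      (q : Γ(S, U) →+* L), q = (algebraMap (S.residueField t) L).comp (ev t ht) →
      Spec.map (CommRingCat.ofHom q) ≫ hU.fromSpec =
        Spec.map (CommRingCat.ofHom (algebraMap (S.residueField t) L)) ≫ S.fromSpecResidueField t := by
    rintro t ht L _ _ q rfl
    rw [Scheme.fromSpecResidueField, ← hU.fromSpecStalk_eq_fromSpecStalk ht, IsAffineOpen.fromSpecStalk,
      ← Spec.map_comp_assoc, ← Spec.map_comp_assoc]
    rfl
  refine ⟨V, inferInstance, inferInstance, inferInstance, inferInstance, inferInstance, φ, π,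
    IsClosedImmersion.spec_of_surjective _ hsurj, ?_, ?_⟩
  · show Spec.map _ ≫ Spec.map _ ≫ hU.fromSpec = _
    rw [← Spec.map_comp_assoc, ← CommRingCat.ofHom_comp]
    exact hpt s hs _ _ (RingHom.ext hj)
  · show Spec.map _ ≫ Spec.map _ ≫ hU.fromSpec = _
    rw [← Spec.map_comp_assoc, ← CommRingCat.ofHom_comp]
    exact hpt s' hs' _ _ (RingHom.ext hjf)

section Val

variable {V : Type u} [CommRing V] [IsDomain V] [ValuationRing V] (K : Type u) [Field K] [Algebra V K]
  [IsFractionRing V K] {k' : Type u} [Field k'] (π : Spec (CommRingCat.of k') ⟶ Spec (CommRingCat.of V))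

/-- An identity holding on the generic fibre of a flat scheme holds on any reduced irreducible family in the special
fibre through a point where it holds. -/
theorem eq_one_of_generic {C W : Over (Spec (CommRingCat.of V))} [GrpObj C] [Flat W.hom] [QuasiSeparated C.hom]
    [LocallyOfFiniteType C.hom] (f : W ⟶ C) (hgen : (Over.pullback (genPt V K)).map f = 1)
    {Z : Over (Spec (CommRingCat.of k'))} [IsReduced Z.left] [IrreducibleSpace Z.left] (z : Z ⟶ Red.bc π W)
    (x : 𝟙_ (Over (Spec (CommRingCat.of k'))) ⟶ Z) (hx : x ≫ z ≫ (Over.pullback π).map f = 1) :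
    z ≫ (Over.pullback π).map f = 1 := by
  let e : Spec (CommRingCat.of V) ⟶ C.left := η[C].left
  have he : e ≫ C.hom = 𝟙 _ := Over.w η[C]
  haveI : IsImmersion e := by
    haveI : IsImmersion (e ≫ C.hom) := by rw [he]; infer_instance
    exact IsImmersion.of_comp e C.hom
  haveI : QuasiCompact e := by
    haveI : QuasiCompact (e ≫ C.hom) := by rw [he]; infer_instance
    exact QuasiCompact.of_comp e C.hom
  let j : pullback f.left e ⟶ W.left := pullback.fst _ _
  haveI : IsImmersion j := MorphismProperty.pullback_fst _ _ inferInstance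
  haveI : QuasiCompact j := MorphismProperty.pullback_fst _ _ inferInstance
  haveI : IsSchemeTheoreticallyDominant (pullback.fst W.hom (genPt V K)) := by
    haveI := ValClosure.dominant_genPt (R := V) (K := K)
    exact IsSchemeTheoreticallyDominant.pullbackFst W.hom (genPt V K)
  have hfac : pullback.fst W.hom (genPt V K) ≫ f.left = (pullback.fst W.hom (genPt V K) ≫ W.hom) ≫ e := by
    have h1 : (Over.pullback (genPt V K)).map (1 : W ⟶ C) = 1 := Functor.map_one _
    have := congrArg (fun q : Red.bc (genPt V K) W ⟶ Red.bc (genPt V K) C => q.left ≫ pullback.fst C.hom (genPt V K))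
      (hgen.trans h1.symm)
    simp only [Over.pullback, Over.homMk_left, pullback.lift_fst] at this
    rw [this, Hom.one_def, Over.comp_left, Over.toUnit_left, Category.assoc]
  have hker : j.ker = ⊥ := by
    refine le_bot_iff.1 ?_
    rw [← (pullback.fst W.hom (genPt V K)).ker_eq_bot, ← pullback.lift_fst _ _ hfac]
    exact Scheme.Hom.le_ker_comp _ j
  haveI : IsIso j.imageι := by
    haveI : IsClosedImmersion j.imageι := inferInstanceAs (IsClosedImmersion j.ker.subschemeι)
    exact IsClosedImmersion.isIso_of_ker_eq j.imageι (𝟙 _) j.imageι (Category.comp_id _) (by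
      rw [Scheme.Hom.imageι, Scheme.IdealSheafData.ker_subschemeι, hker, Scheme.Hom.ker_eq_bot_of_isIso])
  haveI : IsOpenImmersion j := by rw [← j.toImage_imageι]; infer_instance
  have h1 : (Over.pullback π).map (1 : W ⟶ C) = (1 : Red.bc π W ⟶ Red.bc π C) := Functor.map_one _
  let q : Z.left ⟶ W.left := z.left ≫ pullback.fst W.hom π
  let O : Z.left.Opens := q ⁻¹ᵁ j.opensRange
  have hxO : x.left.base (IsLocalRing.closedPoint k') ∈ O := by
    show q (x.left.base _) ∈ Set.range j
    have hx' : (x.left ≫ q) ≫ f.left = ((x.left ≫ q) ≫ W.hom) ≫ e := by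
      have := congrArg (fun r : 𝟙_ (Over (Spec (CommRingCat.of k'))) ⟶ Red.bc π C => r.left ≫ pullback.fst C.hom π)
        (hx.trans (MonObj.comp_one (f := x ≫ z) (M := Red.bc π C)).symm)
      rw [← h1, Category.assoc] at this
      simp only [Over.comp_left, Over.pullback, Over.homMk_left, Category.assoc, pullback.lift_fst, Hom.one_def,
        Over.toUnit_left] at this
      simp only [q, Category.assoc]
      exact this
    refine ⟨(pullback.lift (x.left ≫ q) _ hx') (IsLocalRing.closedPoint k'), ?_⟩
    rw [← Scheme.Hom.comp_apply, pullback.lift_fst]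
    rfl
  haveI : Nonempty O := ⟨⟨_, hxO⟩⟩
  haveI : IsDominant O.ι := ⟨by
    rw [DenseRange, Scheme.Opens.range_ι]
    exact O.isOpen.dense ⟨_, hxO⟩⟩
  haveI : LocallyOfFiniteType (Red.bc π C).hom := MorphismProperty.pullback_snd _ _ ‹LocallyOfFiniteType C.hom›
  haveI : IsSeparated (Red.bc π C).hom := SGA3xLib.isSeparated_of_grpObj _
  haveI : (Red.bc π C).left.IsSeparated := ⟨by
    rw [← terminal.comp_from (Red.bc π C).hom]
    infer_instance⟩
  ext1
  refine ext_of_isDominant O.ι ?_
  rw [← MonObj.comp_one (f := z) (M := Red.bc π C), ← h1]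
  have hO : Set.range (O.ι ≫ q) ⊆ Set.range j := by
    rintro _ ⟨o, rfl⟩
    exact o.2
  have key : (O.ι ≫ q) ≫ f.left = ((O.ι ≫ q) ≫ W.hom) ≫ e := by
    rw [← IsOpenImmersion.lift_fac j (O.ι ≫ q) hO]
    simp only [Category.assoc, j]
    rw [← Over.w f]
    simp only [Category.assoc, pullback.condition_assoc, reassoc_of% he]
    rw [pullback.condition]
  apply pullback.hom_ext
  · simp only [Over.comp_left, Over.pullback, Over.homMk_left, Category.assoc, pullback.lift_fst, Hom.one_def,
      Over.toUnit_left]
    simpa only [q, Category.assoc] using key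
  · simp only [Category.assoc]
    exact congrArg (O.ι ≫ ·) ((Over.w (z ≫ (Over.pullback π).map f)).trans
      (Over.w (z ≫ (Over.pullback π).map (1 : W ⟶ C))).symm)

/-- The special fibre of the closure of a subgroup is at least as large. -/
theorem exists_smooth_special (G : Over (Spec (CommRingCat.of V))) [GrpObj G] [LocallyOfFiniteType G.hom]
    [QuasiCompact G.hom] [QuasiSeparated G.hom] [PerfectField k'] [IsPreimmersion π]
    (H : Over (Spec (CommRingCat.of K))) [GrpObj H] (i : H ⟶ Red.bc (genPt V K) G) [IsMonHom i]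
    [IsClosedImmersion i.left] :
    ∃ (C : Over (Spec (CommRingCat.of V))) (_ : GrpObj C) (c : C ⟶ G), IsMonHom c ∧ IsClosedImmersion c.left ∧
      Flat C.hom ∧ LocallyOfFiniteType C.hom ∧ QuasiSeparated C.hom ∧
      (∃ f : Red.bc (genPt V K) C ⟶ H, IsMonHom f ∧ Mono f) ∧
      ∃ (H' : Over (Spec (CommRingCat.of k'))) (_ : GrpObj H') (r : H' ⟶ Red.bc π C), IsMonHom r ∧
        IsClosedImmersion r.left ∧ Smooth H'.hom ∧ ConnectedSpace H'.left ∧
        topologicalKrullDim ↥H.left ≤ topologicalKrullDim ↥H'.left := by
  obtain ⟨gC, hc⟩ := ValClosure.exists_grpObj_closure i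
  obtain ⟨φ, hφ⟩ := ValClosure.exists_iso_bc_closure i
  let C := ValClosure.closure i
  let c : C ⟶ G := ValClosure.closureι i
  haveI hcl : IsClosedImmersion c.left := ValClosure.isClosedImmersion_closureι i
  haveI : IsMonHom c := hc
  haveI : Flat C.hom := ValClosure.flat_closure i
  haveI : LocallyOfFiniteType C.hom := by rw [← Over.w c]; infer_instance
  haveI : QuasiCompact C.hom := by rw [← Over.w c]; infer_instance
  haveI : QuasiSeparated C.hom := by rw [← Over.w c]; infer_instance
  haveI : IsMonHom φ.inv := by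
    haveI : IsMonHom ((Over.pullback (genPt V K)).map c : Red.bc (genPt V K) C ⟶ Red.bc (genPt V K) G) :=
      Functor.map.instIsMonHom _ _ c
    haveI : IsMonHom (φ.inv ≫ i) := by
      rw [show φ.inv ≫ i = (Over.pullback (genPt V K)).map c from ((Iso.eq_inv_comp φ).2 hφ).symm]
      infer_instance
    haveI : Mono i := Over.mono_of_mono_left _
    exact { one_hom := by rw [← cancel_mono i, Category.assoc, IsMonHom.one_hom (f := φ.inv ≫ i), IsMonHom.one_hom (f := i)]
            mul_hom := by
              rw [← cancel_mono i, Category.assoc, IsMonHom.mul_hom (f := φ.inv ≫ i), Category.assoc,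
                IsMonHom.mul_hom (f := i), MonoidalCategory.tensorHom_comp_tensorHom_assoc] }
  refine ⟨C, inferInstance, c, inferInstance, hcl, inferInstance, inferInstance, inferInstance,
    ⟨φ.inv, inferInstance, inferInstance⟩, ?_⟩
  haveI : LocallyOfFiniteType (Red.bc π C).hom := MorphismProperty.pullback_snd _ _ ‹LocallyOfFiniteType C.hom›
  haveI : QuasiCompact (Red.bc π C).hom := MorphismProperty.pullback_snd _ _ ‹QuasiCompact C.hom›
  obtain ⟨R, _, r, hr, hrc, hRs, hrsurj, -⟩ := AbelianComplement.exists_smooth_reduction (Red.bc π C)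
  haveI := hr
  haveI := hrc
  haveI := hRs
  haveI : QuasiCompact R.hom := by rw [← Over.w r]; infer_instance
  obtain ⟨Z, _, u, Q, _, q, hu, hq, hZ, hk, -, -, hQa, hQf, hQe⟩ := ComponentQuot.exists_componentGroup R
  haveI := hu
  haveI := hQe
  haveI := hQf
  haveI : Mono η[Q].left := by
    have : Mono (η[Q].left ≫ Q.hom) := by
      rw [Over.w η[Q]]
      exact inferInstanceAs (Mono (𝟙 (Spec (CommRingCat.of k'))))
    exact mono_of_mono η[Q].left Q.hom
  haveI : Etale η[Q].left := by
    have : Etale (η[Q].left ≫ Q.hom) := by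
      rw [Over.w η[Q]]
      exact inferInstanceAs (Etale (𝟙 (Spec (CommRingCat.of k'))))
    exact Etale.of_comp η[Q].left Q.hom
  haveI : IsOpenImmersion η[Q].left := IsOpenImmersion.of_flat_of_mono η[Q].left
  haveI : IsClosedImmersion η[Q].left := isClosedImmersion_of_comp_eq_id Q.hom η[Q].left (Over.w η[Q])
  haveI : IsOpenImmersion u.left := MorphismProperty.of_isPullback (P := @IsOpenImmersion) (hk.map (Over.forget _)).flip ‹_›
  haveI : IsClosedImmersion u.left :=
    MorphismProperty.of_isPullback (P := @IsClosedImmersion) (hk.map (Over.forget _)).flip ‹_›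
  haveI : Smooth Z.hom := by rw [← Over.w u]; infer_instance
  refine ⟨Z, inferInstance, u ≫ r, inferInstance, by rw [Over.comp_left]; infer_instance, inferInstance, hZ, ?_⟩
  have hK : topologicalKrullDim ↥H.left =
      topologicalKrullDim ↥(C.hom.base ⁻¹' {(genPt V K).base (IsLocalRing.closedPoint K)}) := by
    haveI : IsPreimmersion (genPt V K) := IsPreimmersion.of_isLocalization (nonZeroDivisors V)
    rw [← SpecializeSubgroup.dim_bc_point (genPt V K) C _ rfl]
    exact ((Over.forget _).mapIso φ).hom.homeomorph.isHomeomorph.topologicalKrullDim_eq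
  have hs : topologicalKrullDim ↥(Red.bc π C).left =
      topologicalKrullDim ↥(C.hom.base ⁻¹' {π.base (IsLocalRing.closedPoint k')}) :=
    SpecializeSubgroup.dim_bc_point π C _ rfl
  have hle : topologicalKrullDim ↥H.left ≤ topologicalKrullDim ↥(Red.bc π C).left := by
    rw [hs]
    refine not_lt.1 fun hlt => ?_
    have hopen := (upperSemicontinuous_iff_isOpen_preimage.1 (SGA3cLib.NeutralDim.upperSemicontinuous_dim C))
      (topologicalKrullDim ↥H.left)
    have hsp : (genPt V K).base (IsLocalRing.closedPoint K) ⤳ π.base (IsLocalRing.closedPoint k') := by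
      refine (PrimeSpectrum.le_iff_specializes _ _).1 ?_
      show Ideal.comap (algebraMap V K) (IsLocalRing.maximalIdeal K) ≤ _
      rw [IsLocalRing.maximalIdeal_eq_bot, ← RingHom.ker_eq_comap_bot,
        (RingHom.injective_iff_ker_eq_bot _).1 (IsFractionRing.injective V K)]
      exact bot_le
    have : topologicalKrullDim ↥(C.hom.base ⁻¹' {(genPt V K).base (IsLocalRing.closedPoint K)}) <
        topologicalKrullDim ↥H.left := hsp.mem_open hopen hlt
    rw [← hK] at this
    exact lt_irrefl _ this
  refine hle.trans ?_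
  haveI : Surjective r.left := hrsurj
  have h1 : topologicalKrullDim ↥(Red.bc π C).left = topologicalKrullDim ↥R.left :=
    (((r.left.isClosedEmbedding.isEmbedding).toHomeomorphOfSurjective r.left.surjective).isHomeomorph.topologicalKrullDim_eq).symm
  rw [h1, ← AlgGrpLib.localDim_eq_topologicalKrullDim R (u.left.base (Classical.arbitrary _))]
  refine (iInf_le _ ⟨u.left.opensRange, ⟨_, rfl⟩⟩).trans ?_
  exact (u.left.isOpenEmbedding.isEmbedding.toHomeomorph.isHomeomorph.topologicalKrullDim_eq).ge

end Val

end Groth.Agent.AlgGrpLib.SpecializeVal
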