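import Groth.Prelude.Def_AlgGrp
import Groth.Agent.AlgGrpLib.ExactSeqBasics
import Groth.Agent.WittPts.AffineDescent

/-!
One-cocycles on spectra of fields with values in groups built from the additive and the multiplicative
group become coboundaries after refining the field.
-/

set_option autoImplicit false
set_option backward.isDefEq.respectTransparency.types false

universe u

open CategoryTheory CategoryTheory.Limits MonoidalCategory CartesianMonoidalCategory MonObj GrpObj AlgebraicGeometry TensorProduct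

namespace Groth.Agent.AlgGrpLib.SplitCocycle

/-- Multiplicative Amitsur one-cocycles of a field extension are coboundaries. -/
theorem exists_mul_eq {X Y P T : Scheme.{u}} [IsAffine X] [IsAffine Y] (hX : IsField Γ(X, ⊤)) (hY : IsField Γ(Y, ⊤))
    {π : X ⟶ Y} {p₁ p₂ : P ⟶ X} (hP : IsPullback p₁ p₂ π π) {t₁ : T ⟶ X} {t₂₃ : T ⟶ P}
    (hT : IsPullback t₁ t₂₃ π (p₁ ≫ π))
    (t₁₂ t₁₃ : T ⟶ P) (h₁₂ : t₁₂ ≫ p₁ = t₁) (h₁₂' : t₁₂ ≫ p₂ = t₂₃ ≫ p₁) (h₁₃ : t₁₃ ≫ p₁ = t₁)
    (h₁₃' : t₁₃ ≫ p₂ = t₂₃ ≫ p₂) (δ : Γ(P, ⊤)) (hu : IsUnit δ)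
    (hδ : t₂₃.appTop δ * t₁₂.appTop δ = t₁₃.appTop δ) :
    ∃ z : Γ(X, ⊤), IsUnit z ∧ δ * p₁.appTop z = p₂.appTop z := by
  classical
  haveI : IsAffine P := .of_isPullback hP
  letI := π.appTop.hom.toAlgebra
  letI := hY.toField
  obtain ⟨Φ, hΦ, hΦa⟩ := WittPts.exists_tensor_hom hP rfl rfl
  letI := (p₁ ≫ π).appTop.hom.toAlgebra
  obtain ⟨Ψ, hΨ, hΨa⟩ := WittPts.exists_tensor_hom hT rfl rfl
  let Φl : Γ(X, ⊤) ⊗[Γ(Y, ⊤)] Γ(X, ⊤) ≃ₐ[Γ(Y, ⊤)] Γ(P, ⊤) := AlgEquiv.ofBijective
    { Φ with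
      commutes' := fun r => by
        show Φ (algebraMap Γ(Y, ⊤) Γ(X, ⊤) r ⊗ₜ 1) = _
        rw [hΦa, map_one, _root_.mul_one]
        rfl } hΦ
  let A := Γ(X, ⊤)
  let R := Γ(Y, ⊤)
  let Θ : A ⊗[R] (A ⊗[R] A) →+* Γ(T, ⊤) :=
    Ψ.comp (Algebra.TensorProduct.map (AlgHom.id R A) Φl.toAlgHom).toRingHom
  have hΘe : ∀ w, Θ w = Ψ (Φl.toLinearMap.lTensor A w) := fun w => by
    induction w using TensorProduct.induction_on with
    | zero => simp only [map_zero]
    | tmul a v => rfl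
    | add v w hv hw => simp only [map_add, hv, hw]
  have hΘ : Function.Injective Θ := fun v w h =>
    (Φl.toLinearEquiv.lTensor A).injective (hΨ.1 (by rwa [hΘe, hΘe] at h))
  have hΘa : ∀ a w, Θ (a ⊗ₜ w) = t₁.appTop a * t₂₃.appTop (Φ w) := fun a w => hΨa a (Φ w)
  obtain ⟨x, hx⟩ := hΦ.2 δ
  let L₁ : A ⊗[R] A →ₗ[R] A ⊗[R] (A ⊗[R] A) :=
    (Algebra.TensorProduct.includeLeft : A →ₐ[R] A ⊗[R] A).toLinearMap.lTensor A
  let L₂ : A ⊗[R] A →ₗ[R] A ⊗[R] (A ⊗[R] A) :=
    (Algebra.TensorProduct.includeRight : A →ₐ[R] A ⊗[R] A).toLinearMap.lTensor A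
  have k₁ : ∀ w, Θ (L₁ w) = t₁₂.appTop (Φ w) := fun w => by
    induction w using TensorProduct.induction_on with
    | zero => simp only [map_zero]
    | tmul a b =>
      show Θ (a ⊗ₜ (b ⊗ₜ[R] (1 : A))) = _
      rw [hΘa, hΦa, hΦa, map_one, _root_.mul_one, map_mul]
      simp only [← CommRingCat.comp_apply, ← Scheme.Hom.comp_appTop, h₁₂, h₁₂']
    | add v w hv hw => simp only [map_add, hv, hw]
  have k₂ : ∀ w, Θ (L₂ w) = t₁₃.appTop (Φ w) := fun w => by
    induction w using TensorProduct.induction_on with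
    | zero => simp only [map_zero]
    | tmul a b =>
      show Θ (a ⊗ₜ ((1 : A) ⊗ₜ[R] b)) = _
      rw [hΘa, hΦa, hΦa, map_one, _root_.one_mul, map_mul]
      simp only [← CommRingCat.comp_apply, ← Scheme.Hom.comp_appTop, h₁₃, h₁₃']
    | add v w hv hw => simp only [map_add, hv, hw]
  have key : L₁ x * ((1 : A) ⊗ₜ[R] x) = L₂ x := hΘ (by
    rw [map_mul, k₁, k₂, hΘa, map_one, _root_.one_mul, hx, _root_.mul_comm, hδ])
  let bas := Module.Free.chooseBasis R A
  let vv : (A →ₗ[R] R) → (A ⊗[R] A →ₗ[R] A) := fun l => (TensorProduct.rid R A).toLinearMap ∘ₗ l.lTensor A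
  have e₂ : ∀ (l : A →ₗ[R] R) (w : A ⊗[R] A), (vv l).lTensor A (L₂ w) = vv l w ⊗ₜ[R] (1 : A) := fun l w => by
    induction w using TensorProduct.induction_on with
    | zero => simp
    | tmul a b =>
      show a ⊗ₜ[R] (l b • (1 : A)) = (l b • a) ⊗ₜ[R] (1 : A)
      rw [TensorProduct.smul_tmul]
    | add v w hv hw => simp only [map_add, hv, hw, TensorProduct.add_tmul]
  have e₁ : ∀ (l : A →ₗ[R] R) (v w : A ⊗[R] A),
      (vv l).lTensor A (L₁ v * ((1 : A) ⊗ₜ[R] w)) = v * ((1 : A) ⊗ₜ[R] vv l w) := fun l v w => by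
    induction v using TensorProduct.induction_on with
    | zero => simp
    | tmul a b =>
      induction w using TensorProduct.induction_on with
      | zero => simp
      | tmul c d =>
        show (vv l).lTensor A ((a ⊗ₜ (b ⊗ₜ[R] (1 : A))) * ((1 : A) ⊗ₜ[R] (c ⊗ₜ[R] d))) = _
        rw [Algebra.TensorProduct.tmul_mul_tmul, Algebra.TensorProduct.tmul_mul_tmul]
        show (a * 1) ⊗ₜ[R] (l (1 * d) • (b * c)) = (a ⊗ₜ[R] b) * ((1 : A) ⊗ₜ[R] (l d • c))
        rw [Algebra.TensorProduct.tmul_mul_tmul, _root_.one_mul, mul_smul_comm]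
      | add v w hv hw => simp only [TensorProduct.tmul_add, mul_add, map_add, hv, hw]
    | add v w hv hw => simp only [add_mul, map_add, hv, hw]
  by_cases hz : ∀ i, vv (bas.coord i) x = 0
  · have hx0 : x = 0 := by
      apply (TensorProduct.equivFinsuppOfBasisRight bas).injective
      ext i
      rw [map_zero, Finsupp.zero_apply]
      exact (TensorProduct.equivFinsuppOfBasisRight_apply bas x i).trans (hz i)
    rw [hx0, map_zero] at hx
    subst hx
    haveI : Subsingleton Γ(P, ⊤) := subsingleton_of_zero_eq_one (isUnit_zero_iff.1 hu)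
    exact ⟨1, isUnit_one, Subsingleton.elim _ _⟩
  push Not at hz
  obtain ⟨i, hi⟩ := hz
  obtain ⟨z, hvz⟩ := hX.mul_inv_cancel hi
  refine ⟨z, .of_mul_eq_one _ ((_root_.mul_comm _ _).trans hvz), ?_⟩
  have h := congrArg Φ (((e₁ (bas.coord i) x x).symm.trans (congrArg _ key)).trans (e₂ _ x))
  rw [map_mul, hΦa, hΦa, hx, map_one, map_one, _root_.mul_one, _root_.one_mul] at h
  calc δ * p₁.appTop z = δ * p₁.appTop z * (p₂.appTop (vv (bas.coord i) x) * p₂.appTop z) := by
        rw [← map_mul, hvz, map_one, _root_.mul_one]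
    _ = δ * p₂.appTop (vv (bas.coord i) x) * p₁.appTop z * p₂.appTop z := by ring
    _ = p₁.appTop (vv (bas.coord i) x) * p₁.appTop z * p₂.appTop z := by rw [h]
    _ = p₂.appTop z := by rw [← map_mul, hvz, map_one, _root_.one_mul]

variable {k : Type u} [Field k]

/-- Spectra of fields. -/
def FieldPt (T : Over (Spec (CommRingCat.of k))) : Prop := IsAffine T.left ∧ IsField Γ(T.left, ⊤)

theorem fieldPt_of_point (X : Over (Spec (CommRingCat.of k))) (w : X.left) :
    FieldPt (Over.mk (X.left.fromSpecResidueField w ≫ X.hom)) :=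
  ⟨inferInstanceAs (IsAffine (Spec (X.left.residueField w))),
    MulEquiv.isField (Field.toIsField (X.left.residueField w))
      (Scheme.ΓSpecIso (X.left.residueField w)).commRingCatIsoToRingEquiv.toMulEquiv⟩

/-- One-cocycles over fields with values in `G` become coboundaries after refining. -/
def Triv (G : Over (Spec (CommRingCat.of k))) [GrpObj G] : Prop :=
  ∀ (Z T : Over (Spec (CommRingCat.of k))) (g : T ⟶ Z), FieldPt Z → FieldPt T → ∀ δ : pullback g g ⟶ G,
    (∀ (W : Over (Spec (CommRingCat.of k))) (a b c : W ⟶ T) (h₁ : a ≫ g = b ≫ g) (h₂ : b ≫ g = c ≫ g),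
      (pullback.lift b c h₂ ≫ δ) * (pullback.lift a b h₁ ≫ δ) = pullback.lift a c (h₁.trans h₂) ≫ δ) →
    ∃ (T' : Over (Spec (CommRingCat.of k))) (h : T' ⟶ T) (z : T' ⟶ G), FieldPt T' ∧
      ∀ (W : Over (Spec (CommRingCat.of k))) (a b : W ⟶ T') (e : (a ≫ h) ≫ g = (b ≫ h) ≫ g),
        pullback.lift (a ≫ h) (b ≫ h) e ≫ δ = (b ≫ z) * (a ≫ z)⁻¹

theorem triv_of_isIso {N G : Over (Spec (CommRingCat.of k))} [GrpObj N] [GrpObj G] (e : N ⟶ G) [IsMonHom e]
    [IsIso e] (hN : Triv N) : Triv G := fun Z T g hZ hT δ hδ => by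
  obtain ⟨T', h, z, hT', hz⟩ := hN Z T g hZ hT (δ ≫ inv e) fun W a b c h₁ h₂ => by
    rw [← cancel_mono e]
    simp only [MonObj.mul_comp, Category.assoc, IsIso.inv_hom_id, Category.comp_id]
    exact hδ W a b c h₁ h₂
  refine ⟨T', h, z ≫ e, hT', fun W a b e' => ?_⟩
  have := congrArg (fun w => w ≫ e) (hz W a b e')
  simpa only [MonObj.mul_comp, GrpObj.inv_comp, Category.assoc, IsIso.inv_hom_id, Category.comp_id] using this

/-- Extensions. -/
theorem triv_of_extension {N G Q : Over (Spec (CommRingCat.of k))} [GrpObj N] [GrpObj G] [GrpObj Q]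
    (i : N ⟶ G) [IsMonHom i] (q : G ⟶ Q) [IsMonHom q] [Surjective q.left] (hker : AlgGrp.IsKernel i q)
    (hN : Triv N) (hQ : Triv Q) : Triv G := fun Z T g hZ hT δ hδ => by
  obtain ⟨T', h, z, hT', hz⟩ := hQ Z T g hZ hT (δ ≫ q) fun W a b c h₁ h₂ => by
    simpa only [MonObj.mul_comp, Category.assoc] using congrArg (fun w => w ≫ q) (hδ W a b c h₁ h₂)
  have hsurj : Surjective (pullback.fst z q).left :=
    MorphismProperty.of_isPullback (P := @Surjective)
      (IsPullback.map (Over.forget _) (IsPullback.of_hasPullback z q)).flip (inferInstanceAs (Surjective q.left))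
  haveI : IsAffine T'.left := hT'.1
  obtain ⟨t₀⟩ : Nonempty T'.left := by
    by_contra hne
    rw [not_nonempty_iff] at hne
    haveI : Subsingleton Γ(T'.left, ⊤) := inferInstance
    obtain ⟨x, y, hxy⟩ := hT'.2.exists_pair_ne
    exact hxy (Subsingleton.elim x y)
  obtain ⟨w, -⟩ := hsurj.1 t₀
  let T'' : Over (Spec (CommRingCat.of k)) := Over.mk ((pullback z q).left.fromSpecResidueField w ≫ (pullback z q).hom)
  let e : T'' ⟶ pullback z q := Over.homMk ((pullback z q).left.fromSpecResidueField w) rfl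
  let h' : T'' ⟶ T' := e ≫ pullback.fst z q
  let zt : T'' ⟶ G := e ≫ pullback.snd z q
  have hzt : zt ≫ q = h' ≫ z := by simp only [zt, h', Category.assoc, pullback.condition]
  let g' : T'' ⟶ Z := (h' ≫ h) ≫ g
  let d : pullback g' g' ⟶ G := (pullback.snd g' g' ≫ zt)⁻¹ *
    (pullback.lift (pullback.fst g' g' ≫ h' ≫ h) (pullback.snd g' g' ≫ h' ≫ h)
      (by simpa only [Category.assoc, g'] using (pullback.condition (f := g') (g := g'))) ≫ δ) *
    (pullback.fst g' g' ≫ zt)
  have hd : ∀ (W : Over (Spec (CommRingCat.of k))) (a b : W ⟶ T'') (e : a ≫ g' = b ≫ g'),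
      pullback.lift a b e ≫ d = (b ≫ zt)⁻¹ *
        (pullback.lift (a ≫ h' ≫ h) (b ≫ h' ≫ h) (by simpa only [Category.assoc, g'] using e) ≫ δ) * (a ≫ zt) :=
    fun W a b e => by
    simp only [d, MonObj.comp_mul, GrpObj.comp_inv, pullback.lift_fst_assoc, pullback.lift_snd_assoc,
      ← Category.assoc (pullback.lift a b e) (pullback.lift _ _ _)]
    congr 3
    apply pullback.hom_ext
    · rw [Category.assoc, pullback.lift_fst, pullback.lift_fst, pullback.lift_fst_assoc]
    · rw [Category.assoc, pullback.lift_snd, pullback.lift_snd, pullback.lift_snd_assoc]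
  have hd1 : d ≫ q = 1 := by
    have h0 := hz (pullback g' g') (pullback.fst g' g' ≫ h') (pullback.snd g' g' ≫ h')
      (by simpa only [Category.assoc, g'] using (pullback.condition (f := g') (g := g')))
    simp only [Category.assoc] at h0
    simp only [d, MonObj.mul_comp, GrpObj.inv_comp, Category.assoc, hzt, h0]
    group
  obtain ⟨dN, hdN⟩ := Groth.Agent.AlgGrpLib.exists_lift_kernel hker hd1
  haveI := Groth.Agent.AlgGrpLib.kernel_mono hker
  obtain ⟨T₃, h₃, z₃, hT₃, hz₃⟩ := hN Z T'' g' hZ (fieldPt_of_point _ w) dN fun W a b c h₁ h₂ => by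
    rw [← cancel_mono i]
    simp only [MonObj.mul_comp, Category.assoc, hdN, hd]
    rw [← hδ W (a ≫ h' ≫ h) (b ≫ h' ≫ h) (c ≫ h' ≫ h) (by simpa only [Category.assoc, g'] using h₁)
      (by simpa only [Category.assoc, g'] using h₂)]
    group
  refine ⟨T₃, h₃ ≫ h' ≫ h, (h₃ ≫ zt) * (z₃ ≫ i), hT₃, fun W a b e' => ?_⟩
  have e'' : (a ≫ h₃) ≫ g' = (b ≫ h₃) ≫ g' := by simpa only [Category.assoc, g'] using e'
  have h1 := congrArg (fun w => w ≫ i) (hz₃ W a b e'')
  simp only [MonObj.mul_comp, GrpObj.inv_comp, Category.assoc, hdN] at h1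
  rw [hd] at h1
  simp only [Category.assoc] at h1
  simp only [MonObj.comp_mul, _root_.mul_inv_rev, Category.assoc]
  rw [show ∀ {W : Over (Spec (CommRingCat.of k))} (p q r s : W ⟶ G), p * q * (r⁻¹ * s⁻¹) = p * (q * r⁻¹) * s⁻¹ from
    fun p q r s => by group, ← h1]
  group

theorem isPullback_left {X Y Z : Over (Spec (CommRingCat.of k))} (f : X ⟶ Z) (g : Y ⟶ Z) :
    IsPullback (pullback.fst f g).left (pullback.snd f g).left f.left g.left :=
  IsPullback.map (Over.forget _) (IsPullback.of_hasPullback f g)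

/-- A group whose points on affine schemes are the units via a global function. -/
theorem triv_of_unit {G : Over (Spec (CommRingCat.of k))} [GrpObj G] (s : Γ(G.left, ⊤))
    (hmul : ∀ (X : Over (Spec (CommRingCat.of k))), IsAffine X.left → ∀ x y : X ⟶ G,
      (x * y).left.appTop s = x.left.appTop s * y.left.appTop s)
    (hunit : ∀ (X : Over (Spec (CommRingCat.of k))), IsAffine X.left → ∀ x : X ⟶ G, IsUnit (x.left.appTop s))
    (hinj : ∀ (X : Over (Spec (CommRingCat.of k))), IsAffine X.left → ∀ x y : X ⟶ G,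
      x.left.appTop s = y.left.appTop s → x = y)
    (hsurj : ∀ (X : Over (Spec (CommRingCat.of k))), IsAffine X.left → ∀ r : Γ(X.left, ⊤), IsUnit r →
      ∃ x : X ⟶ G, x.left.appTop s = r) : Triv G := fun Z T g hZ hT δ hδ => by
  haveI := hZ.1
  haveI := hT.1
  haveI : IsAffine (pullback g g).left := .of_isPullback (isPullback_left g g)
  let T₃ := pullback g (pullback.fst g g ≫ g)
  haveI : IsAffine T₃.left := .of_isPullback (isPullback_left g (pullback.fst g g ≫ g))
  let a : T₃ ⟶ T := pullback.fst _ _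
  let t₂₃ : T₃ ⟶ pullback g g := pullback.snd _ _
  have h₁ : a ≫ g = (t₂₃ ≫ pullback.fst g g) ≫ g := by rw [Category.assoc]; exact pullback.condition
  have h₂ : (t₂₃ ≫ pullback.fst g g) ≫ g = (t₂₃ ≫ pullback.snd g g) ≫ g := by
    rw [Category.assoc, Category.assoc, pullback.condition]
  have e₂₃ : pullback.lift (t₂₃ ≫ pullback.fst g g) (t₂₃ ≫ pullback.snd g g) h₂ = t₂₃ := by
    apply pullback.hom_ext
    · rw [pullback.lift_fst]
    · rw [pullback.lift_snd]
  have hc := congrArg (fun w : T₃ ⟶ G => w.left.appTop s) (hδ T₃ _ _ _ h₁ h₂)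
  simp only [e₂₃, hmul _ inferInstance, Over.comp_left, Scheme.Hom.comp_appTop, CommRingCat.comp_apply] at hc
  obtain ⟨z, hz, hzδ⟩ := exists_mul_eq hT.2 hZ.2 (isPullback_left g g) (isPullback_left g (pullback.fst g g ≫ g))
    (pullback.lift a (t₂₃ ≫ pullback.fst g g) h₁).left (pullback.lift a (t₂₃ ≫ pullback.snd g g) (h₁.trans h₂)).left
    (by rw [← Over.comp_left, pullback.lift_fst]) (by rw [← Over.comp_left, pullback.lift_snd]; rfl)
    (by rw [← Over.comp_left, pullback.lift_fst]) (by rw [← Over.comp_left, pullback.lift_snd]; rfl)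
    (δ.left.appTop s) (hunit _ inferInstance δ) hc
  obtain ⟨zp, hzp⟩ := hsurj T inferInstance z hz
  refine ⟨T, 𝟙 T, zp, hT, fun W a b e => ?_⟩
  have hP : δ * (pullback.fst g g ≫ zp) = pullback.snd g g ≫ zp := by
    refine hinj _ inferInstance _ _ ?_
    simp only [hmul _ inferInstance, Over.comp_left, Scheme.Hom.comp_appTop, CommRingCat.comp_apply, hzp]
    exact hzδ
  have hW := pullback.lift (a ≫ 𝟙 T) (b ≫ 𝟙 T) e ≫= hP
  simp only [MonObj.comp_mul, pullback.lift_fst_assoc, pullback.lift_snd_assoc, Category.comp_id] at hW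
  simp only [Category.comp_id]
  rw [eq_mul_inv_iff_mul_eq]
  exact hW

/-- A group whose points on affine schemes are tuples via global functions, additively. -/
theorem triv_of_add {G : Over (Spec (CommRingCat.of k))} [GrpObj G] {κ' : Type*} (s : κ' → Γ(G.left, ⊤))
    (hadd : ∀ (X : Over (Spec (CommRingCat.of k))), IsAffine X.left → ∀ (x y : X ⟶ G) (i : κ'),
      (x * y).left.appTop (s i) = x.left.appTop (s i) + y.left.appTop (s i))
    (hinj : ∀ (X : Over (Spec (CommRingCat.of k))), IsAffine X.left → ∀ x y : X ⟶ G,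
      (∀ i, x.left.appTop (s i) = y.left.appTop (s i)) → x = y)
    (hsurj : ∀ (X : Over (Spec (CommRingCat.of k))), IsAffine X.left → ∀ r : κ' → Γ(X.left, ⊤),
      ∃ x : X ⟶ G, ∀ i, x.left.appTop (s i) = r i) : Triv G := fun Z T g hZ hT δ hδ => by
  haveI := hZ.1
  haveI := hT.1
  haveI : IsAffine (pullback g g).left := .of_isPullback (isPullback_left g g)
  let T₃ := pullback g (pullback.fst g g ≫ g)
  haveI : IsAffine T₃.left := .of_isPullback (isPullback_left g (pullback.fst g g ≫ g))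
  let a : T₃ ⟶ T := pullback.fst _ _
  let t₂₃ : T₃ ⟶ pullback g g := pullback.snd _ _
  have h₁ : a ≫ g = (t₂₃ ≫ pullback.fst g g) ≫ g := by rw [Category.assoc]; exact pullback.condition
  have h₂ : (t₂₃ ≫ pullback.fst g g) ≫ g = (t₂₃ ≫ pullback.snd g g) ≫ g := by
    rw [Category.assoc, Category.assoc, pullback.condition]
  have e₂₃ : pullback.lift (t₂₃ ≫ pullback.fst g g) (t₂₃ ≫ pullback.snd g g) h₂ = t₂₃ := by
    apply pullback.hom_ext
    · rw [pullback.lift_fst]
    · rw [pullback.lift_snd]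
  letI := hZ.2.toField
  haveI : Flat g.left := by
    refine (HasRingHomProperty.iff_of_isAffine (P := @Flat) (f := g.left)).2 ?_
    letI := g.left.appTop.hom.toAlgebra
    exact RingHom.flat_algebraMap_iff.2 (inferInstance : Module.Flat Γ(Z.left, ⊤) Γ(T.left, ⊤))
  have hne : Nonempty T.left := by
    by_contra hne
    rw [not_nonempty_iff] at hne
    obtain ⟨x, y, hxy⟩ := hT.2.exists_pair_ne
    exact hxy (Subsingleton.elim x y)
  haveI : Subsingleton Z.left := by
    haveI : Subsingleton ↥(Spec Γ(Z.left, ⊤)) := inferInstanceAs (Subsingleton (PrimeSpectrum Γ(Z.left, ⊤)))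
    exact Z.left.isoSpec.hom.homeomorph.injective.subsingleton
  haveI : Surjective g.left := ⟨fun z => ⟨hne.some, Subsingleton.elim _ _⟩⟩
  have hex : ∀ i, ∃ z : Γ(T.left, ⊤), δ.left.appTop (s i) =
      (pullback.snd g g).left.appTop z - (pullback.fst g g).left.appTop z := fun i => by
    have hc := congrArg (fun w : T₃ ⟶ G => w.left.appTop (s i)) (hδ T₃ _ _ _ h₁ h₂)
    simp only [e₂₃, hadd _ inferInstance, Over.comp_left, Scheme.Hom.comp_appTop, CommRingCat.comp_apply] at hc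
    exact WittPts.exists_sub_eq (isPullback_left g g) (isPullback_left g (pullback.fst g g ≫ g))
      (pullback.lift a (t₂₃ ≫ pullback.fst g g) h₁).left (pullback.lift a (t₂₃ ≫ pullback.snd g g) (h₁.trans h₂)).left
      (by rw [← Over.comp_left, pullback.lift_fst]) (by rw [← Over.comp_left, pullback.lift_snd]; rfl)
      (by rw [← Over.comp_left, pullback.lift_fst]) (by rw [← Over.comp_left, pullback.lift_snd]; rfl)
      _ hc
  choose z hz using hex
  obtain ⟨zp, hzp⟩ := hsurj T inferInstance z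
  refine ⟨T, 𝟙 T, zp, hT, fun W a b e => ?_⟩
  have hP : δ * (pullback.fst g g ≫ zp) = pullback.snd g g ≫ zp := by
    refine hinj _ inferInstance _ _ fun i => ?_
    simp only [hadd _ inferInstance, Over.comp_left, Scheme.Hom.comp_appTop, CommRingCat.comp_apply, hzp, hz i,
      sub_add_cancel]
  have hW := pullback.lift (a ≫ 𝟙 T) (b ≫ 𝟙 T) e ≫= hP
  simp only [MonObj.comp_mul, pullback.lift_fst_assoc, pullback.lift_snd_assoc, Category.comp_id] at hW
  simp only [Category.comp_id]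
  rw [eq_mul_inv_iff_mul_eq]
  exact hW

theorem triv_of_isIso_hom {G : Over (Spec (CommRingCat.of k))} [GrpObj G] (hG : IsIso G.hom) : Triv G :=
  fun Z T g hZ hT δ hδ => by
  haveI := hG
  exact ⟨T, 𝟙 T, 1, hT, fun W a b e =>
    Over.OverMorphism.ext ((cancel_mono G.hom).1 ((Over.w _).trans (Over.w _).symm))⟩

end Groth.Agent.AlgGrpLib.SplitCocycle
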