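import Groth.Agent.AlgGrpLib.SplitCocycle
import Groth.Agent.UnipStruct.Step
import Groth.Agent.UnipStruct.VecGroup
import Groth.Agent.SGA3cLib.DiagPoints

/-!
Torsors over fields under groups with trivial cocycles have rational points; the additive and multiplicative
groups have trivial cocycles.
-/

set_option autoImplicit false
set_option backward.isDefEq.respectTransparency.types false

universe u

open CategoryTheory CategoryTheory.Limits MonoidalCategory CartesianMonoidalCategory MonObj GrpObj AlgebraicGeometry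
open scoped MonoidalCategory

namespace Groth.Agent.AlgGrpLib.SplitTorsor

open Groth.Agent.AlgGrpLib.SplitCocycle

variable {k : Type u} [Field k]

theorem triv_Ga : Triv (Red.Ga (Spec (CommRingCat.of k))) := by
  have key : ∀ {X : Over (Spec (CommRingCat.of k))} (x : X ⟶ Red.Ga (Spec (CommRingCat.of k))),
      x.left.appTop (Red.gaFn (𝟙 (Red.Ga (Spec (CommRingCat.of k))))) = Red.gaFn x := fun x => by
    rw [← SGA3cLib.gaFn_comp, Category.comp_id]
  refine triv_of_add (κ' := Unit) (fun _ => Red.gaFn (𝟙 _)) (fun X _ x y _ => ?_) (fun X _ x y h => ?_) fun X _ r => ?_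
  · rw [key, key, key, SGA3cLib.gaFn_mul]
  · exact SGA3cLib.gaFn_injective (by simpa only [key] using h ())
  · obtain ⟨x, hx⟩ := SGA3cLib.exists_gaFn (S := Spec (CommRingCat.of k)) (r ())
    exact ⟨x, fun _ => (key x).trans hx⟩

theorem triv_Gm : Triv (Red.Gm (Spec (CommRingCat.of k))) := by
  have key : ∀ {X : Over (Spec (CommRingCat.of k))} (x : X ⟶ Red.Gm (Spec (CommRingCat.of k))),
      x.left.appTop (Red.gmFn (𝟙 (Red.Gm (Spec (CommRingCat.of k))))) = Red.gmFn x := fun x => by
    rw [← SGA3cLib.gmFn_comp, Category.comp_id]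
  refine triv_of_unit (Red.gmFn (𝟙 _)) (fun X _ x y => ?_) (fun X _ x => ?_) (fun X _ x y h => ?_) fun X _ r hr => ?_
  · rw [key, key, key, SGA3cLib.gmFn_mul]
  · rw [key]; exact SGA3cLib.isUnit_gmFn x
  · exact SGA3cLib.gmFn_injective (by rwa [key, key] at h)
  · obtain ⟨x, hx⟩ := SGA3cLib.exists_gmFn (S := Spec (CommRingCat.of k)) hr
    exact ⟨x, (key x).trans hx⟩

/-- Points of a torsor over `Y`. -/
structure Tors (G : Over (Spec (CommRingCat.of k))) [GrpObj G] {X Y : Over (Spec (CommRingCat.of k))} (π : X ⟶ Y) where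
  act : ∀ {W : Over (Spec (CommRingCat.of k))}, (W ⟶ G) → (W ⟶ X) → (W ⟶ X)
  comp : ∀ {W W' : Over (Spec (CommRingCat.of k))} (f : W' ⟶ W) (g : W ⟶ G) (x : W ⟶ X),
    f ≫ act g x = act (f ≫ g) (f ≫ x)
  mul : ∀ {W : Over (Spec (CommRingCat.of k))} (g g' : W ⟶ G) (x : W ⟶ X), act (g * g') x = act g (act g' x)
  act_π : ∀ {W : Over (Spec (CommRingCat.of k))} (g : W ⟶ G) (x : W ⟶ X), act g x ≫ π = x ≫ π
  existsUnique : ∀ {W : Over (Spec (CommRingCat.of k))} (x y : W ⟶ X), x ≫ π = y ≫ π → ∃! g : W ⟶ G, act g x = y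

theorem subsingleton_of_fieldPt {T : Over (Spec (CommRingCat.of k))} (hT : FieldPt T) : Subsingleton T.left := by
  haveI := hT.1
  letI := hT.2.toField
  haveI : Subsingleton ↥(Spec Γ(T.left, ⊤)) := inferInstanceAs (Subsingleton (PrimeSpectrum Γ(T.left, ⊤)))
  exact T.left.isoSpec.hom.homeomorph.injective.subsingleton

theorem nonempty_of_fieldPt {T : Over (Spec (CommRingCat.of k))} (hT : FieldPt T) : Nonempty T.left := by
  haveI := hT.1
  by_contra hne
  rw [not_nonempty_iff] at hne
  obtain ⟨x, y, hxy⟩ := hT.2.exists_pair_ne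
  exact hxy (Subsingleton.elim x y)

/-- A torsor with a point over some field extension has a rational point. -/
theorem exists_point {G : Over (Spec (CommRingCat.of k))} [GrpObj G] (hG : Triv G)
    {X Y : Over (Spec (CommRingCat.of k))} {π : X ⟶ Y} (τ : Tors G π) {Z T : Over (Spec (CommRingCat.of k))}
    (hZ : FieldPt Z) (hT : FieldPt T) (g : T ⟶ Z) (ζ : Z ⟶ Y) (x₀ : T ⟶ X) (hx₀ : x₀ ≫ π = g ≫ ζ) :
    ∃ s : Z ⟶ X, s ≫ π = ζ := by
  obtain ⟨δ, hδ, -⟩ := τ.existsUnique (pullback.fst g g ≫ x₀) (pullback.snd g g ≫ x₀)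
    (by simp only [Category.assoc, hx₀, pullback.condition_assoc])
  have hδ' : ∀ (W : Over (Spec (CommRingCat.of k))) (a b : W ⟶ T) (h : a ≫ g = b ≫ g),
      τ.act (pullback.lift a b h ≫ δ) (a ≫ x₀) = b ≫ x₀ := fun W a b h => by
    have := congrArg (fun w => pullback.lift a b h ≫ w) hδ
    simp only [τ.comp, pullback.lift_fst_assoc, pullback.lift_snd_assoc] at this
    exact this
  obtain ⟨T', h, z, hT', hz⟩ := hG Z T g hZ hT δ fun W a b c h₁ h₂ =>
    (τ.existsUnique (a ≫ x₀) (c ≫ x₀) (by simp only [Category.assoc, hx₀, reassoc_of% (h₁.trans h₂)])).unique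
      (by rw [τ.mul, hδ' W a b h₁, hδ' W b c h₂]) (hδ' W a c (h₁.trans h₂))
  haveI := hZ.1
  haveI := hT'.1
  letI := hZ.2.toField
  haveI : Flat (h ≫ g).left := by
    refine (HasRingHomProperty.iff_of_isAffine (P := @Flat) (f := (h ≫ g).left)).2 ?_
    letI := (h ≫ g).left.appTop.hom.toAlgebra
    exact RingHom.flat_algebraMap_iff.2 (inferInstance : Module.Flat Γ(Z.left, ⊤) Γ(T'.left, ⊤))
  haveI := subsingleton_of_fieldPt hZ
  haveI := nonempty_of_fieldPt hT'
  haveI : Surjective (h ≫ g).left := ⟨fun y => ⟨Classical.arbitrary _, Subsingleton.elim _ _⟩⟩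
  haveI : QuasiCompact (h ≫ g).left := inferInstance
  obtain ⟨s, hs⟩ := UnipStruct.exists_desc (h ≫ g) (τ.act z⁻¹ (h ≫ x₀)) fun W a b e => by
    have e' : (a ≫ h) ≫ g = (b ≫ h) ≫ g := by simpa only [Category.assoc] using e
    have h1 := hδ' W (a ≫ h) (b ≫ h) e'
    rw [hz W a b e'] at h1
    simp only [τ.comp, GrpObj.comp_inv, Category.assoc] at h1 ⊢
    rw [← h1, ← τ.mul, inv_mul_cancel_left]
  haveI : Epi (h ≫ g) := Over.epi_of_epi_left _
  refine ⟨s, ?_⟩
  rw [← cancel_epi (h ≫ g), ← Category.assoc, hs, τ.act_π, Category.assoc, hx₀, Category.assoc]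

/-- The torsor points of a free transitive action. -/
noncomputable def Tors.ofAction {G P : Over (Spec (CommRingCat.of k))} [GrpObj G] (a : AlgGrp.Action G P)
    (hfree : IsIso (CartesianMonoidalCategory.lift a.act (snd G P))) : Tors G (toUnit P) where
  act g x := lift g x ≫ a.act
  comp f g x := by rw [← Category.assoc, comp_lift]
  mul g g' x := by
    have h := lift (lift g g') x ≫= a.mul_act
    simpa [Hom.mul_def] using h
  act_π g x := toUnit_unique _ _
  existsUnique x y _ := by
    haveI := hfree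
    refine ⟨lift y x ≫ inv (lift a.act (snd G P)) ≫ fst G P, ?_, fun g hg => ?_⟩
    · have h : lift (lift y x ≫ inv (lift a.act (snd G P)) ≫ fst G P) x = lift y x ≫ inv (lift a.act (snd G P)) := by
        apply CartesianMonoidalCategory.hom_ext
        · simp
        · have := IsIso.inv_hom_id (lift a.act (snd G P)) =≫ snd P P
          rw [Category.assoc, lift_snd, Category.id_comp] at this
          rw [lift_snd, Category.assoc, this, lift_snd]
      have := IsIso.inv_hom_id (lift a.act (snd G P)) =≫ fst P P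
      rw [Category.assoc, lift_fst, Category.id_comp] at this
      beta_reduce
      rw [h, Category.assoc, this, lift_fst]
    · have : lift g x ≫ lift a.act (snd G P) = lift y x := by rw [comp_lift, hg, lift_snd]
      rw [← this, Category.assoc, IsIso.hom_inv_id_assoc, lift_fst]

end Groth.Agent.AlgGrpLib.SplitTorsor
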