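import Groth.Agent.AlgGrpLib.SplitTorsor
import Groth.Agent.UnipStruct.Unip
import Groth.Agent.UnipStruct.Step
import Groth.Agent.TorusConnLib.Connected
import Groth.Agent.SGA3cLib.Irreducible
import Groth.Agent.SGA3cLib.MonoClosed
import Groth.Agent.AlgGrpLib.ExactSeqBasics
import Groth.Agent.S3271
import Groth.Agent.S5427
import Groth.Agent.AlgGrpLib.TorusToProper
import Groth.Agent.AbVarLib.GeomIntegralSmooth
import Mathlib.AlgebraicGeometry.AlgClosed.Basic

/-!
Connected commutative smooth affine groups over algebraically closed fields have trivial cocycles over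
all fields.
-/

set_option autoImplicit false
set_option backward.isDefEq.respectTransparency.types false

universe u

open CategoryTheory CategoryTheory.Limits MonoidalCategory CartesianMonoidalCategory MonObj GrpObj AlgebraicGeometry

namespace Groth.Agent.AlgGrpLib.SplitTorsorLinear

open Groth.Agent.AlgGrpLib.SplitCocycle Groth.Agent.HopfQuot TensorProduct
open Groth.Agent.SGA3cLib (dsFn dsFn_injective)

variable {k : Type u} [Field k]

theorem triv_DS1 : Triv (Red.DS (Spec (CommRingCat.of k)) (Fin 1 → ℤ)) := by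
  let φ : ℤ →+ (Fin 1 → ℤ) := AddMonoidHom.single (fun _ : Fin 1 => ℤ) 0
  let ψ : (Fin 1 → ℤ) →+ ℤ := Pi.evalAddMonoidHom (fun _ : Fin 1 => ℤ) 0
  let f : Red.Gm (Spec (CommRingCat.of k)) ⟶ Red.DS (Spec (CommRingCat.of k)) (Fin 1 → ℤ) := Red.DSmap _ ψ
  let f' : Red.DS (Spec (CommRingCat.of k)) (Fin 1 → ℤ) ⟶ Red.Gm (Spec (CommRingCat.of k)) := Red.DSmap _ φ
  haveI : IsMonHom f := S5427.isMonHom_DSmap _
  haveI : IsIso f := by
    refine ⟨f', ?_, ?_⟩
    · refine dsFn_injective (MonoidHom.ext fun m => ?_)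
      rw [S5427.dsFn_DSmap]
      show dsFn (Red.DSmap _ ψ) _ = _
      rw [← Category.id_comp (Red.DSmap _ ψ), S5427.dsFn_DSmap]
      congr 1
    · refine dsFn_injective (MonoidHom.ext fun m => ?_)
      rw [S5427.dsFn_DSmap]
      show dsFn (Red.DSmap _ φ) _ = _
      rw [← Category.id_comp (Red.DSmap _ φ), S5427.dsFn_DSmap]
      congr 1
      refine Multiplicative.toAdd.injective (funext fun i => ?_)
      fin_cases i
      simp [φ, ψ]
  exact triv_of_isIso f SplitTorsor.triv_Gm

variable [IsAlgClosed k]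

theorem triv_Wk1 {p : ℕ} [Fact p.Prime] : Triv (WittGrp.W p 1 (Spec (CommRingCat.of k))) := by
  have key : ∀ {X : Over (Spec (CommRingCat.of k))} (x : X ⟶ WittGrp.W p 1 (Spec (CommRingCat.of k))),
      x.left.appTop (UnipStruct.cf (𝟙 (WittGrp.W p 1 (Spec (CommRingCat.of k))))) = UnipStruct.cf x := fun x => by
    rw [← UnipStruct.cf_comp, Category.comp_id]
  refine triv_of_add (κ' := Unit) (fun _ => UnipStruct.cf (𝟙 _)) (fun X _ x y _ => ?_) (fun X _ x y h => ?_)
    fun X _ r => ?_
  · rw [key, key, key, UnipStruct.cf_mul]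
  · exact UnipStruct.cf_injective (by simpa only [key] using h ())
  · exact ⟨WittPts.ofCoeffs fun _ => r (), fun _ => (key _).trans (WittPts.coeff_ofCoeffs _ 0)⟩

theorem triv_charZero [CharZero k] {Q : Over (Spec (CommRingCat.of k))} [GrpObj Q] {A : Type u} [CommRing A]
    [HopfAlgebra k A] [Algebra.FiniteType k A] [Coalgebra.IsCocomm k A] (e : spec (k := k) A ⟶ Q) [IsIso e]
    [IsMonHom e] (hU : HopfRep.IsUnipotent k A) : Triv Q := by
  obtain ⟨n, x, hind, hgen, hprim⟩ := Groth.Agent.S3271.result k A hU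
  refine triv_of_isIso e (triv_of_add (κ' := Fin n) (fun i => (Scheme.ΓSpecIso (CommRingCat.of A)).inv (x i))
    (fun X hX a b i => UnipStruct.appTop_mul_of_primitive (hprim i) a b) (fun X hX a b h => ?_) fun X hX r => ?_)
  · haveI := hX
    obtain ⟨R, _, _, e', ε, he'⟩ := UnipStruct.exists_pt (k := k) (A := A) (T := X)
    refine e'.injective (WithConv.ofConv_injective (AlgHom.ext_of_adjoin_eq_top hgen ?_))
    rintro _ ⟨i, rfl⟩
    exact ε.injective ((he' a _).symm.trans ((h i).trans (he' b _)))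
  · haveI := hX
    obtain ⟨R, _, _, e', ε, he'⟩ := UnipStruct.exists_pt (k := k) (A := A) (T := X)
    let f : MvPolynomial (Fin n) k ≃ₐ[k] A := AlgEquiv.ofBijective (MvPolynomial.aeval x)
      ⟨hind, (AlgHom.range_eq_top _).1 (by rw [← Algebra.adjoin_range_eq_range_aeval, hgen])⟩
    refine ⟨e'.symm (WithConv.toConv ((MvPolynomial.aeval fun i => ε.symm (r i)).comp f.symm.toAlgHom)), fun i => ?_⟩
    have hx : f.symm (x i) = MvPolynomial.X i := f.symm_apply_eq.2 (by simp [f])
    rw [he', e'.apply_symm_apply]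
    show ε (MvPolynomial.aeval (fun i => ε.symm (r i)) (f.symm (x i))) = r i
    rw [hx, MvPolynomial.aeval_X, ε.apply_symm_apply]

theorem triv_killed {p : ℕ} [Fact p.Prime] [CharP k p] {Q : Over (Spec (CommRingCat.of k))} [GrpObj Q]
    [IsCommMonObj Q] [IsAffine Q.left] [Smooth Q.hom] [ConnectedSpace Q.left] (hQ : UnipStruct.Killed p Q) :
    Triv Q := by
  refine UnipStruct.killed_induction (p := p) (fun G _ => Triv G) (fun G _ h => triv_of_isIso_hom h) ?_ hQ
  intro G G' _ _ _ _ _ _ _ _ _ _ _ _ σ hG'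
  haveI := σ.isMonHom_i
  haveI := σ.isMonHom_π
  haveI := σ.surjective
  exact triv_of_extension σ.i σ.π σ.isKernel triv_Wk1 hG'

/-- A closed connected subgroup with trivial cocycles whose range is `Z`. -/
def Good (L : Over (Spec (CommRingCat.of k))) [GrpObj L] (Z : TopologicalSpace.IrreducibleCloseds L.left) : Prop :=
  ∃ (N : Over (Spec (CommRingCat.of k))) (_ : GrpObj N) (i : N ⟶ L), IsMonHom i ∧ IsClosedImmersion i.left ∧
    ConnectedSpace N.left ∧ Triv N ∧ (Z : Set L.left) = Set.range i.left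

theorem exists_maximal_good (L : Over (Spec (CommRingCat.of k))) [GrpObj L] [IsAffine L.left]
    [LocallyOfFiniteType L.hom] :
    ∃ Z, Good L Z ∧ ∀ Z', Good L Z' → ¬ Z < Z' := by
  obtain ⟨n, hn⟩ := UnipStruct.dim_lt_top L
  have hh : ∀ Z : TopologicalSpace.IrreducibleCloseds L.left, Order.height Z ≤ (n : ℕ∞) := fun Z =>
    WithBot.coe_le_coe.1 ((Order.height_le_krullDim Z).trans hn)
  haveI : IsAffineHom L.hom := isAffineHom_of_isAffine _
  haveI : IsSeparated L.hom := inferInstance
  haveI : IsClosedImmersion (UnipStruct.kerι (𝟙 L)).left := UnipStruct.isClosedImmersion_kerι (𝟙 L)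
  let i₀ := UnipStruct.kerι (𝟙 L)
  haveI : IsMonHom i₀ := inferInstance
  have hiso : IsIso (UnipStruct.kerObj (𝟙 L)).hom := by
    have h : IsIso (pullback.snd (𝟙 L) η[L]).left :=
      inferInstanceAs (IsIso ((Over.forget _).map (pullback.snd (𝟙 L) η[L])))
    have hw := Over.w (pullback.snd (𝟙 L) η[L])
    show IsIso (pullback (𝟙 L) η[L]).hom
    rw [← hw]
    exact IsIso.comp_isIso' h (inferInstanceAs (IsIso (𝟙 (Spec (CommRingCat.of k)))))
  haveI : ConnectedSpace (UnipStruct.kerObj (𝟙 L)).left := by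
    haveI : ConnectedSpace ↥(Spec (CommRingCat.of k)) := inferInstanceAs (ConnectedSpace (PrimeSpectrum k))
    exact (inv (UnipStruct.kerObj (𝟙 L)).hom).homeomorph.surjective.connectedSpace
      (inv (UnipStruct.kerObj (𝟙 L)).hom).continuous
  haveI : LocallyOfFiniteType (UnipStruct.kerObj (𝟙 L)).hom := inferInstance
  haveI := SGA3cLib.irreducibleSpace_of_connected (UnipStruct.kerObj (𝟙 L))
  let Z₀ : TopologicalSpace.IrreducibleCloseds L.left :=
    ⟨Set.range i₀.left, (IrreducibleSpace.isIrreducible_univ _).image _ i₀.left.continuous.continuousOn |> fun h =>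
      (by rw [← Set.image_univ]; exact h), i₀.left.isClosedEmbedding.isClosed_range⟩
  have hgood : Good L Z₀ := ⟨_, inferInstance, i₀, inferInstance, inferInstance, inferInstance, triv_of_isIso_hom hiso, rfl⟩
  classical
  let P : ℕ → Prop := fun m => ∃ Z, Good L Z ∧ (m : ℕ∞) ≤ Order.height Z
  obtain ⟨Z, hZ, hZm⟩ : P (Nat.findGreatest P n) :=
    Nat.findGreatest_spec (P := P) (Nat.zero_le n) ⟨Z₀, hgood, by simp⟩
  refine ⟨Z, hZ, fun Z' hZ' hlt => ?_⟩
  have h1 := (Order.height_strictMono hlt ((hh Z).trans_lt (ENat.natCast_lt_top n)))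
  obtain ⟨m, hm⟩ := ENat.ne_top_iff_exists.1 ((hh Z').trans_lt (ENat.natCast_lt_top n)).ne
  have hmn : m ≤ n := by
    have := hh Z'
    rw [← hm] at this
    exact_mod_cast this
  have h2 := Nat.le_findGreatest (P := P) hmn ⟨Z', hZ', hm.le⟩
  have h3 : ((Nat.findGreatest P n : ℕ) : ℕ∞) < (m : ℕ∞) := hm ▸ hZm.trans_lt h1
  exact absurd h2 (not_le.2 (by exact_mod_cast h3))

theorem subsingleton_points {D : Over (Spec (CommRingCat.of k))} [LocallyOfFiniteType D.hom] [Subsingleton D.left]
    (x y : 𝟙_ (Over (Spec (CommRingCat.of k))) ⟶ D) : x = y :=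
  Over.OverMorphism.ext (ext_of_apply_closedPoint_eq D.hom (Over.w x) (Over.w y) (Subsingleton.elim _ _))

/-- The main result. -/
theorem triv_linear (L : Over (Spec (CommRingCat.of k))) [GrpObj L] [IsCommMonObj L] [Smooth L.hom]
    [ConnectedSpace L.left] [IsAffine L.left] : Triv L := by
  classical
  obtain ⟨Z, ⟨N, gN, i, hi, hic, hNc, hN, hZ⟩, hmax⟩ := exists_maximal_good L
  letI := gN
  haveI := hi
  haveI := hic
  haveI := hNc
  haveI : IsAffineHom L.hom := isAffineHom_of_isAffine _
  haveI : IsReduced L.left := AbSchLib.isReduced_of_smooth L.hom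
  obtain ⟨Q, gQ, q, hq, hQa, hQl, hqf, hqs, hker⟩ :=
    HopfQuot.exists_affine_quotient L N i (UnipStruct.isNormalHom_of_comm _)
  letI := gQ
  haveI := hq
  haveI := hQa
  haveI := hQl
  haveI := hqf
  haveI := hqs
  haveI := AlgGrpLib.quasiCompact_left q
  haveI : IsReduced Q.left := UnipStruct.isReduced_of_cover q
  haveI := UnipStruct.isCommMonObj_of_cover q
  haveI : ConnectedSpace Q.left := q.left.surjective.connectedSpace q.left.continuous
  haveI := UnipStruct.smooth_of_isReduced Q
  haveI : QuasiCompact Q.hom := (quasiCompact_iff_compactSpace Q.hom).2 inferInstance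
  refine triv_of_extension i q hker hN ?_
  obtain ⟨A, _, _, e, _, _⟩ := exists_spec (k := k) Q
  haveI := UnipStruct.finiteType_of_iso e
  haveI : IsCommMonObj (spec (k := k) A) := (isCommMonObj_iff_isMulCommutative _).2 fun T => ⟨⟨fun x y => by
    rw [← cancel_mono e, MonObj.mul_comp, MonObj.mul_comp, _root_.mul_comm]⟩⟩
  haveI := UnipStruct.isCocomm_of_comm (k := k) (A := A)
  haveI : IsIso e.left := inferInstanceAs (IsIso ((Over.forget _).map e))
  haveI := AbVarLib.isIntegral_of_smooth_connected Q.hom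
  haveI : IsIntegral (spec (k := k) A).left := IsIntegral.of_isIso (inv e.left)
  haveI : IsDomain A := (affine_isIntegral_iff (CommRingCat.of A)).1 ‹_›
  by_cases hg : ∀ g : A, IsGroupLikeElem k g → g = 1
  · have hU := UnipStruct.isUnipotent_of_groupLike hg
    obtain hp | ⟨p, hp, hcp⟩ := CharP.exists' k
    · haveI := hp
      exact triv_charZero e hU
    · haveI : Fact p.Prime := hp
      haveI := hcp
      refine triv_killed (p := p) ?_
      obtain ⟨N', hN'⟩ := UnipStruct.exists_pow_eq_one_of_isUnipotent (p := p) hU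
      refine UnipStruct.killed_iff.2 ⟨N', ?_⟩
      have h : (𝟙 (spec (k := k) A) : spec (k := k) A ⟶ spec (k := k) A) ^ p ^ N' = 1 := by
        obtain ⟨x, hx⟩ := (ptSpec (k := k) (A := A) (T := A)).surjective (𝟙 _)
        rw [← hx, ← map_pow, hN', map_one]
      have h' := congrArg (fun f => CategoryTheory.inv e ≫ f ≫ e) h
      simp only [UnipStruct.comp_pow', Category.id_comp, MonObj.one_comp, MonObj.comp_one] at h'
      rw [← h']
      clear h h'
      induction p ^ N' with
      | zero => rw [_root_.pow_zero, _root_.pow_zero, MonObj.comp_one]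
      | succ m ih => rw [pow_succ, pow_succ, MonObj.comp_mul, ← ih, IsIso.inv_hom_id]
  exfalso
  push Not at hg
  obtain ⟨g, hgl, hg1⟩ := hg
  have hord : ∀ n : ℕ, 0 < n → g ^ n ≠ 1 := fun n hn hgn => by
    haveI : NeZero n := ⟨hn.ne'⟩
    have hint : IsIntegral k g := ⟨Polynomial.X ^ n - 1, Polynomial.monic_X_pow_sub_C 1 hn.ne', by simp [hgn]⟩
    obtain ⟨c, hc⟩ : ∃ c : k, algebraMap k A c = g := by
      haveI : Algebra.IsIntegral k (Algebra.adjoin k {g}) := Algebra.IsIntegral.adjoin (by simpa using hint)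
      obtain ⟨c, hc⟩ := (IsAlgClosed.algebraMap_bijective_of_isIntegral (k := k) (K := Algebra.adjoin k {g})).2
        ⟨g, Algebra.subset_adjoin rfl⟩
      exact ⟨c, congrArg Subtype.val hc⟩
    apply hg1
    rw [← hc, show c = 1 by
      have := hgl.counit_eq_one
      rwa [← hc, Bialgebra.counit_algebraMap] at this, map_one]
  obtain ⟨θ, hθ⟩ := UnipStruct.exists_surjective_laurent hgl hord
  obtain ⟨j₀, _, _⟩ := UnipStruct.exists_torus_of_surjective θ hθ
  let D := Red.DS (Spec (CommRingCat.of k)) (Fin 1 → ℤ)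
  haveI : IsAffine D.left := by
    haveI : IsAffine (Red.diag (ULift.{u} ℤ) (Fin 1 → ℤ)).left := inferInstanceAs (IsAffine (Spec _))
    haveI : IsAffineHom D.hom := MorphismProperty.pullback_snd (P := @IsAffineHom) _ _ (isAffineHom_of_isAffine _)
    exact isAffine_of_isAffineHom D.hom
  haveI : IsIntegral D.left := TorusConnLib.isIntegral_DS k 1
  haveI : ConnectedSpace D.left := inferInstance
  haveI : LocallyOfFiniteType D.hom := TorusToProper.locallyOfFiniteType_DS 1
  let j : D ⟶ Q := j₀ ≫ e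
  haveI : Mono j := mono_comp _ _
  haveI : IsMonHom j := inferInstance
  haveI : QuasiCompact j.left := inferInstance
  haveI : IsClosedImmersion j.left := SGA3cLib.isClosedImmersion_of_mono j
  obtain ⟨Q', gQ', q', hq', hQ'a, hQ'l, hq'f, hq's, hker'⟩ :=
    HopfQuot.exists_affine_quotient Q D j (UnipStruct.isNormalHom_of_comm _)
  letI := gQ'
  haveI := hq'
  haveI : IsAffineHom Q'.hom := isAffineHom_of_isAffine _
  let N' := UnipStruct.kerObj (q ≫ q')
  let i' : N' ⟶ L := UnipStruct.kerι (q ≫ q')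
  haveI : IsMonHom i' := inferInstance
  haveI : IsClosedImmersion i'.left := UnipStruct.isClosedImmersion_kerι (q ≫ q')
  haveI : Mono i' := AlgGrpLib.kernel_mono (UnipStruct.isKernel_kerι (q ≫ q'))
  haveI : Mono j := inferInstance
  obtain ⟨p, hp⟩ := AlgGrpLib.exists_lift_kernel hker' (g := i' ≫ q)
    (by rw [Category.assoc, AlgGrpLib.kernel_comp (UnipStruct.isKernel_kerι (q ≫ q'))])
  have hsq : IsPullback i' p q j := IsPullback.of_bot
    (by rw [toUnit_unique (p ≫ toUnit D) (toUnit N')]; exact UnipStruct.isKernel_kerι (q ≫ q'))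
    hp.symm hker'
  haveI : IsMonHom p := WittGrp.isMonHom_of_comp_mul p
    (by rw [← cancel_mono j, Category.assoc, hp, MonObj.one_comp, MonObj.one_comp j])
    fun T x y => by
      rw [← cancel_mono j, MonObj.mul_comp _ _ j, Category.assoc, Category.assoc, Category.assoc, hp, ← Category.assoc,
        MonObj.mul_comp _ _ i', MonObj.mul_comp _ _ q, Category.assoc, Category.assoc]
  haveI : Surjective p.left := MorphismProperty.of_isPullback (P := @Surjective)
    (IsPullback.map (Over.forget _) hsq) (inferInstanceAs (Surjective q.left))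
  haveI : Flat p.left := MorphismProperty.of_isPullback (P := @Flat)
    (IsPullback.map (Over.forget _) hsq) (inferInstanceAs (Flat q.left))
  obtain ⟨ν, hν⟩ := AlgGrpLib.exists_lift_kernel (UnipStruct.isKernel_kerι (q ≫ q')) (g := i)
    (by rw [← Category.assoc, AlgGrpLib.kernel_comp hker, MonObj.one_comp])
  have hν : ν ≫ i' = i := hν
  have hνp : ν ≫ p = toUnit N ≫ η[D] := by
    rw [← cancel_mono j, Category.assoc, hp, reassoc_of% hν, Category.assoc, IsMonHom.one_hom]
    exact hker.w
  have hkp : AlgGrp.IsKernel ν p := IsPullback.of_right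
    (by rw [hν, IsMonHom.one_hom (f := j)]; exact hker) hνp hsq
  haveI : IsMonHom ν := WittGrp.isMonHom_of_comp_mul ν
    (by rw [← cancel_mono i', Category.assoc, hν, MonObj.one_comp, MonObj.one_comp i'])
    fun T x y => by
      rw [← cancel_mono i', MonObj.mul_comp _ _ i', Category.assoc, Category.assoc, Category.assoc, hν, MonObj.mul_comp _ _ i]
  haveI : LocallyOfFiniteType N'.hom := by rw [← Over.w i']; infer_instance
  haveI : ConnectedSpace N'.left := ExactSeqBasics.connectedSpace_of_kernel p ν hkp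
  haveI := SGA3cLib.irreducibleSpace_of_connected N'
  let Z' : TopologicalSpace.IrreducibleCloseds L.left :=
    ⟨Set.range i'.left, by
      rw [← Set.image_univ]
      exact (IrreducibleSpace.isIrreducible_univ _).image _ i'.left.continuous.continuousOn,
      i'.left.isClosedEmbedding.isClosed_range⟩
  have hgood : Good L Z' :=
    ⟨N', inferInstance, i', inferInstance, inferInstance, inferInstance,
      triv_of_extension ν p hkp hN triv_DS1, rfl⟩
  refine hmax Z' hgood (lt_of_le_of_ne ?_ fun h => ?_)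
  · show (Z : Set L.left) ⊆ Set.range i'.left
    rw [hZ]
    rintro _ ⟨x, rfl⟩
    exact ⟨ν.left x, by rw [← Scheme.Hom.comp_apply, ← Over.comp_left, hν]⟩
  haveI : Subsingleton D.left := ⟨fun a b => by
    apply j.left.isClosedEmbedding.injective
    obtain ⟨a', rfl⟩ := p.left.surjective a
    obtain ⟨b', rfl⟩ := p.left.surjective b
    have hh : ∀ c, j.left (p.left c) = η[Q].left (IsLocalRing.closedPoint k) := fun c => by
      have hc : i'.left c ∈ Set.range i.left := by
        rw [← hZ, congrArg SetLike.coe h]; exact ⟨c, rfl⟩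
      obtain ⟨x, hx⟩ := hc
      rw [← Scheme.Hom.comp_apply, ← Over.comp_left, hp, Over.comp_left, Scheme.Hom.comp_apply, ← hx,
        ← Scheme.Hom.comp_apply, ← Over.comp_left, hker.w, Over.comp_left, Scheme.Hom.comp_apply]
      haveI : Subsingleton ↥(𝟙_ (Over (Spec (CommRingCat.of k)))).left := inferInstanceAs (Subsingleton (PrimeSpectrum k))
      exact congrArg η[Q].left (Subsingleton.elim _ _)
    rw [hh, hh]⟩
  obtain ⟨c, hc0, hc1⟩ : ∃ c : k, c ≠ 0 ∧ c ≠ 1 := by
    obtain ⟨c, hc⟩ := Infinite.exists_notMem_finset ({0, 1} : Finset k)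
    simp only [Finset.mem_insert, Finset.mem_singleton, not_or] at hc
    exact ⟨c, hc.1, hc.2⟩
  let ι₀ : k →+* Γ((𝟙_ (Over (Spec (CommRingCat.of k)))).left, ⊤) := (Scheme.ΓSpecIso (CommRingCat.of k)).inv.hom
  obtain ⟨t, ht⟩ := SGA3cLib.exists_gmFn (S := Spec (CommRingCat.of k)) ((Ne.isUnit hc0).map ι₀)
  let t₁ : 𝟙_ (Over (Spec (CommRingCat.of k))) ⟶ D := t ≫ Red.DSmap _ (Pi.evalAddMonoidHom (fun _ : Fin 1 => ℤ) 0)
  haveI : IsMonHom (Red.DSmap (Spec (CommRingCat.of k)) (Pi.evalAddMonoidHom (fun _ : Fin 1 => ℤ) 0)) :=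
    S5427.isMonHom_DSmap _
  have h1 := subsingleton_points t₁ 1
  have h2 := congrArg (fun z => z ≫ Red.DSmap _ (AddMonoidHom.single (fun _ : Fin 1 => ℤ) 0)) h1
  haveI : IsMonHom (Red.DSmap (Spec (CommRingCat.of k)) (AddMonoidHom.single (fun _ : Fin 1 => ℤ) 0)) :=
    S5427.isMonHom_DSmap _
  have h3 : t = 1 := by
    have e1 : Red.DSmap (Spec (CommRingCat.of k)) (Pi.evalAddMonoidHom (fun _ : Fin 1 => ℤ) 0) ≫
        Red.DSmap _ (AddMonoidHom.single (fun _ : Fin 1 => ℤ) 0) = 𝟙 _ := by
      refine dsFn_injective (MonoidHom.ext fun m => ?_)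
      rw [S5427.dsFn_DSmap, ← Category.id_comp (Red.DSmap _ (Pi.evalAddMonoidHom (fun _ : Fin 1 => ℤ) 0)),
        S5427.dsFn_DSmap]
      congr 1
    simpa only [t₁, Category.assoc, e1, Category.comp_id, MonObj.one_comp] using h2
  rw [h3, SGA3cLib.gmFn_one] at ht
  exact hc1 ((ConcreteCategory.bijective_of_isIso (Scheme.ΓSpecIso (CommRingCat.of k)).inv).1
    (ht.symm.trans (map_one ι₀).symm))

end Groth.Agent.AlgGrpLib.SplitTorsorLinear
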