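import Groth.Prelude.Def_GLinSh
import Groth.Prelude.Def_ActBC
import Groth.Prelude.Def_Red
import Groth.Agent.AlgGrpLib.SubGrpMono
import Groth.Agent.AlgGrpLib.ActionShear
import Groth.Agent.AlgGrpLib.ActionDescent

/-! Stabilisers as a group scheme over the space acted upon. -/

set_option autoImplicit false
set_option backward.isDefEq.respectTransparency.types false

universe u

open CategoryTheory Limits MonoidalCategory CartesianMonoidalCategory MonObj AlgebraicGeometry

noncomputable section

namespace Groth.Agent.AlgGrpLib.StabDim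

variable {S : Scheme.{u}} {G X : Over S} [GrpObj G]

/-- The stabiliser of a point is a subgroup. -/
theorem exists_stab_subgroup (a : AlgGrp.Action G X) (p : 𝟙_ (Over S) ⟶ X) :
    ∃ (N : Over S) (i : N ⟶ G) (_ : GrpObj N), Mono i ∧ IsPullback i (toUnit N)
      (CartesianMonoidalCategory.lift (𝟙 G) (toUnit G ≫ p) ≫ a.act) p := by
  obtain ⟨o, ho⟩ : ∃ o : G ⟶ X, o = CartesianMonoidalCategory.lift (𝟙 G) (toUnit G ≫ p) ≫ a.act := ⟨_, rfl⟩
  rw [← ho]
  haveI : Mono p := ⟨fun f g _ => toUnit_unique f g⟩
  let i : pullback o p ⟶ G := pullback.fst o p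
  haveI : Mono i := inferInstanceAs (Mono (pullback.fst o p))
  have hsnd : pullback.snd o p = toUnit _ := toUnit_unique _ _
  have hpb : IsPullback i (toUnit _) o p := by
    have h := IsPullback.of_hasPullback o p
    rwa [hsnd] at h
  have hev : ∀ {T : Over S} (t : T ⟶ G), t ≫ o = CartesianMonoidalCategory.lift t (toUnit T ≫ p) ≫ a.act := fun t => by
    rw [ho, comp_lift_assoc, Category.comp_id, comp_toUnit_assoc]
  have hmem : CartesianMonoidalCategory.lift i (toUnit _ ≫ p) ≫ a.act = toUnit _ ≫ p := by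
    rw [← hev, hpb.w]
  have hfac : ∀ {T : Over S} (t : T ⟶ G), CartesianMonoidalCategory.lift t (toUnit T ≫ p) ≫ a.act = toUnit T ≫ p →
      ∃ n : T ⟶ pullback o p, n ≫ i = t := fun t ht =>
    ⟨hpb.lift t (toUnit _) (by rw [hev, ht]), hpb.lift_fst _ _ _⟩
  have hmem' : ∀ {T : Over S} (n : T ⟶ pullback o p),
      CartesianMonoidalCategory.lift (n ≫ i) (toUnit T ≫ p) ≫ a.act = toUnit T ≫ p := fun n => by
    have := congrArg (n ≫ ·) hmem
    simpa only [comp_lift_assoc, comp_toUnit_assoc] using this
  obtain ⟨inst, -⟩ := exists_grpObj_of_mono i (hfac _ (by rw [one_act']))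
    (hfac _ (by rw [← act_act, hmem', hmem']))
    (hfac _ (by
      conv_lhs => rw [← hmem]
      rw [act_act, inv_mul_cancel, one_act']))
  exact ⟨_, i, inst, inferInstance, hpb⟩

/-- **The stabilisers form a group scheme** over the space acted upon. -/
theorem exists_stab_scheme (a : AlgGrp.Action G X) :
    ∃ (N : Over X.left) (_ : GrpObj N) (j : N.left ⟶ (G ⊗ X).left), Mono j ∧ j ≫ (snd G X).left = N.hom ∧
      IsPullback j N.hom (CartesianMonoidalCategory.lift a.act (snd G X)).left
        (CartesianMonoidalCategory.lift (𝟙 X) (𝟙 X)).left := by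
  let e := Over.mapPullbackAdj X.hom
  let d : (Over.map X.hom).obj (𝟙_ (Over X.left)) ⟶ X := Over.homMk (𝟙 X.left) rfl
  let p : 𝟙_ (Over X.left) ⟶ Red.bc X.hom X := e.homEquiv _ X d
  obtain ⟨N, i, inst, hmono, hpb⟩ := exists_stab_subgroup (AlgGrp.Action.bc X.hom a) p
  let g : (Over.map X.hom).obj (Red.bc X.hom G) ⟶ G := e.counit.app G
  have hg : e.homEquiv _ G g = 𝟙 _ := by
    rw [Adjunction.homEquiv_unit]
    exact e.right_triangle_components G
  obtain ⟨x, hx⟩ : ∃ x, x = (Over.map X.hom).map (toUnit (Red.bc X.hom G)) ≫ d := ⟨_, rfl⟩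
  have hxe : e.homEquiv _ X x = toUnit _ ≫ p := by rw [hx, e.homEquiv_naturality_left]
  have ho : CartesianMonoidalCategory.lift (𝟙 _) (toUnit _ ≫ p) ≫ (AlgGrp.Action.bc X.hom a).act =
      e.homEquiv _ X (CartesianMonoidalCategory.lift g x ≫ a.act) := by
    rw [← hg, ← hxe]
    exact AlgGrp.Action.lift_homEquiv_bc_act X.hom a g x
  rw [ho] at hpb
  have hpl := IsPullback.map (F := Over.forget X.left) hpb
  have hpleft : p.left = (CartesianMonoidalCategory.lift (𝟙 X) (𝟙 X)).left := by
    refine pullback.hom_ext ?_ ?_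
    · show p.left ≫ pullback.fst X.hom X.hom = (CartesianMonoidalCategory.lift (𝟙 X) (𝟙 X) ≫ fst X X).left
      rw [lift_fst]
      simp [p, e, d, Adjunction.homEquiv_unit, Over.mapPullbackAdj, pullback.lift_fst, pullback.lift_fst_assoc]
    · show p.left ≫ pullback.snd X.hom X.hom = (CartesianMonoidalCategory.lift (𝟙 X) (𝟙 X) ≫ snd X X).left
      rw [lift_snd]
      exact Over.w p
  have hgx : (CartesianMonoidalCategory.lift g x).left = 𝟙 (G ⊗ X).left := by
    refine pullback.hom_ext ?_ ?_
    · show (CartesianMonoidalCategory.lift g x ≫ fst G X).left = 𝟙 _ ≫ pullback.fst G.hom X.hom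
      rw [lift_fst, Category.id_comp]
      simp [g, e, Over.mapPullbackAdj]
    · show (CartesianMonoidalCategory.lift g x ≫ snd G X).left = 𝟙 _ ≫ pullback.snd G.hom X.hom
      rw [lift_snd, Category.id_comp, hx]
      simp [d]
  have holeft : (e.homEquiv _ X (CartesianMonoidalCategory.lift g x ≫ a.act)).left =
      (CartesianMonoidalCategory.lift a.act (snd G X)).left := by
    refine pullback.hom_ext ?_ ?_
    · show _ ≫ pullback.fst X.hom X.hom = (CartesianMonoidalCategory.lift a.act (snd G X) ≫ fst X X).left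
      rw [lift_fst]
      refine Eq.trans ?_ ((congrArg (· ≫ a.act.left) hgx).trans (Category.id_comp _))
      simp [e, Adjunction.homEquiv_unit, Over.mapPullbackAdj, pullback.lift_fst, pullback.lift_fst_assoc]
    · show _ ≫ pullback.snd X.hom X.hom = (CartesianMonoidalCategory.lift a.act (snd G X) ≫ snd X X).left
      rw [lift_snd]
      exact Over.w _
  have hN : i.left ≫ (snd G X).left = N.hom := Over.w i
  have hmono' : Mono i.left := inferInstance
  refine ⟨N, inst, i.left, hmono', hN, ?_⟩
  simp only [Over.forget_map, Over.forget_obj] at hpl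
  rw [holeft, hpleft] at hpl
  have hto : (toUnit N).left = N.hom := by simpa using Over.w (toUnit N)
  rwa [hto] at hpl

/-- The stabiliser of a point is the fibre of the stabiliser scheme. -/
theorem isPullback_stab (a : AlgGrp.Action G X) {N : Over X.left} (j : N.left ⟶ (G ⊗ X).left)
    (hpb : IsPullback j N.hom (CartesianMonoidalCategory.lift a.act (snd G X)).left
      (CartesianMonoidalCategory.lift (𝟙 X) (𝟙 X)).left) {T : Over S} (f : T ⟶ X) :
    ∃ q : GLinSh.stab a f ⟶ N.left, IsPullback q (GLinSh.stabTo a f) N.hom f.left := by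
  have hψ : IsPullback (G ◁ f).left (GIT.psi a f).left (CartesianMonoidalCategory.lift a.act (snd G X)).left (X ◁ f).left := by
    refine IsPullback.of_bot ?_ ?_ (AlgGrpLib.ActionDescent.isPullback_whiskerLeft_left X f).flip |>.flip |>.flip
    · rw [← Over.comp_left, ← Over.comp_left]
      have e1 : GIT.psi a f ≫ snd X T = snd G T := by rw [GIT.psi]; exact lift_snd _ _
      rw [e1, lift_snd]
      exact (AlgGrpLib.ActionDescent.isPullback_whiskerLeft_left G f).flip
    · rw [← Over.comp_left, ← Over.comp_left]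
      congr 1
      apply CartesianMonoidalCategory.hom_ext <;> simp [GIT.psi]
  have hstab : IsPullback (pullback.fst (GIT.psi a f).left (CartesianMonoidalCategory.lift f (𝟙 T)).left ≫ (G ◁ f).left)
      (GLinSh.stabTo a f) (CartesianMonoidalCategory.lift a.act (snd G X)).left
      (f.left ≫ (CartesianMonoidalCategory.lift (𝟙 X) (𝟙 X)).left) := by
    have h := (IsPullback.of_hasPullback (GIT.psi a f).left (CartesianMonoidalCategory.lift f (𝟙 T)).left).paste_horiz hψ
    rwa [show (CartesianMonoidalCategory.lift f (𝟙 T)).left ≫ (X ◁ f).left =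
      f.left ≫ (CartesianMonoidalCategory.lift (𝟙 X) (𝟙 X)).left by
        rw [← Over.comp_left, ← Over.comp_left]; congr 1; simp [comp_lift]] at h
  refine ⟨hpb.lift (pullback.fst (GIT.psi a f).left (CartesianMonoidalCategory.lift f (𝟙 T)).left ≫ (G ◁ f).left)
    (GLinSh.stabTo a f ≫ f.left) (hstab.w.trans (Category.assoc _ _ _).symm), ?_⟩
  refine IsPullback.of_right ?_ (hpb.lift_snd _ _ _) hpb
  rwa [hpb.lift_fst]

end Groth.Agent.AlgGrpLib.StabDim
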