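import Groth.Agent.AbVarLib.AlgClosedIntegral
import Groth.Prelude.Def_AlgGrp
import Mathlib.AlgebraicGeometry.Morphisms.Smooth

/-!
# Open subschemes stable under the translations by rational points

Over an algebraically closed field, an open stable under all translations by rational points is stable under the
group; the smooth locus is stable.
-/

set_option autoImplicit false
set_option linter.style.haveILetI false
set_option backward.isDefEq.respectTransparency.types false

universe u

open CategoryTheory CategoryTheory.Limits MonoidalCategory CartesianMonoidalCategory MonObj GrpObj AlgebraicGeometry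
open AlgGrp

namespace Groth.Agent.AlgGrpLib.StableOpen

variable {k : Type u} [Field k] {G X : Over (Spec (CommRingCat.of k))} [GrpObj G] (a : AlgGrp.Action G X)

/-- The translation by a rational point. -/
noncomputable abbrev trans (g : 𝟙_ (Over (Spec (CommRingCat.of k))) ⟶ G) : X ⟶ X :=
  lift (toUnit X ≫ g) (𝟙 X) ≫ a.act

theorem trans_mul (p q : 𝟙_ (Over (Spec (CommRingCat.of k))) ⟶ G) : trans a (p * q) = trans a q ≫ trans a p := by
  have hmul : ∀ {T : Over (Spec (CommRingCat.of k))} (p q : T ⟶ G) (x : T ⟶ X),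
      lift (p * q) x ≫ a.act = lift p (lift q x ≫ a.act) ≫ a.act := by
    intro T p q x
    have h := congrArg (lift (lift p q) x ≫ ·) a.mul_act
    simp only [lift_whiskerRight_assoc, lift_lift_associator_hom_assoc, lift_whiskerLeft_assoc] at h
    rw [Hom.mul_def]
    exact h
  show _ = trans a q ≫ lift (toUnit X ≫ p) (𝟙 X) ≫ a.act
  rw [← Category.assoc, comp_lift, ← Category.assoc, toUnit_unique (_ ≫ toUnit X) (toUnit X), Category.comp_id,
    ← hmul, ← MonObj.comp_mul]

theorem trans_one : trans a (1 : 𝟙_ (Over (Spec (CommRingCat.of k))) ⟶ G) = 𝟙 X := by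
  have h := congrArg (lift (toUnit X) (𝟙 X) ≫ ·) a.one_act
  simp only [lift_whiskerRight_assoc] at h
  show lift (toUnit X ≫ 1) (𝟙 X) ≫ a.act = 𝟙 X
  rw [MonObj.comp_one, Hom.one_def]
  exact h.trans (by simp)

theorem isIso_trans (g : 𝟙_ (Over (Spec (CommRingCat.of k))) ⟶ G) : IsIso (trans a g).left := by
  refine ⟨(trans a g⁻¹).left, ?_, ?_⟩
  · rw [← Over.comp_left, ← trans_mul, inv_mul_cancel, trans_one]; rfl
  · rw [← Over.comp_left, ← trans_mul, mul_inv_cancel, trans_one]; rfl

/-- An open stable under the translations by rational points is stable under the action. -/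
theorem preimage_eq_of_trans [IsAlgClosed k] [LocallyOfFiniteType G.hom] [LocallyOfFiniteType X.hom]
    (U : X.left.Opens) (hU : ∀ g, (trans a g).left ⁻¹ᵁ U = U) :
    a.act.left ⁻¹ᵁ U = (snd G X).left ⁻¹ᵁ U := by
  haveI : LocallyOfFiniteType (G ⊗ X).hom :=
    inferInstanceAs (LocallyOfFiniteType (pullback.fst G.hom X.hom ≫ G.hom))
  haveI : JacobsonSpace (G ⊗ X).left := LocallyOfFiniteType.jacobsonSpace (G ⊗ X).hom
  have key : ∀ z : (G ⊗ X).left, IsClosed {z} → (a.act.left z ∈ U ↔ (snd G X).left z ∈ U) := by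
    intro z hz
    let p : 𝟙_ (Over (Spec (CommRingCat.of k))) ⟶ G ⊗ X :=
      Over.homMk (pointOfClosedPoint (G ⊗ X).hom z hz) (pointOfClosedPoint_comp (G ⊗ X).hom z hz)
    have hp : ∀ s, p.left s = z := fun s => pointOfClosedPoint_apply (G ⊗ X).hom z hz s
    let s₀ : (𝟙_ (Over (Spec (CommRingCat.of k)))).left := IsLocalRing.closedPoint k
    have e : p ≫ a.act = (p ≫ snd G X) ≫ trans a (p ≫ fst G X) := by
      show _ = (p ≫ snd G X) ≫ lift (toUnit X ≫ p ≫ fst G X) (𝟙 X) ≫ a.act
      rw [← Category.assoc _ (lift _ _) a.act, comp_lift, ← Category.assoc _ (toUnit X), Category.comp_id,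
        toUnit_unique (_ ≫ toUnit X) (𝟙 _), Category.id_comp, ← comp_lift, lift_fst_snd, Category.comp_id]
    have h : a.act.left z = (trans a (p ≫ fst G X)).left ((snd G X).left z) := by
      rw [← hp s₀, ← Scheme.Hom.comp_apply, ← Scheme.Hom.comp_apply, ← Scheme.Hom.comp_apply, ← Over.comp_left,
        ← Over.comp_left, ← Over.comp_left, e, Category.assoc]
    rw [h]
    exact iff_of_eq (congrArg ((snd G X).left z ∈ ·) (hU _))
  have hsub : ∀ O O' : (G ⊗ X).left.Opens, (∀ z, IsClosed {z} → z ∈ O → z ∈ O') → O ≤ O' := by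
    intro O O' h z hz
    by_contra hz'
    obtain ⟨w, ⟨hw, hw'⟩, hwc⟩ := nonempty_inter_closedPoints (Z := (O : Set (G ⊗ X).left) ∩ (O' : Set (G ⊗ X).left)ᶜ)
      ⟨z, hz, hz'⟩ (O.2.isLocallyClosed.inter O'.2.isClosed_compl.isLocallyClosed)
    exact hw' (h w hwc hw)
  exact le_antisymm (hsub _ _ fun z hz => (key z hz).1) (hsub _ _ fun z hz => (key z hz).2)

/-- The smooth locus is stable under translations. -/
theorem preimage_smoothLocus [LocallyOfFinitePresentation X.hom] (g : 𝟙_ (Over (Spec (CommRingCat.of k))) ⟶ G) :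
    (trans a g).left ⁻¹ᵁ X.hom.smoothLocus = X.hom.smoothLocus := by
  haveI := isIso_trans a g
  rw [Scheme.Hom.preimage_smoothLocus_eq]
  have key : ∀ f : X.left ⟶ Spec (CommRingCat.of k), f = X.hom →
      ∀ [LocallyOfFinitePresentation f], f.smoothLocus = X.hom.smoothLocus := by
    rintro f rfl _; rfl
  exact key _ (Over.w (trans a g))

end Groth.Agent.AlgGrpLib.StableOpen
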