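import Groth.Agent.AbVarLib.PowEtale
import Mathlib.RingTheory.Ideal.Cotangent
import Mathlib.LinearAlgebra.Dual.Lemmas
import Mathlib.AlgebraicGeometry.Morphisms.Separated
import Mathlib.AlgebraicGeometry.Morphisms.FiniteType
import Mathlib.AlgebraicGeometry.Morphisms.FormallyUnramified
import Mathlib.RingTheory.Nakayama

/-!
# A nonzero tangent vector at a rational point
-/

set_option autoImplicit false

universe u

open CategoryTheory CategoryTheory.Limits AlgebraicGeometry MonoidalCategory CartesianMonoidalCategory MonObj GrpObj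

namespace Groth.Agent.AlgGrpLib

open Groth.Agent.LieSLib Groth.Agent.AbVarLib

/-- An irreducible scheme in which a rational closed point has cotangent space zero has dimension zero. -/
theorem exists_cotangent_functional {K : Type u} [Field K] {B : Type u} [CommRing B] [Algebra K B] [IsNoetherianRing B]
    (χ : B →ₐ[K] K) (hne : ∀ b : B, χ b = 1 → ∃ c, χ c = 0 ∧ b * c ≠ 0) :
    ∃ q : B →ₐ[K] TrivSqZeroExt K K, (∀ b, (q b).fst = χ b) ∧ ∃ b, (q b).snd ≠ 0 := by
  classical
  set m := RingHom.ker χ
  have hmm : m ≠ m ^ 2 := by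
    intro h
    have hfg : Submodule.FG m := IsNoetherian.noetherian _
    obtain ⟨r, hr, hr'⟩ := Submodule.exists_sub_one_mem_and_smul_eq_zero_of_fg_of_le_smul m m hfg
      (by rw [smul_eq_mul, ← pow_two, ← h])
    have hr1 : χ r = 1 := by rwa [RingHom.mem_ker, map_sub, map_one, sub_eq_zero] at hr
    obtain ⟨c, hc, hrc⟩ := hne r hr1
    exact hrc (hr' c hc)
  obtain ⟨x, hx, hx2⟩ : ∃ x ∈ m, x ∉ m ^ 2 := by
    by_contra hall
    push Not at hall
    exact hmm (le_antisymm hall (Ideal.pow_le_self two_ne_zero))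
  have hx2' : x ∉ (m ^ 2).restrictScalars K := hx2
  obtain ⟨f, hfx, hf⟩ := Submodule.exists_dual_map_eq_bot_of_notMem hx2' inferInstance
  have hf' : ∀ z ∈ m ^ 2, f z = 0 := fun z hz =>
    (Submodule.mem_bot K).1 (hf ▸ Submodule.mem_map_of_mem (p := (m ^ 2).restrictScalars K) hz)
  let R : B → B := fun b => b - algebraMap K B (χ b)
  have hR : ∀ b, R b ∈ m := fun b => by simp [R, m]
  have hRmul : ∀ a b, R (a * b) = R a * R b + χ a • R b + χ b • R a := fun a b => by
    simp only [R, map_mul, Algebra.smul_def]; ring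
  let q : B →ₐ[K] TrivSqZeroExt K K :=
    { toFun := fun b => TrivSqZeroExt.inl (χ b) + TrivSqZeroExt.inr (f (R b))
      map_one' := by ext <;> simp [R]
      map_mul' := fun a b => by
        refine TrivSqZeroExt.ext (by simp) ?_
        simp only [TrivSqZeroExt.snd_add, TrivSqZeroExt.snd_inl, TrivSqZeroExt.snd_inr, zero_add,
          TrivSqZeroExt.snd_mul, TrivSqZeroExt.fst_add, TrivSqZeroExt.fst_inl, TrivSqZeroExt.fst_inr, add_zero,
          op_smul_eq_smul, hRmul, map_add, map_smul, smul_eq_mul]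
        rw [hf' _ (by rw [pow_two]; exact Ideal.mul_mem_mul (hR a) (hR b)), zero_add]
      map_zero' := by ext <;> simp [R]
      map_add' := fun a b => by
        refine TrivSqZeroExt.ext (by simp) ?_
        simp only [TrivSqZeroExt.snd_add, TrivSqZeroExt.snd_inl, TrivSqZeroExt.snd_inr, zero_add]
        rw [← map_add]
        congr 1
        simp only [R, map_add]; ring
      commutes' := fun c => by
        refine TrivSqZeroExt.ext ?_ ?_ <;> simp [R, TrivSqZeroExt.algebraMap_eq_inl'] }
  refine ⟨q, fun b => by simp [q], x, ?_⟩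
  simpa [q, R, RingHom.mem_ker.1 hx] using hfx

variable {K : Type u} [Field K] (X : Over (Spec (CommRingCat.of K))) [GrpObj X]

/-- An irreducible group scheme locally of finite type of positive dimension has a nonzero tangent vector. -/
theorem exists_tangent_ne_one [LocallyOfFiniteType X.hom] [IsSeparated X.hom] [IrreducibleSpace X.left]
    (hX : 0 < topologicalKrullDim X.left) :
    ∃ w : tpt (𝟙 (Spec (CommRingCat.of K))) K ⟶ X, zsec (𝟙 (Spec (CommRingCat.of K))) ≫ w = 1 ∧ w ≠ 1 := by
  let pK : Spec (CommRingCat.of K) := IsLocalRing.closedPoint K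
  have hsub : ∀ y : Spec (CommRingCat.of K), y = pK := fun y =>
    @Subsingleton.elim _ (inferInstanceAs (Subsingleton (PrimeSpectrum K))) _ _
  let f := 𝟙 (Spec (CommRingCat.of K))
  let one : LieS.pt K f ⟶ X := 1
  let e := one.left pK
  have hclosed : IsClosed ({e} : Set X.left) := by
    have : IsClosedImmersion (one.left ≫ X.hom) := by
      rw [Over.w one]; change IsClosedImmersion (𝟙 (Spec (CommRingCat.of K))); infer_instance
    have hci : IsClosedImmersion one.left := IsClosedImmersion.of_comp one.left X.hom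
    have hr : Set.range one.left = {e} := by
      ext y
      exact ⟨fun ⟨z, hz⟩ => by rw [Set.mem_singleton_iff, ← hz, hsub z], fun h => ⟨pK, h.symm⟩⟩
    rw [← hr]
    exact hci.isClosedEmbedding.isClosed_range
  obtain ⟨_, ⟨V, hV, rfl⟩, heV, -⟩ :=
    X.left.isBasis_affineOpens.exists_subset_of_mem_open (Set.mem_univ e) isOpen_univ
  replace hV : IsAffineOpen V := hV
  haveI : IsLocallyNoetherian X.left := LocallyOfFiniteType.isLocallyNoetherian X.hom
  haveI : IsNoetherianRing Γ(X.left, V) := IsLocallyNoetherian.component_noetherian ⟨V, hV⟩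
  obtain ⟨χ₀, hχ₀⟩ := exists_factor hV one.left (by rintro _ ⟨z, rfl⟩; rw [hsub z]; exact heV)
  let ρ : K →+* Γ(X.left, V) := (Spec.preimage (hV.fromSpec ≫ X.hom)).hom
  have hρ : hV.fromSpec ≫ X.hom = Spec.map (CommRingCat.ofHom ρ) := by simp [ρ]
  letI : Algebra K Γ(X.left, V) := ρ.toAlgebra
  have hχρ : χ₀.comp ρ = RingHom.id K := by
    refine congrArg CommRingCat.Hom.hom (Spec.map_injective (a₁ := CommRingCat.ofHom (χ₀.comp ρ)) (a₂ := 𝟙 _) ?_)
    rw [CommRingCat.ofHom_comp, Spec.map_comp, ← hρ, ← Category.assoc, ← hχ₀, Spec.map_id]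
    exact Over.w one
  let χ : Γ(X.left, V) →ₐ[K] K := { χ₀ with commutes' := fun c => RingHom.congr_fun hχρ c }
  have hne : ∀ b, χ b = 1 → ∃ c, χ c = 0 ∧ b * c ≠ 0 := by
    by_contra hall
    push Not at hall
    obtain ⟨b, hb, hbc⟩ := hall
    -- then the point is open
    have hopen : IsOpen ({e} : Set X.left) := by
      have hr : hV.fromSpec '' (PrimeSpectrum.basicOpen b : Set (PrimeSpectrum Γ(X.left, V))) = {e} := by
        have he : hV.fromSpec ⟨RingHom.ker χ₀, RingHom.ker_isPrime χ₀⟩ = e := by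
          change _ = one.left pK
          rw [hχ₀, Scheme.Hom.comp_apply]
          congr 1
          exact PrimeSpectrum.ext (by
            change RingHom.ker χ₀ = Ideal.comap χ₀ (IsLocalRing.maximalIdeal K)
            rw [IsLocalRing.maximalIdeal_eq_bot]; rfl)
        have hb' : (PrimeSpectrum.basicOpen b : Set (PrimeSpectrum Γ(X.left, V))) =
            {⟨RingHom.ker χ₀, RingHom.ker_isPrime χ₀⟩} := by
          ext P
          simp only [SetLike.mem_coe, PrimeSpectrum.mem_basicOpen, Set.mem_singleton_iff]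
          constructor
          · intro hP
            have hle : RingHom.ker χ₀ ≤ P.asIdeal := fun c hc =>
              (P.2.mem_or_mem (by rw [hbc c hc]; exact zero_mem _)).resolve_left hP
            have hmax : (RingHom.ker χ₀).IsMaximal :=
              RingHom.ker_isMaximal_of_surjective χ₀ fun t => ⟨ρ t, RingHom.congr_fun hχρ t⟩
            exact PrimeSpectrum.ext (hmax.eq_of_le P.2.ne_top hle).symm
          · rintro rfl hb0
            exact one_ne_zero (hb.symm.trans hb0)
        exact (congrArg (hV.fromSpec '' ·) hb').trans (Set.image_singleton.trans (congrArg _ he))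
      rw [← hr]
      exact hV.fromSpec.isOpenEmbedding.isOpenMap _ (PrimeSpectrum.basicOpen b).2
    have huniv : ∀ y : X.left, y = e := by
      intro y
      by_contra hy
      obtain ⟨z, -, hz1, hz2⟩ := (IrreducibleSpace.isIrreducible_univ X.left).2 {e} ({e}ᶜ) hopen hclosed.isOpen_compl
        ⟨e, trivial, rfl⟩ ⟨y, trivial, hy⟩
      exact hz2 hz1
    haveI : Subsingleton X.left := ⟨fun a c => (huniv a).trans (huniv c).symm⟩
    haveI : Nonempty X.left := ⟨e⟩
    have h0 : topologicalKrullDim X.left ≤ 0 := topologicalKrullDim_zero_of_discreteTopology X.left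
    exact absurd hX (not_lt.2 h0)
  obtain ⟨q, hq1, b, hq2⟩ := exists_cotangent_functional χ hne
  let w : tpt f K ⟶ X := Over.homMk (Spec.map (CommRingCat.ofHom q.toRingHom) ≫ hV.fromSpec) (by
    change (Spec.map _ ≫ _) ≫ X.hom = Spec.map _ ≫ 𝟙 _
    rw [Category.assoc, hρ, ← Spec.map_comp, Category.comp_id]
    congr 1
    exact CommRingCat.hom_ext (RingHom.ext fun c => q.commutes c))
  have hzw : zsec f ≫ w = one := by
    refine Over.OverMorphism.ext ?_
    change Spec.map _ ≫ Spec.map _ ≫ _ = one.left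
    rw [hχ₀, ← Category.assoc, LieS.specMap_comp,
      show (TrivSqZeroExt.fstHom K K K).toRingHom.comp q.toRingHom = χ₀ from RingHom.ext fun x => hq1 x]
  refine ⟨w, hzw, fun hw => hq2 ?_⟩
  have h1 : (tproj f ≫ one : tpt f K ⟶ X) = 1 := MonObj.comp_one _
  rw [← h1] at hw
  have hl := congrArg CommaMorphism.left hw
  change Spec.map _ ≫ hV.fromSpec = Spec.map _ ≫ one.left at hl
  rw [hχ₀, ← Category.assoc, LieS.specMap_comp] at hl
  have := RingHom.congr_fun (specMap_fromSpec_injective hV hl) b
  exact (congrArg TrivSqZeroExt.snd this).trans (by simp [TrivSqZeroExt.algebraMap_eq_inl'])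

/-- Unramified endomorphisms kill no tangent vector. -/
theorem eq_one_of_comp_eq_one {Y : Over (Spec (CommRingCat.of K))} [GrpObj Y] (φ : X ⟶ Y)
    [IsOpenImmersion (pullback.diagonal φ.left)] (hφ : η[X] ≫ φ = η[Y])
    (w : tpt (𝟙 (Spec (CommRingCat.of K))) K ⟶ X) (hw : zsec (𝟙 (Spec (CommRingCat.of K))) ≫ w = 1)
    (h : w ≫ φ = 1) : w = 1 := by
  have h1 : (1 : tpt (𝟙 (Spec (CommRingCat.of K))) K ⟶ X) ≫ φ = 1 := by
    rw [Hom.one_def, Category.assoc, hφ, ← Hom.one_def]
  have hcomp : w.left ≫ φ.left = (1 : tpt (𝟙 (Spec (CommRingCat.of K))) K ⟶ X).left ≫ φ.left := by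
    rw [← Over.comp_left, ← Over.comp_left, h, h1]
  set g := pullback.lift w.left (1 : tpt (𝟙 (Spec (CommRingCat.of K))) K ⟶ X).left hcomp
  have hz : (zsec (𝟙 (Spec (CommRingCat.of K)))).left ≫ w.left =
      (zsec (𝟙 (Spec (CommRingCat.of K)))).left ≫ (1 : tpt (𝟙 (Spec (CommRingCat.of K))) K ⟶ X).left := by
    rw [← Over.comp_left, ← Over.comp_left, hw, MonObj.comp_one]
  have hrange : Set.range g ⊆ Set.range (pullback.diagonal φ.left) := by
    rintro _ ⟨y, rfl⟩
    obtain ⟨z, rfl⟩ : ∃ z, (zsec (M := K) (𝟙 (Spec (CommRingCat.of K)))).left z = y :=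
      comap_fstHom_surjective (B := K) (M := K) y
    refine ⟨((zsec (M := K) (𝟙 (Spec (CommRingCat.of K)))).left ≫ w.left) z, ?_⟩
    have hmor : ((zsec (M := K) (𝟙 (Spec (CommRingCat.of K)))).left ≫ w.left) ≫ pullback.diagonal φ.left =
        (zsec (M := K) (𝟙 (Spec (CommRingCat.of K)))).left ≫ g := by
      apply pullback.hom_ext
      · rw [Category.assoc, pullback.diagonal_fst, Category.comp_id, Category.assoc]
        exact (congrArg (_ ≫ ·) (pullback.lift_fst _ _ hcomp)).symm
      · rw [Category.assoc, pullback.diagonal_snd, Category.comp_id, Category.assoc]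
        exact hz.trans (congrArg (_ ≫ ·) (pullback.lift_snd _ _ hcomp)).symm
    rw [← Scheme.Hom.comp_apply, ← Scheme.Hom.comp_apply, hmor]
  have hl := IsOpenImmersion.lift_fac (pullback.diagonal φ.left) g hrange
  refine Over.OverMorphism.ext ?_
  have e1 := congrArg (fun t => t ≫ pullback.fst φ.left φ.left) hl
  have e2 := congrArg (fun t => t ≫ pullback.snd φ.left φ.left) hl
  simp only [Category.assoc, pullback.diagonal_fst, pullback.diagonal_snd, Category.comp_id, g,
    pullback.lift_fst, pullback.lift_snd] at e1 e2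
  exact e1.symm.trans e2

end Groth.Agent.AlgGrpLib
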