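import Groth.Agent.AlgGrpLib.SplitTorsor
import Groth.Agent.Misc15.GalDescent
import Groth.Agent.VarietyLib.SeparablePoints
import Mathlib.AlgebraicGeometry.Morphisms.LocalFlatDescent
import Mathlib.FieldTheory.IsSepClosed

/-!
The norm of a torsor under a commutative group scheme over a field: an equivariant map to the group for
a positive power.
-/

set_option autoImplicit false
set_option backward.isDefEq.respectTransparency.types false

universe u

open CategoryTheory CategoryTheory.Limits MonoidalCategory CartesianMonoidalCategory MonObj GrpObj AlgebraicGeometry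

namespace Groth.Agent.AlgGrpLib.TorsorNorm

open Groth.Agent.AlgGrpLib.SplitTorsor

variable {k : Type u} [Field k]

theorem smooth_of_torsor {G V : Over (Spec (CommRingCat.of k))} [GrpObj G] [Smooth G.hom]
    [LocallyOfFiniteType V.hom] [QuasiCompact V.hom] [Nonempty V.left] (a : AlgGrp.Action G V)
    (hV : IsIso (lift a.act (snd G V))) : Smooth V.hom := by
  haveI := hV
  haveI : IsIso (lift a.act (snd G V)).left :=
    inferInstanceAs (IsIso ((Over.forget _).map (lift a.act (snd G V))))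
  haveI : Smooth (snd G V).left := inferInstanceAs (Smooth (pullback.snd G.hom V.hom))
  have h1 : (lift a.act (snd G V)).left ≫ (snd V V).left = (snd G V).left := by
    rw [← Over.comp_left, lift_snd]
  have h2 : Smooth (snd V V).left := by
    rw [show (snd V V).left = inv (lift a.act (snd G V)).left ≫ (snd G V).left by rw [← h1, IsIso.inv_hom_id_assoc]]
    infer_instance
  haveI : Surjective V.hom := ⟨fun x => ⟨Classical.arbitrary _, Subsingleton.elim (α := PrimeSpectrum k) _ _⟩⟩
  exact MorphismProperty.of_isPullback_of_descendsAlong (P := @Smooth)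
    (Q := (@Surjective ⊓ @Flat ⊓ @QuasiCompact : MorphismProperty Scheme.{u})) (f := V.hom)
    (IsPullback.of_hasPullback V.hom V.hom).flip ⟨⟨inferInstance, inferInstance⟩, inferInstance⟩ h2

/-- A smooth nonempty scheme over a field has a point in a finite Galois extension. -/
theorem exists_galois_point {V : Over (Spec (CommRingCat.of k))} [Smooth V.hom] [Nonempty V.left] :
    ∃ (L : Type u) (_ : Field L) (_ : Algebra k L), FiniteDimensional k L ∧ IsGalois k L ∧
      Nonempty (SGA7.pt (K := k) L ⟶ V) := by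
  obtain ⟨v⟩ := (inferInstance : Nonempty V.left)
  obtain ⟨U, hU, hvU, -⟩ := exists_isAffineOpen_mem_and_subset (U := (⊤ : V.left.Opens)) (x := v) trivial
  haveI : Nonempty U := ⟨⟨v, hvU⟩⟩
  haveI : Nontrivial Γ(V.left, U) := Scheme.component_nontrivial _ _
  let φ : CommRingCat.of k ⟶ Γ(V.left, U) := (Scheme.ΓSpecIso _).inv ≫ V.hom.appLE ⊤ U (by simp)
  letI := φ.hom.toAlgebra
  have hφ : hU.fromSpec ≫ V.hom = Spec.map φ := by
    rw [← (isAffineOpen_top (Spec (CommRingCat.of k))).SpecMap_appLE_fromSpec V.hom hU (by simp), Spec.map_comp,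
      IsAffineOpen.fromSpec_top, Scheme.isoSpec_Spec_inv]
  haveI : Algebra.Smooth k Γ(V.left, U) := by
    have h : Smooth (Spec.map φ) := by rw [← hφ]; infer_instance
    exact RingHom.smooth_algebraMap.1 ((HasRingHomProperty.Spec_iff (P := @Smooth)).1 h)
  obtain ⟨Ω, _, _, _, _, ⟨f⟩⟩ := Groth.Agent.VarietyLib.exists_separable_point k Γ(V.left, U)
  let ι₀ : Ω →ₐ[k] SeparableClosure k := IsSepClosed.lift
  letI := ι₀.toRingHom.toAlgebra
  haveI : IsScalarTower k Ω (SeparableClosure k) := IsScalarTower.of_algebraMap_eq fun r => (ι₀.commutes r).symm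
  let L := IntermediateField.normalClosure k Ω (SeparableClosure k)
  haveI : IsGalois k L := IsGalois.normalClosure k Ω (SeparableClosure k)
  haveI : FiniteDimensional k L := normalClosure.is_finiteDimensional k Ω (SeparableClosure k)
  let g : Γ(V.left, U) →ₐ[k] L :=
    (ι₀.codRestrict L.toSubalgebra fun x => AlgHom.fieldRange_le_normalClosure ι₀ ⟨x, rfl⟩).comp f
  refine ⟨L, inferInstance, inferInstance, inferInstance, inferInstance,
    ⟨Over.homMk (Spec.map (CommRingCat.ofHom g.toRingHom) ≫ hU.fromSpec) ?_⟩⟩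
  show (Spec.map _ ≫ hU.fromSpec) ≫ V.hom = Spec.map _
  rw [Category.assoc, hφ, ← Spec.map_comp]
  exact congrArg Spec.map (CommRingCat.hom_ext g.comp_algebraMap)

/-- The norm map. -/
theorem exists_norm {G V : Over (Spec (CommRingCat.of k))} [GrpObj G] [IsCommMonObj G] [Smooth G.hom]
    [LocallyOfFiniteType V.hom] [QuasiCompact V.hom] [Nonempty V.left] (a : AlgGrp.Action G V)
    (hV : IsIso (lift a.act (snd G V))) :
    ∃ (φ : V ⟶ G) (n : ℕ), 0 < n ∧
      ∀ (T : Over (Spec (CommRingCat.of k))) (g : T ⟶ G) (v : T ⟶ V), lift g v ≫ a.act ≫ φ = (v ≫ φ) * g ^ n := by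
  classical
  haveI := smooth_of_torsor a hV
  obtain ⟨L, _, _, _, _, ⟨x⟩⟩ := exists_galois_point (V := V)
  let τ := Tors.ofAction a hV
  letI := fun W : Over (Spec (CommRingCat.of k)) => (inferInstance : CommGroup (W ⟶ G))
  let pL : Over (Spec (CommRingCat.of k)) := SGA7.pt (K := k) L
  let s : (L ≃ₐ[k] L) → (pL ⟶ pL) := fun σ => Over.homMk (GalTw.specMap L σ) (GalTw.specMap_comp_pt σ)
  have hs : ∀ σ σ', s σ ≫ s σ' = s (σ * σ') := fun σ σ' => Over.OverMorphism.ext (GalTw.specMap_mul L σ σ').symm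
  choose d hd hduniq using fun σ : L ≃ₐ[k] L =>
    τ.existsUnique (snd V pL ≫ s σ ≫ x) (fst V pL) (toUnit_unique _ _)
  let Φ : V ⊗ pL ⟶ G := ∏ σ, d σ
  have hcomp : ∀ {W : Over (Spec (CommRingCat.of k))} (f : W ⟶ V ⊗ pL), f ≫ Φ = ∏ σ, f ≫ d σ := fun {W} f =>
    map_prod ({ toFun := fun g => f ≫ g, map_one' := MonObj.comp_one f, map_mul' := fun g h => MonObj.comp_mul f g h } :
      (V ⊗ pL ⟶ G) →* (W ⟶ G)) d Finset.univ
  have hfix : ∀ ρ : L ≃ₐ[k] L, lift (fst V pL) (snd V pL ≫ s ρ) ≫ Φ = Φ := fun ρ => by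
    rw [hcomp, show Φ = ∏ σ, d (ρ * σ) from (Fintype.prod_equiv (Equiv.mulLeft ρ) _ _ fun _ => rfl).symm]
    refine Finset.prod_congr rfl fun σ _ => hduniq _ _ ?_
    have := congrArg (lift (fst V pL) (snd V pL ≫ s ρ) ≫ ·) (hd σ)
    simp only [τ.comp, lift_snd_assoc, lift_fst, Category.assoc, reassoc_of% hs] at this
    exact this
  let q : (V ⊗ pL).left ⟶ V.left := pullback.fst V.hom pL.hom
  obtain ⟨m, hm⟩ := Misc15.GalDescent.exists_factor_of_inv (Misc15.GalDescent.isQuot_fst L V) Φ.left fun ρ => by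
    rw [Misc15.GalDescent.rho_hom]
    have e : (lift (fst V pL) (snd V pL ≫ s ρ⁻¹)).left = GalTw.galMap L ρ⁻¹ V := by
      apply pullback.hom_ext
      · rw [GalTw.galMap_fst]
        exact congrArg CommaMorphism.left (lift_fst (fst V pL) (snd V pL ≫ s ρ⁻¹))
      · rw [GalTw.galMap_snd]
        exact congrArg CommaMorphism.left (lift_snd (fst V pL) (snd V pL ≫ s ρ⁻¹))
    rw [← e, ← Over.comp_left, hfix]
  haveI : Surjective pL.hom := ⟨fun y => ⟨IsLocalRing.closedPoint L, Subsingleton.elim (α := PrimeSpectrum k) _ _⟩⟩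
  haveI hsurj : ∀ W : Over (Spec (CommRingCat.of k)), Surjective (fst W pL).left := fun W =>
    inferInstanceAs (Surjective (pullback.fst W.hom pL.hom))
  haveI hflat : ∀ W : Over (Spec (CommRingCat.of k)), Flat (fst W pL).left := fun W =>
    inferInstanceAs (Flat (pullback.fst W.hom pL.hom))
  haveI hqc : ∀ W : Over (Spec (CommRingCat.of k)), QuasiCompact (fst W pL).left := fun W =>
    MorphismProperty.pullback_fst (P := @QuasiCompact) W.hom pL.hom (inferInstanceAs (QuasiCompact (Spec.map _)))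
  haveI hepi : ∀ W : Over (Spec (CommRingCat.of k)), Epi (fst W pL) := fun W => by
    haveI : Epi (fst W pL).left := Flat.epi_of_flat_of_surjective _
    exact Over.epi_of_epi_left _
  have hmw : m ≫ G.hom = V.hom := by
    haveI : Epi (fst V pL).left := Flat.epi_of_flat_of_surjective _
    rw [← cancel_epi (fst V pL).left]
    show q ≫ m ≫ G.hom = q ≫ V.hom
    rw [← Category.assoc, show q ≫ m = Φ.left from hm, Over.w Φ]
    exact (Over.w (fst V pL)).symm
  let φ : V ⟶ G := Over.homMk m hmw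
  have hφ : fst V pL ≫ φ = Φ := Over.OverMorphism.ext hm
  refine ⟨φ, Fintype.card (L ≃ₐ[k] L), Fintype.card_pos, fun T g v => ?_⟩
  rw [← cancel_epi (fst T pL)]
  have e1 : ∀ w : T ⊗ pL ⟶ V, w ≫ φ = lift w (snd T pL) ≫ Φ := fun w => by
    rw [← hφ, lift_fst_assoc]
  have hg : fst T pL ≫ g ^ Fintype.card (L ≃ₐ[k] L) = (fst T pL ≫ g) ^ Fintype.card (L ≃ₐ[k] L) :=
    map_pow ({ toFun := fun h => fst T pL ≫ h, map_one' := MonObj.comp_one _, map_mul' := MonObj.comp_mul _ } :
      (T ⟶ G) →* (T ⊗ pL ⟶ G)) g _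
  rw [MonObj.comp_mul, hg, ← Category.assoc (fst T pL) v φ, ← Category.assoc (fst T pL), ← Category.assoc,
    comp_lift, e1, e1, hcomp, hcomp, ← Finset.card_univ, ← Finset.prod_const, ← Finset.prod_mul_distrib]
  refine Finset.prod_congr rfl fun σ _ => ?_
  have h1 := congrArg (lift (fst T pL ≫ v) (snd T pL) ≫ ·) (hd σ)
  have h2 := congrArg (lift (lift (fst T pL ≫ g) (fst T pL ≫ v) ≫ a.act) (snd T pL) ≫ ·) (hd σ)
  simp only [τ.comp, lift_snd_assoc, lift_fst] at h1 h2
  refine (τ.existsUnique (snd T pL ≫ s σ ≫ x) _ (toUnit_unique _ _)).unique h2 ?_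
  rw [_root_.mul_comm, τ.mul, h1]
  rfl

end Groth.Agent.AlgGrpLib.TorsorNorm
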