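import Groth.Agent.AlgGrpLib.TorsorNorm
import Groth.Agent.AbSchLib.RigidityOver
import Groth.Agent.AbSchLib.ConnectedFibres
import Groth.Agent.AbSchLib.SmoothReduced
import Groth.Agent.NeronLib.Dedekind
import Mathlib.AlgebraicGeometry.SpreadingOut

/-!
The norm of a relative torsor over a point of the base, and the map from a torsor over a smooth variety under
an abelian variety to the abelian variety.
-/

set_option autoImplicit false
set_option backward.isDefEq.respectTransparency.types false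

universe u

open CategoryTheory CategoryTheory.Limits MonoidalCategory CartesianMonoidalCategory MonObj GrpObj AlgebraicGeometry

namespace Groth.Agent.AlgGrpLib.TorsorNormRel

open Groth.Agent.AlgGrpLib.SplitTorsor Groth.Agent.AlgGrpLib.TorsorNorm

variable {k : Type u} [Field k]

theorem comp_pow' {S : Scheme.{u}} {G W W' : Over S} [GrpObj G] (f : W' ⟶ W) (g : W ⟶ G) (n : ℕ) :
    f ≫ g ^ n = (f ≫ g) ^ n :=
  map_pow ({ toFun := fun h => f ≫ h, map_one' := MonObj.comp_one _, map_mul' := MonObj.comp_mul _ } :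
    (W ⟶ G) →* (W' ⟶ G)) g n

/-- The norm over a field valued point of the base. -/
theorem exists_norm_rel {G X Y : Over (Spec (CommRingCat.of k))} [GrpObj G] [IsCommMonObj G] {π : X ⟶ Y}
    (τ : Tors G π) {κ : Type u} [Field κ] (ζ : Spec (CommRingCat.of κ) ⟶ Y.left)
    [Smooth (pullback.snd π.left ζ)] [Nonempty ↥(pullback π.left ζ)] :
    ∃ (φ : Over.mk (pullback.fst π.left ζ ≫ X.hom) ⟶ G) (n : ℕ), 0 < n ∧
      ∀ (T : Over (Spec (CommRingCat.of k))) (g : T ⟶ G) (v v' : T ⟶ Over.mk (pullback.fst π.left ζ ≫ X.hom)),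
        v' ≫ (Over.homMk (pullback.fst π.left ζ) : _ ⟶ X) = τ.act g (v ≫ Over.homMk (pullback.fst π.left ζ)) →
        v'.left ≫ pullback.snd π.left ζ = v.left ≫ pullback.snd π.left ζ →
        v' ≫ φ = (v ≫ φ) * g ^ n := by
  classical
  let P : Over (Spec (CommRingCat.of κ)) := Over.mk (pullback.snd π.left ζ)
  haveI : Smooth P.hom := ‹_›
  haveI : Nonempty P.left := ‹_›
  obtain ⟨L, _, _, _, _, ⟨x⟩⟩ := exists_galois_point (V := P)
  let pL : Over (Spec (CommRingCat.of κ)) := SGA7.pt (K := κ) L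
  let p : (pullback P.hom pL.hom) ⟶ pullback π.left ζ := pullback.fst P.hom pL.hom
  let W : Over (Spec (CommRingCat.of k)) := Over.mk (p ≫ pullback.fst π.left ζ ≫ X.hom)
  let Pk : Over (Spec (CommRingCat.of k)) := Over.mk (pullback.fst π.left ζ ≫ X.hom)
  let ε : Pk ⟶ X := Over.homMk (pullback.fst π.left ζ)
  let q : W ⟶ Pk := Over.homMk p rfl
  have hY : π.left ≫ Y.hom = X.hom := Over.w π
  have hbase : pullback.fst π.left ζ ≫ X.hom = pullback.snd π.left ζ ≫ ζ ≫ Y.hom := by
    rw [← hY, pullback.condition_assoc]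
  let pt : (L ≃ₐ[κ] L) → (pullback P.hom pL.hom ⟶ pullback π.left ζ) := fun σ =>
    pullback.snd P.hom pL.hom ≫ GalTw.specMap L σ ≫ x.left
  have hpt : ∀ σ, pt σ ≫ pullback.snd π.left ζ = p ≫ pullback.snd π.left ζ := fun σ => by
    show (pullback.snd P.hom pL.hom ≫ GalTw.specMap L σ ≫ x.left) ≫ P.hom = p ≫ P.hom
    rw [Category.assoc, Category.assoc, Over.w x, GalTw.specMap_comp_pt]
    exact (pullback.condition).symm
  let s : (L ≃ₐ[κ] L) → (W ⟶ Pk) := fun σ => Over.homMk (pt σ) (by
    show pt σ ≫ pullback.fst π.left ζ ≫ X.hom = p ≫ pullback.fst π.left ζ ≫ X.hom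
    rw [hbase, reassoc_of% (hpt σ)])
  choose d hd hduniq using fun σ : L ≃ₐ[κ] L =>
    τ.existsUnique (s σ ≫ ε) (q ≫ ε) (Over.OverMorphism.ext (by
      show (pt σ ≫ pullback.fst π.left ζ) ≫ π.left = (p ≫ pullback.fst π.left ζ) ≫ π.left
      rw [Category.assoc (pt σ), Category.assoc p, pullback.condition, ← Category.assoc (pt σ), hpt σ, Category.assoc]))
  let Φ : W ⟶ G := ∏ σ, d σ
  have hcomp : ∀ {U : Over (Spec (CommRingCat.of k))} (f : U ⟶ W), f ≫ Φ = ∏ σ, f ≫ d σ := fun {U} f =>
    map_prod ({ toFun := fun g => f ≫ g, map_one' := MonObj.comp_one f, map_mul' := fun g h => MonObj.comp_mul f g h } :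
      (W ⟶ G) →* (U ⟶ G)) d Finset.univ
  let r : (L ≃ₐ[κ] L) → (W ⟶ W) := fun ρ => Over.homMk (GalTw.galMap L ρ P) (by
    show GalTw.galMap L ρ P ≫ p ≫ pullback.fst π.left ζ ≫ X.hom = p ≫ pullback.fst π.left ζ ≫ X.hom
    rw [← Category.assoc, GalTw.galMap_fst])
  have hfix : ∀ ρ : L ≃ₐ[κ] L, r ρ ≫ Φ = Φ := fun ρ => by
    rw [hcomp, show Φ = ∏ σ, d (ρ * σ) from (Fintype.prod_equiv (Equiv.mulLeft ρ) _ _ fun _ => rfl).symm]
    refine Finset.prod_congr rfl fun σ _ => hduniq _ _ ?_
    have e1 : r ρ ≫ q = q := Over.OverMorphism.ext (GalTw.galMap_fst L ρ P)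
    have e2 : r ρ ≫ s σ = s (ρ * σ) := Over.OverMorphism.ext (by
      show GalTw.galMap L ρ P ≫ pullback.snd P.hom pL.hom ≫ GalTw.specMap L σ ≫ x.left =
        pullback.snd P.hom pL.hom ≫ GalTw.specMap L (ρ * σ) ≫ x.left
      rw [GalTw.specMap_mul, ← Category.assoc, GalTw.galMap_snd]
      simp only [Category.assoc]
      rfl)
    have h := congrArg (r ρ ≫ ·) (hd σ)
    simp only [τ.comp, ← Category.assoc, e1, e2] at h
    exact h
  obtain ⟨m, hm⟩ := Misc15.GalDescent.exists_factor_of_inv (Misc15.GalDescent.isQuot_fst L P) Φ.left fun ρ => by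
    rw [Misc15.GalDescent.rho_hom]
    exact congrArg CommaMorphism.left (hfix ρ⁻¹)
  haveI : Surjective pL.hom := ⟨fun y => ⟨IsLocalRing.closedPoint L, Subsingleton.elim (α := PrimeSpectrum κ) _ _⟩⟩
  haveI : Flat pL.hom := inferInstance
  haveI : QuasiCompact pL.hom := inferInstanceAs (QuasiCompact (Spec.map _))
  haveI : Epi p := by
    haveI : Surjective p := inferInstanceAs (Surjective (pullback.fst P.hom pL.hom))
    haveI : Flat p := inferInstanceAs (Flat (pullback.fst P.hom pL.hom))
    haveI : QuasiCompact p := MorphismProperty.pullback_fst (P := @QuasiCompact) P.hom pL.hom inferInstance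
    exact Flat.epi_of_flat_of_surjective _
  have hmw : m ≫ G.hom = Pk.hom := by
    rw [← cancel_epi p, ← Category.assoc, show p ≫ m = Φ.left from hm]
    exact Over.w Φ
  let φ : Pk ⟶ G := Over.homMk m hmw
  have hφ : q ≫ φ = Φ := Over.OverMorphism.ext hm
  refine ⟨φ, Fintype.card (L ≃ₐ[κ] L), Fintype.card_pos, fun T g v v' hv hv' => ?_⟩
  let a : T.left ⟶ Spec (CommRingCat.of κ) := v.left ≫ pullback.snd π.left ζ
  let T' : Over (Spec (CommRingCat.of k)) := Over.mk (pullback.fst a pL.hom ≫ T.hom)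
  let t : T' ⟶ T := Over.homMk (pullback.fst a pL.hom)
  haveI : Epi t := by
    haveI : Surjective t.left := inferInstanceAs (Surjective (pullback.fst a pL.hom))
    haveI : Flat t.left := inferInstanceAs (Flat (pullback.fst a pL.hom))
    haveI : QuasiCompact t.left := MorphismProperty.pullback_fst (P := @QuasiCompact) a pL.hom inferInstance
    haveI : Epi t.left := Flat.epi_of_flat_of_surjective _
    exact Over.epi_of_epi_left _
  have mkW : ∀ u : T ⟶ Pk, u.left ≫ pullback.snd π.left ζ = a →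
      ∃ w : T' ⟶ W, w ≫ q = t ≫ u ∧ w.left ≫ pullback.snd P.hom pL.hom = pullback.snd a pL.hom := fun u hu => by
    have hc : (pullback.fst a pL.hom ≫ u.left) ≫ P.hom = pullback.snd a pL.hom ≫ pL.hom := by
      rw [Category.assoc, show u.left ≫ P.hom = a from hu, pullback.condition]
    refine ⟨Over.homMk (pullback.lift (pullback.fst a pL.hom ≫ u.left) (pullback.snd a pL.hom) hc) ?_, ?_, ?_⟩
    · show pullback.lift _ _ hc ≫ p ≫ Pk.hom = _
      rw [pullback.lift_fst_assoc, Category.assoc, Over.w u]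
      rfl
    · ext1
      exact pullback.lift_fst _ _ hc
    · exact pullback.lift_snd _ _ hc
  obtain ⟨w, hw, hws⟩ := mkW v rfl
  obtain ⟨w', hw', hw's⟩ := mkW v' hv'
  have hg : t ≫ g ^ Fintype.card (L ≃ₐ[κ] L) = (t ≫ g) ^ Fintype.card (L ≃ₐ[κ] L) := comp_pow' _ _ _
  rw [← cancel_epi t, MonObj.comp_mul, hg, ← Category.assoc, ← hw', ← Category.assoc t v φ, ← hw,
    Category.assoc, Category.assoc, hφ, hcomp, hcomp, ← Finset.card_univ, ← Finset.prod_const,
    ← Finset.prod_mul_distrib]
  refine Finset.prod_congr rfl fun σ _ => ?_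
  have es : w' ≫ s σ = w ≫ s σ := Over.OverMorphism.ext (by
    show w'.left ≫ pullback.snd P.hom pL.hom ≫ GalTw.specMap L σ ≫ x.left =
      w.left ≫ pullback.snd P.hom pL.hom ≫ GalTw.specMap L σ ≫ x.left
    rw [reassoc_of% hw's, reassoc_of% hws])
  have h1 := congrArg (w ≫ ·) (hd σ)
  have h2 := congrArg (w' ≫ ·) (hd σ)
  simp only [τ.comp, ← Category.assoc, hw, hw', es] at h1 h2
  simp only [Category.assoc] at h1 h2
  refine (τ.existsUnique (w ≫ s σ ≫ ε) (t ≫ v' ≫ ε) ?_).unique h2 ?_
  · rw [← h2, τ.act_π]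
  · rw [_root_.mul_comm, τ.mul, h1, hv, τ.comp]

/-- The points of a torsor given by an isomorphism onto the kernel pair. -/
noncomputable def torsOfIso {G X Y : Over (Spec (CommRingCat.of k))} [GrpObj G] (a : AlgGrp.Action G X) (f : X ⟶ Y)
    (hinv : a.act ≫ f = snd G X ≫ f) (h : IsIso (pullback.lift a.act (snd G X) hinv)) : Tors G f where
  act g x := lift g x ≫ a.act
  comp f g x := by rw [← Category.assoc, comp_lift]
  mul g g' x := by
    have h := lift (lift g g') x ≫= a.mul_act
    simpa [Hom.mul_def] using h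
  act_π g x := by
    rw [Category.assoc, hinv, lift_snd_assoc]
  existsUnique {W} x y hxy := by
    haveI := h
    let e := pullback.lift a.act (snd G X) hinv
    have he1 : e ≫ pullback.fst f f = a.act := pullback.lift_fst _ _ _
    have he2 : e ≫ pullback.snd f f = snd G X := pullback.lift_snd _ _ _
    let w : W ⟶ G ⊗ X := pullback.lift y x hxy.symm ≫ inv e
    have hw1 : w ≫ a.act = y := by
      rw [← he1, Category.assoc, IsIso.inv_hom_id_assoc, pullback.lift_fst]
    have hw2 : w ≫ snd G X = x := by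
      rw [← he2, Category.assoc, IsIso.inv_hom_id_assoc, pullback.lift_snd]
    refine ⟨w ≫ fst G X, ?_, fun g hg => ?_⟩
    · beta_reduce
      rw [show lift (w ≫ fst G X) x = w by rw [← hw2]; apply CartesianMonoidalCategory.hom_ext <;> simp, hw1]
    · have : lift g x = w := by
        rw [eq_comm, IsIso.comp_inv_eq]
        apply pullback.hom_ext
        · rw [pullback.lift_fst, Category.assoc, he1, hg]
        · rw [pullback.lift_snd, Category.assoc, he2, lift_snd]
      rw [← this, lift_fst]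

/-- A torsor under a smooth group is smooth over its base. -/
theorem smooth_of_torsor_rel {G X Y : Over (Spec (CommRingCat.of k))} [GrpObj G] [Smooth G.hom]
    (a : AlgGrp.Action G X) (f : X ⟶ Y) [Flat f.left] [Surjective f.left] [QuasiCompact f.left]
    (hinv : a.act ≫ f = snd G X ≫ f) (h : IsIso (pullback.lift a.act (snd G X) hinv)) : Smooth f.left := by
  haveI := h
  have hP : IsPullback a.act (snd G X) f f :=
    IsPullback.of_iso_pullback ⟨hinv⟩ (asIso (pullback.lift a.act (snd G X) hinv)) (pullback.lift_fst _ _ _)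
      (pullback.lift_snd _ _ _)
  have hsnd : Smooth (snd G X).left := inferInstanceAs (Smooth (pullback.snd G.hom X.hom))
  exact MorphismProperty.of_isPullback_of_descendsAlong (P := @Smooth)
    (Q := (@Surjective ⊓ @Flat ⊓ @QuasiCompact : MorphismProperty Scheme.{u})) (f := f.left)
    (hP.map (Over.forget _)).flip ⟨⟨inferInstance, inferInstance⟩, inferInstance⟩ hsnd

/-- An abelian variety is commutative. -/
theorem isCommMonObj_abelianVariety (A : Over (Spec (CommRingCat.of k))) [GrpObj A] [IsProper A.hom] [Smooth A.hom]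
    [ConnectedSpace ↥A.left] : IsCommMonObj A := by
  haveI : GeometricallyConnected A.hom := AbSchLib.geometricallyConnected_of_section A.hom η[A].left (Over.w η[A])
    fun s => by
      have hsurj : Function.Surjective (A.hom.fiberι s) := fun a => by
        have ha : a ∈ Set.range (A.hom.fiberι s) := by
          rw [Scheme.Hom.range_fiberι]
          exact Subsingleton.elim (α := PrimeSpectrum k) _ _
        exact ha
      let e := (A.hom.fiberι s).isEmbedding.toHomeomorphOfSurjective hsurj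
      exact e.symm.surjective.connectedSpace e.symm.continuous
  haveI := AbSchLib.geometricallyReduced_of_smooth A.hom
  exact AbSchLib.isCommMonObj_of_proper A

/-- A torsor over a smooth variety under an abelian variety maps equivariantly, up to a positive power, to it. -/
theorem exists_map (A X Y : Over (Spec (CommRingCat.of k))) [GrpObj A] [IsProper A.hom] [Smooth A.hom]
    [ConnectedSpace ↥A.left]
    [Smooth X.hom] [QuasiCompact X.hom] [IrreducibleSpace ↥X.left] [QuasiSeparated Y.hom]
    (a : AlgGrp.Action A X) (f : X ⟶ Y) [Flat f.left] [Surjective f.left]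
    (hinv : a.act ≫ f = snd A X ≫ f) (htors : IsIso (pullback.lift a.act (snd A X) hinv)) :
    ∃ (φ : X ⟶ A) (n : ℕ), 0 < n ∧
      ∀ (T : Over (Spec (CommRingCat.of k))) (b : T ⟶ A) (x : T ⟶ X), lift b x ≫ a.act ≫ φ = (x ≫ φ) * b ^ n := by
  haveI := isCommMonObj_abelianVariety A
  haveI : QuasiCompact f.left := by
    haveI : QuasiCompact (f.left ≫ Y.hom) := by rw [Over.w f]; infer_instance
    exact QuasiCompact.of_comp f.left Y.hom
  haveI := smooth_of_torsor_rel a f hinv htors
  let τ := torsOfIso a f hinv htors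
  haveI : IsReduced X.left := AbSchLib.isReduced_of_smooth X.hom
  haveI : IsIntegral X.left := isIntegral_of_irreducibleSpace_of_isReduced X.left
  let ξ : X.left := genericPoint X.left
  let η₀ : Y.left := f.left ξ
  let ζ := Y.left.fromSpecResidueField η₀
  let p₀ : Spec (X.left.residueField ξ) ⟶ pullback f.left ζ :=
    pullback.lift (X.left.fromSpecResidueField ξ) (Spec.map (f.left.residueFieldMap ξ))
      (f.left.SpecMap_residueFieldMap_fromSpecResidueField ξ).symm
  have hp₀ : p₀ ≫ pullback.fst f.left ζ = X.left.fromSpecResidueField ξ := pullback.lift_fst _ _ _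
  haveI : Nonempty ↥(pullback f.left ζ) := ⟨p₀ default⟩
  haveI : IsReduced (pullback f.left ζ) := AbSchLib.isReduced_of_smooth (pullback.snd f.left ζ)
  obtain ⟨φP, n, hn, hnorm⟩ := exists_norm_rel τ (κ := Y.left.residueField η₀) ζ
  let Pk : Over (Spec (CommRingCat.of k)) := Over.mk (pullback.fst f.left ζ ≫ X.hom)
  let ε : Pk ⟶ X := Over.homMk (pullback.fst f.left ζ)
  haveI : IsReduced Pk.left := ‹IsReduced (pullback f.left ζ)›
  haveI hres : IsIso (X.left.residue ξ) := by
    letI : Field (X.left.presheaf.stalk ξ) := inferInstanceAs (Field X.left.functionField)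
    rw [ConcreteCategory.isIso_iff_bijective]
    exact ⟨(X.left.residue ξ).hom.injective, IsLocalRing.residue_surjective⟩
  obtain ⟨U, hξU, g, hg, hgA⟩ := spread_out_of_isGermInjective' X.hom A.hom
    (inv (Spec.map (X.left.residue ξ)) ≫ p₀ ≫ φP.left) (by
      simp only [Category.assoc]
      rw [IsIso.inv_comp_eq, Over.w φP]
      show p₀ ≫ pullback.fst f.left ζ ≫ X.hom = _
      rw [reassoc_of% hp₀]
      rfl)
  haveI : GrpObj (Over.mk A.hom) := ‹GrpObj A›
  obtain ⟨Φ, ⟨hΦ, hΦU⟩, -⟩ := NeronLib.weil_extension_dedekind X.hom A.hom U (U.isOpen.dense ⟨ξ, hξU⟩) g hgA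
  let φ : X ⟶ A := Over.homMk Φ hΦ
  haveI : IsDominant p₀ := by
    refine ⟨fun z => ?_⟩
    rw [(pullback.fst f.left ζ).isEmbedding.closure_eq_preimage_closure_image]
    refine (genericPoint_specializes (α := X.left) _).mem_closed isClosed_closure (subset_closure ?_)
    exact ⟨p₀ default, ⟨default, rfl⟩, by rw [← Scheme.Hom.comp_apply, hp₀, Scheme.fromSpecResidueField_apply]⟩
  have hεφ : ε ≫ φ = φP := by
    refine Over.OverMorphism.ext (ext_of_isDominant_of_isSeparated A.hom ?_ p₀ ?_)
    · rw [Over.w (ε ≫ φ), Over.w φP]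
    · show p₀ ≫ pullback.fst f.left ζ ≫ Φ = p₀ ≫ φP.left
      rw [reassoc_of% hp₀]
      have h3 : X.left.fromSpecStalk ξ ≫ Φ = inv (Spec.map (X.left.residue ξ)) ≫ p₀ ≫ φP.left := by
        rw [hg, ← hΦU, Scheme.Opens.fromSpecStalkOfMem_ι_assoc]
      rw [Scheme.fromSpecResidueField, Category.assoc, h3, IsIso.hom_inv_id_assoc]
  let v : A ⊗ Pk ⟶ Pk := snd A Pk
  let u : A ⊗ Pk ⟶ X := τ.act (fst A Pk) (v ≫ ε)
  have hu : u.left ≫ f.left = (v.left ≫ pullback.snd f.left ζ) ≫ ζ := by
    have h := congrArg CommaMorphism.left (τ.act_π (fst A Pk) (v ≫ ε))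
    change u.left ≫ f.left = (v.left ≫ pullback.fst f.left ζ) ≫ f.left at h
    rw [h, Category.assoc, pullback.condition, Category.assoc]
  let v' : A ⊗ Pk ⟶ Pk := Over.homMk (pullback.lift u.left (v.left ≫ pullback.snd f.left ζ) hu) (by
    show pullback.lift _ _ hu ≫ pullback.fst f.left ζ ≫ X.hom = _
    rw [pullback.lift_fst_assoc, Over.w u])
  have hv' : v' ≫ ε = u := Over.OverMorphism.ext (pullback.lift_fst _ _ hu)
  have key := hnorm (A ⊗ Pk) (fst A Pk) v v' hv' (pullback.lift_snd _ _ hu)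
  haveI : Smooth (A ⊗ X).hom := inferInstanceAs (Smooth (pullback.fst A.hom X.hom ≫ A.hom))
  haveI : IsReduced (A ⊗ X).left := AbSchLib.isReduced_of_smooth (A ⊗ X).hom
  haveI : IsDominant (A ◁ ε).left := by
    have hsq : IsPullback (A ◁ ε).left (snd A Pk).left (snd A X).left (pullback.fst f.left ζ) := by
      refine IsPullback.of_right (h₁₂ := (fst A X).left) (h₂₂ := X.hom) (v₁₃ := A.hom) ?_ ?_
        (IsPullback.of_hasPullback A.hom X.hom).flip.flip
      · rw [← Over.comp_left, whiskerLeft_fst]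
        exact (IsPullback.of_hasPullback A.hom Pk.hom)
      · rw [← Over.comp_left, whiskerLeft_snd]; rfl
    have hdom : DenseRange (pullback.fst f.left ζ) := fun z => by
      refine (genericPoint_specializes (α := X.left) z).mem_closed isClosed_closure (subset_closure ⟨p₀ default, ?_⟩)
      rw [← Scheme.Hom.comp_apply, hp₀, Scheme.fromSpecResidueField_apply]
    refine ⟨?_⟩
    have hr : Set.range (A ◁ ε).left = (snd A X).left ⁻¹' Set.range (pullback.fst f.left ζ) := by
      rw [← hsq.isoPullback_hom_fst, Scheme.Hom.comp_base, TopCat.coe_comp, Set.range_comp,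
        Function.Surjective.range_eq (f := ⇑hsq.isoPullback.hom) hsq.isoPullback.hom.homeomorph.surjective, Set.image_univ, Scheme.Pullback.range_fst]
    haveI : Smooth (snd A X).left := inferInstanceAs (Smooth (pullback.snd A.hom X.hom))
    rw [DenseRange, hr]
    exact hdom.preimage (snd A X).left.isOpenMap
  have main : a.act ≫ φ = (snd A X ≫ φ) * (fst A X) ^ n := by
    have hc : (A ◁ ε) ≫ a.act ≫ φ = (A ◁ ε) ≫ ((snd A X ≫ φ) * (fst A X) ^ n) := by
      rw [MonObj.comp_mul, comp_pow']
      rw [whiskerLeft_fst, whiskerLeft_snd_assoc, hεφ, ← key, ← hεφ, ← Category.assoc v' ε φ, hv']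
      show _ = (lift (fst A Pk) (v ≫ ε) ≫ a.act) ≫ φ
      rw [Category.assoc]
      congr 1
    exact Over.OverMorphism.ext (ext_of_isDominant_of_isSeparated A.hom (by rw [Over.w, Over.w]) (A ◁ ε).left
      (congrArg CommaMorphism.left hc))
  refine ⟨φ, n, hn, fun T b x => ?_⟩
  rw [main, MonObj.comp_mul, lift_snd_assoc, comp_pow', lift_fst]

end Groth.Agent.AlgGrpLib.TorsorNormRel
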