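import Groth.Agent.SGA3cLib.DSChar
import Groth.Agent.SGA3cLib.MultEssFree
import Groth.Agent.AbVarLib.MulIsogeny
import Groth.Agent.AbVarLib.PerfectReduced
import Groth.Agent.AlgGrpLib.TorusToProper
import Groth.Agent.TorusConnLib.Connected
import Groth.Agent.AbVarLib.AlgClosedIntegral
import Mathlib.FieldTheory.IsAlgClosed.Basic

/-!
# Rational points and functions of a split torus
-/

set_option autoImplicit false
set_option linter.style.haveILetI false
set_option backward.isDefEq.respectTransparency.types false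

universe u

open CategoryTheory CategoryTheory.Limits MonoidalCategory CartesianMonoidalCategory MonObj GrpObj AlgebraicGeometry
open Groth.Agent.SGA3cLib

namespace Groth.Agent.AlgGrpLib.TorusChars

variable {k : Type u} [Field k]

local notation "𝟏" => (𝟙_ (Over (Spec (CommRingCat.of k))))

/-- The value of a function at a rational point. -/
noncomputable def ev {T : Over (Spec (CommRingCat.of k))} (g : 𝟏 ⟶ T) : Γ(T.left, ⊤) →+* k :=
  ((g.left.appTop) ≫ (Scheme.ΓSpecIso (CommRingCat.of k)).hom).hom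

variable {T : Over (Spec (CommRingCat.of k))} [GrpObj T] {M : Type} [AddCommGroup M]
  (e : T ≅ Red.DS (Spec (CommRingCat.of k)) M) [IsMonHom e.hom]

/-- The character of the rational points given by a weight. -/
noncomputable def chr (m : Multiplicative M) : (𝟏 ⟶ T) →* k where
  toFun g := (Scheme.ΓSpecIso (CommRingCat.of k)).hom (dsFn (g ≫ e.hom) m)
  map_one' := by
    show (Scheme.ΓSpecIso (CommRingCat.of k)).hom _ = 1
    rw [@MonObj.one_comp _ _ _ T (Red.DS (Spec (CommRingCat.of k)) M) 𝟏 _ _ e.hom _, dsFn_one]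
    exact map_one (Scheme.ΓSpecIso (CommRingCat.of k)).hom.hom
  map_mul' g h := by
    show (Scheme.ΓSpecIso (CommRingCat.of k)).hom _ = _
    rw [MonObj.mul_comp g h e.hom, dsFn_mul]
    exact map_mul (Scheme.ΓSpecIso (CommRingCat.of k)).hom.hom _ _

/-- Functions on a split torus are combinations of characters on rational points. -/
theorem exists_chr_expansion (f : Γ(T.left, ⊤)) :
    ∃ (s : Finset (Multiplicative M)) (c : Multiplicative M → k), ∀ g, ev g f = ∑ m ∈ s, c m * chr e m g := by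
  classical
  let A : CommRingCat.{u} := CommRingCat.of (MonoidAlgebra k (Multiplicative M))
  let C : CommRingCat.of k ⟶ A := CommRingCat.ofHom MonoidAlgebra.singleOneRingHom
  let W₁ : Over (Spec (CommRingCat.of k)) := Over.mk (Spec.map C)
  obtain ⟨tu, htu⟩ := exists_dsPt (W := W₁) (M := M) (U := Spec (CommRingCat.of k))
    ((Scheme.ΓSpecIso A).inv.hom.toMonoidHom.comp (MonoidAlgebra.of k (Multiplicative M)))
  let u : MonoidAlgebra k (Multiplicative M) := (Scheme.ΓSpecIso A).hom ((tu ≫ e.inv).left.appTop f)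
  refine ⟨u.coeff.support, fun m => u.coeff m, fun g => ?_⟩
  let L : MonoidAlgebra k (Multiplicative M) →ₐ[k] k :=
    MonoidAlgebra.lift k k (Multiplicative M)
      ((Scheme.ΓSpecIso (CommRingCat.of k)).hom.hom.toMonoidHom.comp (dsFn (g ≫ e.hom)))
  have hC : C ≫ CommRingCat.ofHom L.toRingHom = 𝟙 _ := by
    ext r
    exact L.commutes r
  let q : 𝟏 ⟶ W₁ := Over.homMk (Spec.map (CommRingCat.ofHom L.toRingHom)) (by
    show Spec.map _ ≫ Spec.map C = 𝟙 _
    rw [← Spec.map_comp, hC, Spec.map_id])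
  have hval : ∀ a : A, (Scheme.ΓSpecIso (CommRingCat.of k)).hom (q.left.appTop ((Scheme.ΓSpecIso A).inv a)) = L a := by
    intro a
    show (Scheme.ΓSpecIso (CommRingCat.of k)).hom ((Spec.map (CommRingCat.ofHom L.toRingHom)).appTop ((Scheme.ΓSpecIso A).inv a)) = _
    rw [show (Spec.map (CommRingCat.ofHom L.toRingHom)).appTop ((Scheme.ΓSpecIso A).inv a) =
      (Scheme.ΓSpecIso (CommRingCat.of k)).inv (L a) from
        (congrArg (fun q => q.hom a) (Scheme.ΓSpecIso_inv_naturality (CommRingCat.ofHom L.toRingHom))).symm]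
    exact Iso.inv_hom_id_apply _ _
  have hq : q ≫ tu = g ≫ e.hom := by
    refine dsFn_injective (MonoidHom.ext fun m => ?_)
    apply (ConcreteCategory.bijective_of_isIso (Scheme.ΓSpecIso (CommRingCat.of k)).hom).1
    rw [dsFn_comp, htu]
    exact (hval _).trans (MonoidAlgebra.lift_of _ m)
  have hg : g = q ≫ tu ≫ e.inv := by
    rw [← Category.assoc, hq, Category.assoc, Iso.hom_inv_id, Category.comp_id]
  show (Scheme.ΓSpecIso (CommRingCat.of k)).hom (g.left.appTop f) = _
  rw [show g.left.appTop f = q.left.appTop ((tu ≫ e.inv).left.appTop f) by rw [hg, Over.comp_left, Scheme.Hom.comp_appTop]; rfl]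
  rw [show (tu ≫ e.inv).left.appTop f = (Scheme.ΓSpecIso A).inv u from (Iso.hom_inv_id_apply _ _).symm]
  refine (hval u).trans ?_
  show MonoidAlgebra.lift k k (Multiplicative M) _ u = _
  rw [MonoidAlgebra.lift_apply]
  rfl

/-- The rational points of a split torus are divisible. -/
theorem exists_pow_eq [IsAlgClosed k] {r : ℕ} (eT : T ≅ Red.DS (Spec (CommRingCat.of k)) (Fin r → ℤ))
    [IsMonHom eT.hom] (g : 𝟏 ⟶ T) (n : ℕ) (hn : n ≠ 0) : ∃ h : 𝟏 ⟶ T, h ^ n = g := by
  classical
  let φ : Multiplicative (Fin r → ℤ) →* k :=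
    (Scheme.ΓSpecIso (CommRingCat.of k)).hom.hom.toMonoidHom.comp (dsFn (g ≫ eT.hom))
  have hz : ∀ i : Fin r, ∃ z : kˣ, (z : k) ^ n = φ (Multiplicative.ofAdd (Pi.single i 1)) := by
    intro i
    obtain ⟨z, hz⟩ := IsAlgClosed.exists_pow_nat_eq (φ (Multiplicative.ofAdd (Pi.single i 1))) (Nat.pos_of_ne_zero hn)
    refine ⟨Units.mk0 z ?_, hz⟩
    rintro rfl
    rw [zero_pow hn] at hz
    exact ((Group.isUnit _).map φ).ne_zero hz.symm
  choose z hz using hz
  let ψ : Multiplicative (Fin r → ℤ) →* k :=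
    (Units.coeHom k).comp
      { toFun := fun m => ∏ i, z i ^ (Multiplicative.toAdd m i)
        map_one' := by simp
        map_mul' := fun a b => by simp [zpow_add, Finset.prod_mul_distrib] }
  obtain ⟨p, hp⟩ := exists_dsPt (W := 𝟏) (U := Spec (CommRingCat.of k)) (M := Fin r → ℤ)
    ((Scheme.ΓSpecIso (CommRingCat.of k)).inv.hom.toMonoidHom.comp ψ)
  refine ⟨p ≫ eT.inv, ?_⟩
  haveI : IsMonHom eT.inv := inferInstance
  have hkey : ∀ j : ℕ, ((p ≫ eT.inv) ^ j) ≫ eT.hom = p ^ j := by
    intro j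
    induction j with
    | zero => rw [pow_zero, pow_zero, MonObj.one_comp eT.hom]
    | succ j ih => rw [pow_succ, pow_succ, MonObj.mul_comp _ _ eT.hom, ih, Category.assoc, Iso.inv_hom_id, Category.comp_id]
  rw [← cancel_mono eT.hom, hkey]
  refine dsFn_injective (MonoidHom.ext fun m => ?_)
  have h1 : ∀ (j : ℕ), dsFn (p ^ j) m = dsFn p m ^ j := by
    intro j
    induction j with
    | zero => rw [pow_zero, pow_zero, dsFn_one]
    | succ j ih => rw [pow_succ, pow_succ, dsFn_mul, ih]
  apply (ConcreteCategory.bijective_of_isIso (Scheme.ΓSpecIso (CommRingCat.of k)).hom).1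
  rw [h1, hp]
  show (Scheme.ΓSpecIso (CommRingCat.of k)).hom.hom (((Scheme.ΓSpecIso (CommRingCat.of k)).inv.hom (ψ m)) ^ n) = φ m
  rw [map_pow]
  refine Eq.trans (congrArg (· ^ n) (Iso.inv_hom_id_apply (Scheme.ΓSpecIso (CommRingCat.of k)) (ψ m))) ?_
  have hψ : ψ ^ n = φ := by
    refine MonoidHom.ext fun a => ?_
    have hφu : ∃ φ' : Multiplicative (Fin r → ℤ) →* kˣ, ∀ a, (φ' a : k) = φ a :=
      ⟨φ.toHomUnits, fun a => rfl⟩
    obtain ⟨φ', hφ'⟩ := hφu
    show ψ a ^ n = φ a
    rw [← hφ']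
    show (((∏ i, z i ^ (Multiplicative.toAdd a i) : kˣ) : k)) ^ n = _
    rw [← Units.val_pow_eq_pow_val]
    congr 1
    rw [← Finset.prod_pow]
    have ha : a = ∏ i, (Multiplicative.ofAdd (Pi.single i (1 : ℤ))) ^ (Multiplicative.toAdd a i) := by
      apply Multiplicative.toAdd.injective
      rw [toAdd_prod]
      simp only [toAdd_zpow, toAdd_ofAdd]
      funext j
      simp [Finset.sum_apply, Pi.single_apply]
    conv_rhs => rw [ha]
    rw [map_prod]
    refine Finset.prod_congr rfl fun i _ => ?_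
    rw [map_zpow, ← zpow_natCast, ← zpow_mul, mul_comm, zpow_mul, zpow_natCast]
    congr 1
    exact Units.ext ((Units.val_pow_eq_pow_val _ _).trans ((hz i).trans (hφ' _).symm))
  exact DFunLike.congr_fun hψ m

/-- A split torus is smooth and connected. -/
theorem smooth_connected [IsAlgClosed k] {r : ℕ} (eT : T ≅ Red.DS (Spec (CommRingCat.of k)) (Fin r → ℤ)) :
    Smooth T.hom ∧ ConnectedSpace T.left ∧ IsAffine T.left := by
  let D := Red.DS (Spec (CommRingCat.of k)) (Fin r → ℤ)
  haveI := TorusToProper.locallyOfFiniteType_DS (K := k) r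
  haveI := TorusToProper.isReduced_DS (K := k) (Fin r → ℤ)
  haveI : GeometricallyReduced D.hom := AbVarLib.geometricallyReduced_of_perfectField D.hom
  haveI : Smooth D.hom := AbVarLib.smooth_of_geometricallyReduced D
  haveI := TorusConnLib.isIntegral_DS k r
  haveI : IsIso eT.hom.left := inferInstanceAs (IsIso ((Over.forget _).map eT.hom))
  haveI : IsAffine D.left := SGA3cLib.MultEssFree.isAffine_DS _
  refine ⟨?_, ?_, ?_⟩
  · rw [← Over.w eT.hom]; infer_instance
  · haveI : ConnectedSpace D.left := inferInstance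
    exact (inv eT.hom.left).homeomorph.surjective.connectedSpace (inv eT.hom.left).homeomorph.continuous
  · exact IsAffine.of_isIso eT.hom.left

end Groth.Agent.AlgGrpLib.TorusChars
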