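import Groth.Agent.AlgGrpLib.TorusIsogeny
import Groth.Agent.DimLib.BaseChange
import Groth.Agent.DimLib.Algebra
import Groth.Agent.TorusConnLib.Connected
import Mathlib.AlgebraicGeometry.Morphisms.FlatRank

/-!
# The degree of the power maps of tori
-/

set_option autoImplicit false
set_option backward.isDefEq.respectTransparency.types false
set_option linter.style.haveILetI false

universe u

open CategoryTheory CategoryTheory.Limits MonoidalCategory CartesianMonoidalCategory MonObj GrpObj AlgebraicGeometry
open TensorProduct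
open Groth.Agent.SGA3cLib

noncomputable section

namespace Groth.Agent.AlgGrpLib.TorusDegree

/-- Finite flat of constant rank. -/
def Deg (N : ℕ) : MorphismProperty Scheme.{u} := fun _ Y f => IsFinite f ∧ Flat f ∧ ∀ y : Y, f.finrank y = N

instance (N : ℕ) : (Deg.{u} N).IsStableUnderBaseChange :=
  ⟨fun {X Y Y' S f g f' g'} h hg => by
    obtain ⟨h1, h2, h3⟩ := hg
    haveI := h1
    haveI := h2
    refine ⟨MorphismProperty.of_isPullback h h1, MorphismProperty.of_isPullback h h2, fun y => ?_⟩
    rw [Scheme.Hom.finrank_of_isPullback f' g' g f h, h3]⟩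

instance (N : ℕ) : (Deg.{u} N).RespectsIso := MorphismProperty.IsStableUnderBaseChange.respectsIso

/-- A ring map with a finite basis is finite flat of constant rank. -/
theorem deg_of_basis {R S : Type u} [CommRing R] [CommRing S] [Nontrivial R] (F : R →+* S) {κ : Type} [Fintype κ]
    (x : κ → S) (hbij : Function.Bijective (fun a : κ → R => ∑ i, F (a i) * x i)) :
    Deg (Fintype.card κ) (Spec.map (CommRingCat.ofHom F)) := by
  algebraize [F]
  let Φ : (κ → R) →ₗ[R] S :=
    { toFun := fun a => ∑ i, F (a i) * x i
      map_add' := fun a b => by simp [_root_.add_mul, Finset.sum_add_distrib]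
      map_smul' := fun c a => by
        simp only [Pi.smul_apply, smul_eq_mul, map_mul, RingHom.id_apply, Algebra.smul_def, Finset.mul_sum]
        exact Finset.sum_congr rfl fun i _ => _root_.mul_assoc _ _ _ }
  let e := LinearEquiv.ofBijective Φ hbij
  haveI : Module.Free R S := Module.Free.of_equiv e
  haveI : Module.Finite R S := Module.Finite.equiv e
  haveI : Module.Flat R S := inferInstance
  refine ⟨(IsFinite.SpecMap_iff _).2 (RingHom.finite_algebraMap.2 inferInstance),
    Flat.SpecMap_iff.2 (RingHom.flat_algebraMap_iff.2 inferInstance), fun y => ?_⟩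
  show (Spec.map (CommRingCat.ofHom (algebraMap R S))).finrank y = Fintype.card κ
  rw [Scheme.Hom.finrank_SpecMap_algebraMap]
  have hr := congrFun (Module.rankAtStalk_eq_finrank_of_free (R := R) (M := S)) (y : PrimeSpectrum R)
  rw [← e.finrank_eq, Module.finrank_pi] at hr
  exact hr

variable {d n : ℕ}


/-- Division with remainder on the lattice. -/
theorem exists_equiv (hn : 0 < n) :
    ∃ e : (Fin d → Fin n) × (Fin d → ℤ) ≃ (Fin d → ℤ), ∀ r m, e (r, m) = (fun i => ((r i : ℕ) : ℤ)) + n • m := by
  have hb : Function.Bijective (fun p : (Fin d → Fin n) × (Fin d → ℤ) => (fun i => ((p.1 i : ℕ) : ℤ)) + n • p.2) := by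
    constructor
    · rintro ⟨r, m⟩ ⟨r', m'⟩ h
      have h1 : ∀ i, ((r i : ℕ) : ℤ) + n * m i = ((r' i : ℕ) : ℤ) + n * m' i := fun i => by
        simpa [nsmul_eq_mul] using congrFun h i
      have h2 : r = r' := funext fun i => Fin.ext (by
        have e1 := congrArg (· % (n : ℤ)) (h1 i)
        simp only [Int.add_mul_emod_self_left] at e1
        rw [Int.emod_eq_of_lt (by positivity) (by exact_mod_cast (r i).isLt),
          Int.emod_eq_of_lt (by positivity) (by exact_mod_cast (r' i).isLt)] at e1
        exact_mod_cast e1)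
      subst h2
      refine Prod.ext rfl (funext fun i => ?_)
      have := h1 i
      simpa [hn.ne'] using this
    · intro z
      refine ⟨(fun i => ⟨(z i % n).toNat, ?_⟩, fun i => z i / n), funext fun i => ?_⟩
      · have h1 := Int.emod_lt_of_pos (z i) (show (0 : ℤ) < n by exact_mod_cast hn)
        have h2 := Int.emod_nonneg (z i) (show (n : ℤ) ≠ 0 by exact_mod_cast hn.ne')
        omega
      · simp only [Pi.add_apply, Pi.smul_apply, nsmul_eq_mul]
        rw [Int.toNat_of_nonneg (Int.emod_nonneg (z i) (by exact_mod_cast hn.ne'))]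
        exact Int.emod_add_mul_ediv (z i) n
  exact ⟨Equiv.ofBijective _ hb, fun r m => rfl⟩

/-- The group algebra of the lattice is free of rank `n ^ d` over itself through multiplication by `n`. -/
theorem deg_diagMap (hn : 0 < n) :
    Deg (n ^ d) (Red.diagMap (ULift.{u} ℤ) (nsmulAddMonoidHom (α := Fin d → ℤ) n)).left := by
  classical
  let Z := ULift.{u} ℤ
  let A := MonoidAlgebra Z (Multiplicative (Fin d → ℤ))
  let f : Multiplicative (Fin d → ℤ) →* Multiplicative (Fin d → ℤ) := AddMonoidHom.toMultiplicative (nsmulAddMonoidHom (α := Fin d → ℤ) n)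
  let F : A →+* A := MonoidAlgebra.mapDomainRingHom Z f
  obtain ⟨e, he⟩ := exists_equiv (d := d) (n := n) hn
  let x : (Fin d → Fin n) → A := fun r => MonoidAlgebra.single (Multiplicative.ofAdd (fun i => ((r i : ℕ) : ℤ))) 1
  have hsingle : ∀ (m : Fin d → ℤ) (c : Z) (r : Fin d → Fin n),
      F (MonoidAlgebra.single (Multiplicative.ofAdd m) c) * x r =
        MonoidAlgebra.single (Multiplicative.ofAdd (e (r, m))) c := by
    intro m c r
    show F (MonoidAlgebra.single _ c) * MonoidAlgebra.single _ 1 = _
    rw [show F (MonoidAlgebra.single (Multiplicative.ofAdd m) c) = MonoidAlgebra.single (f (Multiplicative.ofAdd m)) c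
      from MonoidAlgebra.mapDomain_single, MonoidAlgebra.single_mul_single, _root_.mul_one, he]
    exact congrArg₂ MonoidAlgebra.single (by rw [ofAdd_add, _root_.mul_comm]; rfl) rfl
  have key : ∀ (a : A) (r r' : Fin d → Fin n) (m : Fin d → ℤ),
      (F a * x r').coeff (Multiplicative.ofAdd (e (r, m))) =
        if r' = r then a.coeff (Multiplicative.ofAdd m) else 0 := by
    intro a r r' m
    induction a using MonoidAlgebra.induction_linear with
    | zero => simp
    | add p q hp hq =>
      rw [map_add, _root_.add_mul, MonoidAlgebra.coeff_add, Finsupp.add_apply, hp, hq, MonoidAlgebra.coeff_add,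
        Finsupp.add_apply]
      split_ifs <;> simp
    | single g c =>
      obtain ⟨m', rfl⟩ : ∃ m', Multiplicative.ofAdd m' = g := ⟨g.toAdd, rfl⟩
      rw [hsingle, MonoidAlgebra.coeff_single, MonoidAlgebra.coeff_single, Finsupp.single_apply, Finsupp.single_apply]
      simp only [Multiplicative.ofAdd.injective.eq_iff, e.injective.eq_iff, Prod.mk.injEq]
      split_ifs <;> simp_all
  have hbij : Function.Bijective (fun a : (Fin d → Fin n) → A => ∑ r, F (a r) * x r) := by
    constructor
    · intro a b hab
      funext r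
      refine MonoidAlgebra.ext (Finsupp.ext fun m => ?_)
      have hc : ∀ a : (Fin d → Fin n) → A, (∑ r', F (a r') * x r').coeff (Multiplicative.ofAdd (e (r, m.toAdd))) =
          (a r).coeff m := by
        intro a
        rw [MonoidAlgebra.coeff_sum, Finsupp.finsetSum_apply, Finset.sum_eq_single r]
        · exact (key (a r) r r m.toAdd).trans (if_pos rfl)
        · exact fun r' _ hne => (key (a r') r r' m.toAdd).trans (if_neg hne)
        · simp
      rw [← hc a, ← hc b]
      exact congrArg (fun z : A => z.coeff _) hab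
    · intro z
      induction z using MonoidAlgebra.induction_linear with
      | zero => exact ⟨0, by simp⟩
      | add p q hp hq =>
        obtain ⟨a, rfl⟩ := hp
        obtain ⟨b, rfl⟩ := hq
        exact ⟨a + b, by simp [_root_.add_mul, Finset.sum_add_distrib]⟩
      | single g c =>
        obtain ⟨⟨r, m⟩, hrm⟩ := e.surjective g.toAdd
        refine ⟨Pi.single r (MonoidAlgebra.single (Multiplicative.ofAdd m) c), ?_⟩
        show ∑ r', F (_ : A) * x r' = _
        rw [Finset.sum_eq_single r (fun r' _ hne => by rw [Pi.single_eq_of_ne hne, map_zero, MulZeroClass.zero_mul]) (by simp),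
          Pi.single_eq_same, hsingle, hrm]
        rfl
  have h := deg_of_basis F x hbij
  rw [Fintype.card_fun, Fintype.card_fin, Fintype.card_fin] at h
  exact h

theorem deg_pow_DS (hn : 0 < n) (U : Scheme.{u}) : Deg (n ^ d) ((𝟙 (Red.DS U (Fin d → ℤ))) ^ n).left := by
  rw [TorusIsogeny.pow_eq_DSmap]
  exact MultHomLocus.map_diagMap _ U (Deg (n ^ d)) (deg_diagMap hn)

theorem topologicalKrullDim_pullback_diag (Z L : Type u) [CommRing Z] [Field L] [Algebra Z L] (d : ℕ) :
    topologicalKrullDim (pullback (Red.diag Z (Fin d → ℤ)).hom (Spec.map (CommRingCat.ofHom (algebraMap Z L))) : Scheme.{u}) = d := by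
  let C := MonoidAlgebra L (Multiplicative (Fin d → ℤ))
  let eC : L ⊗[Z] MonoidAlgebra Z (Multiplicative (Fin d → ℤ)) ≃+* C :=
    (MonoidAlgebra.scalarTensorEquiv Z L (M := Multiplicative (Fin d → ℤ))).toRingEquiv
  let e : pullback (Red.diag Z (Fin d → ℤ)).hom (Spec.map (CommRingCat.ofHom (algebraMap Z L))) ≅
      Spec (CommRingCat.of (L ⊗[Z] MonoidAlgebra Z (Multiplicative (Fin d → ℤ)))) :=
    pullbackSymmetry _ _ ≪≫ pullbackSpecIso Z L (MonoidAlgebra Z (Multiplicative (Fin d → ℤ)))
  rw [IsHomeomorph.topologicalKrullDim_eq _ e.hom.homeomorph.isHomeomorph]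
  rw [show topologicalKrullDim ↥(Spec (CommRingCat.of (L ⊗[Z] MonoidAlgebra Z (Multiplicative (Fin d → ℤ))))) =
    ringKrullDim (L ⊗[Z] MonoidAlgebra Z (Multiplicative (Fin d → ℤ))) from
      PrimeSpectrum.topologicalKrullDim_eq_ringKrullDim _, ringKrullDim_eq_of_ringEquiv eC]
  haveI : IsDomain C := NoZeroDivisors.to_isDomain _
  haveI : Group.FG (Multiplicative (Fin d → ℤ)) :=
    AddGroup.fg_iff_mul_fg.mp
      (Module.Finite.iff_addGroup_fg.1 (inferInstance : Module.Finite ℤ (Fin d → ℤ)))
  haveI : Algebra.FiniteType L C := MonoidAlgebra.finiteType_iff_group_fg.mpr inferInstance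
  rw [DimLib.ringKrullDim_eq_trdeg (k := L) (A := C)]
  let ξ : Fin d → C := fun i => MonoidAlgebra.single (Multiplicative.ofAdd (Pi.single i 1)) 1
  let φ : MvPolynomial (Fin d) L →ₐ[L] C := MvPolynomial.aeval ξ
  have hmon : ∀ a : Fin d →₀ ℕ, φ (MvPolynomial.monomial a 1) =
      MonoidAlgebra.single (Multiplicative.ofAdd (fun i => ((a i : ℕ) : ℤ))) 1 := by
    intro a
    simp only [φ, MvPolynomial.aeval_monomial, map_one, _root_.one_mul, ξ, MonoidAlgebra.single_pow, one_pow]
    rw [Finsupp.prod_fintype _ _ (by intro i; simp [MonoidAlgebra.one_def])]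
    simp only [← MonoidAlgebra.of_apply, ← map_pow, ← map_prod]
    congr 1
    apply Multiplicative.toAdd.injective
    rw [toAdd_prod]
    ext i
    simp [Finset.sum_apply, Pi.single_apply]
  have hinj : Function.Injective φ := by
    let g : (Fin d →₀ ℕ) → Multiplicative (Fin d → ℤ) := fun a => Multiplicative.ofAdd (fun i => ((a i : ℕ) : ℤ))
    have hg : Function.Injective g := fun a b h => Finsupp.ext fun i => by
      exact_mod_cast congrFun (Multiplicative.ofAdd.injective h) i
    have hco : ∀ (p : MvPolynomial (Fin d) L) (a : Fin d →₀ ℕ), (φ p).coeff (g a) = p.coeff a := by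
      intro p a
      induction p using MvPolynomial.induction_on' with
      | monomial b c =>
        rw [show MvPolynomial.monomial b c = c • MvPolynomial.monomial b (1 : L) by
          rw [MvPolynomial.smul_monomial, smul_eq_mul, _root_.mul_one], map_smul, hmon]
        show (c • MonoidAlgebra.single (g b) (1 : L)).coeff (g a) = _
        simp [Finsupp.single_apply, hg.eq_iff]
      | add p q hp hq => rw [map_add, MonoidAlgebra.coeff_add, Finsupp.add_apply, hp, hq, MvPolynomial.coeff_add]
    intro p q h
    exact MvPolynomial.ext _ _ fun a => by rw [← hco, ← hco, h]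
  letI := φ.toRingHom.toAlgebra
  haveI : IsScalarTower L (MvPolynomial (Fin d) L) C := IsScalarTower.of_algebraMap_eq fun x => (φ.commutes x).symm
  haveI : FaithfulSMul (MvPolynomial (Fin d) L) C := (faithfulSMul_iff_algebraMap_injective _ _).2 hinj
  haveI : Algebra.IsAlgebraic (MvPolynomial (Fin d) L) C := by
    refine ⟨fun z => ?_⟩
    obtain ⟨g, hg, p, hp⟩ : ∃ g : MvPolynomial (Fin d) L, g ≠ 0 ∧ ∃ p, φ g * z = φ p := by
      induction z using MonoidAlgebra.induction_linear with
      | zero => exact ⟨1, one_ne_zero, 0, by simp⟩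
      | add a b ha hb =>
        obtain ⟨g, hg, p, hp⟩ := ha
        obtain ⟨g', hg', p', hp'⟩ := hb
        exact ⟨g * g', mul_ne_zero hg hg', g' * p + g * p', by
          rw [map_mul, map_add, map_mul, map_mul, ← hp, ← hp']; ring⟩
      | single m c =>
        let a : Fin d →₀ ℕ := Finsupp.equivFunOnFinite.symm fun i => (-(m.toAdd i)).toNat
        let b : Fin d →₀ ℕ := Finsupp.equivFunOnFinite.symm fun i => (m.toAdd i).toNat
        refine ⟨MvPolynomial.monomial a 1, by simp, c • MvPolynomial.monomial b 1, ?_⟩
        rw [map_smul, hmon, hmon, MonoidAlgebra.single_mul_single, MonoidAlgebra.smul_single, smul_eq_mul,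
          _root_.one_mul, _root_.mul_one]
        refine congrArg₂ MonoidAlgebra.single ?_ rfl
        apply Multiplicative.toAdd.injective
        ext i
        simp [a, b]
        omega
    refine ⟨Polynomial.C g * Polynomial.X - Polynomial.C p, fun h => ?_, ?_⟩
    · have := congrArg (fun P => P.coeff 1) h
      simp at this
      exact hg this
    · rw [map_sub, map_mul, Polynomial.aeval_C, Polynomial.aeval_X, Polynomial.aeval_C]
      exact sub_eq_zero.2 hp
  have h := lift_trdeg_add_eq L (MvPolynomial (Fin d) L) C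
  rw [MvPolynomial.trdeg_of_isDomain, trdeg_eq_zero (R := MvPolynomial (Fin d) L) (A := C)] at h
  simp at h
  rw [← h]
  simp

/-- The dimension of a split torus. -/
theorem topologicalKrullDim_DS (L : Type u) [Field L] (d : ℕ) :
    topologicalKrullDim (Red.DS (Spec (CommRingCat.of L)) (Fin d → ℤ)).left = d := by
  letI : Algebra (ULift.{u} ℤ) L := ((Int.castRingHom L).comp ULift.ringEquiv.toRingHom).toAlgebra
  let e' : (Red.DS (Spec (CommRingCat.of L)) (Fin d → ℤ)).left ≅
      pullback (Red.diag (ULift.{u} ℤ) (Fin d → ℤ)).hom (Spec.map (CommRingCat.ofHom (algebraMap (ULift.{u} ℤ) L))) :=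
    pullback.congrHom rfl (specULiftZIsTerminal.hom_ext _ _)
  rw [IsHomeomorph.topologicalKrullDim_eq _ e'.hom.homeomorph.isHomeomorph]
  exact topologicalKrullDim_pullback_diag (ULift.{u} ℤ) L d

end Groth.Agent.AlgGrpLib.TorusDegree
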