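import Groth.Agent.S5427
import Groth.Agent.SGA3cLib.DSHom
import Groth.Agent.SGA3cLib.CartierDual
import Groth.Prelude.Def_AlgGrp
import Mathlib.LinearAlgebra.FreeModule.PID

/-! Exact sequences of split tori over a field split. -/

universe u

set_option autoImplicit false
set_option backward.isDefEq.respectTransparency.types false

open CategoryTheory CategoryTheory.Limits MonoidalCategory CartesianMonoidalCategory MonObj GrpObj AlgebraicGeometry
open Groth.Agent.SGA3cLib

namespace Groth.Agent.AlgGrpLib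

variable {k : Type u} [Field k]

theorem exists_eq_DSmap_field {M N : Type} [AddCommGroup M] [AddCommGroup N] [AddGroup.FG N]
    (u : Red.DS (Spec (CommRingCat.of k)) M ⟶ Red.DS (Spec (CommRingCat.of k)) N) [IsMonHom u] :
    ∃ φ : N →+ M, u = Red.DSmap (Spec (CommRingCat.of k)) φ := by
  obtain ⟨V, φ, hx, h⟩ := DSHom.exists_eq_DSmap u (IsLocalRing.closedPoint k)
  refine ⟨φ, ?_⟩
  have := h _ (fun z _ => by rwa [Subsingleton.elim z (IsLocalRing.closedPoint k)]) (𝟙 _)
  rwa [Category.id_comp, Category.id_comp] at this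

/-- The tautological point over a group algebra. -/
theorem exists_taut_pt (L : Type) [AddCommGroup L] {M : Type} [AddCommGroup M] (χ : M →+ L) :
    ∃ p : Over.mk (Spec.map (CommRingCat.ofHom (algebraMap k (MonoidAlgebra k (Multiplicative L))))) ⟶
        Red.DS (Spec (CommRingCat.of k)) M,
      ∀ m, dsFn p m = (Scheme.ΓSpecIso (CommRingCat.of (MonoidAlgebra k (Multiplicative L)))).inv
        (MonoidAlgebra.of k _ (AddMonoidHom.toMultiplicative χ m)) := by
  obtain ⟨p, hp⟩ := exists_dsPt (U := Spec (CommRingCat.of k))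
    (W := Over.mk (Spec.map (CommRingCat.ofHom (algebraMap k (MonoidAlgebra k (Multiplicative L))))))
    ((Scheme.ΓSpecIso (CommRingCat.of (MonoidAlgebra k (Multiplicative L)))).inv.hom.toMonoidHom.comp
      ((MonoidAlgebra.of k _).comp (AddMonoidHom.toMultiplicative χ)))
  exact ⟨p, fun m => by rw [hp]; rfl⟩

theorem taut_inj {L : Type} [AddCommGroup L] {a b : Multiplicative L}
    (h : (Scheme.ΓSpecIso (CommRingCat.of (MonoidAlgebra k (Multiplicative L)))).inv (MonoidAlgebra.of k _ a) =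
      (Scheme.ΓSpecIso (CommRingCat.of (MonoidAlgebra k (Multiplicative L)))).inv (MonoidAlgebra.of k _ b)) : a = b :=
  MonoidAlgebra.of_injective
    ((Scheme.ΓSpecIso (CommRingCat.of (MonoidAlgebra k (Multiplicative L)))).commRingCatIsoToRingEquiv.symm.injective h)

theorem exists_section_DS {MK MG MQ : Type} [AddCommGroup MK] [AddCommGroup MG] [AddCommGroup MQ]
    [Module.Free ℤ MK] [Module.Finite ℤ MG] [AddGroup.FG MG] [AddGroup.FG MQ] [AddGroup.FG MK]
    (i : Red.DS (Spec (CommRingCat.of k)) MK ⟶ Red.DS (Spec (CommRingCat.of k)) MG)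
    (π : Red.DS (Spec (CommRingCat.of k)) MG ⟶ Red.DS (Spec (CommRingCat.of k)) MQ)
    [IsMonHom i] [IsMonHom π] [Epi π] (hker : AlgGrp.IsKernel i π) :
    ∃ s : Red.DS (Spec (CommRingCat.of k)) MQ ⟶ Red.DS (Spec (CommRingCat.of k)) MG,
      IsMonHom s ∧ s ≫ π = 𝟙 _ := by
  obtain ⟨φ, rfl⟩ := exists_eq_DSmap_field π
  obtain ⟨ψ, rfl⟩ := exists_eq_DSmap_field i
  have hφ : Function.Injective φ := by
    rw [injective_iff_map_eq_zero]
    intro n hn
    have he : Red.DSmap (Spec (CommRingCat.of k)) φ ≫ Red.DSmap _ (zmultiplesHom MQ n) =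
        Red.DSmap (Spec (CommRingCat.of k)) φ ≫ Red.DSmap _ (0 : ℤ →+ MQ) := by
      refine dsFn_injective (MonoidHom.ext fun a => ?_)
      rw [S5427.dsFn_DSmap, S5427.dsFn_DSmap, ← Category.id_comp (Red.DSmap _ φ), S5427.dsFn_DSmap,
        S5427.dsFn_DSmap]
      congr 1
      apply Multiplicative.toAdd.injective
      simp [hn]
    rw [cancel_epi] at he
    obtain ⟨p, hp⟩ := exists_taut_pt (k := k) MQ (AddMonoidHom.id MQ)
    have h3 := congrArg (fun q => dsFn (p ≫ q) (Multiplicative.ofAdd (1 : ℤ))) he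
    simp only [S5427.dsFn_DSmap, hp] at h3
    simpa using congrArg Multiplicative.toAdd (taut_inj h3)
  let χ := QuotientAddGroup.mk' φ.range
  obtain ⟨p, hp⟩ := exists_taut_pt (k := k) (MG ⧸ φ.range) χ
  have hp1 : p ≫ Red.DSmap _ φ = toUnit _ ≫ η[Red.DS (Spec (CommRingCat.of k)) MQ] := by
    rw [← Hom.one_def]
    refine dsFn_injective (MonoidHom.ext fun m => ?_)
    rw [S5427.dsFn_DSmap, hp, dsFn_one]
    have h0 : AddMonoidHom.toMultiplicative χ (AddMonoidHom.toMultiplicative φ m) = 1 :=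
      Multiplicative.toAdd.injective ((QuotientAddGroup.eq_zero_iff _).2 ⟨_, rfl⟩)
    rw [h0, map_one, map_one]
  obtain ⟨q, hq⟩ : ∃ q, q ≫ Red.DSmap _ ψ = p := ⟨_, hker.lift_fst p (toUnit _) hp1⟩
  have hψ : ∀ m, ψ m = 0 → χ m = 0 := fun m hm => by
    have h1 := hp (Multiplicative.ofAdd m)
    rw [← hq, S5427.dsFn_DSmap] at h1
    have h2 : AddMonoidHom.toMultiplicative ψ (Multiplicative.ofAdd m) = 1 := by
      apply Multiplicative.toAdd.injective; simpa using hm
    rw [h2, map_one, ← map_one (Scheme.ΓSpecIso (CommRingCat.of (MonoidAlgebra k (Multiplicative (MG ⧸ φ.range))))).inv.hom,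
      ← map_one (MonoidAlgebra.of k (Multiplicative (MG ⧸ φ.range)))] at h1
    simpa using (congrArg Multiplicative.toAdd (taut_inj h1)).symm
  have hψφ : ∀ n, ψ (φ n) = 0 := fun n => by
    obtain ⟨r, hr⟩ := exists_taut_pt (k := k) MK (AddMonoidHom.id MK)
    have h1 := congrArg (fun f => dsFn (r ≫ f) (Multiplicative.ofAdd n)) hker.w
    simp only [comp_toUnit_assoc, ← Category.assoc, S5427.dsFn_DSmap, hp, hr, ← Hom.one_def, MonObj.comp_one,
      dsFn_one] at h1
    rw [← map_one (Scheme.ΓSpecIso (CommRingCat.of (MonoidAlgebra k (Multiplicative MK)))).inv.hom,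
      ← map_one (MonoidAlgebra.of k (Multiplicative MK))] at h1
    simpa using congrArg Multiplicative.toAdd (taut_inj h1)
  let F : (MG ⧸ φ.range) →+ MK := QuotientAddGroup.lift φ.range ψ (by rintro _ ⟨n, rfl⟩; exact hψφ n)
  have hF : Function.Injective F := (injective_iff_map_eq_zero F).2 fun y hy => by
    obtain ⟨m, rfl⟩ := QuotientAddGroup.mk_surjective y
    exact hψ m hy
  haveI : Module.Finite ℤ (MG ⧸ φ.range) :=
    Module.Finite.of_surjective χ.toIntLinearMap QuotientAddGroup.mk_surjective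
  haveI : Module.IsTorsionFree ℤ (MG ⧸ φ.range) := hF.moduleIsTorsionFree F fun r m => map_zsmul F r m
  obtain ⟨σ, hσ⟩ := Module.projective_lifting_property χ.toIntLinearMap LinearMap.id QuotientAddGroup.mk_surjective
  have hmem : ∀ m, ∃ n, φ n = m - σ (χ m) := fun m => by
    have h0 : χ (m - σ (χ m)) = 0 := by
      rw [map_sub, sub_eq_zero]
      exact (LinearMap.congr_fun hσ (χ m)).symm
    exact (QuotientAddGroup.eq_zero_iff _).1 h0
  choose r hr using hmem
  let r' : MG →+ MQ := AddMonoidHom.mk' r fun a b => hφ (by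
    rw [map_add φ, hr, hr, hr, map_add χ, map_add σ]; abel)
  refine ⟨Red.DSmap _ r', S5427.isMonHom_DSmap r', dsFn_injective (MonoidHom.ext fun n => ?_)⟩
  rw [← Category.id_comp (Red.DSmap _ r'), Category.assoc, ← Category.assoc (𝟙 _), S5427.dsFn_DSmap,
    S5427.dsFn_DSmap]
  congr 1
  apply Multiplicative.toAdd.injective
  show r' (φ n.toAdd) = n.toAdd
  refine hφ ((hr _).trans ?_)
  rw [show χ (φ n.toAdd) = 0 from (QuotientAddGroup.eq_zero_iff _).2 ⟨_, rfl⟩, map_zero, sub_zero]

end Groth.Agent.AlgGrpLib
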