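import Groth.Agent.AlgGrpLib.ComponentQuot
import Groth.Agent.AlgGrpLib.CharCutOut
import Groth.Agent.AlgGrpLib.ImageSubgroup
import Groth.Agent.AlgGrpLib.TorusIsogeny
import Groth.Agent.AlgGrpLib.UnitsOnProducts
import Groth.Agent.AlgGrpLib.AntiAffineSections
import Groth.Agent.AlgGrpLib.PointsDense
import Groth.Agent.AlgGrpLib.MultTypeAction2
import Groth.Agent.AbVarLib.GeomIntegralSmooth
import Groth.Agent.SGA3cLib.BCPoints
import Groth.Agent.SGA3cLib.MultEssFree
import Groth.Agent.S5427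
import Groth.Agent.S7782
import Groth.Agent.S13470
import Groth.Agent.S16113

/-!
The largest torus quotient of a connected algebraic group: all characters factor through it, its kernel
is connected and has no characters.
-/

set_option autoImplicit false
set_option backward.isDefEq.respectTransparency.types false
set_option linter.style.haveILetI false
set_option maxHeartbeats 800000

universe u

open CategoryTheory CategoryTheory.Limits MonoidalCategory CartesianMonoidalCategory MonObj AlgebraicGeometry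
open Groth.Agent.SGA3cLib

namespace Groth.Agent.AlgGrpLib.TorusQuot

variable {k : Type u} [Field k]

local notation "Pt" => 𝟙_ (Over (Spec (CommRingCat.of k)))

/-- A map which is multiplicative on points is a homomorphism. -/
theorem isMonHom_of_pts {G H : Over (Spec (CommRingCat.of k))} [GrpObj G] [GrpObj H] (f : G ⟶ H)
    (h : ∀ (X : Over (Spec (CommRingCat.of k))) (x y : X ⟶ G), (x * y) ≫ f = (x ≫ f) * (y ≫ f)) : IsMonHom f :=
  Groth.Agent.SGA3cLib.BCPoints.isMonHom_of_mul f h

theorem DS_mul_comm {M : Type} [AddCommGroup M] {T : Over (Spec (CommRingCat.of k))}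
    (x y : T ⟶ Red.DS (Spec (CommRingCat.of k)) M) : x * y = y * x :=
  dsFn_injective (MonoidHom.ext fun m => by rw [dsFn_mul, dsFn_mul, _root_.mul_comm])

theorem gmFn_chi {M : Type} [AddCommGroup M] {T : Over (Spec (CommRingCat.of k))}
    (p : T ⟶ Red.DS (Spec (CommRingCat.of k)) M) (m : M) :
    Red.gmFn (p ≫ Red.chi (Spec (CommRingCat.of k)) m) = dsFn p (Multiplicative.ofAdd m) := by
  rw [gmFn_eq_fn]
  show dsFn (p ≫ Red.DSmap _ (zmultiplesHom M m)) (Multiplicative.ofAdd (1 : ℤ)) = _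
  rw [S5427.dsFn_DSmap]
  simp

theorem isMonHom_chi {M : Type} [AddCommGroup M] (m : M) : IsMonHom (Red.chi (Spec (CommRingCat.of k)) m) :=
  S5427.isMonHom_DSmap _

/-- The data: a flat surjective homomorphism onto a split torus through which all characters factor. -/
structure IsUniv {G : Over (Spec (CommRingCat.of k))} [GrpObj G] {r : ℕ}
    (q : G ⟶ Red.DS (Spec (CommRingCat.of k)) (Fin r → ℤ)) : Prop where
  hom : IsMonHom q
  flat : Flat q.left
  surj : Surjective q.left
  lift : ∀ χ : G ⟶ Red.Gm (Spec (CommRingCat.of k)), IsMonHom χ →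
    ∃ m : Fin r → ℤ, q ≫ Red.chi (Spec (CommRingCat.of k)) m = χ

variable [IsAlgClosed k]

/-- The universal torus quotient exists. -/
theorem exists_univ (G : Over (Spec (CommRingCat.of k))) [GrpObj G] [Smooth G.hom] [QuasiCompact G.hom]
    [ConnectedSpace G.left] : ∃ (r : ℕ) (q : G ⟶ Red.DS (Spec (CommRingCat.of k)) (Fin r → ℤ)), IsUniv q := by
  classical
  haveI : IsSeparated G.hom := Groth.Agent.SGA3xLib.isSeparated_of_grpObj G
  haveI : GeometricallyConnected G.hom := by
    have := Groth.Agent.SGA3cLib.geometricallyConnected_of_rational_point k G.hom (𝟙 G.left) η[G].left (Over.w η[G])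
      (fun x _ => ⟨x, rfl⟩)
    rwa [Category.id_comp] at this
  haveI := Groth.Agent.AbVarLib.geometricallyIntegral_of_smooth G.hom
  haveI : IsIntegral G.left := GeometricallyIntegral.isIntegral_of_subsingleton G.hom
  obtain ⟨r, v, hv, hker⟩ := Groth.Agent.S16113.result k G
  let c₀ : k →* Γ(G.left, ⊤) := (((Scheme.ΓSpecIso (CommRingCat.of k)).inv ≫ G.hom.appTop).hom : k →* Γ(G.left, ⊤))
  let ev : (Γ(G.left, ⊤))ˣ →* (Γ((Pt).left, ⊤))ˣ := Units.map η[G].left.appTop.hom.toMonoidHom
  let cst : (Γ((Pt).left, ⊤))ˣ →* (Γ(G.left, ⊤))ˣ := Units.map (toUnit G).left.appTop.hom.toMonoidHom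
  have hevcst : ∀ c, ev (cst c) = c := fun c => Units.ext (by
    show η[G].left.appTop ((toUnit G).left.appTop (c : Γ((Pt).left, ⊤))) = _
    rw [← appTop_comp, toUnit_unique (η[G] ≫ toUnit G) (𝟙 _)]
    rfl)
  have hvcst : ∀ c, v (cst c) = 1 := fun c => by
    rw [← MonoidHom.mem_ker, hker]
    let d : kˣ := Units.map (Scheme.ΓSpecIso (CommRingCat.of k)).hom.hom.toMonoidHom c
    refine ⟨d, Units.ext ?_⟩
    show G.hom.appTop ((Scheme.ΓSpecIso (CommRingCat.of k)).inv ((Scheme.ΓSpecIso (CommRingCat.of k)).hom (c : Γ((Pt).left, ⊤)))) = _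
    rw [Iso.hom_inv_id_apply]
    rfl
  let vN : ev.ker →* Multiplicative (Fin r → ℤ) := v.comp ev.ker.subtype
  have hbij : Function.Bijective vN := by
    refine ⟨(injective_iff_map_eq_one vN).2 fun x hx => ?_, fun m => ?_⟩
    · have h1 : (x : (Γ(G.left, ⊤))ˣ) ∈ v.ker := hx
      rw [hker] at h1
      obtain ⟨d, hd⟩ := h1
      have h2 : ev (x : (Γ(G.left, ⊤))ˣ) = 1 := x.2
      let d' : (Γ((Pt).left, ⊤))ˣ := Units.map (Scheme.ΓSpecIso (CommRingCat.of k)).inv.hom.toMonoidHom d
      have h3 : cst d' = (x : (Γ(G.left, ⊤))ˣ) := hd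
      rw [← h3, hevcst] at h2
      exact Subtype.ext (h3.symm.trans (by rw [h2, map_one]; rfl))
    · obtain ⟨u, hu⟩ := hv m
      refine ⟨⟨u * (cst (ev u))⁻¹, ?_⟩, ?_⟩
      · rw [MonoidHom.mem_ker, map_mul, map_inv, hevcst, mul_inv_cancel]
      · show v (u * (cst (ev u))⁻¹) = m
        rw [map_mul, map_inv, hvcst, inv_one, _root_.mul_one, hu]
  let φ : Multiplicative (Fin r → ℤ) →* Γ(G.left, ⊤) :=
    ((Units.coeHom _).comp ev.ker.subtype).comp (MulEquiv.ofBijective vN hbij).symm.toMonoidHom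
  have hφu : ∀ m, IsUnit (φ m) ∧ η[G].left.appTop (φ m) = 1 := fun m =>
    ⟨Units.isUnit _, congrArg Units.val ((MulEquiv.ofBijective vN hbij).symm m).2⟩
  have hφs : ∀ f : Γ(G.left, ⊤), IsUnit f → η[G].left.appTop f = 1 → ∃ m, φ m = f := by
    intro f hf he
    refine ⟨vN ⟨hf.unit, MonoidHom.mem_ker.2 (Units.ext he)⟩, ?_⟩
    show (((MulEquiv.ofBijective vN hbij).symm (MulEquiv.ofBijective vN hbij _) : ev.ker) : (Γ(G.left, ⊤))ˣ).val = f
    rw [MulEquiv.symm_apply_apply]
    rfl
  have hφi : ∀ m, φ m = 1 → m = 1 := by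
    intro m hm
    have : ((MulEquiv.ofBijective vN hbij).symm m : ev.ker) = 1 := Subtype.ext (Units.ext hm)
    simpa using this
  obtain ⟨q, hq⟩ := exists_dsPt (W := G) φ
  haveI hqh : IsMonHom q := isMonHom_of_pts q fun X x y => dsFn_injective (MonoidHom.ext fun m => by
    rw [dsFn_mul, dsFn_comp, dsFn_comp, dsFn_comp, hq, Hom.mul_def, appTop_comp,
      comul_unit_eq_mul G (φ m) (hφu m).1 (hφu m).2, map_mul, ← appTop_comp, ← appTop_comp, lift_fst, lift_snd])
  haveI : IsAffine (Red.DS (Spec (CommRingCat.of k)) (Fin r → ℤ)).left := SGA3cLib.MultEssFree.isAffine_DS _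
  haveI : LocallyOfFiniteType (Red.DS (Spec (CommRingCat.of k)) (Fin r → ℤ)).hom :=
    TorusToProper.locallyOfFiniteType_DS r
  haveI : IsAffineHom (Red.DS (Spec (CommRingCat.of k)) (Fin r → ℤ)).hom := isAffineHom_of_isAffine _
  obtain ⟨M₀, gM, j, g, hj, hg, hjc, hgj, hgs, hgf, hMs, hMl, hMq⟩ :=
    Groth.Agent.AlgGrpLib.ImageSubgroup.exists_image q
  letI := gM
  haveI := hj
  haveI := hjc
  have hnorm : AlgGrp.IsNormalHom j := fun X x n => ⟨n, by rw [DS_mul_comm x, _root_.mul_assoc, mul_inv_cancel, _root_.mul_one]⟩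
  obtain ⟨Z, gZ, s, hs, hZa, hZl, hsf, hss, hks⟩ := Groth.Agent.S3278.result k (Red.DS (Spec (CommRingCat.of k)) (Fin r → ℤ)) M₀ j hnorm
  letI := gZ
  haveI := hs
  haveI := hZa
  haveI : IsAffineHom Z.hom := isAffineHom_of_isAffine _
  obtain ⟨N, hN⟩ := CharCutOut.exists_subgroup_of_hom s
  have hN1 : ∀ m ∈ N, m = 1 := by
    intro m hm
    refine hφi m ?_
    have h : q ≫ s = 1 := by rw [← hgj, Category.assoc, kernel_comp hks, MonObj.comp_one]
    rw [← hq]
    exact (hN q).1 h m hm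
  obtain ⟨t, ht⟩ := exists_lift_kernel hks (g := 𝟙 (Red.DS (Spec (CommRingCat.of k)) (Fin r → ℤ))) ((hN (𝟙 (Red.DS (Spec (CommRingCat.of k)) (Fin r → ℤ)))).2 fun m hm => by rw [hN1 m hm, map_one])
  haveI : Mono j := kernel_mono hks
  haveI : IsIso j := ⟨t, by rw [← cancel_mono j, Category.assoc, ht, Category.comp_id, Category.id_comp], ht⟩
  haveI : IsIso j.left := inferInstanceAs (IsIso ((Over.forget _).map j))
  refine ⟨r, q, hqh, ?_, ?_, fun χ hχ => ?_⟩
  · rw [← hgj, Over.comp_left]; haveI := hgf; infer_instance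
  · rw [← hgj, Over.comp_left]; haveI := hgs; infer_instance
  · haveI := hχ
    have he : η[G].left.appTop (Red.gmFn χ) = 1 := by
      rw [← gmFn_comp, hχ.one_hom, Groth.Agent.AlgGrpLib.one_unit, gmFn_one]
    obtain ⟨m, hm⟩ := hφs _ (isUnit_gmFn χ) he
    refine ⟨Multiplicative.toAdd m, gmFn_injective ?_⟩
    rw [gmFn_chi, hq]
    exact hm

/-- The kernel of the universal torus quotient is connected. -/
theorem connectedSpace_kernel {G : Over (Spec (CommRingCat.of k))} [GrpObj G] [Smooth G.hom] [QuasiCompact G.hom]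
    [ConnectedSpace G.left] {r : ℕ} {q : G ⟶ Red.DS (Spec (CommRingCat.of k)) (Fin r → ℤ)} (hu : IsUniv q)
    {H : Over (Spec (CommRingCat.of k))} [GrpObj H] (h : H ⟶ G) [IsMonHom h] (hker : AlgGrp.IsKernel h q) :
    ConnectedSpace H.left := by
  classical
  obtain ⟨hqh, hqf, hqs, hlift⟩ := hu
  haveI := hqh
  haveI := hqf
  haveI := hqs
  haveI : IsAffine (Red.DS (Spec (CommRingCat.of k)) (Fin r → ℤ)).left := SGA3cLib.MultEssFree.isAffine_DS _
  haveI : LocallyOfFiniteType (Red.DS (Spec (CommRingCat.of k)) (Fin r → ℤ)).hom :=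
    TorusToProper.locallyOfFiniteType_DS r
  haveI : IsAffineHom (Red.DS (Spec (CommRingCat.of k)) (Fin r → ℤ)).hom := isAffineHom_of_isAffine _
  haveI : LocallyOfFinitePresentation q.left := ExactSeqBasics.locallyOfFinitePresentation_left q
  haveI : Smooth (Red.DS (Spec (CommRingCat.of k)) (Fin r → ℤ)).hom := by
    haveI : Smooth (q.left ≫ (Red.DS (Spec (CommRingCat.of k)) (Fin r → ℤ)).hom) := by rw [Over.w q]; infer_instance
    exact Groth.Agent.AlgSpLib.smooth_of_comp_fppf q.left (Red.DS (Spec (CommRingCat.of k)) (Fin r → ℤ)).hom (by assumption)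
  obtain ⟨K₀, gK₀, v, W, gW, p, ρ, hv, hp, hK₀, hpf, hps, hkp, hρf, hpρ, hWs⟩ :=
    ComponentQuot.exists_componentQuot q h hker
  letI := gW
  haveI := hp
  haveI := hpf
  haveI := hps
  haveI := hρf
  haveI : Smooth W.hom := hWs inferInstance
  haveI : ConnectedSpace W.left := p.left.surjective.connectedSpace p.left.continuous
  haveI : IsAffine W.left := isAffine_of_isAffineHom ρ.left
  haveI : IsAffineHom W.hom := isAffineHom_of_isAffine _
  haveI : QuasiCompact p.left := Groth.Agent.AlgGrpLib.quasiCompact_left p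
  haveI : Epi p.left := Flat.epi_of_flat_of_surjective _
  haveI : Epi p := Over.epi_of_epi_left _
  haveI : Flat (p ⊗ₘ p).left := by
    rw [Over.tensorHom_left]
    exact MorphismProperty.pullbackMap (P := @Flat.{u}) hpf hpf (Over.w p).symm (Over.w p).symm
  haveI : Surjective (p ⊗ₘ p).left := by
    rw [Over.tensorHom_left]
    exact MorphismProperty.pullbackMap (P := @Surjective.{u}) hps hps (Over.w p).symm (Over.w p).symm
  haveI : LocallyOfFiniteType (W ⊗ W).hom :=
    inferInstanceAs (LocallyOfFiniteType (pullback.fst W.hom W.hom ≫ W.hom))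
  haveI : QuasiCompact (G ⊗ G).hom := inferInstanceAs (QuasiCompact (pullback.fst G.hom G.hom ≫ G.hom))
  haveI : QuasiCompact (p ⊗ₘ p).left := Groth.Agent.AlgGrpLib.quasiCompact_left _
  haveI : Epi (p ⊗ₘ p).left := Flat.epi_of_flat_of_surjective _
  haveI : Epi (p ⊗ₘ p) := Over.epi_of_epi_left _
  haveI : IsMonHom ρ := by
    constructor
    · rw [← IsMonHom.one_hom p, Category.assoc, hpρ]; exact IsMonHom.one_hom q
    · rw [← cancel_epi (p ⊗ₘ p), ← IsMonHom.mul_hom_assoc, hpρ, MonoidalCategory.tensorHom_comp_tensorHom_assoc, hpρ]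
      exact IsMonHom.mul_hom q
  haveI : Surjective ρ.left := by
    haveI : Surjective (p.left ≫ ρ.left) := by rw [← Over.comp_left, hpρ]; exact hqs
    exact Surjective.of_comp p.left ρ.left
  haveI : Flat ρ.left := by
    haveI : Flat (p.left ≫ ρ.left) := by rw [← Over.comp_left, hpρ]; exact hqf
    exact Groth.Agent.FlatLocal.flat_of_comp p.left ρ.left
  haveI : QuasiCompact ρ.left := inferInstance
  -- the finite kernel
  let iK : pullback ρ η[(Red.DS (Spec (CommRingCat.of k)) (Fin r → ℤ))] ⟶ W := pullback.fst _ _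
  have hkρ : AlgGrp.IsKernel iK ρ := by
    have h := IsPullback.of_hasPullback ρ η[(Red.DS (Spec (CommRingCat.of k)) (Fin r → ℤ))]
    rwa [toUnit_unique (pullback.snd ρ η[(Red.DS (Spec (CommRingCat.of k)) (Fin r → ℤ))]) (toUnit _)] at h
  obtain ⟨gK, hiK⟩ := Groth.Agent.AlgGrpLib.exists_grpObj_kernel ρ iK hkρ
  letI := gK
  haveI := hiK
  haveI : Mono iK := kernel_mono hkρ
  haveI : IsFinite (pullback ρ η[(Red.DS (Spec (CommRingCat.of k)) (Fin r → ℤ))]).hom := by
    have h : IsPullback iK.left (toUnit (pullback ρ η[(Red.DS (Spec (CommRingCat.of k)) (Fin r → ℤ))])).left ρ.left η[(Red.DS (Spec (CommRingCat.of k)) (Fin r → ℤ))].left := hkρ.map (Over.forget _)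
    exact MorphismProperty.of_isPullback (P := @IsFinite) h hρf
  haveI : Subsingleton ↥(Spec (CommRingCat.of k)) := inferInstanceAs (Subsingleton (PrimeSpectrum k))
  haveI : DiscreteTopology (pullback ρ η[(Red.DS (Spec (CommRingCat.of k)) (Fin r → ℤ))]).left := by
    have h := (locallyQuasiFinite_iff_isDiscrete_preimage_singleton (f := (pullback ρ η[(Red.DS (Spec (CommRingCat.of k)) (Fin r → ℤ))]).hom)).1 inferInstance
      (IsLocalRing.closedPoint k)
    refine isDiscrete_univ_iff.1 ?_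
    convert h using 1
    exact (Set.eq_univ_of_forall fun x => Subsingleton.elim ((pullback ρ η[(Red.DS (Spec (CommRingCat.of k)) (Fin r → ℤ))]).hom x) _).symm
  -- `W` is commutative
  haveI : Smooth (W ⊗ W).hom := inferInstanceAs (Smooth (pullback.fst W.hom W.hom ≫ W.hom))
  haveI : IsReduced (W ⊗ W).left := Groth.Agent.AbSchLib.isReduced_of_smooth (W ⊗ W).hom
  haveI : GeometricallyConnected W.hom := by
    have := Groth.Agent.SGA3cLib.geometricallyConnected_of_rational_point k W.hom (𝟙 W.left) η[W].left (Over.w η[W])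
      (fun x _ => ⟨x, rfl⟩)
    rwa [Category.id_comp] at this
  have hWc : ∀ {X : Over (Spec (CommRingCat.of k))} (x y : X ⟶ W), x * y = y * x := by
    let C : W ⊗ W ⟶ W := fst W W * snd W W * (fst W W)⁻¹ * (snd W W)⁻¹
    have hC : C ≫ ρ = 1 := by
      simp only [C, MonObj.mul_comp, GrpObj.inv_comp]
      rw [DS_mul_comm (fst W W ≫ ρ) (snd W W ≫ ρ)]
      exact (congrArg (· * (snd W W ≫ ρ)⁻¹) (mul_inv_cancel_right _ _)).trans (mul_inv_cancel _)
    obtain ⟨c, hc⟩ := exists_lift_kernel hkρ hC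
    have hc0 : lift (𝟙 W) (toUnit W ≫ η[W]) ≫ c = 1 := by
      rw [← cancel_mono iK, Category.assoc, hc, MonObj.one_comp]
      simp only [C, MonObj.comp_mul, GrpObj.comp_inv, lift_fst, lift_snd]
      rw [← Hom.one_def, inv_one, _root_.mul_one, _root_.mul_one, mul_inv_cancel]
    haveI : IsClosedImmersion η[pullback ρ η[(Red.DS (Spec (CommRingCat.of k)) (Fin r → ℤ))]].left :=
      isClosedImmersion_of_comp_eq_id (pullback ρ η[(Red.DS (Spec (CommRingCat.of k)) (Fin r → ℤ))]).hom η[pullback ρ η[(Red.DS (Spec (CommRingCat.of k)) (Fin r → ℤ))]].left (Over.w _)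
    obtain ⟨l, hl⟩ := PointsDense.exists_factor_of_points_algClosed (K := k) k c η[pullback ρ η[(Red.DS (Spec (CommRingCat.of k)) (Fin r → ℤ))]] fun x => by
      refine ⟨toUnit _, Over.OverMorphism.ext ?_⟩
      refine ext_of_apply_closedPoint_eq (pullback ρ η[(Red.DS (Spec (CommRingCat.of k)) (Fin r → ℤ))]).hom ?_ ?_ ?_
      · rw [Over.w]; simp [PointsDense.spK]
      · rw [Over.w]; simp [PointsDense.spK]
      · have h := ComponentQuot.range_subset_component c hc0 (x.left (IsLocalRing.closedPoint k))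
        rw [connectedComponent_eq_singleton] at h
        show η[pullback ρ η[(Red.DS (Spec (CommRingCat.of k)) (Fin r → ℤ))]].left _ = c.left (x.left (IsLocalRing.closedPoint k))
        rw [h]
    have hC1 : C = 1 := by
      rw [← hc, ← hl, toUnit_unique l (toUnit _), ← Hom.one_def, MonObj.one_comp]
    intro X x y
    have h := congrArg (lift x y ≫ ·) hC1
    simp only [C, MonObj.comp_mul, GrpObj.comp_inv, lift_fst, lift_snd, MonObj.comp_one] at h
    rw [← mul_inv_eq_iff_eq_mul] at *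
    exact mul_inv_eq_one.mp h
  haveI : IsCommMonObj W := ⟨by
    rw [MonObj.mul_eq_mul, MonObj.comp_mul]
    simp only [braiding_hom_fst, braiding_hom_snd]
    exact hWc _ _⟩
  haveI : IsCommMonObj (pullback ρ η[(Red.DS (Spec (CommRingCat.of k)) (Fin r → ℤ))]) := ⟨by
    rw [← cancel_mono iK, Category.assoc, IsMonHom.mul_hom, ← BraidedCategory.braiding_naturality_assoc,
      IsCommMonObj.mul_comm]⟩
  haveI : Flat (pullback ρ η[(Red.DS (Spec (CommRingCat.of k)) (Fin r → ℤ))]).hom := inferInstance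
  haveI : LocallyOfFinitePresentation (pullback ρ η[(Red.DS (Spec (CommRingCat.of k)) (Fin r → ℤ))]).hom := inferInstance
  let n := Scheme.Hom.finrank (pullback ρ η[(Red.DS (Spec (CommRingCat.of k)) (Fin r → ℤ))]).hom (IsLocalRing.closedPoint k)
  have hn : ∀ s, Scheme.Hom.finrank (pullback ρ η[(Red.DS (Spec (CommRingCat.of k)) (Fin r → ℤ))]).hom s = n := fun s => by
    rw [Subsingleton.elim s (IsLocalRing.closedPoint k)]
  haveI : Surjective (pullback ρ η[(Red.DS (Spec (CommRingCat.of k)) (Fin r → ℤ))]).hom :=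
    ⟨fun s => ⟨η[pullback ρ η[(Red.DS (Spec (CommRingCat.of k)) (Fin r → ℤ))]].left s, Subsingleton.elim _ _⟩⟩
  have hn0 : n ≠ 0 := Nat.one_le_iff_ne_zero.1
    ((Scheme.Hom.one_le_finrank_iff_surjective (pullback ρ η[(Red.DS (Spec (CommRingCat.of k)) (Fin r → ℤ))]).hom).2 inferInstance _)
  have hpow : ∀ {A B : Over (Spec (CommRingCat.of k))} [GrpObj A] {X : Over (Spec (CommRingCat.of k))}
      (f : B ⟶ A) (x : X ⟶ B) (m : ℕ), x ≫ (f ^ m) = (x ≫ f) ^ m := by
    intro A B _ X f x m
    induction m with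
    | zero => rw [pow_zero, pow_zero, MonObj.comp_one]
    | succ i ih => rw [pow_succ, pow_succ, MonObj.comp_mul, ih]
  have hpow' : ∀ {A B : Over (Spec (CommRingCat.of k))} [GrpObj A] [GrpObj B] (f : A ⟶ B) [IsMonHom f]
      {X : Over (Spec (CommRingCat.of k))} (x : X ⟶ A) (m : ℕ), (x ^ m) ≫ f = (x ≫ f) ^ m := by
    intro A B _ _ f _ X x m
    induction m with
    | zero => rw [pow_zero, pow_zero, MonObj.one_comp]
    | succ i ih => rw [pow_succ, pow_succ, MonObj.mul_comp, ih]
  let P : W ⟶ W := (𝟙 W) ^ n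
  haveI : IsMonHom P := isMonHom_of_pts P fun X x y => by
    simp only [P, hpow, Category.comp_id]
    exact (show Commute x y from hWc x y).mul_pow n
  have hkP : iK ≫ P = 1 := by
    simp only [P, hpow, Category.comp_id]
    rw [show iK = 𝟙 _ ≫ iK from (Category.id_comp _).symm, ← hpow' iK (𝟙 _) n,
      Groth.Agent.S7782.result (pullback ρ η[(Red.DS (Spec (CommRingCat.of k)) (Fin r → ℤ))]) n hn _ (𝟙 _), MonObj.one_comp]
  obtain ⟨s, hs⟩ := ExactSeqBasics.exists_desc ρ hkρ P hkP
  haveI : Epi ρ.left := Flat.epi_of_flat_of_surjective _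
  haveI : Epi ρ := Over.epi_of_epi_left _
  haveI : Flat (ρ ⊗ₘ ρ).left := by
    rw [Over.tensorHom_left]
    exact MorphismProperty.pullbackMap (P := @Flat.{u}) ‹Flat ρ.left› ‹Flat ρ.left› (Over.w ρ).symm (Over.w ρ).symm
  haveI : Surjective (ρ ⊗ₘ ρ).left := by
    rw [Over.tensorHom_left]
    exact MorphismProperty.pullbackMap (P := @Surjective.{u}) ‹Surjective ρ.left› ‹Surjective ρ.left› (Over.w ρ).symm
      (Over.w ρ).symm
  haveI : QuasiCompact (W ⊗ W).hom := inferInstanceAs (QuasiCompact (pullback.fst W.hom W.hom ≫ W.hom))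
  haveI : LocallyOfFiniteType ((Red.DS (Spec (CommRingCat.of k)) (Fin r → ℤ)) ⊗ (Red.DS (Spec (CommRingCat.of k)) (Fin r → ℤ))).hom :=
    inferInstanceAs (LocallyOfFiniteType (pullback.fst (Red.DS (Spec (CommRingCat.of k)) (Fin r → ℤ)).hom (Red.DS (Spec (CommRingCat.of k)) (Fin r → ℤ)).hom ≫ (Red.DS (Spec (CommRingCat.of k)) (Fin r → ℤ)).hom))
  haveI : QuasiCompact (ρ ⊗ₘ ρ).left := Groth.Agent.AlgGrpLib.quasiCompact_left _
  haveI : Epi (ρ ⊗ₘ ρ).left := Flat.epi_of_flat_of_surjective _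
  haveI : Epi (ρ ⊗ₘ ρ) := Over.epi_of_epi_left _
  haveI : IsMonHom s := by
    constructor
    · rw [← IsMonHom.one_hom ρ, Category.assoc, hs, IsMonHom.one_hom]
    · rw [← cancel_epi (ρ ⊗ₘ ρ), ← IsMonHom.mul_hom_assoc, hs, IsMonHom.mul_hom,
        MonoidalCategory.tensorHom_comp_tensorHom_assoc, hs]
  let PT : (Red.DS (Spec (CommRingCat.of k)) (Fin r → ℤ)) ⟶ (Red.DS (Spec (CommRingCat.of k)) (Fin r → ℤ)) := (𝟙 (Red.DS (Spec (CommRingCat.of k)) (Fin r → ℤ))) ^ n
  haveI : IsMonHom PT := isMonHom_of_pts PT fun X x y => by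
    simp only [PT, hpow, Category.comp_id]
    exact (show Commute x y from DS_mul_comm x y).mul_pow n
  obtain ⟨hPTfin, hPTff⟩ := Groth.Agent.AlgGrpLib.TorusIsogeny.ffs_pow_DS n hn0 r (Spec (CommRingCat.of k))
  haveI : Flat PT.left := hPTff.1
  haveI : Surjective PT.left := hPTff.2
  haveI : IsFinite PT.left := hPTfin
  have hsρ : s ≫ ρ = PT := by
    rw [← cancel_epi ρ, ← Category.assoc, hs]
    simp only [P, PT, hpow, hpow', Category.comp_id, Category.id_comp]
  -- `s` is surjective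
  haveI : GeometricallyIntegral W.hom := Groth.Agent.AbVarLib.geometricallyIntegral_of_smooth W.hom
  haveI : IsIntegral W.left := GeometricallyIntegral.isIntegral_of_subsingleton W.hom
  obtain ⟨M₀, gM, j, g, hj, hg, hjc, hgj, hgs, hgf, -, -, -⟩ := Groth.Agent.AlgGrpLib.ImageSubgroup.exists_image s
  letI := gM
  haveI := hjc
  haveI : Surjective j.left := by
    let w := genericPoint W.left
    haveI : Surjective (s ≫ ρ).left := by rw [hsρ]; infer_instance
    obtain ⟨z, hz⟩ := (s ≫ ρ).left.surjective (ρ.left w)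
    have hd := (locallyQuasiFinite_iff_isDiscrete_preimage_singleton (f := ρ.left)).1 inferInstance (ρ.left w)
    have hsp : w ⤳ s.left z := (genericPoint_spec W.left).specializes trivial
    have heq : w = s.left z := by
      haveI : DiscreteTopology (ρ.left ⁻¹' {ρ.left w}) := hd.to_subtype
      have : (⟨w, rfl⟩ : ρ.left ⁻¹' {ρ.left w}) ⤳ ⟨s.left z, hz⟩ := (subtype_specializes_iff _ _).2 hsp
      exact congrArg Subtype.val this.eq
    have hw : w ∈ Set.range j.left := ⟨g.left z, by rw [heq, ← hgj]; rfl⟩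
    refine ⟨fun y => ?_⟩
    exact ((genericPoint_spec W.left).specializes trivial).mem_closed j.left.isClosedEmbedding.isClosed_range hw
  haveI : IsReduced W.left := inferInstance
  haveI : IsIso j.left := isIso_of_isClosedImmersion_of_surjective j.left
  haveI : Flat s.left := by rw [← hgj, Over.comp_left]; haveI := hgf; infer_instance
  haveI : Surjective s.left := by rw [← hgj, Over.comp_left]; haveI := hgs; infer_instance
  haveI : QuasiCompact (Red.DS (Spec (CommRingCat.of k)) (Fin r → ℤ)).hom := inferInstance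
  haveI : QuasiCompact s.left := Groth.Agent.AlgGrpLib.quasiCompact_left s
  haveI : Epi s.left := Flat.epi_of_flat_of_surjective _
  haveI : Epi s := Over.epi_of_epi_left _
  -- the kernel of `PT` is killed by `s`
  obtain ⟨N, hN⟩ := CharCutOut.exists_subgroup_of_hom s
  let iP : pullback PT η[(Red.DS (Spec (CommRingCat.of k)) (Fin r → ℤ))] ⟶ (Red.DS (Spec (CommRingCat.of k)) (Fin r → ℤ)) := pullback.fst _ _
  have hkPT : AlgGrp.IsKernel iP PT := by
    have h := IsPullback.of_hasPullback PT η[(Red.DS (Spec (CommRingCat.of k)) (Fin r → ℤ))]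
    rwa [toUnit_unique (pullback.snd PT η[(Red.DS (Spec (CommRingCat.of k)) (Fin r → ℤ))]) (toUnit _)] at h
  let iS : pullback s η[W] ⟶ (Red.DS (Spec (CommRingCat.of k)) (Fin r → ℤ)) := pullback.fst _ _
  have hkS : AlgGrp.IsKernel iS s := by
    have h := IsPullback.of_hasPullback s η[W]
    rwa [toUnit_unique (pullback.snd s η[W]) (toUnit _)] at h
  have hdiv : iP ≫ s = 1 := by
    rw [hN]
    intro m hm
    haveI := isMonHom_chi (k := k) (Multiplicative.toAdd m)
    have h1 : iS ≫ Red.chi (Spec (CommRingCat.of k)) (Multiplicative.toAdd m) = 1 := gmFn_injective (by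
      rw [gmFn_chi, gmFn_one]; exact (hN iS).1 (kernel_comp hkS) m hm)
    obtain ⟨χ, hχ⟩ := ExactSeqBasics.exists_desc s hkS (Red.chi (Spec (CommRingCat.of k)) (Multiplicative.toAdd m)) h1
    haveI : IsMonHom (p ≫ χ) := by
      haveI : IsMonHom χ := isMonHom_of_pts χ fun X x y => by
        obtain ⟨X₁, c, a, hc1, hc2, hc3, ha⟩ := exists_lift_cover s x
        obtain ⟨X₂, d, b, hd1, hd2, hd3, hb⟩ := exists_lift_cover s (c ≫ y)
        haveI : Epi c.left := Flat.epi_of_flat_of_surjective _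
        haveI : Epi d.left := Flat.epi_of_flat_of_surjective _
        haveI : Epi c := Over.epi_of_epi_left _
        haveI : Epi d := Over.epi_of_epi_left _
        rw [← cancel_epi (d ≫ c)]
        have ha' : (d ≫ c) ≫ x = (d ≫ a) ≫ s := by rw [Category.assoc, ← ha, Category.assoc]
        have hb' : (d ≫ c) ≫ y = b ≫ s := by rw [Category.assoc, ← hb]
        rw [← Category.assoc, MonObj.comp_mul, MonObj.comp_mul, ← Category.assoc (d ≫ c) x, ← Category.assoc (d ≫ c) y,
          ha', hb', ← MonObj.mul_comp _ _ s, Category.assoc, Category.assoc, Category.assoc, hχ,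
          MonObj.mul_comp _ _ (Red.chi (Spec (CommRingCat.of k)) (Multiplicative.toAdd m)), Category.assoc, Category.assoc, hχ]
      infer_instance
    obtain ⟨m', hm'⟩ := hlift (p ≫ χ) inferInstance
    haveI := isMonHom_chi (k := k) m'
    have h2 : χ = ρ ≫ Red.chi (Spec (CommRingCat.of k)) m' := by
      rw [← cancel_epi p, ← Category.assoc, hpρ, hm']
    rw [← ofAdd_toAdd m, ← gmFn_chi, ← hχ, h2, ← Category.assoc s, hsρ, ← Category.assoc iP, kernel_comp hkPT,
      MonObj.one_comp (Red.chi (Spec (CommRingCat.of k)) m'), gmFn_one]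
  obtain ⟨t, ht⟩ := ExactSeqBasics.exists_desc PT hkPT s hdiv
  have e1 : ρ ≫ t = 𝟙 W := by
    rw [← cancel_epi s, ← Category.assoc, hsρ, ht, Category.comp_id]
  have hker' : h ≫ p = 1 := by
    rw [show h ≫ p = (h ≫ q) ≫ t by rw [Category.assoc, ← hpρ, Category.assoc, e1, Category.comp_id],
      kernel_comp hker]
    have hη : η[(Red.DS (Spec (CommRingCat.of k)) (Fin r → ℤ))] ≫ t = η[W] := by
      rw [← IsMonHom.one_hom ρ, Category.assoc, e1, Category.comp_id]
    rw [Hom.one_def, Category.assoc, hη, ← Hom.one_def]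
  obtain ⟨d, hd⟩ := exists_lift_kernel hkp hker'
  have hvq : v ≫ q = 1 := by
    rw [← hpρ, ← Category.assoc, kernel_comp hkp, MonObj.one_comp ρ]
  obtain ⟨d', hd'⟩ := exists_lift_kernel hker hvq
  haveI : Mono h := kernel_mono hker
  have hdd : d ≫ d' = 𝟙 H := by rw [← cancel_mono h, Category.assoc, hd', hd, Category.id_comp]
  have hsurj : Function.Surjective d'.left := fun x => ⟨d.left x, by
    show (d ≫ d').left x = x
    rw [hdd]; rfl⟩
  haveI := hK₀
  exact hsurj.connectedSpace d'.left.continuous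

/-- A map which becomes multiplicative after a cover of the source group is a homomorphism. -/
theorem isMonHom_of_epi {A B C : Over (Spec (CommRingCat.of k))} [GrpObj A] [GrpObj B] [GrpObj C] (p : A ⟶ B) [IsMonHom p]
    [Flat p.left] [Surjective p.left] [QuasiCompact p.left] (f : B ⟶ C) (g : A ⟶ C) [IsMonHom g] (hfg : p ≫ f = g) :
    IsMonHom f := isMonHom_of_pts f fun X x y => by
  obtain ⟨X₁, c, a, hc1, hc2, hc3, ha⟩ := exists_lift_cover p x
  obtain ⟨X₂, d, b, hd1, hd2, hd3, hb⟩ := exists_lift_cover p (c ≫ y)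
  haveI : Epi c.left := Flat.epi_of_flat_of_surjective _
  haveI : Epi d.left := Flat.epi_of_flat_of_surjective _
  haveI : Epi c := Over.epi_of_epi_left _
  haveI : Epi d := Over.epi_of_epi_left _
  rw [← cancel_epi (d ≫ c)]
  have ha' : (d ≫ c) ≫ x = (d ≫ a) ≫ p := by rw [Category.assoc, ← ha, Category.assoc]
  have hb' : (d ≫ c) ≫ y = b ≫ p := by rw [Category.assoc, ← hb]
  rw [← Category.assoc, MonObj.comp_mul, MonObj.comp_mul, ← Category.assoc (d ≫ c) x, ← Category.assoc (d ≫ c) y,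
    ha', hb', ← MonObj.mul_comp _ _ p, Category.assoc, Category.assoc, Category.assoc, hfg, MonObj.mul_comp _ _ g,
    Category.assoc, Category.assoc, hfg]

/-- The kernel of the universal torus quotient of an affine group has no characters. -/
theorem character_eq_one_of_affine {G : Over (Spec (CommRingCat.of k))} [GrpObj G] [Smooth G.hom] [QuasiCompact G.hom]
    [ConnectedSpace G.left] [IsAffine G.left] {r : ℕ} {q : G ⟶ Red.DS (Spec (CommRingCat.of k)) (Fin r → ℤ)}
    (hu : IsUniv q) {H : Over (Spec (CommRingCat.of k))} [GrpObj H] (h : H ⟶ G) [IsMonHom h]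
    (hker : AlgGrp.IsKernel h q) (ψ : H ⟶ Red.Gm (Spec (CommRingCat.of k))) [IsMonHom ψ] : ψ = 1 := by
  classical
  obtain ⟨hqh, hqf, hqs, hlift⟩ := hu
  haveI := hqh
  haveI := hqf
  haveI := hqs
  haveI : IsAffine (Red.DS (Spec (CommRingCat.of k)) (Fin r → ℤ)).left := SGA3cLib.MultEssFree.isAffine_DS _
  haveI : IsAffine (Red.DS (Spec (CommRingCat.of k)) ℤ).left := SGA3cLib.MultEssFree.isAffine_DS _
  haveI : IsAffineHom (Red.DS (Spec (CommRingCat.of k)) (Fin r → ℤ)).hom := isAffineHom_of_isAffine _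
  haveI : IsAffineHom (Red.DS (Spec (CommRingCat.of k)) ℤ).hom := isAffineHom_of_isAffine _
  haveI : LocallyOfFiniteType (Red.DS (Spec (CommRingCat.of k)) (Fin r → ℤ)).hom := TorusToProper.locallyOfFiniteType_DS r
  have hcl : ∀ {A B K : Over (Spec (CommRingCat.of k))} [GrpObj B] [IsSeparated B.hom] {i : K ⟶ A} {f : A ⟶ B},
      AlgGrp.IsKernel i f → IsClosedImmersion i.left := by
    intro A B K _ _ i f hf
    haveI : IsClosedImmersion η[B].left := isClosedImmersion_of_comp_eq_id B.hom η[B].left (Over.w η[B])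
    exact MorphismProperty.of_isPullback (P := @IsClosedImmersion) (hf.map (Over.forget _)).flip (by assumption)
  haveI : IsClosedImmersion h.left := hcl hker
  haveI : Mono h := kernel_mono hker
  -- commutators
  let C : G ⊗ G ⟶ G := fst G G * snd G G * (fst G G)⁻¹ * (snd G G)⁻¹
  have hC : C ≫ q = 1 := by
    simp only [C, MonObj.mul_comp _ _ q, GrpObj.inv_comp]
    rw [DS_mul_comm (fst G G ≫ q) (snd G G ≫ q)]
    exact (congrArg (· * (snd G G ≫ q)⁻¹) (mul_inv_cancel_right _ _)).trans (mul_inv_cancel _)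
  obtain ⟨c, hc⟩ := exists_lift_kernel hker hC
  have hcT : ∀ {X : Over (Spec (CommRingCat.of k))} (x y : X ⟶ G),
      (lift x y ≫ c) ≫ h = x * y * x⁻¹ * y⁻¹ := fun x y => by
    rw [Category.assoc, hc]
    simp [C, MonObj.comp_mul, GrpObj.comp_inv]
  have hc1 : lift (𝟙 G) (toUnit G ≫ η[G]) ≫ c = 1 := by
    rw [← cancel_mono h, hcT, MonObj.one_comp h, ← Hom.one_def]
    simp
  have hc2 : lift (toUnit G ≫ η[G]) (𝟙 G) ≫ c = 1 := by
    rw [← cancel_mono h, hcT, MonObj.one_comp h, ← Hom.one_def]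
    simp
  haveI : IsReduced G.left := Groth.Agent.AbSchLib.isReduced_of_smooth G.hom
  have hψc : c ≫ ψ = 1 := gmFn_injective (by
    rw [gmFn_one]
    refine unit_eq_of_axes η[G] η[G] (isUnit_gmFn _) isUnit_one ?_ ?_
    · rw [← gmFn_comp, ← Category.assoc, hc1, MonObj.one_comp ψ, gmFn_one, map_one]
    · rw [← gmFn_comp, ← Category.assoc, hc2, MonObj.one_comp ψ, gmFn_one, map_one])
  have hψconj : ∀ {X : Over (Spec (CommRingCat.of k))} (x y : X ⟶ G) (z : X ⟶ H),
      z ≫ h = x * y * x⁻¹ * y⁻¹ → z ≫ ψ = 1 := fun x y z hz => by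
    have : z = lift x y ≫ c := by rw [← cancel_mono h, hz, hcT]
    rw [this, Category.assoc, hψc, MonObj.comp_one]
  -- the kernel of `ψ` in `G`
  let u : pullback ψ η[Red.Gm (Spec (CommRingCat.of k))] ⟶ H := pullback.fst _ _
  have hku : AlgGrp.IsKernel u ψ := by
    have h := IsPullback.of_hasPullback ψ η[Red.Gm (Spec (CommRingCat.of k))]
    rwa [toUnit_unique (pullback.snd ψ η[Red.Gm (Spec (CommRingCat.of k))]) (toUnit _)] at h
  obtain ⟨gU, hu'⟩ := Groth.Agent.AlgGrpLib.exists_grpObj_kernel ψ u hku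
  letI := gU
  haveI := hu'
  haveI : IsClosedImmersion u.left := hcl hku
  haveI : Mono u := kernel_mono hku
  haveI : IsClosedImmersion (u ≫ h).left := by rw [Over.comp_left]; infer_instance
  have hnorm : AlgGrp.IsNormalHom (u ≫ h) := by
    intro X g n
    obtain ⟨z, hz⟩ := ExactSeqBasics.isNormalHom_kernel q hker X g (n ≫ u)
    rw [Category.assoc] at hz
    have h1 : (z * (n ≫ u)⁻¹) ≫ ψ = 1 := by
      refine hψconj g (n ≫ u ≫ h) _ ?_
      rw [MonObj.mul_comp _ _ h, GrpObj.inv_comp, ← hz, Category.assoc]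
    have h2 : z ≫ ψ = 1 := by
      rw [MonObj.mul_comp _ _ ψ, GrpObj.inv_comp _ ψ, Category.assoc, kernel_comp hku, MonObj.comp_one] at h1
      exact mul_inv_eq_one.mp h1
    obtain ⟨n', hn'⟩ := exists_lift_kernel hku h2
    exact ⟨n', by rw [hz, ← hn', Category.assoc]⟩
  obtain ⟨E, gE, p, hp, hEa, hEl, hpf, hps, hkp⟩ := Groth.Agent.S3278.result k G _ (u ≫ h) hnorm
  letI := gE
  haveI := hp
  haveI := hEa
  haveI := hEl
  haveI := hpf
  haveI := hps
  haveI : IsAffineHom E.hom := isAffineHom_of_isAffine _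
  haveI : QuasiCompact p.left := Groth.Agent.AlgGrpLib.quasiCompact_left p
  have hEc : ∀ {X : Over (Spec (CommRingCat.of k))} (x y : X ⟶ E), x * y = y * x := by
    intro X x y
    obtain ⟨X₁, e₁, a, hc1, hc2, hc3, ha⟩ := exists_lift_cover p x
    obtain ⟨X₂, e₂, b, hd1, hd2, hd3, hb⟩ := exists_lift_cover p (e₁ ≫ y)
    haveI : Epi e₁.left := Flat.epi_of_flat_of_surjective _
    haveI : Epi e₂.left := Flat.epi_of_flat_of_surjective _
    haveI : Epi e₁ := Over.epi_of_epi_left _
    haveI : Epi e₂ := Over.epi_of_epi_left _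
    rw [← cancel_epi (e₂ ≫ e₁), MonObj.comp_mul, MonObj.comp_mul]
    have ha' : (e₂ ≫ e₁) ≫ x = (e₂ ≫ a) ≫ p := by rw [Category.assoc, ← ha, Category.assoc]
    have hb' : (e₂ ≫ e₁) ≫ y = b ≫ p := by rw [Category.assoc, ← hb]
    rw [ha', hb']
    have hz := hψconj (e₂ ≫ a) b _ (hcT (e₂ ≫ a) b)
    obtain ⟨n, hn⟩ := exists_lift_kernel hku hz
    have hker1 : ((e₂ ≫ a) * b * (e₂ ≫ a)⁻¹ * b⁻¹) ≫ p = 1 := by
      rw [← hcT, ← hn, Category.assoc, Category.assoc, ← Category.assoc u h p, kernel_comp hkp, MonObj.comp_one]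
    simp only [MonObj.mul_comp _ _ p, GrpObj.inv_comp] at hker1
    rw [mul_inv_eq_one, mul_inv_eq_iff_eq_mul] at hker1
    exact hker1
  haveI : IsCommMonObj E := ⟨by
    rw [MonObj.mul_eq_mul, MonObj.comp_mul]
    simp only [braiding_hom_fst, braiding_hom_snd]
    exact hEc _ _⟩
  have huhq : (u ≫ h) ≫ q = 1 := by rw [Category.assoc, kernel_comp hker, MonObj.comp_one]
  obtain ⟨e, he⟩ := ExactSeqBasics.exists_desc p hkp q huhq
  haveI : IsMonHom e := isMonHom_of_epi p e q he
  let j : pullback e η[Red.DS (Spec (CommRingCat.of k)) (Fin r → ℤ)] ⟶ E := pullback.fst _ _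
  have hkj : AlgGrp.IsKernel j e := by
    have h := IsPullback.of_hasPullback e η[Red.DS (Spec (CommRingCat.of k)) (Fin r → ℤ)]
    rwa [toUnit_unique (pullback.snd e η[Red.DS (Spec (CommRingCat.of k)) (Fin r → ℤ)]) (toUnit _)] at h
  obtain ⟨gJ, hj⟩ := Groth.Agent.AlgGrpLib.exists_grpObj_kernel e j hkj
  letI := gJ
  haveI := hj
  haveI : IsClosedImmersion j.left := hcl hkj
  haveI : IsAffine (pullback e η[Red.DS (Spec (CommRingCat.of k)) (Fin r → ℤ)]).left := isAffine_of_isAffineHom j.left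
  haveI : LocallyOfFiniteType (pullback e η[Red.DS (Spec (CommRingCat.of k)) (Fin r → ℤ)]).hom := by
    rw [← Over.w j]; infer_instance
  haveI : Mono j := kernel_mono hkj
  obtain ⟨pH, hpH⟩ := exists_lift_kernel hkj (g := h ≫ p) (by rw [Category.assoc, he, kernel_comp hker])
  haveI : IsMonHom pH := isMonHom_of_pts pH fun X x y => by
    rw [← cancel_mono j, Category.assoc, hpH, MonObj.mul_comp _ _ j, Category.assoc, Category.assoc, hpH,
      MonObj.mul_comp _ _ (h ≫ p)]
  have hsqH : IsPullback pH h j p := by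
    refine IsPullback.of_isLimit' ⟨hpH⟩ (PullbackCone.IsLimit.mk _
      (fun s => hker.lift s.snd (toUnit _) ?_) (fun s => ?_) (fun s => hker.lift_fst _ _ _) (fun s m h1 h2 => ?_))
    · rw [← he, ← Category.assoc, ← s.condition, Category.assoc, kernel_comp hkj, MonObj.comp_one, Hom.one_def]
    · rw [← cancel_mono j, Category.assoc, hpH, hker.lift_fst_assoc, s.condition]
    · exact hker.hom_ext (by rw [h2, hker.lift_fst]) (toUnit_unique _ _)
  haveI : Flat pH.left := MorphismProperty.of_isPullback (P := @Flat) (hsqH.map (Over.forget _)).flip hpf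
  haveI : Surjective pH.left := MorphismProperty.of_isPullback (P := @Surjective) (hsqH.map (Over.forget _)).flip hps
  haveI : QuasiCompact pH.left :=
    MorphismProperty.of_isPullback (P := @QuasiCompact) (hsqH.map (Over.forget _)).flip (by assumption)
  have hkpH : AlgGrp.IsKernel u pH := by
    refine isKernel_of_points u pH ?_ fun X g hg => ?_
    · rw [← cancel_mono j, Category.assoc, hpH, ← Category.assoc, kernel_comp hkp, MonObj.one_comp j]
    · have h1 : (g ≫ h) ≫ p = 1 := by rw [Category.assoc, ← hpH, ← Category.assoc, hg, MonObj.one_comp j]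
      obtain ⟨n, hn⟩ := exists_lift_kernel hkp h1
      exact ⟨n, by rw [← cancel_mono h, Category.assoc, hn]⟩
  obtain ⟨ψE, hψE⟩ := ExactSeqBasics.exists_desc pH hkpH ψ (kernel_comp hku)
  haveI : IsMonHom ψE := isMonHom_of_epi pH ψE ψ hψE
  obtain ⟨χ, hχ, hjχ⟩ := Groth.Agent.S13470.exists_extend k _ E j ψE
  haveI := hχ
  obtain ⟨m, hm⟩ := hlift (p ≫ χ) inferInstance
  haveI := isMonHom_chi (k := k) m
  rw [← hψE, ← hjχ, ← Category.assoc, hpH, Category.assoc, ← hm, ← Category.assoc, kernel_comp hker,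
    MonObj.one_comp (Red.chi (Spec (CommRingCat.of k)) m)]

end Groth.Agent.AlgGrpLib.TorusQuot
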