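import Groth.Agent.AlgGrpLib.StableOpen
import Groth.Agent.AlgGrpLib.SecImages
import Groth.Agent.AlgGrpLib.CharIsolate
import Groth.Agent.AlgGrpLib.TorusChars
import Groth.Agent.AlgGrpLib.AffineCombination
import Groth.Agent.AlgGrpLib.UnitsOnProducts
import Groth.Agent.PicLib.FlatSections

/-!
# Stable affine opens from a translation invariant invertible module (torus)

If `σ^* M ≅ p^* M`, the translates of a section `s` of `M` are combinations `Σ χ(g) v_χ`; the finitely many
non-vanishing loci of the `v_χ` are affine and permuted by the divisible group of rational points, hence stable.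
-/

set_option autoImplicit false
set_option linter.style.haveILetI false
set_option backward.isDefEq.respectTransparency.types false
set_option maxHeartbeats 1600000

universe u

open CategoryTheory CategoryTheory.Limits MonoidalCategory CartesianMonoidalCategory MonObj GrpObj AlgebraicGeometry
  TopologicalSpace
open AlgGrp Groth.Agent.Coherent Groth.Agent.PicLib Groth.Agent.AmpleLib Groth.Agent.AlgGrpLib.SecImages

namespace Groth.Agent.AlgGrpLib.TorusStableOpen

variable {k : Type u} [Field k]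

/-- The constants among the functions on a variety. -/
noncomputable abbrev cst (W : Over (Spec (CommRingCat.of k))) : k →+* Γ(W.left, ⊤) :=
  Coh.toGlobal W.hom

theorem appTop_const {T W : Over (Spec (CommRingCat.of k))} (g : 𝟙_ _ ⟶ T) (f : Γ(T.left, ⊤)) :
    (toUnit W ≫ g).left.appTop f = cst W (TorusChars.ev g f) := by
  rw [Over.comp_left, Scheme.Hom.comp_appTop, CommRingCat.comp_apply]
  show _ = W.hom.appTop ((Scheme.ΓSpecIso (CommRingCat.of k)).inv ((Scheme.ΓSpecIso (CommRingCat.of k)).hom (g.left.appTop f)))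
  rw [Iso.hom_inv_id_apply]
  rfl

theorem exists_stable_affine [IsAlgClosed k] {r : ℕ} (T W : Over (Spec (CommRingCat.of k))) [GrpObj T]
    (eT : T ≅ Red.DS (Spec (CommRingCat.of k)) (Fin r → ℤ)) [IsMonHom eT.hom] [IsIntegral W.left]
    [IsSeparated W.hom] [LocallyOfFiniteType W.hom] [QuasiCompact W.hom] (a : AlgGrp.Action T W)
    (M : W.left.Modules) (hM : PicF.IsInvertible M)
    (φ : (Scheme.Modules.pullback a.act.left).obj M ≅ (Scheme.Modules.pullback (snd T W).left).obj M)
    (s : Γ(M, ⊤)) (hs : IsAffineOpen (glocus M s)) (x : W.left) (hx : x ∈ glocus M s) :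
    ∃ O : W.left.Opens, x ∈ O ∧ IsAffineOpen O ∧ ∀ g, (StableOpen.trans a g).left ⁻¹ᵁ O = O := by
  classical
  obtain ⟨hTs, hTc, hTa⟩ := TorusChars.smooth_connected eT
  haveI := hTs; haveI := hTc; haveI := hTa
  haveI : QuasiCompact T.hom := (quasiCompact_iff_compactSpace T.hom).2 inferInstance
  haveI : IsReduced T.left := WeilLib.isReduced_of_smooth T.hom
  haveI : CompactSpace W.left := QuasiCompact.compactSpace_of_compactSpace W.hom
  haveI : W.left.IsSeparated := ⟨by rw [← terminal.comp_from W.hom]; infer_instance⟩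
  haveI : IsAffineHom T.hom := isAffineHom_of_isAffine _
  haveI : Coh.IsQCoh M := AmpleLib.isQCoh_of_isInvertible hM
  let σ := a.act
  let p : T ⊗ W ⟶ W := snd T W
  have hP : PicF.IsInvertible ((Scheme.Modules.pullback p.left).obj M) := PicLoc.isInvertible_pullback p.left hM
  let S : Γ((Scheme.Modules.pullback p.left).obj M, ⊤) := φ.hom.app ⊤ (pullSec σ.left s)
  have hS : Img σ.left s S := ⟨φ, rfl⟩
  -- expansion of `S`
  let B : CommRingCat.{u} := Γ(T.left, ⊤)
  letI : Algebra k B := (Coh.toGlobal T.hom).toAlgebra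
  let βB : B →+* Γ((T ⊗ W).left, ⊤) := (fst T W).left.appTop.hom
  obtain ⟨κ0, I, f, si, hsum⟩ : ∃ (κ0 : Type u) (I : Finset κ0) (f : κ0 → B) (si : κ0 → Γ(M, ⊤)),
      S = ∑ i ∈ I, βB (f i) • (show Γ((Scheme.Modules.pullback p.left).obj M, ⊤) from pullSec p.left (si i)) := by
    letI : W.left.Over (Spec (CommRingCat.of k)) := ⟨W.hom⟩
    let g : (T ⊗ W).left ⟶ W.left := p.left
    let q : (T ⊗ W).left ⟶ Spec B := (fst T W).left ≫ T.left.isoSpec.hom
    letI : (T ⊗ W).left.Over (Spec B) := ⟨q⟩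
    have hTw : T.left.isoSpec.hom ≫ Spec.map (CommRingCat.ofHom (algebraMap k B)) = T.hom := by
      show T.left.toSpecΓ ≫ Spec.map ((Scheme.ΓSpecIso (CommRingCat.of k)).inv ≫ T.hom.appTop) = T.hom
      exact SGA3cLib.toSpecΓ_SpecMap_theta T.hom
    have HP : IsPullback g q W.hom (Spec.map (CommRingCat.ofHom (algebraMap k B))) := by
      have h0 : IsPullback p.left (fst T W).left W.hom T.hom := (IsPullback.of_hasPullback T.hom W.hom).flip
      refine IsPullback.of_iso h0 (Iso.refl _) (Iso.refl _) T.left.isoSpec (Iso.refl _) ?_ ?_ ?_ ?_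
      · exact (Category.comp_id _).trans (Category.id_comp _).symm
      · exact (Category.id_comp q).symm
      · exact (Category.comp_id _).trans (Category.id_comp _).symm
      · exact (Category.comp_id _).trans hTw.symm
    haveI : IsAffineHom g := MorphismProperty.IsStableUnderBaseChange.of_isPullback (P := @IsAffineHom) HP.flip
      inferInstance
    haveI : Module.Flat k B := inferInstance
    have hqB : ∀ b : B, Coh.toGlobal (X := (T ⊗ W).left) (A := B) q b = βB b := by
      intro b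
      show ((fst T W).left ≫ T.left.toSpecΓ).appTop ((Scheme.ΓSpecIso B).inv b) = _
      rw [Scheme.Hom.comp_appTop, CommRingCat.comp_apply, Scheme.toSpecΓ_appTop]
      exact congrArg (fst T W).left.appTop (Iso.inv_hom_id_apply _ _)
    obtain ⟨E, hE⟩ := exists_baseChange_sections g (Coh.toGlobal W.hom) (Coh.toGlobal (X := (T ⊗ W).left) (A := B) q) M
      (appTop_toGlobal g HP) (fun U hU => isBCPushout_of_isPullback g HP hU)
    obtain ⟨J, hJ⟩ := TensorProduct.exists_finset (E.symm S)
    refine ⟨_, J, fun j => j.1, fun j => secTop (Coh.toGlobal W.hom) M j.2, ?_⟩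
    conv_lhs => rw [← E.apply_symm_apply S, hJ]
    rw [map_sum]
    exact Finset.sum_congr rfl fun j _ => (hE _ _).trans (congrArg (· • _) (hqB _))
  -- slices
  let sl : (𝟙_ _ ⟶ T) → (W ⟶ T ⊗ W) := fun g => lift (toUnit W ≫ g) (𝟙 W)
  have hslp : ∀ g, (sl g).left ≫ p.left = 𝟙 W.left := fun g =>
    congrArg CommaMorphism.left (lift_snd (toUnit W ≫ g) (𝟙 W))
  have hslσ : ∀ g, (sl g).left ≫ σ.left = (StableOpen.trans a g).left := fun g => rfl
  have hfst : ∀ g (b : B), (sl g).left.appTop (βB b) = cst W (TorusChars.ev g b) := by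
    intro g b
    show (sl g).left.appTop ((fst T W).left.appTop b) = _
    rw [← AlgGrpLib.appTop_comp, lift_fst, appTop_const]
  -- expansion at points
  choose sI cI hcI using fun i => TorusChars.exists_chr_expansion eT (f i)
  let P : Finset (Σ _ : κ0, Multiplicative (Fin r → ℤ)) := I.sigma sI
  let χP : (Σ _ : κ0, Multiplicative (Fin r → ℤ)) → ((𝟙_ _ ⟶ T) →* k) := fun j => TorusChars.chr eT j.2
  let F : Finset ((𝟙_ _ ⟶ T) →* k) := P.image χP
  let v : ((𝟙_ _ ⟶ T) →* k) → Γ(M, ⊤) := fun χ => ∑ j ∈ P with χP j = χ, cst W (cI j.1 j.2) • si j.1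
  have hexp : ∀ g, ∑ i ∈ I, cst W (TorusChars.ev g (f i)) • si i = ∑ χ ∈ F, cst W (χ g) • v χ := by
    intro g
    calc _ = ∑ i ∈ I, ∑ m ∈ sI i, cst W (TorusChars.chr eT m g) • cst W (cI i m) • si i := by
          refine Finset.sum_congr rfl fun i _ => ?_
          rw [hcI, map_sum, Finset.sum_smul]
          exact Finset.sum_congr rfl fun m _ => by rw [map_mul, mul_comm, mul_smul]
      _ = ∑ j ∈ P, cst W (χP j g) • cst W (cI j.1 j.2) • si j.1 := (Finset.sum_sigma I sI
          fun j => cst W (χP j g) • cst W (cI j.1 j.2) • si j.1).symm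
      _ = _ := by
          rw [← Finset.sum_fiberwise_of_maps_to (fun j hj => Finset.mem_image_of_mem χP hj)]
          refine Finset.sum_congr rfl fun χ _ => ?_
          rw [Finset.smul_sum]
          exact Finset.sum_congr rfl fun j hj => by rw [(Finset.mem_filter.1 hj).2]
  have isolate : ∀ (F' : Finset ((𝟙_ _ ⟶ T) →* k)) (w : ((𝟙_ _ ⟶ T) →* k) → Γ(M, ⊤)) (χ₀) (_ : χ₀ ∈ F'),
      ∃ l : (𝟙_ _ ⟶ T) →₀ k, w χ₀ = ∑ g ∈ l.support, cst W (l g) • ∑ χ ∈ F', cst W (χ g) • w χ := by
    intro F' w χ₀ hχ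
    obtain ⟨l, hl⟩ := CharIsolate.exists_isolate F' hχ
    refine ⟨l, ?_⟩
    simp only [Finset.smul_sum, smul_smul, ← map_mul]
    rw [Finset.sum_comm, Finset.sum_eq_single χ₀ (fun χ hχ' hne => ?_) fun h => absurd hχ h]
    · rw [← Finset.sum_smul, ← map_sum]
      have := hl χ₀ hχ
      rw [if_pos rfl] at this
      rw [show ∑ g ∈ l.support, l g * χ₀ g = 1 from this, map_one, one_smul]
    · rw [← Finset.sum_smul, ← map_sum]
      have := hl χ hχ'
      rw [if_neg hne] at this
      rw [show ∑ g ∈ l.support, l g * χ g = 0 from this, map_zero, zero_smul]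
  have hsliceS : ∀ g, slice (hslp g) M S = ∑ χ ∈ F, cst W (χ g) • v χ := by
    intro g
    rw [← hexp g, hsum, map_sum]
    exact Finset.sum_congr rfl fun i _ => (slice_smul_pull (hslp g) M _ _).trans (congrArg (· • _) (hfst g _))
  have hgl : ∀ g, glocus M (∑ χ ∈ F, cst W (χ g) • v χ) = (StableOpen.trans a g).left ⁻¹ᵁ glocus M s := by
    intro g
    rw [← hsliceS, glocus_slice (hslp g) hM hS, hslσ]
  have haff : ∀ χ ∈ F, IsAffineOpen (glocus M (v χ)) := by
    intro χ hχ
    obtain ⟨l, hl⟩ := isolate F v χ hχ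
    rw [hl]
    refine AffineCombination.isAffineOpen_glocus_sum _ hM _ _ fun g _ => ?_
    haveI := StableOpen.isIso_trans a g
    rw [hgl]
    exact hs.preimage_of_isIso _
  obtain ⟨χx, hχx, hxχ⟩ : ∃ χ ∈ F, x ∈ glocus M (v χ) := by
    refine AffineCombination.mem_glocus_sum F hM (fun χ => cst W (χ 1)) v x ?_
    rw [hgl, StableOpen.trans_one]
    exact hx
  -- the finite set of opens is permuted
  let 𝒪 : Set W.left.Opens := insert ⊥ ((fun χ => glocus M (v χ)) '' (F : Set ((𝟙_ _ ⟶ T) →* k)))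
  have h𝒪 : 𝒪.Finite := (F.finite_toSet.image _).insert _
  have key : ∀ h, ∀ O ∈ 𝒪, (StableOpen.trans a h).left ⁻¹ᵁ O ∈ 𝒪 := by
    intro h O hO
    obtain rfl | ⟨χ₀, hχ₀, rfl⟩ := hO
    · exact Or.inl rfl
    let th := StableOpen.trans a h
    let κA : T ⊗ W ⟶ T ⊗ W := lift (fst T W) (p ≫ th)
    let κB : T ⊗ W ⟶ T ⊗ W := lift (fst T W * (toUnit _ ≫ h)) p
    have hAB : κA.left ≫ σ.left = κB.left ≫ σ.left := by
      rw [← Over.comp_left, ← Over.comp_left]
      refine congrArg CommaMorphism.left ?_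
      show lift (fst T W) (p ≫ th) ≫ σ = lift (fst T W * (toUnit _ ≫ h)) p ≫ σ
      have hmul : lift (fst T W * (toUnit (T ⊗ W) ≫ h)) p ≫ σ = lift (fst T W) (lift (toUnit (T ⊗ W) ≫ h) p ≫ σ) ≫ σ := by
        have h' := congrArg (lift (lift (fst T W) (toUnit (T ⊗ W) ≫ h)) p ≫ ·) a.mul_act
        simp only [lift_whiskerRight_assoc, lift_lift_associator_hom_assoc, lift_whiskerLeft_assoc] at h'
        rw [Hom.mul_def]
        exact h'
      rw [hmul, show lift (toUnit (T ⊗ W) ≫ h) p ≫ σ = p ≫ th by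
        show _ = p ≫ lift (toUnit W ≫ h) (𝟙 W) ≫ a.act
        rw [← Category.assoc p, comp_lift, ← Category.assoc p, Category.comp_id, comp_toUnit]]
    have hBp : κB.left ≫ p.left = p.left := congrArg CommaMorphism.left (lift_snd (fst T W * (toUnit _ ≫ h)) p)
    have hAp : κA.left ≫ p.left = p.left ≫ th.left := congrArg CommaMorphism.left (lift_snd (fst T W) (p ≫ th))
    -- the translation of sections
    let ψ : (Scheme.Modules.pullback th.left).obj M ≅ M :=
      (trIso (hslσ h) M).symm ≪≫ (Scheme.Modules.pullback (sl h).left).mapIso φ ≪≫ retIso (hslp h) M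
    obtain ⟨c, hc, hSc⟩ := exists_unit_rel hAB hAp hBp hM ψ hS I (fun i => βB (f i)) si hsum
    obtain ⟨w₀⟩ := AlgGrpLib.exists_point (X := W)
    haveI : ConnectedSpace W.left := inferInstance
    haveI : IsReduced W.left := inferInstance
    obtain ⟨c₀, hc₀, -, hcfac⟩ := AlgGrpLib.unit_eq_mul (X := T) (Y := W) η[T] w₀ hc
    set α := (lift (𝟙 T) (toUnit T ≫ w₀)).left.appTop c with hα
    set β := (lift (toUnit W ≫ η[T]) (𝟙 W)).left.appTop c * (toUnit W).left.appTop c₀ with hβ
    have hαu : IsUnit α := hc.map _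
    have hβu : IsUnit β := (hc.map _).mul (hc₀.map _)
    set a₁ : k := TorusChars.ev (1 : 𝟙_ _ ⟶ T) α with ha₁
    have ha₁0 : a₁ ≠ 0 := (hαu.map _).ne_zero
    let α' : Γ(T.left, ⊤) := cst T a₁⁻¹ * α
    have hevc : ∀ (g : 𝟙_ _ ⟶ T) (t : k), TorusChars.ev g (cst T t) = t := by
      intro g t
      show (Scheme.ΓSpecIso (CommRingCat.of k)).hom (g.left.appTop (T.hom.appTop ((Scheme.ΓSpecIso (CommRingCat.of k)).inv t))) = t
      rw [← CommRingCat.comp_apply T.hom.appTop, ← Scheme.Hom.comp_appTop, Over.w g]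
      exact (congrArg (Scheme.ΓSpecIso (CommRingCat.of k)).hom (congr($(Scheme.Hom.id_appTop (X := Spec (CommRingCat.of k))) _))).trans
        (Iso.inv_hom_id_apply _ _)
    have hα'u : IsUnit α' := ((IsUnit.mk0 _ (inv_ne_zero ha₁0)).map _).mul hαu
    have hα'1 : η[T].left.appTop α' = 1 := by
      apply (ConcreteCategory.bijective_of_isIso (Scheme.ΓSpecIso (CommRingCat.of k)).hom).1
      show TorusChars.ev η[T] α' = (Scheme.ΓSpecIso (CommRingCat.of k)).hom.hom 1
      have h1 : (η[T] : 𝟙_ _ ⟶ T) = 1 := by rw [Hom.one_def, toUnit_unique (toUnit (𝟙_ _)) (𝟙 _), Category.id_comp]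
      rw [map_one, map_mul, hevc, h1, ← ha₁, inv_mul_cancel₀ ha₁0]
    let ξ : (𝟙_ _ ⟶ T) →* k :=
      { toFun := fun g => TorusChars.ev g α'
        map_one' := by
          show TorusChars.ev (1 : 𝟙_ _ ⟶ T) α' = 1
          rw [map_mul, hevc, ← ha₁, inv_mul_cancel₀ ha₁0]
        map_mul' := fun g g' => by
          show (Scheme.ΓSpecIso (CommRingCat.of k)).hom ((g * g').left.appTop α') = _
          rw [Hom.mul_def, AlgGrpLib.appTop_comp, AlgGrpLib.comul_unit_eq_mul T α' hα'u hα'1, map_mul,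
            ← AlgGrpLib.appTop_comp, ← AlgGrpLib.appTop_comp, lift_fst, lift_snd]
          exact map_mul (Scheme.ΓSpecIso (CommRingCat.of k)).hom.hom _ _ }
    have hslc : ∀ g, (sl g).left.appTop c = cst W (a₁ * ξ g) * β := by
      intro g
      conv_lhs => rw [hcfac]
      have hp1 : (sl g).left.appTop ((snd T W).left.appTop β) = β := by
        rw [← AlgGrpLib.appTop_comp, show sl g ≫ snd T W = 𝟙 W from lift_snd _ _, Over.id_left, Scheme.Hom.id_appTop]
        rfl
      rw [map_mul, hp1, ← AlgGrpLib.appTop_comp, show sl g ≫ fst T W = toUnit W ≫ g from lift_fst _ _,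
        appTop_const]
      congr 1
      · refine congrArg (cst W) ?_
        show _ = a₁ * TorusChars.ev g α'
        rw [map_mul, hevc, ← _root_.mul_assoc, mul_inv_cancel₀ ha₁0, _root_.one_mul]
    -- slices of the two sections
    have hτc : ∀ (t : k) (m : Γ(M, ⊤)), transl ψ (cst W t • m) = cst W t • transl ψ m := by
      intro t m
      rw [transl_smul]
      refine congrArg (· • transl ψ m) ?_
      show th.left.appTop (W.hom.appTop ((Scheme.ΓSpecIso (CommRingCat.of k)).inv t)) = _
      rw [← CommRingCat.comp_apply W.hom.appTop, ← Scheme.Hom.comp_appTop, Over.w th]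
      rfl
    have hrel : ∀ g, ∑ χ ∈ F, cst W (χ g) • transl ψ (v χ) =
        ∑ χ ∈ F, cst W ((ξ * χ) g) • ((cst W (a₁ * χ h) * β) • v χ) := by
      intro g
      have hL : slice (hslp g) M (∑ i ∈ I, κA.left.appTop (βB (f i)) •
          (show Γ((Scheme.Modules.pullback p.left).obj M, ⊤) from pullSec p.left (transl ψ (si i)))) =
          ∑ χ ∈ F, cst W (χ g) • transl ψ (v χ) := by
        rw [map_sum]
        refine Eq.trans ?_ ((congrArg (transl ψ) (hexp g)).trans ((map_sum (transl ψ) _ F).trans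
          (Finset.sum_congr rfl fun χ _ => hτc _ _)))
        rw [map_sum]
        refine Finset.sum_congr rfl fun i _ => ?_
        rw [slice_smul_pull, hτc]
        refine congrArg (· • transl ψ (si i)) ?_
        show (sl g).left.appTop (κA.left.appTop ((fst T W).left.appTop (f i))) = _
        rw [← AlgGrpLib.appTop_comp κA, lift_fst]
        exact hfst g _
      have hR : slice (hslp g) M (∑ i ∈ I, κB.left.appTop (βB (f i)) •
          (show Γ((Scheme.Modules.pullback p.left).obj M, ⊤) from pullSec p.left (si i))) =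
          ∑ χ ∈ F, cst W (χ g * χ h) • v χ := by
        rw [map_sum, show (∑ χ ∈ F, cst W (χ g * χ h) • v χ) = ∑ χ ∈ F, cst W (χ (g * h)) • v χ from
          Finset.sum_congr rfl fun χ _ => by rw [map_mul χ], ← hexp]
        refine Finset.sum_congr rfl fun i _ => ?_
        rw [slice_smul_pull]
        refine congrArg (· • si i) ?_
        show (sl g).left.appTop (κB.left.appTop ((fst T W).left.appTop (f i))) = _
        rw [← AlgGrpLib.appTop_comp, ← AlgGrpLib.appTop_comp]
        have e : (sl g ≫ κB) ≫ fst T W = toUnit W ≫ (g * h) := by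
          rw [Category.assoc, show κB ≫ fst T W = fst T W * (toUnit _ ≫ h) from lift_fst _ _, MonObj.comp_mul,
            show sl g ≫ fst T W = toUnit W ≫ g from lift_fst _ _, ← Category.assoc, comp_toUnit, ← MonObj.comp_mul]
        rw [e, appTop_const]
      rw [← hL, hSc, slice_smul, hR, hslc, Finset.smul_sum]
      refine Finset.sum_congr rfl fun χ _ => ?_
      rw [smul_smul, smul_smul, MonoidHom.mul_apply]
      congr 1
      simp only [map_mul]
      ring
    let F' := F ∪ F.image (ξ * ·)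
    have hξinj : Function.Injective (fun χ : (𝟙_ _ ⟶ T) →* k => ξ * χ) := fun χ χ' he => MonoidHom.ext fun g => by
      have := DFunLike.congr_fun he g
      simp only [MonoidHom.mul_apply] at this
      refine mul_left_cancel₀ ?_ this
      exact ((Group.isUnit g).map ξ).ne_zero
    let wL : ((𝟙_ _ ⟶ T) →* k) → Γ(M, ⊤) := fun χ => if χ ∈ F then transl ψ (v χ) else 0
    let wR : ((𝟙_ _ ⟶ T) →* k) → Γ(M, ⊤) := fun χ =>
      ∑ χ' ∈ F with ξ * χ' = χ, (cst W (a₁ * χ' h) * β) • v χ'
    have hLR : ∀ χ ∈ F', wL χ = wR χ := by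
      intro χ hχ
      obtain ⟨l, hl⟩ := isolate F' (fun χ => wL χ - wR χ) χ hχ
      refine sub_eq_zero.1 (hl.trans (Finset.sum_eq_zero fun g _ => ?_))
      have : ∑ χ ∈ F', cst W (χ g) • (wL χ - wR χ) = 0 := by
        simp only [smul_sub]
        rw [Finset.sum_sub_distrib, sub_eq_zero]
        calc _ = ∑ χ ∈ F, cst W (χ g) • transl ψ (v χ) := by
              rw [← Finset.sum_subset (Finset.subset_union_left : F ⊆ F') fun χ _ hχ' => by simp [wL, hχ']]
              exact Finset.sum_congr rfl fun χ hχ' => by simp [wL, hχ']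
          _ = _ := hrel g
          _ = _ := by
              rw [← Finset.sum_fiberwise_of_maps_to (t := F') (g := (ξ * ·))
                (fun χ hχ' => Finset.mem_union_right _ (Finset.mem_image_of_mem _ hχ'))]
              refine Finset.sum_congr rfl fun χ _ => ?_
              show _ = cst W (χ g) • ∑ χ' ∈ F with ξ * χ' = χ, _
              rw [Finset.smul_sum]
              exact Finset.sum_congr rfl fun χ' hχ' => by rw [(Finset.mem_filter.1 hχ').2]
      rw [this, smul_zero]
    have hτ : glocus M (transl ψ (v χ₀)) = th.left ⁻¹ᵁ glocus M (v χ₀) := glocus_transl hM ψ (v χ₀)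
    have hχ₀' := hLR χ₀ (Finset.mem_union_left _ hχ₀)
    simp only [wL, if_pos (Finset.mem_coe.1 hχ₀), wR] at hχ₀'
    show th.left ⁻¹ᵁ glocus M (v χ₀) ∈ 𝒪
    rw [← hτ, hχ₀']
    by_cases hex : ∃ χ' ∈ F, ξ * χ' = χ₀
    · obtain ⟨χ', hχ', hξ⟩ := hex
      rw [Finset.sum_eq_single χ' (fun b hb hne => absurd (hξinj ((Finset.mem_filter.1 hb).2.trans hξ.symm)) hne)
        (fun hn => absurd (Finset.mem_filter.2 ⟨hχ', hξ⟩) hn)]
      refine Or.inr ⟨χ', hχ', ?_⟩
      refine (glocus_smul (IsUnit.mul ?_ hβu) _).symm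
      exact ((IsUnit.mk0 _ ha₁0).mul ((Group.isUnit h).map χ')).map _
    · push Not at hex
      rw [Finset.sum_eq_zero (fun b hb => absurd (Finset.mem_filter.1 hb).2 (hex b (Finset.mem_filter.1 hb).1))]
      refine Or.inl ?_
      refine bot_unique fun y hy => ?_
      obtain ⟨i, hi, -⟩ := AffineCombination.mem_glocus_sum (M := M) (∅ : Finset Unit) hM (fun _ => 0) (fun _ => 0) y
        (by rw [Finset.sum_empty]; exact hy)
      exact absurd hi (Finset.notMem_empty i)
  -- divisibility
  haveI : Finite 𝒪 := h𝒪.to_subtype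
  let π : (𝟙_ _ ⟶ T) → Equiv.Perm 𝒪 := fun g =>
    { toFun := fun O => ⟨(StableOpen.trans a g).left ⁻¹ᵁ O.1, key g O.1 O.2⟩
      invFun := fun O => ⟨(StableOpen.trans a g⁻¹).left ⁻¹ᵁ O.1, key g⁻¹ O.1 O.2⟩
      left_inv := fun O => Subtype.ext (by
        show (StableOpen.trans a g⁻¹).left ⁻¹ᵁ ((StableOpen.trans a g).left ⁻¹ᵁ O.1) = O.1
        rw [← Scheme.Hom.comp_preimage, ← Over.comp_left, ← StableOpen.trans_mul, mul_inv_cancel, StableOpen.trans_one]
        rfl)
      right_inv := fun O => Subtype.ext (by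
        show (StableOpen.trans a g).left ⁻¹ᵁ ((StableOpen.trans a g⁻¹).left ⁻¹ᵁ O.1) = O.1
        rw [← Scheme.Hom.comp_preimage, ← Over.comp_left, ← StableOpen.trans_mul, inv_mul_cancel, StableOpen.trans_one]
        rfl) }
  have hπ : ∀ g g', π (g' * g) = π g * π g' := fun g g' => Equiv.ext fun O => Subtype.ext (by
    show (StableOpen.trans a (g' * g)).left ⁻¹ᵁ O.1 = (StableOpen.trans a g).left ⁻¹ᵁ ((StableOpen.trans a g').left ⁻¹ᵁ O.1)
    rw [← Scheme.Hom.comp_preimage, ← Over.comp_left, ← StableOpen.trans_mul])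
  have hπ1 : π 1 = 1 := Equiv.ext fun O => Subtype.ext (by
    show (StableOpen.trans a 1).left ⁻¹ᵁ O.1 = O.1
    rw [StableOpen.trans_one]; rfl)
  have hπpow : ∀ g (n : ℕ), π (g ^ n) = π g ^ n := by
    intro g n
    induction n with
    | zero => rw [pow_zero, pow_zero, hπ1]
    | succ n ih => rw [pow_succ, pow_succ', hπ, ih]
  refine ⟨glocus M (v χx), hxχ, haff χx hχx, fun g => ?_⟩
  obtain ⟨g₀, rfl⟩ := TorusChars.exists_pow_eq eT g (Nat.card (Equiv.Perm 𝒪)) Nat.card_pos.ne'
  have h1 : π (g₀ ^ Nat.card (Equiv.Perm 𝒪)) = 1 := by rw [hπpow]; exact pow_card_eq_one'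
  exact congrArg Subtype.val (DFunLike.congr_fun h1 ⟨glocus M (v χx), Or.inr ⟨χx, hχx, rfl⟩⟩)

end Groth.Agent.AlgGrpLib.TorusStableOpen
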