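import Groth.Agent.AlgGrpLib.OrbitDimFormula
import Groth.Agent.AlgGrpLib.IsogenyProps
import Groth.Prelude.Def_AGF

/-!
# Twisted conjugation orbits with finite stabilisers are open
-/

set_option autoImplicit false
set_option linter.style.haveILetI false
set_option backward.isDefEq.respectTransparency.types false

universe u

open CategoryTheory CategoryTheory.Limits MonoidalCategory CartesianMonoidalCategory MonObj GrpObj AlgebraicGeometry

noncomputable section

namespace Groth.Agent.AlgGrpLib.TwistedLang

variable {k : Type u} [Field k]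

local notation "𝟏" => 𝟙_ (Over (Spec (CommRingCat.of k)))

/-- Twisted conjugation `(h, y) ↦ h y τ(h)⁻¹`. -/
def twistAct (H : Over (Spec (CommRingCat.of k))) [GrpObj H] (τ : H ⟶ H) [IsMonHom τ] : AlgGrp.Action H H where
  act := fst H H * snd H H * (fst H H ≫ τ)⁻¹
  one_act := by
    simp only [MonObj.comp_mul, GrpObj.comp_inv, whiskerRight_fst, whiskerRight_fst_assoc, whiskerRight_snd]
    simp [MonObj.one_eq_one, MonObj.comp_one, MonObj.one_comp, leftUnitor_hom]
  mul_act := by
    simp only [Category.assoc, MonObj.comp_mul, GrpObj.comp_inv, whiskerLeft_fst, whiskerLeft_fst_assoc, whiskerLeft_snd,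
      whiskerRight_fst, whiskerRight_fst_assoc, whiskerRight_snd, associator_hom_fst, associator_hom_fst_assoc,
      associator_hom_snd_fst, associator_hom_snd_fst_assoc, associator_hom_snd_snd]
    have e : μ[H] = fst H H * snd H H := by rw [Hom.mul_def, lift_fst_snd, Category.id_comp]
    simp only [e, MonObj.comp_mul, MonObj.mul_comp, GrpObj.comp_inv, Category.assoc, associator_hom_snd_fst,
      associator_hom_snd_fst_assoc, associator_hom_snd_snd]
    group

theorem pt_orbitMap (H : Over (Spec (CommRingCat.of k))) [GrpObj H] (τ : H ⟶ H) [IsMonHom τ] (h y : 𝟏 ⟶ H) :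
    h ≫ (twistAct H τ).orbitMap y = h * y * (h ≫ τ)⁻¹ := by
  simp only [AlgGrp.Action.orbitMap, twistAct, MonObj.comp_mul, GrpObj.comp_inv, lift_fst, lift_fst_assoc, lift_snd,
    Category.comp_id, Category.id_comp, ← Category.assoc]
  rw [toUnit_unique (h ≫ toUnit H) (𝟙 _), Category.id_comp]

/-- Rational points of a scheme of finite type lift along surjective morphisms. -/
theorem exists_lift [IsAlgClosed k] {Z W : Over (Spec (CommRingCat.of k))} [LocallyOfFiniteType Z.hom] [LocallyOfFiniteType W.hom]
    (f : Z ⟶ W) (q : 𝟏 ⟶ W) (hq : q.left (IsLocalRing.closedPoint k) ∈ Set.range f.left) :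
    ∃ g : 𝟏 ⟶ Z, g ≫ f = q := by
  let t0 : (𝟙_ (Over (Spec (CommRingCat.of k)))).left := IsLocalRing.closedPoint k
  have hqc : IsClosed ({q.left.base t0} : Set W.left) := ((pointEquivClosedPoint W.hom) ⟨q.left, Over.w q⟩).2
  obtain ⟨g, hg⟩ := OrbitDim.exists_ratPoint_mem (X := Z) (S := f.left.base ⁻¹' {q.left.base t0})
    (hqc.preimage f.left.continuous).isLocallyClosed (hq.imp fun _ h => h)
  exact ⟨g, Over.OverMorphism.ext (ext_of_apply_closedPoint_eq W.hom (Over.w (g ≫ f)) (Over.w q) (hg t0))⟩

variable [IsAlgClosed k] {H : Over (Spec (CommRingCat.of k))} [GrpObj H] [Smooth H.hom] [QuasiCompact H.hom]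
  [IrreducibleSpace H.left] (τ : H ⟶ H) [IsMonHom τ]

/-- An orbit with finite stabiliser is open and non-empty. -/
theorem isOpen_orbit (y : 𝟏 ⟶ H) (hfin : Finite {h : 𝟏 ⟶ H // h * y * (h ≫ τ)⁻¹ = y}) :
    IsOpen (Set.range ((twistAct H τ).orbitMap y).left.base) ∧
      (Set.range ((twistAct H τ).orbitMap y).left.base).Nonempty := by
  let a := twistAct H τ
  have hne := OrbitDim.orbit_nonempty a y
  have hC := OrbitDim.isLocallyClosed_orbit a y
  refine ⟨?_, hne⟩
  set C := Set.range (a.orbitMap y).left.base with hCdef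
  haveI : CompactSpace ↥H.left := QuasiCompact.compactSpace_of_compactSpace H.hom
  haveI : JacobsonSpace ↥H.left := LocallyOfFiniteType.jacobsonSpace H.hom
  let t0 : (𝟙_ (Over (Spec (CommRingCat.of k)))).left := IsLocalRing.closedPoint k
  haveI : IsClosedImmersion y.left := isClosedImmersion_of_comp_eq_id H.hom y.left (Over.w y)
  let P := Limits.pullback (a.orbitMap y).left y.left
  let p : P ⟶ H.left := pullback.fst (a.orbitMap y).left y.left
  have hpS : Set.range p ⊆ {z | (a.orbitMap y).left z = y.left t0} := by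
    rintro _ ⟨w, rfl⟩
    show (p ≫ (a.orbitMap y).left) w = _
    rw [pullback.condition]
    exact congrArg y.left (Subsingleton.elim (α := PrimeSpectrum k) _ _)
  let S : Set H.left := Set.range p
  have hS : IsClosed S := p.isClosedEmbedding.isClosed_range
  have hSfin : S.Finite := by
    have hcp : (S ∩ closedPoints ↥H.left).Finite := by
      haveI := hfin
      refine ((Set.finite_univ (α := {h : 𝟏 ⟶ H // h * y * (h ≫ τ)⁻¹ = y})).image fun h => h.1.left t0).subset ?_
      rintro z ⟨hz, hzc⟩
      let q := (pointEquivClosedPoint H.hom).symm ⟨z, hzc⟩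
      let h : 𝟏 ⟶ H := Over.homMk q.1 q.2
      have hzq : h.left t0 = z :=
        congrArg Subtype.val ((pointEquivClosedPoint H.hom).apply_symm_apply ⟨z, hzc⟩)
      refine ⟨⟨h, ?_⟩, trivial, hzq⟩
      rw [← pt_orbitMap]
      refine Over.OverMorphism.ext (ext_of_apply_closedPoint_eq H.hom (Over.w _) (Over.w y) ?_)
      show (a.orbitMap y).left (h.left t0) = y.left t0
      rw [hzq]
      exact hpS hz
    have hclc : IsClosed (S ∩ closedPoints ↥H.left) := by
      rw [← Set.biUnion_of_singleton (S ∩ closedPoints ↥H.left)]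
      exact hcp.isClosed_biUnion fun z hz => hz.2
    refine hcp.subset ?_
    intro z hz
    rw [← hclc.closure_eq]
    rw [JacobsonSpace.closure_inter_closedPoints hS]
    exact hz
  have hdimS : topologicalKrullDim ↥P ≤ 0 := by
    rw [p.isEmbedding.toHomeomorph.isHomeomorph.topologicalKrullDim_eq]
    haveI : Finite ↥S := hSfin.to_subtype
    haveI : T1Space ↥S := by
      refine ⟨fun z => ?_⟩
      have hz : IsClosed ({z.1} : Set H.left) := by
        have hclc : IsClosed (S ∩ closedPoints ↥H.left) := by
          rw [← Set.biUnion_of_singleton (S ∩ closedPoints ↥H.left)]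
          exact (hSfin.subset Set.inter_subset_left).isClosed_biUnion fun z hz => hz.2
        have hw : z.1 ∈ S ∩ closedPoints ↥H.left := by
          rw [← hclc.closure_eq, JacobsonSpace.closure_inter_closedPoints hS]; exact z.2
        exact hw.2
      convert hz.preimage continuous_subtype_val
      ext w
      exact ⟨fun h => congrArg Subtype.val h, fun h => Subtype.ext h⟩
    haveI : DiscreteTopology ↥S := inferInstance
    rw [topologicalKrullDim]
    refine Order.krullDim_nonpos_iff_forall_isMin.2 fun z w hwz => ?_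
    obtain ⟨x, hx⟩ := z.isIrreducible'.1
    intro v hv
    have hsub : z.carrier.Subsingleton := isPreirreducible_iff_subsingleton.1 z.isIrreducible'.2
    obtain ⟨v', hv'⟩ := w.isIrreducible'.1
    exact (hsub hv (hwz hv')).symm ▸ hv'
  have hdim : topologicalKrullDim ↥H.left ≤ topologicalKrullDim ↥C := by
    rw [OrbitDimFormula.dim_eq a y]
    calc topologicalKrullDim ↥C + topologicalKrullDim ↥P ≤ topologicalKrullDim ↥C + 0 := by
          gcongr
      _ = _ := add_zero _
  have hdense : closure C = Set.univ := by
    by_contra hne'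
    have hU : ((closure C)ᶜ).Nonempty := Set.nonempty_compl.2 hne'
    have h1 := OrbitDim.topologicalKrullDim_closure_diff_lt H.hom
      (isClosed_closure (s := C)).isOpen_compl.isLocallyClosed hU
    rw [(isClosed_closure.isOpen_compl.dense hU).closure_eq, Set.sdiff_compl, Set.univ_inter] at h1
    have h2 : topologicalKrullDim ↥((closure C)ᶜ) ≤ topologicalKrullDim ↥H.left :=
      Topology.IsEmbedding.subtypeVal.isInducing.topologicalKrullDim_le
    have h3 : topologicalKrullDim ↥C ≤ topologicalKrullDim ↥(closure C) :=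
      (Topology.IsEmbedding.inclusion subset_closure).isInducing.topologicalKrullDim_le
    exact absurd ((h1.trans_le h2).trans_le (hdim.trans h3)) (lt_irrefl _)
  obtain ⟨U, Z, hU, hZ, hUZ⟩ := hC
  have hZu : Z = Set.univ := Set.eq_univ_of_univ_subset (hdense ▸ hZ.closure_subset_iff.2 (hUZ ▸ Set.inter_subset_right))
  rw [hUZ, hZu, Set.inter_univ]
  exact hU

end Groth.Agent.AlgGrpLib.TwistedLang
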