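import Groth.Agent.FlatMorDeform.Scheme
import Groth.Agent.AlgGrpLib.ExactSeqBasics
import Groth.Agent.S1488
import Mathlib.AlgebraicGeometry.Morphisms.FlatMono

/-! Invertibility in a monoid scheme over a field lifts along nilpotent thickenings. -/

set_option autoImplicit false
set_option backward.isDefEq.respectTransparency.types false

universe u

open CategoryTheory CategoryTheory.Limits MonoidalCategory CartesianMonoidalCategory MonObj AlgebraicGeometry

namespace Groth.Agent.AlgGrpLib.UnitsEtale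

theorem isFiniteOrderThickening_mk {A : Type u} [CommRing A] (I : Ideal A) (hI : I ^ 2 = ⊥) :
    MoreMor.IsFiniteOrderThickening (Spec.map (CommRingCat.ofHom (Ideal.Quotient.mk I))) := by
  haveI hc : IsClosedImmersion (Spec.map (CommRingCat.ofHom (Ideal.Quotient.mk I))) :=
    IsClosedImmersion.spec_of_surjective _ Ideal.Quotient.mk_surjective
  refine ⟨⟨hc, ⟨fun (x : PrimeSpectrum A) => ?_⟩⟩, 2, ?_⟩
  · have : x ∈ Set.range (PrimeSpectrum.comap (Ideal.Quotient.mk I)) := by
      rw [range_comap_of_surjective _ _ Ideal.Quotient.mk_surjective, Ideal.mk_ker, PrimeSpectrum.mem_zeroLocus]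
      exact fun a ha => x.2.mem_of_pow_mem 2 (by
        have : a ^ 2 ∈ I ^ 2 := Ideal.pow_mem_pow ha 2
        rw [hI] at this
        simp [Submodule.mem_bot _ |>.1 this])
    exact this
  · apply Scheme.IdealSheafData.ext_of_isAffine
    show (Scheme.Hom.ker _ ^ 2).ideal ⟨⊤, _⟩ = _
    rw [Scheme.IdealSheafData.ideal_pow]
    simp only [Scheme.Hom.ker_apply, Pi.pow_apply]
    refine le_antisymm ?_ bot_le
    rw [pow_two, Ideal.mul_le]
    intro a ha b hb
    let e := (Scheme.ΓSpecIso (CommRingCat.of A)).commRingCatIsoToRingEquiv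
    have key : ∀ c : Γ(Spec (CommRingCat.of A), ⊤), c ∈ RingHom.ker (Spec.map (CommRingCat.ofHom (Ideal.Quotient.mk I))).appTop.hom → e c ∈ I := by
      intro c hc
      rw [← Ideal.Quotient.eq_zero_iff_mem]
      have := congrArg (Scheme.ΓSpecIso (CommRingCat.of (A ⧸ I))).hom.hom hc
      rw [map_zero] at this
      refine Eq.trans ?_ this
      exact (ConcreteCategory.congr_hom (Scheme.ΓSpecIso_naturality (CommRingCat.ofHom (Ideal.Quotient.mk I))) c).symm
    refine (Submodule.mem_bot _).2 (e.injective ?_)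
    rw [map_mul, map_zero]
    have := Ideal.mul_mem_mul (key a ha) (key b hb)
    rwa [← pow_two, hI, Submodule.mem_bot] at this

variable {k : Type u} [Field k] {M T T₀ : Over (Spec (CommRingCat.of k))}

/-- An endomorphism of a product over `T` which is invertible over a thickening is invertible. -/
theorem isIso_of_thick (j : T₀ ⟶ T) (hj : MoreMor.IsFiniteOrderThickening j.left) (φ : T ⊗ M ⟶ M)
    (h0 : IsIso (lift (fst T₀ M) (j ▷ M ≫ φ))) : IsIso (lift (fst T M) φ) := by
  let f' := (lift (fst T M) φ).left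
  let f := (lift (fst T₀ M) (j ▷ M ≫ φ)).left
  let iX := (j ▷ M).left
  have hc : IsPullback iX (fst T₀ M).left (fst T M).left j.left := by
    have h1 : IsPullback (j ▷ M) (fst T₀ M) (fst T M) j := by
      refine IsPullback.of_isLimit' ⟨by simp⟩ (PullbackCone.IsLimit.mk _ (fun s => lift s.snd (s.fst ≫ snd T M)) ?_ ?_ ?_)
      · intro s
        apply CartesianMonoidalCategory.hom_ext <;> simp [s.condition]
      · intro s; simp
      · intro s m h1 h2
        apply CartesianMonoidalCategory.hom_ext <;> simp [← h1, ← h2]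
    exact h1.map (Over.forget _)
  have hw : (j ▷ M) ≫ lift (fst T M) φ = lift (fst T₀ M) (j ▷ M ≫ φ) ≫ (j ▷ M) := by
    apply CartesianMonoidalCategory.hom_ext <;> simp
  have hff : (lift (fst T₀ M) (j ▷ M ≫ φ)) ≫ fst T₀ M = fst T₀ M := lift_fst _ _
  have hff' : lift (fst T M) φ ≫ fst T M = fst T M := lift_fst _ _
  haveI : Flat (fst T M).left := inferInstanceAs (Flat (Limits.pullback.fst T.hom M.hom))
  haveI : Flat (f' ≫ (fst T M).left) := by
    show Flat ((lift (fst T M) φ).left ≫ (fst T M).left)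
    rw [← Over.comp_left, hff']; infer_instance
  haveI : IsIso f := (Over.forget _).map_isIso (lift (fst T₀ M) (j ▷ M ≫ φ))
  have hcX : IsPullback iX (f ≫ (fst T₀ M).left) (f' ≫ (fst T M).left) j.left := by
    show IsPullback iX ((lift (fst T₀ M) (j ▷ M ≫ φ)).left ≫ (fst T₀ M).left) ((lift (fst T M) φ).left ≫ (fst T M).left) j.left
    rw [← Over.comp_left, ← Over.comp_left, hff, hff']
    exact hc
  haveI : IsIso f' := (FlatMorDeform.isIso_iff hj hcX hc (congrArg Over.Hom.left hw)).1 inferInstance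
  haveI : IsIso ((Over.forget _).map (lift (fst T M) φ)) := ‹IsIso f'›
  exact isIso_of_reflects_iso _ (Over.forget _)

theorem isUnit_of_thick [MonObj M] (j : T₀ ⟶ T) (hj : MoreMor.IsFiniteOrderThickening j.left) (m : T ⟶ M)
    (hm : IsUnit (j ≫ m)) : IsUnit m := by
  obtain ⟨u, hu⟩ := hm
  let v : T₀ ⟶ M := ↑u⁻¹
  have h1 : j ≫ m = ↑u := hu.symm
  have i1 : IsIso (lift (fst T₀ M) (j ▷ M ≫ ((fst T M ≫ m) * snd T M))) := by
    refine ⟨lift (fst T₀ M) ((fst T₀ M ≫ v) * snd T₀ M), ?_, ?_⟩ <;>
    · apply CartesianMonoidalCategory.hom_ext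
      · simp
      · simp only [MonObj.comp_mul, Category.assoc, lift_snd, lift_fst_assoc, whiskerRight_fst_assoc, whiskerRight_snd,
          Category.id_comp, h1, v]
        rw [← _root_.mul_assoc, ← MonObj.comp_mul]
        first | rw [Units.mul_inv] | rw [Units.inv_mul]
        simp [MonObj.comp_one]
  have i2 : IsIso (lift (fst T₀ M) (j ▷ M ≫ (snd T M * (fst T M ≫ m)))) := by
    refine ⟨lift (fst T₀ M) (snd T₀ M * (fst T₀ M ≫ v)), ?_, ?_⟩ <;>
    · apply CartesianMonoidalCategory.hom_ext
      · simp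
      · simp only [MonObj.comp_mul, Category.assoc, lift_snd, lift_fst_assoc, whiskerRight_fst_assoc, whiskerRight_snd,
          Category.id_comp, h1, v]
        rw [_root_.mul_assoc, ← MonObj.comp_mul]
        first | rw [Units.mul_inv] | rw [Units.inv_mul]
        simp [MonObj.comp_one]
  have key : ∀ (φ : T ⊗ M ⟶ M), IsIso (lift (fst T M) φ) → ∃ n : T ⟶ M, lift (𝟙 T) n ≫ φ = 1 := by
    intro φ hφ
    let s := lift (𝟙 T) (1 : T ⟶ M) ≫ inv (lift (fst T M) φ)
    have hs : s ≫ lift (fst T M) φ = lift (𝟙 T) 1 := by rw [Category.assoc, IsIso.inv_hom_id, Category.comp_id]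
    have hs1 := congrArg (· ≫ fst T M) hs
    have hs2 := congrArg (· ≫ snd T M) hs
    simp only [Category.assoc, lift_fst, lift_snd] at hs1 hs2
    refine ⟨s ≫ snd T M, ?_⟩
    have : lift (𝟙 T) (s ≫ snd T M) = s := by
      apply CartesianMonoidalCategory.hom_ext <;> simp [hs1]
    rw [this, hs2]
  obtain ⟨n, hn⟩ := key _ (isIso_of_thick j hj _ i1)
  obtain ⟨n', hn'⟩ := key _ (isIso_of_thick j hj _ i2)
  simp only [MonObj.comp_mul, lift_fst_assoc, lift_snd, Category.id_comp] at hn hn'
  exact ⟨⟨m, n, hn, by rwa [left_inv_eq_right_inv hn' hn] at hn'⟩, rfl⟩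

end Groth.Agent.AlgGrpLib.UnitsEtale
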